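/-
helper262: S1779, analysis of non-commuting pairs of conjugates of a TI abelian 2-group.
Base file: conjugation of subgroups, TI families, the pair lemma.
-/
import Mathlib

set_option autoImplicit false

namespace Cfsg.Agent.TIAbelian.PairBase

variable {G : Type*} [Group G]

/-- The conjugate subgroup `g H g⁻¹`. -/
def cj (g : G) (H : Subgroup G) : Subgroup G := H.map (MulAut.conj g).toMonoidHom

theorem mem_cj {g x : G} {H : Subgroup G} : x ∈ cj g H ↔ g⁻¹ * x * g ∈ H := by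
  constructor
  · rintro ⟨y, hy, rfl⟩
    simpa [mul_assoc] using hy
  · intro h
    exact ⟨_, h, by simp [mul_assoc]⟩

theorem conj_mem_cj {g x : G} {H : Subgroup G} (hx : x ∈ H) : g * x * g⁻¹ ∈ cj g H := by
  rw [mem_cj]
  simpa [mul_assoc] using hx

theorem cj_cj (g k : G) (H : Subgroup G) : cj g (cj k H) = cj (g * k) H := by
  ext x
  simp only [mem_cj, mul_inv_rev, mul_assoc]

@[simp] theorem cj_one (H : Subgroup G) : cj (1 : G) H = H := by
  ext x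
  simp [mem_cj]

theorem cj_inv_cj (g : G) (H : Subgroup G) : cj g⁻¹ (cj g H) = H := by
  rw [cj_cj, inv_mul_cancel, cj_one]

theorem cj_cj_inv (g : G) (H : Subgroup G) : cj g (cj g⁻¹ H) = H := by
  rw [cj_cj, mul_inv_cancel, cj_one]

theorem cj_inj {g : G} {H K : Subgroup G} (h : cj g H = cj g K) : H = K := by
  rw [← cj_inv_cj g H, h, cj_inv_cj]

theorem cj_self {g : G} {H : Subgroup G} (hg : g ∈ H) : cj g H = H := by
  ext x
  rw [mem_cj]
  constructor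
  · intro h
    have := H.mul_mem (H.mul_mem hg h) (H.inv_mem hg)
    simpa [mul_assoc] using this
  · intro h
    exact H.mul_mem (H.mul_mem (H.inv_mem hg) h) hg

theorem conj_mem_of_cj {g x : G} {H : Subgroup G} (h : cj g H = H) (hx : x ∈ H) :
    g * x * g⁻¹ ∈ H := by
  rw [← h]
  exact conj_mem_cj hx

theorem cj_inv_eq {g : G} {H : Subgroup G} (h : cj g H = H) : cj g⁻¹ H = H := by
  conv_lhs => rw [← h]
  exact cj_inv_cj g H

theorem conj_mem_of_cj' {g x : G} {H : Subgroup G} (h : cj g H = H) (hx : x ∈ H) :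
    g⁻¹ * x * g ∈ H := by
  have := conj_mem_of_cj (cj_inv_eq h) hx
  simpa using this

theorem cj_mul_eq {g k : G} {H : Subgroup G} (hg : cj g H = H) (hk : cj k H = H) :
    cj (g * k) H = H := by
  rw [← cj_cj, hk, hg]

theorem cj_pow_eq {g : G} {H : Subgroup G} (hg : cj g H = H) (n : ℕ) : cj (g ^ n) H = H := by
  induction n with
  | zero => simp
  | succ n ih => rw [pow_succ]; exact cj_mul_eq ih hg

/-- Repeated squaring reaches the identity, so there is a last power of `x` not satisfying `p`. -/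
theorem two_descend (x : G) (n : ℕ) (hn : x ^ (2 ^ n) = 1) (p : G → Prop) (p1 : p 1)
    (hx : ¬ p x) : ∃ k, ¬ p (x ^ (2 ^ k)) ∧ p (x ^ (2 ^ k) * x ^ (2 ^ k)) := by
  by_contra hcon
  push Not at hcon
  have key : ∀ k, ¬ p (x ^ (2 ^ k)) := by
    intro k
    induction k with
    | zero => simpa using hx
    | succ k ih =>
      have := hcon k ih
      rwa [← pow_add, ← two_mul, ← pow_succ'] at this
  exact key n (by rwa [hn])

section Additive

variable {M : Type*} [AddCommGroup M]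

theorem addA1 (σ : M →+ M) (fix : ∀ m, σ (σ m) = m → σ m = m)
    (h4 : ∀ m, σ (σ (σ (σ m))) = m) (e : M) (he : e + e = 0) : σ e = e := by
  have he1 : σ e + σ e = 0 := by rw [← map_add, he, map_zero]
  have he2 : σ (σ e) + σ (σ e) = 0 := by rw [← map_add, he1, map_zero]
  have hc : σ (σ (σ e) + e) = σ (σ e) + e := by
    apply fix
    rw [map_add, map_add, h4, add_comm]
  have hd : σ (σ e + e) = σ e + e := by
    apply fix
    rw [map_add, map_add]
    rw [map_add] at hc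
    have h1 : σ (σ (σ e)) + σ (σ e) - (σ e + e)
        = (σ (σ (σ e)) + σ e) - (σ (σ e) + e) + (σ (σ e) + σ (σ e)) - (σ e + σ e) := by abel
    rw [hc, he2, he1] at h1
    simp only [sub_self, add_zero] at h1
    exact sub_eq_zero.mp h1
  apply fix
  rw [map_add, add_comm (σ e) e] at hd
  exact add_right_cancel hd

theorem addA2 (σ : M →+ M) (fix : ∀ m, σ (σ m) = m → σ m = m)
    (h4 : ∀ m, σ (σ (σ (σ m))) = m) (b : M) (hb : σ (b + b) = b + b) : σ b = b := by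
  have hc : σ (σ b - b) = σ b - b := by
    apply addA1 σ fix h4
    have h1 : σ b - b + (σ b - b) = (σ b + σ b) - (b + b) := by abel
    rw [h1, ← map_add, hb, sub_self]
  apply fix
  have h2 : σ (σ b) = σ (σ b - b) + σ b := by rw [← map_add]; congr 1; abel
  rw [h2, hc]
  rw [map_add] at hb
  have h3 : σ b - b + σ b = (σ b + σ b) - b := by abel
  rw [h3, hb]
  abel

/-- `X` of order two is impossible. -/
theorem addB1 (σ : M →+ M) (h2 : ∀ m, σ (σ m) = m) (hY : ∀ m, σ m = m → m + m = 0) (y : M)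
    (hy : ∀ m, σ m = m → m = 0 ∨ m = y) (c : M) (hc : c + c ≠ 0) (hc4 : (c + c) + (c + c) = 0)
    (e : M) (he : e + e = 0) (hey : σ e ≠ e) : False := by
  have h1 : (c + σ c) + (c + σ c) = 0 := by
    apply hY
    rw [map_add, h2, add_comm]
  have h3 : σ (c + c) = c + c := by
    have : σ (c + c) = (c + σ c) + (c + σ c) - (c + c) := by rw [map_add]; abel
    rw [this, h1, zero_sub, neg_eq_iff_add_eq_zero]
    exact hc4
  have hfix : ∀ m : M, σ (m + m) = m + m → σ (σ m - m) = σ m - m := by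
    intro m hm
    rw [map_sub, h2]
    rw [map_add] at hm
    have : m - σ m - (σ m - m) = (m + m) - (σ m + σ m) := by abel
    rw [hm, sub_self] at this
    exact sub_eq_zero.mp this
  have hc0 : σ c ≠ c := fun h => hc (hY c h)
  have e1 : σ c - c = y := by
    rcases hy _ (hfix c h3) with h | h
    · exact absurd (sub_eq_zero.mp h) hc0
    · exact h
  have e2 : σ e - e = y := by
    rcases hy _ (hfix e (by rw [he, map_zero])) with h | h
    · exact absurd (sub_eq_zero.mp h) hey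
    · exact h
  have hyy : y + y = 0 := by
    rw [← e1]
    exact hY _ (hfix c h3)
  have h5 : σ (c + e) = c + e := by
    have : σ (c + e) - (c + e) = (σ c - c) + (σ e - e) := by rw [map_add]; abel
    rw [e1, e2, hyy] at this
    exact sub_eq_zero.mp this
  have h6 := hY _ h5
  apply hc
  have : c + c = (c + e + (c + e)) - (e + e) := by abel
  rw [this, h6, he, sub_zero]

theorem addC1 (Y : AddSubgroup M) (σ τ : M →+ M) (hσ : ∀ m ∈ Y, σ m = m)
    (b : M) (h1 : b + σ b ∈ Y) (h2 : b + τ b ∈ Y) (h3 : b + σ (τ b) ∈ Y) : b + b ∈ Y := by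
  have h4 := hσ _ h2
  rw [map_add] at h4
  have h5 := Y.sub_mem (Y.add_mem h1 h3) h2
  have h6 : b + σ b + (b + σ (τ b)) - (b + τ b) = b + b + (σ b + σ (τ b)) - (b + τ b) := by abel
  rw [h6, h4] at h5
  simpa using h5

end Additive

/-- A conjugacy class of abelian TI 2-subgroups, not cyclic, not elementary, without
distinct commuting members. -/
structure TIFam (P : Set (Subgroup G)) : Prop where
  conj : ∀ C ∈ P, ∀ g : G, cj g C ∈ P
  trans : ∀ C ∈ P, ∀ D ∈ P, ∃ g : G, cj g C = D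
  comm : ∀ C ∈ P, ∀ x ∈ C, ∀ y ∈ C, x * y = y * x
  two : ∀ C ∈ P, ∀ x ∈ C, ∃ n : ℕ, x ^ (2 ^ n) = 1
  ti : ∀ C ∈ P, ∀ D ∈ P, ∀ x : G, x ∈ C → x ∈ D → x ≠ 1 → C = D
  noncyc : ∀ C ∈ P, ∀ z : G, ∃ e ∈ C, e ≠ 1 ∧ e * e = 1 ∧ e ≠ z
  nonelem : ∀ C ∈ P, ∃ c ∈ C, c * c ≠ 1
  weak : ∀ C ∈ P, ∀ D ∈ P, (∀ c ∈ C, ∀ d ∈ D, c * d = d * c) → C = D

namespace TIFam

variable {P : Set (Subgroup G)} (h : TIFam P)
include h

theorem norm_of_comm {B : Subgroup G} (hB : B ∈ P) {x b : G} (hb : b ∈ B) (hb1 : b ≠ 1)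
    (hxb : x * b = b * x) : cj x B = B := by
  refine h.ti _ (h.conj B hB x) B hB b ?_ hb hb1
  rw [mem_cj]
  have : x⁻¹ * b * x = b := by
    rw [mul_assoc, ← hxb, inv_mul_cancel_left]
  rwa [this]

theorem norm_of_conj {B : Subgroup G} (hB : B ∈ P) {x b : G} (hb : b ∈ B) (hb1 : b ≠ 1)
    (hxb : x * b * x⁻¹ ∈ B) : cj x B = B := by
  refine h.ti _ (h.conj B hB x) B hB (x * b * x⁻¹) (conj_mem_cj hb) hxb ?_
  intro h0
  apply hb1
  have : b = x⁻¹ * (x * b * x⁻¹) * x := by simp [mul_assoc]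
  rw [this, h0]
  simp

/-- Mutually normalizing elements of different members commute. -/
theorem comm_of_norm {A B : Subgroup G} (hA : A ∈ P) (hB : B ∈ P) (hne : A ≠ B) {x y : G}
    (hx : x ∈ A) (hxB : cj x B = B) (hy : y ∈ B) (hyA : cj y A = A) : x * y = y * x := by
  have h1 : x * y * x⁻¹ * y⁻¹ ∈ B := B.mul_mem (conj_mem_of_cj hxB hy) (B.inv_mem hy)
  have h2 : x * y * x⁻¹ * y⁻¹ ∈ A := by
    have : x * y * x⁻¹ * y⁻¹ = x * (y * x⁻¹ * y⁻¹) := by simp [mul_assoc]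
    rw [this]
    exact A.mul_mem hx (conj_mem_of_cj hyA (A.inv_mem hx))
  have h3 : x * y * x⁻¹ * y⁻¹ = 1 := by
    by_contra h0
    exact hne (h.ti A hA B hB _ h2 h1 h0)
  rw [mul_inv_eq_one] at h3
  rw [mul_inv_eq_iff_eq_mul] at h3
  exact h3

end TIFam

/-- The commutative group structure on a subgroup whose elements commute. -/
abbrev commGrp {B : Subgroup G} (hc : ∀ x ∈ B, ∀ y ∈ B, x * y = y * x) : CommGroup ↥B :=
  { (inferInstance : Group ↥B) with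
    mul_comm := fun a b => Subtype.ext (hc _ a.2 _ b.2) }

/-- conjugation by `x` on `B`. -/
def conjHom {B : Subgroup G} (x : G) (hx : cj x B = B) : ↥B →* ↥B where
  toFun b := ⟨x * b * x⁻¹, conj_mem_of_cj hx b.2⟩
  map_one' := by ext; simp
  map_mul' a b := by ext; simp [mul_assoc]

/-- `N_B(A)`. -/
def nr (B A : Subgroup G) : Subgroup G where
  carrier := {y | y ∈ B ∧ cj y A = A}
  one_mem' := ⟨B.one_mem, cj_one A⟩
  mul_mem' := fun ha hb => ⟨B.mul_mem ha.1 hb.1, cj_mul_eq ha.2 hb.2⟩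
  inv_mem' := fun ha => ⟨B.inv_mem ha.1, cj_inv_eq ha.2⟩

theorem mem_nr {B A : Subgroup G} {y : G} : y ∈ nr B A ↔ y ∈ B ∧ cj y A = A := Iff.rfl

namespace TIFam

variable {P : Set (Subgroup G)} (h : TIFam P)
include h

theorem comm_nr {A B : Subgroup G} (hA : A ∈ P) (hB : B ∈ P) (hne : A ≠ B) {x y : G}
    (hx : x ∈ nr A B) (hy : y ∈ nr B A) : x * y = y * x :=
  h.comm_of_norm hA hB hne hx.1 hx.2 hy.1 hy.2

theorem mem_nr_of_comm {A B : Subgroup G} (hA : A ∈ P) {x b : G}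
    (hx : x ∈ A) (hx1 : x ≠ 1) (hb : b ∈ B) (hxb : x * b = b * x) : b ∈ nr B A :=
  ⟨hb, h.norm_of_comm hA hx hx1 hxb.symm⟩

theorem stageA0 {A B : Subgroup G} (hA : A ∈ P) (hB : B ∈ P) (hne : A ≠ B) {x : G}
    (hx : x ∈ nr A B) (hxx : x * x ≠ 1) : ∀ b ∈ B, cj b A = A := by
  obtain ⟨n, hn⟩ := h.two A hA x hx.1
  obtain ⟨k, hk1, hk2⟩ := two_descend x n hn (fun y => y * y = 1) (by simp) hxx
  set y := x ^ (2 ^ k) with hy
  have hyA : y ∈ nr A B := (nr A B).pow_mem hx _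
  intro b hb
  let _ := commGrp (h.comm B hB)
  set σ : Additive ↥B →+ Additive ↥B := MonoidHom.toAdditive (conjHom y hyA.2) with hσ
  have hσv : ∀ m : ↥B, ((σ (Additive.ofMul m)).toMul : G) = y * m * y⁻¹ := fun m => rfl
  have fix : ∀ m, σ (σ m) = m → σ m = m := by
    intro m hm
    have h1 : y * (y * (m.toMul : G) * y⁻¹) * y⁻¹ = (m.toMul : G) := congrArg (fun t => ((Additive.toMul t : ↥B) : G)) hm
    have h2 : (y * y) * (m.toMul : G) = (m.toMul : G) * (y * y) := by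
      have := congrArg (· * (y * y)) h1
      simpa [mul_assoc] using this
    have h3 : (m.toMul : G) ∈ nr B A :=
      h.mem_nr_of_comm hA (A.mul_mem hyA.1 hyA.1) hk1 m.toMul.2 h2
    have h4 := h.comm_nr hA hB hne hyA h3
    apply Additive.toMul.injective
    apply Subtype.ext
    show y * (m.toMul : G) * y⁻¹ = m.toMul
    rw [h4, mul_inv_cancel_right]
  have h4 : ∀ m, σ (σ (σ (σ m))) = m := by
    intro m
    apply Additive.toMul.injective
    apply Subtype.ext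
    show y * (y * (y * (y * (m.toMul : G) * y⁻¹) * y⁻¹) * y⁻¹) * y⁻¹ = m.toMul
    have e1 : y * (y * (y * (y * (m.toMul : G) * y⁻¹) * y⁻¹) * y⁻¹) * y⁻¹
        = (y * y * (y * y)) * (m.toMul : G) * (y * y * (y * y))⁻¹ := by simp [mul_assoc]
    rw [e1, hk2]
    simp
  have key : ∀ m : ↥B, y * (m : G) * y⁻¹ = m := by
    intro m
    by_contra hm
    obtain ⟨n', hn'⟩ := h.two B hB m m.2
    obtain ⟨j, hj1, hj2⟩ := two_descend (m : G) n' hn' (fun t => y * t * y⁻¹ = t) (by simp) hm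
    apply hj1
    have e := addA2 σ fix h4 (Additive.ofMul (m ^ (2 ^ j))) (by
      apply Additive.toMul.injective
      apply Subtype.ext
      exact hj2)
    exact congrArg (fun t => ((Additive.toMul t : ↥B) : G)) e
  have h5 := key ⟨b, hb⟩
  have h6 : y * b = b * y := by
    have := congrArg (· * y) h5
    simpa [mul_assoc] using this
  have hy1 : y ≠ 1 := by
    intro h0
    apply hk1
    rw [h0, one_mul]
  exact h.norm_of_comm hA hyA.1 hy1 h6.symm

theorem not_all_norm {A B : Subgroup G} (hA : A ∈ P) (hB : B ∈ P) (hne : A ≠ B) :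
    ∃ b ∈ B, b ∉ nr B A := by
  by_contra hcon
  push Not at hcon
  obtain ⟨c, hc, hcc⟩ := h.nonelem B hB
  have h1 := h.stageA0 hB hA hne.symm (hcon c hc) hcc
  apply hne
  apply h.weak A hA B hB
  intro a ha b hb
  exact h.comm_nr hA hB hne ⟨ha, h1 a ha⟩ (hcon b hb)

theorem stageA {A B : Subgroup G} (hA : A ∈ P) (hB : B ∈ P) (hne : A ≠ B) {x : G}
    (hx : x ∈ nr A B) : x * x = 1 := by
  by_contra h0
  obtain ⟨b, hb, hb2⟩ := h.not_all_norm hA hB hne
  exact hb2 ⟨hb, h.stageA0 hA hB hne hx h0 b hb⟩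

theorem stageA_inv {A B : Subgroup G} (hA : A ∈ P) (hB : B ∈ P) (hne : A ≠ B) {x : G}
    (hx : x ∈ nr A B) : x⁻¹ = x :=
  inv_eq_of_mul_eq_one_left (h.stageA hA hB hne hx)

theorem comm_elt {A B : Subgroup G} (hA : A ∈ P) (hB : B ∈ P) (hne : A ≠ B) {x b : G}
    (hx : x ∈ nr A B) (hb : b ∈ B) (hbb : b * b ∈ nr B A) : x * b * x⁻¹ * b⁻¹ ∈ nr B A := by
  by_cases hx1 : x = 1
  · subst hx1
    simp [(nr B A).one_mem]
  have hxi := h.stageA_inv hA hB hne hx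
  have hxx := h.stageA hA hB hne hx
  have he : x * b * x⁻¹ ∈ B := conj_mem_of_cj hx.2 hb
  have hc : x * b * x⁻¹ * b⁻¹ ∈ B := B.mul_mem he (B.inv_mem hb)
  have hcc : (x * b * x⁻¹ * b⁻¹) * (x * b * x⁻¹ * b⁻¹) = 1 := by
    have e1 : (x * b * x⁻¹ * b⁻¹) * (x * b * x⁻¹ * b⁻¹)
        = (x * b * x⁻¹) * (b⁻¹ * (x * b * x⁻¹)) * b⁻¹ := by simp only [mul_assoc]
    rw [e1, h.comm B hB _ (B.inv_mem hb) _ he]
    have e2 : (x * b * x⁻¹) * ((x * b * x⁻¹) * b⁻¹) * b⁻¹ = (x * (b * b) * x⁻¹) * (b * b)⁻¹ := by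
      simp [mul_assoc]
    rw [e2, h.comm_nr hA hB hne hx hbb]
    simp
  refine h.mem_nr_of_comm hA hx.1 hx1 hc ?_
  have e3 : x * (x * b * x⁻¹ * b⁻¹) * x⁻¹ = (x * b * x⁻¹ * b⁻¹)⁻¹ := by
    have : x * (x * b * x⁻¹ * b⁻¹) * x⁻¹ = (x * x) * b * x⁻¹ * b⁻¹ * x⁻¹ := by simp only [mul_assoc]
    rw [this, hxx]
    simp [mul_assoc, hxi]
  rw [inv_eq_of_mul_eq_one_left hcc] at e3
  have := congrArg (· * x) e3
  simpa [mul_assoc] using this

theorem exists_sq_nr {A B : Subgroup G} (hA : A ∈ P) (hB : B ∈ P) (hne : A ≠ B) :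
    ∃ b ∈ B, b ∉ nr B A ∧ b * b ∈ nr B A := by
  obtain ⟨b, hb, hb2⟩ := h.not_all_norm hA hB hne
  obtain ⟨n, hn⟩ := h.two B hB b hb
  obtain ⟨k, hk1, hk2⟩ := two_descend b n hn (fun t => t ∈ nr B A) (nr B A).one_mem hb2
  exact ⟨_, B.pow_mem hb _, hk1, hk2⟩

theorem map_inj {A B : Subgroup G} (hA : A ∈ P) {b x x' : G} (hb : b ∈ B)
    (hbn : b ∉ nr B A) (hx : x ∈ A) (hx' : x' ∈ A)
    (he : x * b * x⁻¹ * b⁻¹ = x' * b * x'⁻¹ * b⁻¹) : x = x' := by
  by_contra hxx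
  apply hbn
  have h1 : x'⁻¹ * x ≠ 1 := by
    intro h0
    apply hxx
    rw [inv_mul_eq_one] at h0
    exact h0.symm
  refine h.mem_nr_of_comm hA (A.mul_mem (A.inv_mem hx') hx) h1 hb ?_
  have h2 := mul_right_cancel he
  have h3 := congrArg (fun t => x'⁻¹ * t * x) h2
  simpa [mul_assoc] using h3

theorem card_nr_le [Finite G] {A B : Subgroup G} (hA : A ∈ P) (hB : B ∈ P) (hne : A ≠ B) :
    Nat.card ↥(nr A B) ≤ Nat.card ↥(nr B A) := by
  obtain ⟨b, hb, hb1, hb2⟩ := h.exists_sq_nr hA hB hne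
  refine Nat.card_le_card_of_injective (fun x : ↥(nr A B) =>
    (⟨x * b * (x : G)⁻¹ * b⁻¹, h.comm_elt hA hB hne x.2 hb hb2⟩ : ↥(nr B A))) ?_
  intro x x' he
  apply Subtype.ext
  exact h.map_inj hA hb hb1 x.2.1 x'.2.1 (congrArg Subtype.val he)

theorem card_nr_eq [Finite G] {A B : Subgroup G} (hA : A ∈ P) (hB : B ∈ P) (hne : A ≠ B) :
    Nat.card ↥(nr A B) = Nat.card ↥(nr B A) :=
  le_antisymm (h.card_nr_le hA hB hne) (h.card_nr_le hB hA hne.symm)

/-- `|N_A(B)| ≥ 3` when it is not trivial. -/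
theorem exists_two {A B : Subgroup G} (hA : A ∈ P) (hB : B ∈ P) (hne : A ≠ B) {x₀ y₀ : G}
    (hx₀ : x₀ ∈ nr A B) (hx1 : x₀ ≠ 1) (hy₀ : y₀ ∈ nr B A) (hy1 : y₀ ≠ 1) :
    ∃ x ∈ nr A B, x ≠ 1 ∧ x ≠ x₀ := by
  by_contra hcon
  push Not at hcon
  have hX : ∀ x ∈ nr A B, x = 1 ∨ x = x₀ := fun x hx => by
    by_cases h0 : x = 1
    · exact Or.inl h0
    · exact Or.inr (hcon x hx h0)
  obtain ⟨a, ha, ha1, ha2⟩ := h.exists_sq_nr hB hA hne.symm
  have hY0 : ∀ y ∈ nr B A, y ≠ 1 → y * a * y⁻¹ * a⁻¹ = x₀ := by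
    intro y hy hy'
    rcases hX _ (h.comm_elt hB hA hne.symm hy ha ha2) with h0 | h0
    · exfalso
      apply hy'
      exact h.map_inj hB ha ha1 hy.1 B.one_mem (by rw [h0]; simp)
    · exact h0
  have hY : ∀ y ∈ nr B A, y = 1 ∨ y = y₀ := by
    intro y hy
    by_cases h0 : y = 1
    · exact Or.inl h0
    · right
      exact h.map_inj hB ha ha1 hy.1 hy₀.1 (by rw [hY0 y hy h0, hY0 y₀ hy₀ hy1])
  let _ := commGrp (h.comm B hB)
  set σ : Additive ↥B →+ Additive ↥B := MonoidHom.toAdditive (conjHom x₀ hx₀.2) with hσ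
  have hxx := h.stageA hA hB hne hx₀
  have hfix : ∀ m : Additive ↥B, σ m = m → ((Additive.toMul m : ↥B) : G) ∈ nr B A := by
    intro m hm
    have h1 : x₀ * (m.toMul : G) * x₀⁻¹ = m.toMul :=
      congrArg (fun t => ((Additive.toMul t : ↥B) : G)) hm
    refine h.mem_nr_of_comm hA hx₀.1 hx1 m.toMul.2 ?_
    have := congrArg (· * x₀) h1
    simpa [mul_assoc] using this
  obtain ⟨c0, hc0, hcc0⟩ := h.nonelem B hB
  obtain ⟨n, hn⟩ := h.two B hB c0 hc0
  obtain ⟨k, hk1, hk2⟩ := two_descend c0 n hn (fun t => t * t = 1) (by simp) hcc0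
  obtain ⟨e, he, he1, hee, hey⟩ := h.noncyc B hB y₀
  refine addB1 σ ?_ ?_ (Additive.ofMul ⟨y₀, hy₀.1⟩) ?_
    (Additive.ofMul ⟨c0 ^ (2 ^ k), B.pow_mem hc0 _⟩) ?_ ?_ (Additive.ofMul ⟨e, he⟩) ?_ ?_
  · intro m
    apply Additive.toMul.injective
    apply Subtype.ext
    show x₀ * (x₀ * (m.toMul : G) * x₀⁻¹) * x₀⁻¹ = m.toMul
    have : x₀ * (x₀ * (m.toMul : G) * x₀⁻¹) * x₀⁻¹ = (x₀ * x₀) * (m.toMul : G) * (x₀ * x₀)⁻¹ := by
      simp [mul_assoc]
    rw [this, hxx]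
    simp
  · intro m hm
    apply Additive.toMul.injective
    apply Subtype.ext
    exact h.stageA hB hA hne.symm (hfix m hm)
  · intro m hm
    rcases hY _ (hfix m hm) with h0 | h0
    · left
      apply Additive.toMul.injective
      exact Subtype.ext h0
    · right
      apply Additive.toMul.injective
      exact Subtype.ext h0
  · intro h0
    exact hk1 (congrArg (fun t => ((Additive.toMul t : ↥B) : G)) h0)
  · apply Additive.toMul.injective
    apply Subtype.ext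
    exact hk2
  · apply Additive.toMul.injective
    apply Subtype.ext
    exact hee
  · intro h0
    rcases hY _ (hfix _ h0) with h2 | h2
    · exact he1 h2
    · exact hey h2

theorem mul_conj_mem {A B : Subgroup G} (hA : A ∈ P) (hB : B ∈ P) (hne : A ≠ B) {x b : G}
    (hx : x ∈ nr A B) (hx1 : x ≠ 1) (hb : b ∈ B) : b * (x * b * x⁻¹) ∈ nr B A := by
  have hxx := h.stageA hA hB hne hx
  have he : x * b * x⁻¹ ∈ B := conj_mem_of_cj hx.2 hb
  refine h.mem_nr_of_comm hA hx.1 hx1 (B.mul_mem hb he) ?_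
  have e1 : x * (b * (x * b * x⁻¹)) = (x * b * x⁻¹) * ((x * x) * b * (x * x)⁻¹) * x := by
    simp [mul_assoc]
  rw [e1, hxx]
  simp only [one_mul, inv_one, mul_one]
  rw [h.comm B hB _ he _ hb]

/-- Two members are collinear if they are different and have commuting nontrivial elements. -/
def _root_.Cfsg.Agent.TIAbelian.PairBase.Col (A B : Subgroup G) : Prop :=
  A ≠ B ∧ ∃ x ∈ A, ∃ y ∈ B, x ≠ 1 ∧ y ≠ 1 ∧ x * y = y * x

end TIFam

theorem Col.symm {A B : Subgroup G} (hc : Col A B) : Col B A := by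
  obtain ⟨h1, x, hx, y, hy, hx1, hy1, hxy⟩ := hc
  exact ⟨h1.symm, y, hy, x, hx, hy1, hx1, hxy.symm⟩

namespace TIFam

variable {P : Set (Subgroup G)} (h : TIFam P)
include h

theorem col_nr {A B : Subgroup G} (hB : B ∈ P) (hc : Col A B) :
    ∃ x ∈ nr A B, x ≠ 1 := by
  obtain ⟨h1, x, hx, y, hy, hx1, hy1, hxy⟩ := hc
  exact ⟨x, ⟨hx, h.norm_of_comm hB hy hy1 hxy⟩, hx1⟩

theorem sq_mem_nr {A B : Subgroup G} (hA : A ∈ P) (hB : B ∈ P) (hc : Col A B) {b : G}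
    (hb : b ∈ B) : b * b ∈ nr B A := by
  obtain ⟨x₁, hx₁, hx₁1⟩ := h.col_nr hB hc
  obtain ⟨y₁, hy₁, hy₁1⟩ := h.col_nr hA hc.symm
  obtain ⟨x₂, hx₂, hx₂1, hx₂₁⟩ := h.exists_two hA hB hc.1 hx₁ hx₁1 hy₁ hy₁1
  have hx₃ : x₁ * x₂ ≠ 1 := by
    intro h0
    apply hx₂₁
    have := h.stageA hA hB hc.1 hx₁
    exact mul_left_cancel (h0.trans this.symm)
  have p1 := h.mul_conj_mem hA hB hc.1 hx₁ hx₁1 hb
  have p2 := h.mul_conj_mem hA hB hc.1 hx₂ hx₂1 hb
  have p3 := h.mul_conj_mem hA hB hc.1 ((nr A B).mul_mem hx₁ hx₂) hx₃ hb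
  have hb1 : x₁ * b * x₁⁻¹ ∈ B := conj_mem_of_cj hx₁.2 hb
  have hb3 : (x₁ * x₂) * b * (x₁ * x₂)⁻¹ ∈ B := conj_mem_of_cj (cj_mul_eq hx₁.2 hx₂.2) hb
  have e2 : x₁ * b * x₁⁻¹ * ((x₁ * x₂) * b * (x₁ * x₂)⁻¹) = b * (x₂ * b * x₂⁻¹) := by
    have e3 := h.comm_nr hA hB hc.1 hx₁ p2
    have e4 := congrArg (· * x₁⁻¹) e3
    simp only [mul_inv_cancel_right] at e4
    rw [← e4]
    simp [mul_assoc]
  have e5 := (nr B A).mul_mem ((nr B A).mul_mem p1 p3) ((nr B A).inv_mem p2)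
  have e6 : b * (x₁ * b * x₁⁻¹) * (b * (x₁ * x₂ * b * (x₁ * x₂)⁻¹)) * (b * (x₂ * b * x₂⁻¹))⁻¹
      = b * b := by
    rw [mul_inv_eq_iff_eq_mul, ← e2]
    have e7 : b * (x₁ * b * x₁⁻¹) * (b * (x₁ * x₂ * b * (x₁ * x₂)⁻¹))
      = b * ((x₁ * b * x₁⁻¹) * b) * (x₁ * x₂ * b * (x₁ * x₂)⁻¹) := by simp only [mul_assoc]
    rw [e7, h.comm B hB _ hb1 _ hb]
    simp only [mul_assoc]
  rw [← e6]
  exact e5

theorem comm_mem {A B : Subgroup G} (hA : A ∈ P) (hB : B ∈ P) (hc : Col A B) {x b : G}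
    (hx : x ∈ nr A B) (hb : b ∈ B) : x * b * x⁻¹ * b⁻¹ ∈ nr B A :=
  h.comm_elt hA hB hc.1 hx hb (h.sq_mem_nr hA hB hc hb)

theorem surj [Finite G] {A B : Subgroup G} (hA : A ∈ P) (hB : B ∈ P) (hc : Col A B) {b y : G}
    (hb : b ∈ B) (hbn : b ∉ nr B A) (hy : y ∈ nr B A) :
    ∃ x ∈ nr A B, x * b * x⁻¹ * b⁻¹ = y := by
  have hinj : Function.Injective (fun x : ↥(nr A B) =>
      (⟨x * b * (x : G)⁻¹ * b⁻¹, h.comm_mem hA hB hc x.2 hb⟩ : ↥(nr B A))) := by
    intro x x' he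
    apply Subtype.ext
    exact h.map_inj hA hb hbn x.2.1 x'.2.1 (congrArg Subtype.val he)
  have hbij := (Nat.bijective_iff_injective_and_card _).2 ⟨hinj, h.card_nr_eq hA hB hc.1⟩
  obtain ⟨x, hx⟩ := hbij.2 ⟨y, hy⟩
  exact ⟨x, x.2, congrArg Subtype.val hx⟩

end TIFam

end Cfsg.Agent.TIAbelian.PairBase
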