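/-
helper262: S1779, pairs: involutions acting as transvections, `N_B(A) = Ω₁(B)`.
-/
import Cfsg.Agent.TIAbelian.PairBase

set_option autoImplicit false

namespace Cfsg.Agent.TIAbelian.PairOmega

open Cfsg.Agent.TIAbelian.PairBase

/-- Two involutions: either conjugate, or there is a central involution `z` of the dihedral
group and `s z`, `t z` are conjugate to `s` or `t`. -/
theorem dih {Γ : Type*} [Group Γ] [Finite Γ] (s t : Γ) (hs : s * s = 1) (ht : t * t = 1) :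
    (∃ g : Γ, g * s * g⁻¹ = t) ∨
    ∃ z : Γ, z ≠ 1 ∧ z * s = s * z ∧ z * t = t * z ∧
      (∃ g : Γ, s * z = g * s * g⁻¹ ∨ s * z = g * t * g⁻¹) ∧
      (∃ g : Γ, t * z = g * s * g⁻¹ ∨ t * z = g * t * g⁻¹) := by
  have hsi : s⁻¹ = s := inv_eq_of_mul_eq_one_left hs
  have hti : t⁻¹ = t := inv_eq_of_mul_eq_one_left ht
  set k := s * t with hk
  have hki : k⁻¹ = t * s := by rw [hk, mul_inv_rev, hsi, hti]
  have hsk : ∀ i : ℕ, s * (k ^ i)⁻¹ = k ^ i * s := by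
    intro i
    have h1 : s * k⁻¹ * s = k := by
      rw [hki]
      have : s * (t * s) * s = s * t * (s * s) := by simp only [mul_assoc]
      rw [this, hs, mul_one]
    have h2 : (s * k⁻¹ * s⁻¹) ^ i = s * (k⁻¹) ^ i * s⁻¹ := conj_pow
    rw [hsi, h1, inv_pow] at h2
    have := congrArg (· * s) h2
    simp only [mul_assoc, hs, mul_one] at this
    exact this.symm
  have hconj : ∀ j : ℕ, ∃ g : Γ, k ^ j * s = g * s * g⁻¹ ∨ k ^ j * s = g * t * g⁻¹ := by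
    intro j
    rcases Nat.even_or_odd j with ⟨i, hi⟩ | ⟨i, hi⟩
    · refine ⟨k ^ i, Or.inl ?_⟩
      rw [mul_assoc, hsk, ← mul_assoc, ← pow_add, hi]
    · refine ⟨k ^ i * s, Or.inr ?_⟩
      have h1 : k ^ i * s * t * (k ^ i * s)⁻¹ = k ^ i * k * (s * (k ^ i)⁻¹) := by
        rw [mul_inv_rev, hsi, hk]
        simp only [mul_assoc]
      rw [h1, hsk, ← pow_succ, ← mul_assoc, ← pow_add, hi]
      congr 2
      omega
  have hpos := orderOf_pos k
  rcases Nat.even_or_odd (orderOf k) with ⟨m, hm⟩ | ⟨m, hm⟩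
  · right
    have hm0 : 0 < m := by omega
    have hzz : k ^ m * k ^ m = 1 := by rw [← pow_add, ← hm, pow_orderOf_eq_one]
    have hzi : (k ^ m)⁻¹ = k ^ m := inv_eq_of_mul_eq_one_left hzz
    have hzs : k ^ m * s = s * k ^ m := by
      have := hsk m
      rw [hzi] at this
      exact this.symm
    have hkz : k ^ m * k = k * k ^ m := by rw [← pow_succ, ← pow_succ']
    have hzt : k ^ m * t = t * k ^ m := by
      have h1 : t = s * k := by rw [hk, ← mul_assoc, hs, one_mul]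
      rw [h1, ← mul_assoc, hzs, mul_assoc, mul_assoc, hkz]
    refine ⟨k ^ m, ?_, hzs, hzt, ?_, ?_⟩
    · intro h0
      have := Nat.le_of_dvd hm0 (orderOf_dvd_of_pow_eq_one h0)
      omega
    · rw [← hzs]
      exact hconj m
    · obtain ⟨m', rfl⟩ : ∃ m', m = m' + 1 := ⟨m - 1, by omega⟩
      rw [← hzt]
      have h1 : k ^ (m' + 1) * t = k ^ m' * s := by
        rw [pow_succ, mul_assoc, hk, mul_assoc, ht, mul_one]
      rw [h1]
      exact hconj m'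
  · left
    refine ⟨k ^ m, ?_⟩
    rw [mul_assoc, hsk, ← mul_assoc, ← pow_add]
    have h1 : k ^ (m + m) = k⁻¹ := by
      rw [eq_inv_iff_mul_eq_one, ← pow_succ]
      have : m + m + 1 = orderOf k := by omega
      rw [this, pow_orderOf_eq_one]
    rw [h1, hki, mul_assoc, hs, mul_one]

variable {G : Type*} [Group G]

/-- `x` and `y` induce the same map on `U`. -/
def EqOnU (U : Subgroup G) (x y : G) : Prop := ∀ u ∈ U, x * u * x⁻¹ = y * u * y⁻¹

/-- the stabiliser of `U`. -/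
def stb (U : Subgroup G) : Subgroup G where
  carrier := {g | cj g U = U}
  one_mem' := cj_one U
  mul_mem' := fun ha hb => cj_mul_eq ha hb
  inv_mem' := fun ha => cj_inv_eq ha

/-- the action of the stabiliser of `U` on `U`. -/
def actU (U : Subgroup G) : ↥(stb U) →* Equiv.Perm ↥U where
  toFun g :=
    { toFun := fun u => ⟨g * u * (g : G)⁻¹, conj_mem_of_cj g.2 u.2⟩
      invFun := fun u => ⟨(g : G)⁻¹ * u * g, conj_mem_of_cj' g.2 u.2⟩
      left_inv := fun u => Subtype.ext (by simp [mul_assoc])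
      right_inv := fun u => Subtype.ext (by simp [mul_assoc]) }
  map_one' := by ext; simp
  map_mul' a b := by ext; simp [mul_assoc]

theorem actU_eq {U : Subgroup G} (x y : ↥(stb U)) : actU U x = actU U y ↔ EqOnU U x y := by
  constructor
  · intro h u hu
    exact congrArg (fun f : Equiv.Perm ↥U => ((f ⟨u, hu⟩ : ↥U) : G)) h
  · intro h
    ext u
    exact h u u.2

theorem dihU [Finite G] (U : Subgroup G) (a b : G) (ha : cj a U = U) (hb : cj b U = U)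
    (haa : ∀ u ∈ U, (a * a) * u = u * (a * a)) (hbb : ∀ u ∈ U, (b * b) * u = u * (b * b)) :
    (∃ g : G, cj g U = U ∧ EqOnU U (g * b * g⁻¹) a) ∨
    ∃ z : G, cj z U = U ∧ ¬ EqOnU U z 1 ∧ EqOnU U (z * b) (b * z) ∧ EqOnU U (z * a) (a * z) ∧
      (∃ g : G, cj g U = U ∧ (EqOnU U (b * z) (g * b * g⁻¹) ∨ EqOnU U (b * z) (g * a * g⁻¹))) ∧
      (∃ g : G, cj g U = U ∧ (EqOnU U (a * z) (g * b * g⁻¹) ∨ EqOnU U (a * z) (g * a * g⁻¹))) := by
  set ρ := (actU U).rangeRestrict with hρ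
  have hρe : ∀ x y : ↥(stb U), ρ x = ρ y ↔ EqOnU U x y := by
    intro x y
    rw [← actU_eq]
    constructor
    · intro h
      exact congrArg Subtype.val h
    · intro h
      exact Subtype.ext h
  have hsurj : Function.Surjective ρ := MonoidHom.rangeRestrict_surjective _
  have h1 : ∀ x : ↥(stb U), (∀ u ∈ U, ((x : G) * x) * u = u * ((x : G) * x)) → ρ x * ρ x = 1 := by
    intro x hx
    rw [← map_mul, ← map_one ρ, hρe]
    intro u hu
    have := hx u hu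
    simp only [Subgroup.coe_mul, Subgroup.coe_one, one_mul, inv_one, mul_one]
    rw [this, mul_inv_cancel_right]
  rcases dih (ρ ⟨b, hb⟩) (ρ ⟨a, ha⟩) (h1 ⟨b, hb⟩ hbb) (h1 ⟨a, ha⟩ haa) with ⟨g, hg⟩ |
    ⟨z, hz1, hzb, hza, ⟨g, hg⟩, ⟨g', hg'⟩⟩
  · left
    obtain ⟨g, rfl⟩ := hsurj g
    refine ⟨g, g.2, ?_⟩
    rw [← map_mul, ← map_inv, ← map_mul, hρe] at hg
    exact hg
  · right
    obtain ⟨z, rfl⟩ := hsurj z
    obtain ⟨g, rfl⟩ := hsurj g
    obtain ⟨g', rfl⟩ := hsurj g'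
    simp only [← map_mul, ← map_inv, hρe] at hzb hza hg hg'
    refine ⟨z, z.2, ?_, hzb, hza, ⟨g, g.2, hg⟩, ⟨g', g'.2, hg'⟩⟩
    intro h0
    apply hz1
    rw [← map_one ρ, hρe]
    exact h0

/-- `s` acts on `U` as an involution with centraliser `U ∩ S`. -/
structure Tv (U S : Subgroup G) (s : G) : Prop where
  norm : cj s U = U
  sq : ∀ u ∈ U, (s * s) * u = u * (s * s)
  fix : ∀ u ∈ U, s * u = u * s ↔ u ∈ S

theorem eq_comm_iff {s u : G} : s * u = u * s ↔ s * u * s⁻¹ = u := by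
  rw [mul_inv_eq_iff_eq_mul]

theorem Tv.congr {U S : Subgroup G} {s s' : G} (h : Tv U S s) (he : EqOnU U s s')
    (hn : cj s' U = U) : Tv U S s' := by
  refine ⟨hn, ?_, ?_⟩
  · intro u hu
    rw [eq_comm_iff]
    have h1 : s' * s' * u * (s' * s')⁻¹ = s' * (s' * u * s'⁻¹) * s'⁻¹ := by simp [mul_assoc]
    rw [h1, ← he u hu, ← he _ (conj_mem_of_cj h.norm hu)]
    have h2 := h.sq u hu
    rw [eq_comm_iff] at h2
    have h3 : s * (s * u * s⁻¹) * s⁻¹ = s * s * u * (s * s)⁻¹ := by simp [mul_assoc]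
    rw [h3, h2]
  · intro u hu
    rw [← h.fix u hu, eq_comm_iff, eq_comm_iff, he u hu]

theorem Tv.conj {U S : Subgroup G} {s g : G} (h : Tv U S s) (hg : cj g U = U) :
    Tv U (cj g S) (g * s * g⁻¹) := by
  have key : ∀ u ∈ U, g⁻¹ * u * g ∈ U := fun u hu => conj_mem_of_cj' hg hu
  refine ⟨cj_mul_eq (cj_mul_eq hg h.norm) (cj_inv_eq hg), ?_, ?_⟩
  · intro u hu
    have h1 := h.sq _ (key u hu)
    have h2 := congrArg (fun t => g * t * g⁻¹) h1
    simpa [mul_assoc] using h2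
  · intro u hu
    rw [mem_cj, ← h.fix _ (key u hu)]
    constructor
    · intro h1
      have h2 := congrArg (fun t => g⁻¹ * t * g) h1
      simpa [mul_assoc] using h2
    · intro h1
      have h2 := congrArg (fun t => g * t * g⁻¹) h1
      simpa [mul_assoc] using h2

section

variable {P : Set (Subgroup G)} (h : TIFam P)
include h

theorem Tv.unique {U S S' : Subgroup G} {s : G} (hS : S ∈ P) (hS' : S' ∈ P) (h1 : Tv U S s)
    (h2 : Tv U S' s) (hn : ∃ u ∈ U, u ∈ S ∧ u ≠ 1) : S = S' := by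
  obtain ⟨u, hu, huS, hu1⟩ := hn
  exact h.ti S hS S' hS' u huS ((h2.fix u hu).1 ((h1.fix u hu).2 huS)) hu1

theorem Tv.fixpt {U S S' : Subgroup G} {s : G} (hU : ∀ u ∈ U, u * u = 1)
    (hS : S ∈ P) (hS' : S' ∈ P) (h1 : Tv U S s)
    (hs : cj s S' = S') (hn : ∃ u ∈ U, u ∈ S' ∧ u ≠ 1) : S = S' := by
  obtain ⟨u, hu, huS, hu1⟩ := hn
  have hw : s * u * s⁻¹ ∈ S' := conj_mem_of_cj hs huS
  have hwU : s * u * s⁻¹ ∈ U := conj_mem_of_cj h1.norm hu
  by_cases h0 : s * u * s⁻¹ = u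
  · exact h.ti S hS S' hS' u ((h1.fix u hu).1 (eq_comm_iff.2 h0)) huS hu1
  · have h2 : u * (s * u * s⁻¹) ≠ 1 := by
      intro h3
      apply h0
      exact mul_left_cancel (h3.trans (hU u hu).symm)
    refine h.ti S hS S' hS' (u * (s * u * s⁻¹)) ?_ (S'.mul_mem huS hw) h2
    rw [← h1.fix _ (U.mul_mem hu hwU), eq_comm_iff]
    have h3 : s * (u * (s * u * s⁻¹)) * s⁻¹ = (s * u * s⁻¹) * ((s * s) * u * (s * s)⁻¹) := by
      simp [mul_assoc]
    rw [h3, eq_comm_iff.1 (h1.sq u hu), h.comm S' hS' _ hw _ huS]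

/-- The centralizing part of Lemma T. -/
theorem lemT_aux {U S S' : Subgroup G} (hU : ∀ u ∈ U, u * u = 1) (hS : S ∈ P) (hS' : S' ∈ P)
    {s t z : G} (hs : Tv U S s) (ht : Tv U S' t) (hn : ∃ u ∈ U, u ∈ S ∧ u ≠ 1)
    (hz : cj z U = U) (hzs : EqOnU U (z * s) (s * z))
    (hg : ∃ g : G, cj g U = U ∧ (EqOnU U (s * z) (g * s * g⁻¹) ∨ EqOnU U (s * z) (g * t * g⁻¹))) :
    ∀ u ∈ U, u ∈ S → z * u = u * z := by
  have hsz : cj (s * z) U = U := cj_mul_eq hs.norm hz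
  -- `s z` is a transvection
  obtain ⟨S'', hS'', hT⟩ : ∃ S'' ∈ P, Tv U S'' (s * z) := by
    obtain ⟨g, hg, hg1 | hg1⟩ := hg
    · exact ⟨_, h.conj S hS g, (hs.conj hg).congr (fun u hu => (hg1 u hu).symm) hsz⟩
    · exact ⟨_, h.conj S' hS' g, (ht.conj hg).congr (fun u hu => (hg1 u hu).symm) hsz⟩
  have hfix : cj (s * z) S = S := by
    obtain ⟨u, hu, huS, hu1⟩ := hn
    refine h.norm_of_conj hS huS hu1 ?_
    have hw : s * z * u * (s * z)⁻¹ ∈ U := conj_mem_of_cj hsz hu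
    rw [← hs.fix _ hw, eq_comm_iff]
    have h1 : s * (s * z * u * (s * z)⁻¹) * s⁻¹ = s * (z * s * u * (z * s)⁻¹) * s⁻¹ := by
      rw [hzs u hu]
    rw [h1]
    have h2 : s * (z * s * u * (z * s)⁻¹) * s⁻¹ = (s * z) * (s * u * s⁻¹) * (s * z)⁻¹ := by
      simp [mul_assoc]
    rw [h2, eq_comm_iff.1 ((hs.fix u hu).2 huS)]
  have hSS : S'' = S := Tv.fixpt h hU hS'' hS hT hfix hn
  rw [hSS] at hT
  intro u hu huS
  have h1 := (hT.fix u hu).2 huS
  have h2 := (hs.fix u hu).2 huS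
  have h3 : s * (z * u) = s * (u * z) := by
    rw [← mul_assoc, h1, ← mul_assoc, ← mul_assoc, h2]
  exact mul_left_cancel h3

theorem lemT [Finite G] {U S S' : Subgroup G} (hU : ∀ u ∈ U, u * u = 1) (hS : S ∈ P) (hS' : S' ∈ P)
    {s t : G} (hs : Tv U S s) (ht : Tv U S' t) (hn : ∃ u ∈ U, u ∈ S ∧ u ≠ 1)
    (hn' : ∃ u ∈ U, u ∈ S' ∧ u ≠ 1)
    (hgen : ∀ u ∈ U, ∃ v ∈ U, ∃ w ∈ U, v ∈ S ∧ w ∈ S' ∧ u = v * w) :
    ∃ g : G, cj g U = U ∧ EqOnU U (g * s * g⁻¹) t := by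
  rcases dihU U t s ht.norm hs.norm ht.sq hs.sq with hg | ⟨z, hz, hz1, hzs, hzt, hg, hg'⟩
  · exact hg
  · exfalso
    apply hz1
    have c1 := lemT_aux h hU hS hS' hs ht hn hz hzs hg
    have c2 := lemT_aux h hU hS' hS ht hs hn' hz hzt
      (by
        obtain ⟨g, hg1, hg2⟩ := hg'
        exact ⟨g, hg1, hg2.symm⟩)
    intro u hu
    obtain ⟨v, hv, w, hw, hvS, hwS, rfl⟩ := hgen u hu
    have e1 := c1 v hv hvS
    have e2 := c2 w hw hwS
    have : z * (v * w) = (v * w) * z := by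
      rw [← mul_assoc, e1, mul_assoc, e2, ← mul_assoc]
    rw [this]
    simp

end


/-- The product of two elementwise commuting subgroups. -/
def prodS (X Y : Subgroup G) (hc : ∀ x ∈ X, ∀ y ∈ Y, x * y = y * x) : Subgroup G where
  carrier := {g | ∃ x ∈ X, ∃ y ∈ Y, g = x * y}
  one_mem' := ⟨1, X.one_mem, 1, Y.one_mem, by simp⟩
  mul_mem' := by
    rintro _ _ ⟨x, hx, y, hy, rfl⟩ ⟨x', hx', y', hy', rfl⟩
    refine ⟨x * x', X.mul_mem hx hx', y * y', Y.mul_mem hy hy', ?_⟩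
    have : x * y * (x' * y') = x * (y * x') * y' := by simp only [mul_assoc]
    rw [this, ← hc x' hx' y hy]
    simp only [mul_assoc]
  inv_mem' := by
    rintro _ ⟨x, hx, y, hy, rfl⟩
    refine ⟨x⁻¹, X.inv_mem hx, y⁻¹, Y.inv_mem hy, ?_⟩
    rw [mul_inv_rev, hc _ (X.inv_mem hx) _ (Y.inv_mem hy)]

theorem mem_prodS {X Y : Subgroup G} {hc : ∀ x ∈ X, ∀ y ∈ Y, x * y = y * x} {g : G} :
    g ∈ prodS X Y hc ↔ ∃ x ∈ X, ∃ y ∈ Y, g = x * y := Iff.rfl

theorem left_mem_prodS {X Y : Subgroup G} {hc : ∀ x ∈ X, ∀ y ∈ Y, x * y = y * x} {x : G}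
    (hx : x ∈ X) : x ∈ prodS X Y hc := ⟨x, hx, 1, Y.one_mem, by simp⟩

theorem right_mem_prodS {X Y : Subgroup G} {hc : ∀ x ∈ X, ∀ y ∈ Y, x * y = y * x} {y : G}
    (hy : y ∈ Y) : y ∈ prodS X Y hc := ⟨1, X.one_mem, y, hy, by simp⟩

theorem cj_eq_of_forall {B U : Subgroup G} (hB : ∀ b ∈ B, ∀ u ∈ U, b * u * b⁻¹ ∈ U) {b : G}
    (hb : b ∈ B) : cj b U = U := by
  ext x
  rw [mem_cj]
  constructor
  · intro hx
    have := hB b hb _ hx
    simpa [mul_assoc] using this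
  · intro hx
    have := hB b⁻¹ (B.inv_mem hb) _ hx
    simpa using this

section

variable {P : Set (Subgroup G)} (h : TIFam P)
include h

theorem norm_prodS {A B : Subgroup G} (hA : A ∈ P) (hB : B ∈ P) (hc : Col A B)
    {hXY : ∀ x ∈ nr A B, ∀ y ∈ nr B A, x * y = y * x} {b : G} (hb : b ∈ B) :
    cj b (prodS (nr A B) (nr B A) hXY) = prodS (nr A B) (nr B A) hXY := by
  refine cj_eq_of_forall (B := B) ?_ hb
  rintro b hb _ ⟨x, hx, y, hy, rfl⟩
  have h1 := (nr B A).inv_mem (h.comm_mem hA hB hc hx hb)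
  refine ⟨x, hx, (x * b * x⁻¹ * b⁻¹)⁻¹ * y, (nr B A).mul_mem h1 hy, ?_⟩
  have h2 : b * (x * y) * b⁻¹ = (x * b * x⁻¹ * b⁻¹)⁻¹ * x * (b * y * b⁻¹) := by
    simp [mul_assoc]
  rw [h2, h.comm B hB b hb y hy.1, mul_inv_cancel_right]
  rw [← h.comm_nr hA hB hc.1 hx h1, mul_assoc]

theorem norm_prodS' {A B : Subgroup G} (hA : A ∈ P) (hB : B ∈ P) (hc : Col A B)
    {hXY : ∀ x ∈ nr A B, ∀ y ∈ nr B A, x * y = y * x} {a : G} (ha : a ∈ A) :
    cj a (prodS (nr A B) (nr B A) hXY) = prodS (nr A B) (nr B A) hXY := by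
  have h1 := norm_prodS h hB hA hc.symm (hXY := fun y hy x hx => (hXY x hx y hy).symm) ha
  have h2 : prodS (nr B A) (nr A B) (fun y hy x hx => (hXY x hx y hy).symm)
      = prodS (nr A B) (nr B A) hXY := by
    ext g
    constructor
    · rintro ⟨y, hy, x, hx, rfl⟩
      exact ⟨x, hx, y, hy, (hXY x hx y hy).symm⟩
    · rintro ⟨x, hx, y, hy, rfl⟩
      exact ⟨y, hy, x, hx, hXY x hx y hy⟩
  rwa [h2] at h1

theorem prodS_sq {A B : Subgroup G} (hA : A ∈ P) (hB : B ∈ P) (hc : Col A B)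
    {hXY : ∀ x ∈ nr A B, ∀ y ∈ nr B A, x * y = y * x} :
    ∀ u ∈ prodS (nr A B) (nr B A) hXY, u * u = 1 := by
  rintro _ ⟨x, hx, y, hy, rfl⟩
  have : x * y * (x * y) = x * (y * x) * y := by simp only [mul_assoc]
  rw [this, ← hXY x hx y hy]
  have : x * (x * y) * y = (x * x) * (y * y) := by simp only [mul_assoc]
  rw [this, h.stageA hA hB hc.1 hx, h.stageA hB hA hc.1.symm hy, one_mul]

theorem tv_prodS {A B : Subgroup G} (hA : A ∈ P) (hB : B ∈ P) (hc : Col A B)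
    {hXY : ∀ x ∈ nr A B, ∀ y ∈ nr B A, x * y = y * x} {b : G} (hb : b ∈ B) (hbn : b ∉ nr B A) :
    Tv (prodS (nr A B) (nr B A) hXY) B b := by
  have hmemB : ∀ x ∈ nr A B, ∀ y ∈ nr B A, x * y ∈ B → x = 1 := by
    intro x hx y hy hxy
    by_contra h0
    have : x ∈ B := by
      have := B.mul_mem hxy (B.inv_mem hy.1)
      simpa using this
    exact hc.1 (h.ti A hA B hB x hx.1 this h0)
  refine ⟨norm_prodS h hA hB hc hb, ?_, ?_⟩
  · rintro _ ⟨x, hx, y, hy, rfl⟩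
    have hbb := h.sq_mem_nr hA hB hc hb
    rw [← mul_assoc (b * b), ← hXY x hx _ hbb, mul_assoc x (b * b) y,
      h.comm B hB _ hbb.1 _ hy.1, mul_assoc]
  · rintro _ ⟨x, hx, y, hy, rfl⟩
    constructor
    · intro h1
      have h2 : x = 1 := by
        by_contra h0
        apply hbn
        refine h.mem_nr_of_comm hA hx.1 h0 hb ?_
        have h3 : b * x * y = x * b * y := by
          rw [mul_assoc, h1, mul_assoc, ← h.comm B hB _ hb _ hy.1, mul_assoc]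
        exact (mul_right_cancel h3).symm
      rw [h2, one_mul]
      exact hy.1
    · intro h1
      rw [hmemB x hx y hy h1, one_mul]
      exact h.comm B hB _ hb _ hy.1

/-- `N_B(A) = Ω₁(B)` for collinear `A`, `B`. -/
theorem mem_nr_iff [Finite G] {A B : Subgroup G} (hA : A ∈ P) (hB : B ∈ P) (hc : Col A B) {b : G}
    (hb : b ∈ B) : b ∈ nr B A ↔ b * b = 1 := by
  constructor
  · exact fun h1 => h.stageA hB hA hc.1.symm h1
  intro hbb
  by_contra hbn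
  have hXY : ∀ x ∈ nr A B, ∀ y ∈ nr B A, x * y = y * x :=
    fun x hx y hy => h.comm_nr hA hB hc.1 hx hy
  set U := prodS (nr A B) (nr B A) hXY with hUdef
  have hU : ∀ u ∈ U, u * u = 1 := prodS_sq h hA hB hc
  obtain ⟨a, ha, han⟩ := h.not_all_norm hB hA hc.1.symm
  have hTa : Tv U A a := by
    have h1 := tv_prodS h hB hA hc.symm (hXY := fun y hy x hx => (hXY x hx y hy).symm) ha han
    have h2 : prodS (nr B A) (nr A B) (fun y hy x hx => (hXY x hx y hy).symm) = U := by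
      ext g
      constructor
      · rintro ⟨y, hy, x, hx, rfl⟩
        exact ⟨x, hx, y, hy, (hXY x hx y hy).symm⟩
      · rintro ⟨x, hx, y, hy, rfl⟩
        exact ⟨y, hy, x, hx, hXY x hx y hy⟩
    rwa [h2] at h1
  obtain ⟨x₁, hx₁, hx₁1⟩ := h.col_nr hB hc
  obtain ⟨y₁, hy₁, hy₁1⟩ := h.col_nr hA hc.symm
  have hnB : ∃ u ∈ U, u ∈ B ∧ u ≠ 1 := ⟨y₁, right_mem_prodS hy₁, hy₁.1, hy₁1⟩
  have hnA : ∃ u ∈ U, u ∈ A ∧ u ≠ 1 := ⟨x₁, left_mem_prodS hx₁, hx₁.1, hx₁1⟩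
  have hgen : ∀ u ∈ U, ∃ v ∈ U, ∃ w ∈ U, v ∈ B ∧ w ∈ A ∧ u = v * w := by
    rintro _ ⟨x, hx, y, hy, rfl⟩
    exact ⟨y, right_mem_prodS hy, x, left_mem_prodS hx, hy.1, hx.1, hXY x hx y hy⟩
  -- every element of `B` outside `Y` has square one
  have key : ∀ b' ∈ B, b' ∉ nr B A → b' * b' = 1 := by
    intro b' hb' hbn'
    have hT := tv_prodS h hA hB hc (hXY := hXY) hb hbn
    have hT' := tv_prodS h hA hB hc (hXY := hXY) hb' hbn'
    obtain ⟨g, hg, hg1⟩ := lemT h hU hB hA hT hTa hnB hnA hgen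
    obtain ⟨g', hg', hg1'⟩ := lemT h hU hB hA hT' hTa hnB hnA hgen
    have hgi := cj_inv_eq hg'
    have hk : cj (g'⁻¹ * g) U = U := cj_mul_eq hgi hg
    have hE : EqOnU U ((g'⁻¹ * g) * b * (g'⁻¹ * g)⁻¹) b' := by
      intro u hu
      have h1 : g' * u * g'⁻¹ ∈ U := conj_mem_of_cj hg' hu
      have h2 := (hg1 _ h1).trans (hg1' _ h1).symm
      have h3 := congrArg (fun t => g'⁻¹ * t * g') h2
      simpa [mul_assoc] using h3
    have hTk : Tv U (cj (g'⁻¹ * g) B) b' := (hT.conj hk).congr hE hT'.norm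
    have hkB : cj (g'⁻¹ * g) B = B := by
      refine (Tv.unique h hB (h.conj B hB _) hT' hTk hnB).symm
    -- `b' = y (k b k⁻¹)`
    set k := g'⁻¹ * g with hkdef
    have hkb : k * b * k⁻¹ ∈ B := conj_mem_of_cj hkB hb
    have hy : b' * (k * b * k⁻¹)⁻¹ ∈ nr B A := by
      refine h.mem_nr_of_comm hA hx₁.1 hx₁1 (B.mul_mem hb' (B.inv_mem hkb)) ?_
      have h1 : (k * b * k⁻¹)⁻¹ * x₁ * ((k * b * k⁻¹)⁻¹)⁻¹ ∈ U :=
        conj_mem_of_cj (cj_inv_eq (hT.conj hk).norm) (left_mem_prodS hx₁)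
      have h2 := hE _ h1
      have h3 : k * b * k⁻¹ * ((k * b * k⁻¹)⁻¹ * x₁ * ((k * b * k⁻¹)⁻¹)⁻¹) * (k * b * k⁻¹)⁻¹ = x₁ := by
        simp [mul_assoc]
      rw [h3] at h2
      have h4 := congrArg (· * (b' * (k * b * k⁻¹)⁻¹)) h2
      rw [h4]
      simp [mul_assoc]
    have hyy := h.stageA hB hA hc.1.symm hy
    have e1 : b' = b' * (k * b * k⁻¹)⁻¹ * (k * b * k⁻¹) := by simp [mul_assoc]
    have e2 : b' * b' = (b' * (k * b * k⁻¹)⁻¹) * ((k * b * k⁻¹) * (b' * (k * b * k⁻¹)⁻¹))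
        * (k * b * k⁻¹) := by simp [mul_assoc]
    rw [e2, h.comm B hB _ hkb _ hy.1]
    have e3 : (b' * (k * b * k⁻¹)⁻¹) * ((b' * (k * b * k⁻¹)⁻¹) * (k * b * k⁻¹)) * (k * b * k⁻¹)
        = (b' * (k * b * k⁻¹)⁻¹) * (b' * (k * b * k⁻¹)⁻¹) * (k * (b * b) * k⁻¹) := by
      simp [mul_assoc]
    rw [e3, hyy, hbb]
    simp
  obtain ⟨c, hcB, hcc⟩ := h.nonelem B hB
  by_cases hcn : c ∈ nr B A
  · exact hcc (h.stageA hB hA hc.1.symm hcn)
  · exact hcc (key c hcB hcn)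

end

end Cfsg.Agent.TIAbelian.PairOmega
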