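/-
helper998: S1779, case b: pairs of members of a class of abelian TI 2-subgroups, without the assumption
that commuting members are equal.  (Adapted from helper262's `PairBase` and `PairOmega`.)
-/
import Cfsg.Agent.TIAbelian.PairOmega

set_option autoImplicit false

namespace Cfsg.Agent.TIAbelian.CaseBBase

open Cfsg.Agent.TIAbelian.PairBase hiding TIFam
open Cfsg.Agent.TIAbelian.PairOmega

variable {G : Type*} [Group G]

/-- A conjugacy class of abelian TI 2-subgroups, not cyclic, not elementary. -/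
structure Fam (P : Set (Subgroup G)) : Prop where
  conj : ∀ C ∈ P, ∀ g : G, cj g C ∈ P
  trans : ∀ C ∈ P, ∀ D ∈ P, ∃ g : G, cj g C = D
  comm : ∀ C ∈ P, ∀ x ∈ C, ∀ y ∈ C, x * y = y * x
  two : ∀ C ∈ P, ∀ x ∈ C, ∃ n : ℕ, x ^ (2 ^ n) = 1
  ti : ∀ C ∈ P, ∀ D ∈ P, ∀ x : G, x ∈ C → x ∈ D → x ≠ 1 → C = D
  noncyc : ∀ C ∈ P, ∀ z : G, ∃ e ∈ C, e ≠ 1 ∧ e * e = 1 ∧ e ≠ z
  nonelem : ∀ C ∈ P, ∃ c ∈ C, c * c ≠ 1

namespace Fam

variable {P : Set (Subgroup G)} (h : Fam P)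
include h

theorem norm_of_comm {B : Subgroup G} (hB : B ∈ P) {x b : G} (hb : b ∈ B) (hb1 : b ≠ 1)
    (hxb : x * b = b * x) : cj x B = B := by
  refine h.ti _ (h.conj B hB x) B hB b ?_ hb hb1
  rw [mem_cj]
  have : x⁻¹ * b * x = b := by
    rw [mul_assoc, ← hxb, inv_mul_cancel_left]
  rwa [this]

theorem norm_of_conj {B : Subgroup G} (hB : B ∈ P) {x b : G} (hb : b ∈ B) (hb1 : b ≠ 1)
    (hxb : x * b * x⁻¹ ∈ B) : cj x B = B := by
  refine h.ti _ (h.conj B hB x) B hB (x * b * x⁻¹) (conj_mem_cj hb) hxb ?_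
  intro h0
  apply hb1
  have : b = x⁻¹ * (x * b * x⁻¹) * x := by simp [mul_assoc]
  rw [this, h0]
  simp

/-- Mutually normalizing elements of different members commute. -/
theorem comm_of_norm {A B : Subgroup G} (hA : A ∈ P) (hB : B ∈ P) (hne : A ≠ B) {x y : G}
    (hx : x ∈ A) (hxB : cj x B = B) (hy : y ∈ B) (hyA : cj y A = A) : x * y = y * x := by
  have h1 : x * y * x⁻¹ * y⁻¹ ∈ B := B.mul_mem (conj_mem_of_cj hxB hy) (B.inv_mem hy)
  have h2 : x * y * x⁻¹ * y⁻¹ ∈ A := by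
    have : x * y * x⁻¹ * y⁻¹ = x * (y * x⁻¹ * y⁻¹) := by simp [mul_assoc]
    rw [this]
    exact A.mul_mem hx (conj_mem_of_cj hyA (A.inv_mem hx))
  have h3 : x * y * x⁻¹ * y⁻¹ = 1 := by
    by_contra h0
    exact hne (h.ti A hA B hB _ h2 h1 h0)
  rw [mul_inv_eq_one] at h3
  rw [mul_inv_eq_iff_eq_mul] at h3
  exact h3

end Fam

namespace Fam

variable {P : Set (Subgroup G)} (h : Fam P)
include h

theorem comm_nr {A B : Subgroup G} (hA : A ∈ P) (hB : B ∈ P) (hne : A ≠ B) {x y : G}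
    (hx : x ∈ nr A B) (hy : y ∈ nr B A) : x * y = y * x :=
  h.comm_of_norm hA hB hne hx.1 hx.2 hy.1 hy.2

theorem mem_nr_of_comm {A B : Subgroup G} (hA : A ∈ P) {x b : G}
    (hx : x ∈ A) (hx1 : x ≠ 1) (hb : b ∈ B) (hxb : x * b = b * x) : b ∈ nr B A :=
  ⟨hb, h.norm_of_comm hA hx hx1 hxb.symm⟩

theorem stageA0 {A B : Subgroup G} (hA : A ∈ P) (hB : B ∈ P) (hne : A ≠ B) {x : G}
    (hx : x ∈ nr A B) (hxx : x * x ≠ 1) : ∀ b ∈ B, cj b A = A := by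
  obtain ⟨n, hn⟩ := h.two A hA x hx.1
  obtain ⟨k, hk1, hk2⟩ := two_descend x n hn (fun y => y * y = 1) (by simp) hxx
  set y := x ^ (2 ^ k) with hy
  have hyA : y ∈ nr A B := (nr A B).pow_mem hx _
  intro b hb
  let _ := commGrp (h.comm B hB)
  set σ : Additive ↥B →+ Additive ↥B := MonoidHom.toAdditive (conjHom y hyA.2) with hσ
  have hσv : ∀ m : ↥B, ((σ (Additive.ofMul m)).toMul : G) = y * m * y⁻¹ := fun m => rfl
  have fix : ∀ m, σ (σ m) = m → σ m = m := by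
    intro m hm
    have h1 : y * (y * (m.toMul : G) * y⁻¹) * y⁻¹ = (m.toMul : G) := congrArg (fun t => ((Additive.toMul t : ↥B) : G)) hm
    have h2 : (y * y) * (m.toMul : G) = (m.toMul : G) * (y * y) := by
      have := congrArg (· * (y * y)) h1
      simpa [mul_assoc] using this
    have h3 : (m.toMul : G) ∈ nr B A :=
      h.mem_nr_of_comm hA (A.mul_mem hyA.1 hyA.1) hk1 m.toMul.2 h2
    have h4 := h.comm_nr hA hB hne hyA h3
    apply Additive.toMul.injective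
    apply Subtype.ext
    show y * (m.toMul : G) * y⁻¹ = m.toMul
    rw [h4, mul_inv_cancel_right]
  have h4 : ∀ m, σ (σ (σ (σ m))) = m := by
    intro m
    apply Additive.toMul.injective
    apply Subtype.ext
    show y * (y * (y * (y * (m.toMul : G) * y⁻¹) * y⁻¹) * y⁻¹) * y⁻¹ = m.toMul
    have e1 : y * (y * (y * (y * (m.toMul : G) * y⁻¹) * y⁻¹) * y⁻¹) * y⁻¹
        = (y * y * (y * y)) * (m.toMul : G) * (y * y * (y * y))⁻¹ := by simp [mul_assoc]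
    rw [e1, hk2]
    simp
  have key : ∀ m : ↥B, y * (m : G) * y⁻¹ = m := by
    intro m
    by_contra hm
    obtain ⟨n', hn'⟩ := h.two B hB m m.2
    obtain ⟨j, hj1, hj2⟩ := two_descend (m : G) n' hn' (fun t => y * t * y⁻¹ = t) (by simp) hm
    apply hj1
    have e := addA2 σ fix h4 (Additive.ofMul (m ^ (2 ^ j))) (by
      apply Additive.toMul.injective
      apply Subtype.ext
      exact hj2)
    exact congrArg (fun t => ((Additive.toMul t : ↥B) : G)) e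
  have h5 := key ⟨b, hb⟩
  have h6 : y * b = b * y := by
    have := congrArg (· * y) h5
    simpa [mul_assoc] using this
  have hy1 : y ≠ 1 := by
    intro h0
    apply hk1
    rw [h0, one_mul]
  exact h.norm_of_comm hA hyA.1 hy1 h6.symm

/-- `A` and `B` do not commute elementwise. -/
def _root_.Cfsg.Agent.TIAbelian.CaseBBase.Nc (A B : Subgroup G) : Prop :=
  ∃ a ∈ A, ∃ b ∈ B, a * b ≠ b * a

omit h in
theorem _root_.Cfsg.Agent.TIAbelian.CaseBBase.Nc.symm {A B : Subgroup G} (hc : Nc A B) : Nc B A := by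
  obtain ⟨a, ha, b, hb, hab⟩ := hc
  exact ⟨b, hb, a, ha, fun h0 => hab h0.symm⟩

theorem ne {A B : Subgroup G} (hA : A ∈ P) (hne : Nc A B) : A ≠ B := by
  rintro rfl
  obtain ⟨a, ha, b, hb, hab⟩ := hne
  exact hab (h.comm A hA a ha b hb)

theorem not_all_norm {A B : Subgroup G} (hA : A ∈ P) (hB : B ∈ P) (hne : Nc A B) :
    ∃ b ∈ B, b ∉ nr B A := by
  by_contra hcon
  push Not at hcon
  obtain ⟨c, hc, hcc⟩ := h.nonelem B hB
  have hne0 := h.ne hA hne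
  have h1 := h.stageA0 hB hA hne0.symm (hcon c hc) hcc
  obtain ⟨a₀, ha₀, b₀, hb₀, hab⟩ := hne
  exact hab (h.comm_nr hA hB hne0 ⟨ha₀, h1 a₀ ha₀⟩ (hcon b₀ hb₀))

theorem stageA {A B : Subgroup G} (hA : A ∈ P) (hB : B ∈ P) (hne : Nc A B) {x : G}
    (hx : x ∈ nr A B) : x * x = 1 := by
  by_contra h0
  obtain ⟨b, hb, hb2⟩ := h.not_all_norm hA hB hne
  exact hb2 ⟨hb, h.stageA0 hA hB (h.ne hA hne) hx h0 b hb⟩

theorem stageA_inv {A B : Subgroup G} (hA : A ∈ P) (hB : B ∈ P) (hne : Nc A B) {x : G}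
    (hx : x ∈ nr A B) : x⁻¹ = x :=
  inv_eq_of_mul_eq_one_left (h.stageA hA hB hne hx)

theorem comm_elt {A B : Subgroup G} (hA : A ∈ P) (hB : B ∈ P) (hne : Nc A B) {x b : G}
    (hx : x ∈ nr A B) (hb : b ∈ B) (hbb : b * b ∈ nr B A) : x * b * x⁻¹ * b⁻¹ ∈ nr B A := by
  by_cases hx1 : x = 1
  · subst hx1
    simp [(nr B A).one_mem]
  have hxi := h.stageA_inv hA hB hne hx
  have hxx := h.stageA hA hB hne hx
  have he : x * b * x⁻¹ ∈ B := conj_mem_of_cj hx.2 hb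
  have hc : x * b * x⁻¹ * b⁻¹ ∈ B := B.mul_mem he (B.inv_mem hb)
  have hcc : (x * b * x⁻¹ * b⁻¹) * (x * b * x⁻¹ * b⁻¹) = 1 := by
    have e1 : (x * b * x⁻¹ * b⁻¹) * (x * b * x⁻¹ * b⁻¹)
        = (x * b * x⁻¹) * (b⁻¹ * (x * b * x⁻¹)) * b⁻¹ := by simp only [mul_assoc]
    rw [e1, h.comm B hB _ (B.inv_mem hb) _ he]
    have e2 : (x * b * x⁻¹) * ((x * b * x⁻¹) * b⁻¹) * b⁻¹ = (x * (b * b) * x⁻¹) * (b * b)⁻¹ := by
      simp [mul_assoc]
    rw [e2, h.comm_nr hA hB (h.ne hA hne) hx hbb]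
    simp
  refine h.mem_nr_of_comm hA hx.1 hx1 hc ?_
  have e3 : x * (x * b * x⁻¹ * b⁻¹) * x⁻¹ = (x * b * x⁻¹ * b⁻¹)⁻¹ := by
    have : x * (x * b * x⁻¹ * b⁻¹) * x⁻¹ = (x * x) * b * x⁻¹ * b⁻¹ * x⁻¹ := by simp only [mul_assoc]
    rw [this, hxx]
    simp [mul_assoc, hxi]
  rw [inv_eq_of_mul_eq_one_left hcc] at e3
  have := congrArg (· * x) e3
  simpa [mul_assoc] using this

theorem exists_sq_nr {A B : Subgroup G} (hA : A ∈ P) (hB : B ∈ P) (hne : Nc A B) :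
    ∃ b ∈ B, b ∉ nr B A ∧ b * b ∈ nr B A := by
  obtain ⟨b, hb, hb2⟩ := h.not_all_norm hA hB hne
  obtain ⟨n, hn⟩ := h.two B hB b hb
  obtain ⟨k, hk1, hk2⟩ := two_descend b n hn (fun t => t ∈ nr B A) (nr B A).one_mem hb2
  exact ⟨_, B.pow_mem hb _, hk1, hk2⟩

theorem map_inj {A B : Subgroup G} (hA : A ∈ P) {b x x' : G} (hb : b ∈ B)
    (hbn : b ∉ nr B A) (hx : x ∈ A) (hx' : x' ∈ A)
    (he : x * b * x⁻¹ * b⁻¹ = x' * b * x'⁻¹ * b⁻¹) : x = x' := by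
  by_contra hxx
  apply hbn
  have h1 : x'⁻¹ * x ≠ 1 := by
    intro h0
    apply hxx
    rw [inv_mul_eq_one] at h0
    exact h0.symm
  refine h.mem_nr_of_comm hA (A.mul_mem (A.inv_mem hx') hx) h1 hb ?_
  have h2 := mul_right_cancel he
  have h3 := congrArg (fun t => x'⁻¹ * t * x) h2
  simpa [mul_assoc] using h3

theorem card_nr_le [Finite G] {A B : Subgroup G} (hA : A ∈ P) (hB : B ∈ P) (hne : Nc A B) :
    Nat.card ↥(nr A B) ≤ Nat.card ↥(nr B A) := by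
  obtain ⟨b, hb, hb1, hb2⟩ := h.exists_sq_nr hA hB hne
  refine Nat.card_le_card_of_injective (fun x : ↥(nr A B) =>
    (⟨x * b * (x : G)⁻¹ * b⁻¹, h.comm_elt hA hB hne x.2 hb hb2⟩ : ↥(nr B A))) ?_
  intro x x' he
  apply Subtype.ext
  exact h.map_inj hA hb hb1 x.2.1 x'.2.1 (congrArg Subtype.val he)

theorem card_nr_eq [Finite G] {A B : Subgroup G} (hA : A ∈ P) (hB : B ∈ P) (hne : Nc A B) :
    Nat.card ↥(nr A B) = Nat.card ↥(nr B A) :=
  le_antisymm (h.card_nr_le hA hB hne) (h.card_nr_le hB hA hne.symm)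

/-- `|N_A(B)| ≥ 3` when it is not trivial. -/
theorem exists_two {A B : Subgroup G} (hA : A ∈ P) (hB : B ∈ P) (hne : Nc A B) {x₀ y₀ : G}
    (hx₀ : x₀ ∈ nr A B) (hx1 : x₀ ≠ 1) (hy₀ : y₀ ∈ nr B A) (hy1 : y₀ ≠ 1) :
    ∃ x ∈ nr A B, x ≠ 1 ∧ x ≠ x₀ := by
  by_contra hcon
  push Not at hcon
  have hX : ∀ x ∈ nr A B, x = 1 ∨ x = x₀ := fun x hx => by
    by_cases h0 : x = 1
    · exact Or.inl h0
    · exact Or.inr (hcon x hx h0)
  obtain ⟨a, ha, ha1, ha2⟩ := h.exists_sq_nr hB hA hne.symm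
  have hY0 : ∀ y ∈ nr B A, y ≠ 1 → y * a * y⁻¹ * a⁻¹ = x₀ := by
    intro y hy hy'
    rcases hX _ (h.comm_elt hB hA hne.symm hy ha ha2) with h0 | h0
    · exfalso
      apply hy'
      exact h.map_inj hB ha ha1 hy.1 B.one_mem (by rw [h0]; simp)
    · exact h0
  have hY : ∀ y ∈ nr B A, y = 1 ∨ y = y₀ := by
    intro y hy
    by_cases h0 : y = 1
    · exact Or.inl h0
    · right
      exact h.map_inj hB ha ha1 hy.1 hy₀.1 (by rw [hY0 y hy h0, hY0 y₀ hy₀ hy1])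
  let _ := commGrp (h.comm B hB)
  set σ : Additive ↥B →+ Additive ↥B := MonoidHom.toAdditive (conjHom x₀ hx₀.2) with hσ
  have hxx := h.stageA hA hB hne hx₀
  have hfix : ∀ m : Additive ↥B, σ m = m → ((Additive.toMul m : ↥B) : G) ∈ nr B A := by
    intro m hm
    have h1 : x₀ * (m.toMul : G) * x₀⁻¹ = m.toMul :=
      congrArg (fun t => ((Additive.toMul t : ↥B) : G)) hm
    refine h.mem_nr_of_comm hA hx₀.1 hx1 m.toMul.2 ?_
    have := congrArg (· * x₀) h1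
    simpa [mul_assoc] using this
  obtain ⟨c0, hc0, hcc0⟩ := h.nonelem B hB
  obtain ⟨n, hn⟩ := h.two B hB c0 hc0
  obtain ⟨k, hk1, hk2⟩ := two_descend c0 n hn (fun t => t * t = 1) (by simp) hcc0
  obtain ⟨e, he, he1, hee, hey⟩ := h.noncyc B hB y₀
  refine addB1 σ ?_ ?_ (Additive.ofMul ⟨y₀, hy₀.1⟩) ?_
    (Additive.ofMul ⟨c0 ^ (2 ^ k), B.pow_mem hc0 _⟩) ?_ ?_ (Additive.ofMul ⟨e, he⟩) ?_ ?_
  · intro m
    apply Additive.toMul.injective
    apply Subtype.ext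
    show x₀ * (x₀ * (m.toMul : G) * x₀⁻¹) * x₀⁻¹ = m.toMul
    have : x₀ * (x₀ * (m.toMul : G) * x₀⁻¹) * x₀⁻¹ = (x₀ * x₀) * (m.toMul : G) * (x₀ * x₀)⁻¹ := by
      simp [mul_assoc]
    rw [this, hxx]
    simp
  · intro m hm
    apply Additive.toMul.injective
    apply Subtype.ext
    exact h.stageA hB hA hne.symm (hfix m hm)
  · intro m hm
    rcases hY _ (hfix m hm) with h0 | h0
    · left
      apply Additive.toMul.injective
      exact Subtype.ext h0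
    · right
      apply Additive.toMul.injective
      exact Subtype.ext h0
  · intro h0
    exact hk1 (congrArg (fun t => ((Additive.toMul t : ↥B) : G)) h0)
  · apply Additive.toMul.injective
    apply Subtype.ext
    exact hk2
  · apply Additive.toMul.injective
    apply Subtype.ext
    exact hee
  · intro h0
    rcases hY _ (hfix _ h0) with h2 | h2
    · exact he1 h2
    · exact hey h2

theorem mul_conj_mem {A B : Subgroup G} (hA : A ∈ P) (hB : B ∈ P) (hne : Nc A B) {x b : G}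
    (hx : x ∈ nr A B) (hx1 : x ≠ 1) (hb : b ∈ B) : b * (x * b * x⁻¹) ∈ nr B A := by
  have hxx := h.stageA hA hB hne hx
  have he : x * b * x⁻¹ ∈ B := conj_mem_of_cj hx.2 hb
  refine h.mem_nr_of_comm hA hx.1 hx1 (B.mul_mem hb he) ?_
  have e1 : x * (b * (x * b * x⁻¹)) = (x * b * x⁻¹) * ((x * x) * b * (x * x)⁻¹) * x := by
    simp [mul_assoc]
  rw [e1, hxx]
  simp only [one_mul, inv_one, mul_one]
  rw [h.comm B hB _ he _ hb]

end Fam

/-- Two members are neighbours if they do not commute but have commuting nontrivial elements. -/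
def Nb (A B : Subgroup G) : Prop :=
  Nc A B ∧ ∃ x ∈ A, ∃ y ∈ B, x ≠ 1 ∧ y ≠ 1 ∧ x * y = y * x

theorem Nb.symm {A B : Subgroup G} (hc : Nb A B) : Nb B A := by
  obtain ⟨h1, x, hx, y, hy, hx1, hy1, hxy⟩ := hc
  exact ⟨h1.symm, y, hy, x, hx, hy1, hx1, hxy.symm⟩

namespace Fam

variable {P : Set (Subgroup G)} (h : Fam P)
include h

theorem col_nr {A B : Subgroup G} (hB : B ∈ P) (hc : Nb A B) :
    ∃ x ∈ nr A B, x ≠ 1 := by
  obtain ⟨h1, x, hx, y, hy, hx1, hy1, hxy⟩ := hc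
  exact ⟨x, ⟨hx, h.norm_of_comm hB hy hy1 hxy⟩, hx1⟩

theorem sq_mem_nr {A B : Subgroup G} (hA : A ∈ P) (hB : B ∈ P) (hc : Nb A B) {b : G}
    (hb : b ∈ B) : b * b ∈ nr B A := by
  obtain ⟨x₁, hx₁, hx₁1⟩ := h.col_nr hB hc
  obtain ⟨y₁, hy₁, hy₁1⟩ := h.col_nr hA hc.symm
  obtain ⟨x₂, hx₂, hx₂1, hx₂₁⟩ := h.exists_two hA hB hc.1 hx₁ hx₁1 hy₁ hy₁1
  have hx₃ : x₁ * x₂ ≠ 1 := by
    intro h0
    apply hx₂₁
    have := h.stageA hA hB hc.1 hx₁
    exact mul_left_cancel (h0.trans this.symm)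
  have p1 := h.mul_conj_mem hA hB hc.1 hx₁ hx₁1 hb
  have p2 := h.mul_conj_mem hA hB hc.1 hx₂ hx₂1 hb
  have p3 := h.mul_conj_mem hA hB hc.1 ((nr A B).mul_mem hx₁ hx₂) hx₃ hb
  have hb1 : x₁ * b * x₁⁻¹ ∈ B := conj_mem_of_cj hx₁.2 hb
  have hb3 : (x₁ * x₂) * b * (x₁ * x₂)⁻¹ ∈ B := conj_mem_of_cj (cj_mul_eq hx₁.2 hx₂.2) hb
  have e2 : x₁ * b * x₁⁻¹ * ((x₁ * x₂) * b * (x₁ * x₂)⁻¹) = b * (x₂ * b * x₂⁻¹) := by
    have e3 := h.comm_nr hA hB (h.ne hA hc.1) hx₁ p2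
    have e4 := congrArg (· * x₁⁻¹) e3
    simp only [mul_inv_cancel_right] at e4
    rw [← e4]
    simp [mul_assoc]
  have e5 := (nr B A).mul_mem ((nr B A).mul_mem p1 p3) ((nr B A).inv_mem p2)
  have e6 : b * (x₁ * b * x₁⁻¹) * (b * (x₁ * x₂ * b * (x₁ * x₂)⁻¹)) * (b * (x₂ * b * x₂⁻¹))⁻¹
      = b * b := by
    rw [mul_inv_eq_iff_eq_mul, ← e2]
    have e7 : b * (x₁ * b * x₁⁻¹) * (b * (x₁ * x₂ * b * (x₁ * x₂)⁻¹))
      = b * ((x₁ * b * x₁⁻¹) * b) * (x₁ * x₂ * b * (x₁ * x₂)⁻¹) := by simp only [mul_assoc]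
    rw [e7, h.comm B hB _ hb1 _ hb]
    simp only [mul_assoc]
  rw [← e6]
  exact e5

theorem comm_mem {A B : Subgroup G} (hA : A ∈ P) (hB : B ∈ P) (hc : Nb A B) {x b : G}
    (hx : x ∈ nr A B) (hb : b ∈ B) : x * b * x⁻¹ * b⁻¹ ∈ nr B A :=
  h.comm_elt hA hB hc.1 hx hb (h.sq_mem_nr hA hB hc hb)

theorem surj [Finite G] {A B : Subgroup G} (hA : A ∈ P) (hB : B ∈ P) (hc : Nb A B) {b y : G}
    (hb : b ∈ B) (hbn : b ∉ nr B A) (hy : y ∈ nr B A) :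
    ∃ x ∈ nr A B, x * b * x⁻¹ * b⁻¹ = y := by
  have hinj : Function.Injective (fun x : ↥(nr A B) =>
      (⟨x * b * (x : G)⁻¹ * b⁻¹, h.comm_mem hA hB hc x.2 hb⟩ : ↥(nr B A))) := by
    intro x x' he
    apply Subtype.ext
    exact h.map_inj hA hb hbn x.2.1 x'.2.1 (congrArg Subtype.val he)
  have hbij := (Nat.bijective_iff_injective_and_card _).2 ⟨hinj, h.card_nr_eq hA hB hc.1⟩
  obtain ⟨x, hx⟩ := hbij.2 ⟨y, hy⟩
  exact ⟨x, x.2, congrArg Subtype.val hx⟩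

end Fam


section

variable {P : Set (Subgroup G)} (h : Fam P)
include h

theorem Tv.unique {U S S' : Subgroup G} {s : G} (hS : S ∈ P) (hS' : S' ∈ P) (h1 : Tv U S s)
    (h2 : Tv U S' s) (hn : ∃ u ∈ U, u ∈ S ∧ u ≠ 1) : S = S' := by
  obtain ⟨u, hu, huS, hu1⟩ := hn
  exact h.ti S hS S' hS' u huS ((h2.fix u hu).1 ((h1.fix u hu).2 huS)) hu1

theorem Tv.fixpt {U S S' : Subgroup G} {s : G} (hU : ∀ u ∈ U, u * u = 1)
    (hS : S ∈ P) (hS' : S' ∈ P) (h1 : Tv U S s)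
    (hs : cj s S' = S') (hn : ∃ u ∈ U, u ∈ S' ∧ u ≠ 1) : S = S' := by
  obtain ⟨u, hu, huS, hu1⟩ := hn
  have hw : s * u * s⁻¹ ∈ S' := conj_mem_of_cj hs huS
  have hwU : s * u * s⁻¹ ∈ U := conj_mem_of_cj h1.norm hu
  by_cases h0 : s * u * s⁻¹ = u
  · exact h.ti S hS S' hS' u ((h1.fix u hu).1 (eq_comm_iff.2 h0)) huS hu1
  · have h2 : u * (s * u * s⁻¹) ≠ 1 := by
      intro h3
      apply h0
      exact mul_left_cancel (h3.trans (hU u hu).symm)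
    refine h.ti S hS S' hS' (u * (s * u * s⁻¹)) ?_ (S'.mul_mem huS hw) h2
    rw [← h1.fix _ (U.mul_mem hu hwU), eq_comm_iff]
    have h3 : s * (u * (s * u * s⁻¹)) * s⁻¹ = (s * u * s⁻¹) * ((s * s) * u * (s * s)⁻¹) := by
      simp [mul_assoc]
    rw [h3, eq_comm_iff.1 (h1.sq u hu), h.comm S' hS' _ hw _ huS]

/-- The centralizing part of Lemma T. -/
theorem lemT_aux {U S S' : Subgroup G} (hU : ∀ u ∈ U, u * u = 1) (hS : S ∈ P) (hS' : S' ∈ P)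
    {s t z : G} (hs : Tv U S s) (ht : Tv U S' t) (hn : ∃ u ∈ U, u ∈ S ∧ u ≠ 1)
    (hz : cj z U = U) (hzs : EqOnU U (z * s) (s * z))
    (hg : ∃ g : G, cj g U = U ∧ (EqOnU U (s * z) (g * s * g⁻¹) ∨ EqOnU U (s * z) (g * t * g⁻¹))) :
    ∀ u ∈ U, u ∈ S → z * u = u * z := by
  have hsz : cj (s * z) U = U := cj_mul_eq hs.norm hz
  -- `s z` is a transvection
  obtain ⟨S'', hS'', hT⟩ : ∃ S'' ∈ P, Tv U S'' (s * z) := by
    obtain ⟨g, hg, hg1 | hg1⟩ := hg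
    · exact ⟨_, h.conj S hS g, (hs.conj hg).congr (fun u hu => (hg1 u hu).symm) hsz⟩
    · exact ⟨_, h.conj S' hS' g, (ht.conj hg).congr (fun u hu => (hg1 u hu).symm) hsz⟩
  have hfix : cj (s * z) S = S := by
    obtain ⟨u, hu, huS, hu1⟩ := hn
    refine h.norm_of_conj hS huS hu1 ?_
    have hw : s * z * u * (s * z)⁻¹ ∈ U := conj_mem_of_cj hsz hu
    rw [← hs.fix _ hw, eq_comm_iff]
    have h1 : s * (s * z * u * (s * z)⁻¹) * s⁻¹ = s * (z * s * u * (z * s)⁻¹) * s⁻¹ := by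
      rw [hzs u hu]
    rw [h1]
    have h2 : s * (z * s * u * (z * s)⁻¹) * s⁻¹ = (s * z) * (s * u * s⁻¹) * (s * z)⁻¹ := by
      simp [mul_assoc]
    rw [h2, eq_comm_iff.1 ((hs.fix u hu).2 huS)]
  have hSS : S'' = S := Tv.fixpt h hU hS'' hS hT hfix hn
  rw [hSS] at hT
  intro u hu huS
  have h1 := (hT.fix u hu).2 huS
  have h2 := (hs.fix u hu).2 huS
  have h3 : s * (z * u) = s * (u * z) := by
    rw [← mul_assoc, h1, ← mul_assoc, ← mul_assoc, h2]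
  exact mul_left_cancel h3

theorem lemT [Finite G] {U S S' : Subgroup G} (hU : ∀ u ∈ U, u * u = 1) (hS : S ∈ P) (hS' : S' ∈ P)
    {s t : G} (hs : Tv U S s) (ht : Tv U S' t) (hn : ∃ u ∈ U, u ∈ S ∧ u ≠ 1)
    (hn' : ∃ u ∈ U, u ∈ S' ∧ u ≠ 1)
    (hgen : ∀ u ∈ U, ∃ v ∈ U, ∃ w ∈ U, v ∈ S ∧ w ∈ S' ∧ u = v * w) :
    ∃ g : G, cj g U = U ∧ EqOnU U (g * s * g⁻¹) t := by
  rcases dihU U t s ht.norm hs.norm ht.sq hs.sq with hg | ⟨z, hz, hz1, hzs, hzt, hg, hg'⟩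
  · exact hg
  · exfalso
    apply hz1
    have c1 := lemT_aux h hU hS hS' hs ht hn hz hzs hg
    have c2 := lemT_aux h hU hS' hS ht hs hn' hz hzt
      (by
        obtain ⟨g, hg1, hg2⟩ := hg'
        exact ⟨g, hg1, hg2.symm⟩)
    intro u hu
    obtain ⟨v, hv, w, hw, hvS, hwS, rfl⟩ := hgen u hu
    have e1 := c1 v hv hvS
    have e2 := c2 w hw hwS
    have : z * (v * w) = (v * w) * z := by
      rw [← mul_assoc, e1, mul_assoc, e2, ← mul_assoc]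
    rw [this]
    simp

end



section

variable {P : Set (Subgroup G)} (h : Fam P)
include h

theorem norm_prodS {A B : Subgroup G} (hA : A ∈ P) (hB : B ∈ P) (hc : Nb A B)
    {hXY : ∀ x ∈ nr A B, ∀ y ∈ nr B A, x * y = y * x} {b : G} (hb : b ∈ B) :
    cj b (prodS (nr A B) (nr B A) hXY) = prodS (nr A B) (nr B A) hXY := by
  refine cj_eq_of_forall (B := B) ?_ hb
  rintro b hb _ ⟨x, hx, y, hy, rfl⟩
  have h1 := (nr B A).inv_mem (h.comm_mem hA hB hc hx hb)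
  refine ⟨x, hx, (x * b * x⁻¹ * b⁻¹)⁻¹ * y, (nr B A).mul_mem h1 hy, ?_⟩
  have h2 : b * (x * y) * b⁻¹ = (x * b * x⁻¹ * b⁻¹)⁻¹ * x * (b * y * b⁻¹) := by
    simp [mul_assoc]
  rw [h2, h.comm B hB b hb y hy.1, mul_inv_cancel_right]
  rw [← h.comm_nr hA hB (h.ne hA hc.1) hx h1, mul_assoc]

theorem norm_prodS' {A B : Subgroup G} (hA : A ∈ P) (hB : B ∈ P) (hc : Nb A B)
    {hXY : ∀ x ∈ nr A B, ∀ y ∈ nr B A, x * y = y * x} {a : G} (ha : a ∈ A) :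
    cj a (prodS (nr A B) (nr B A) hXY) = prodS (nr A B) (nr B A) hXY := by
  have h1 := norm_prodS h hB hA hc.symm (hXY := fun y hy x hx => (hXY x hx y hy).symm) ha
  have h2 : prodS (nr B A) (nr A B) (fun y hy x hx => (hXY x hx y hy).symm)
      = prodS (nr A B) (nr B A) hXY := by
    ext g
    constructor
    · rintro ⟨y, hy, x, hx, rfl⟩
      exact ⟨x, hx, y, hy, (hXY x hx y hy).symm⟩
    · rintro ⟨x, hx, y, hy, rfl⟩
      exact ⟨y, hy, x, hx, hXY x hx y hy⟩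
  rwa [h2] at h1

theorem prodS_sq {A B : Subgroup G} (hA : A ∈ P) (hB : B ∈ P) (hc : Nb A B)
    {hXY : ∀ x ∈ nr A B, ∀ y ∈ nr B A, x * y = y * x} :
    ∀ u ∈ prodS (nr A B) (nr B A) hXY, u * u = 1 := by
  rintro _ ⟨x, hx, y, hy, rfl⟩
  have : x * y * (x * y) = x * (y * x) * y := by simp only [mul_assoc]
  rw [this, ← hXY x hx y hy]
  have : x * (x * y) * y = (x * x) * (y * y) := by simp only [mul_assoc]
  rw [this, h.stageA hA hB hc.1 hx, h.stageA hB hA hc.1.symm hy, one_mul]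

theorem tv_prodS {A B : Subgroup G} (hA : A ∈ P) (hB : B ∈ P) (hc : Nb A B)
    {hXY : ∀ x ∈ nr A B, ∀ y ∈ nr B A, x * y = y * x} {b : G} (hb : b ∈ B) (hbn : b ∉ nr B A) :
    Tv (prodS (nr A B) (nr B A) hXY) B b := by
  have hmemB : ∀ x ∈ nr A B, ∀ y ∈ nr B A, x * y ∈ B → x = 1 := by
    intro x hx y hy hxy
    by_contra h0
    have : x ∈ B := by
      have := B.mul_mem hxy (B.inv_mem hy.1)
      simpa using this
    exact h.ne hA hc.1 (h.ti A hA B hB x hx.1 this h0)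
  refine ⟨norm_prodS h hA hB hc hb, ?_, ?_⟩
  · rintro _ ⟨x, hx, y, hy, rfl⟩
    have hbb := h.sq_mem_nr hA hB hc hb
    rw [← mul_assoc (b * b), ← hXY x hx _ hbb, mul_assoc x (b * b) y,
      h.comm B hB _ hbb.1 _ hy.1, mul_assoc]
  · rintro _ ⟨x, hx, y, hy, rfl⟩
    constructor
    · intro h1
      have h2 : x = 1 := by
        by_contra h0
        apply hbn
        refine h.mem_nr_of_comm hA hx.1 h0 hb ?_
        have h3 : b * x * y = x * b * y := by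
          rw [mul_assoc, h1, mul_assoc, ← h.comm B hB _ hb _ hy.1, mul_assoc]
        exact (mul_right_cancel h3).symm
      rw [h2, one_mul]
      exact hy.1
    · intro h1
      rw [hmemB x hx y hy h1, one_mul]
      exact h.comm B hB _ hb _ hy.1

/-- `N_B(A) = Ω₁(B)` for collinear `A`, `B`. -/
theorem mem_nr_iff [Finite G] {A B : Subgroup G} (hA : A ∈ P) (hB : B ∈ P) (hc : Nb A B) {b : G}
    (hb : b ∈ B) : b ∈ nr B A ↔ b * b = 1 := by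
  constructor
  · exact fun h1 => h.stageA hB hA hc.1.symm h1
  intro hbb
  by_contra hbn
  have hXY : ∀ x ∈ nr A B, ∀ y ∈ nr B A, x * y = y * x :=
    fun x hx y hy => h.comm_nr hA hB (h.ne hA hc.1) hx hy
  set U := prodS (nr A B) (nr B A) hXY with hUdef
  have hU : ∀ u ∈ U, u * u = 1 := prodS_sq h hA hB hc
  obtain ⟨a, ha, han⟩ := h.not_all_norm hB hA hc.1.symm
  have hTa : Tv U A a := by
    have h1 := tv_prodS h hB hA hc.symm (hXY := fun y hy x hx => (hXY x hx y hy).symm) ha han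
    have h2 : prodS (nr B A) (nr A B) (fun y hy x hx => (hXY x hx y hy).symm) = U := by
      ext g
      constructor
      · rintro ⟨y, hy, x, hx, rfl⟩
        exact ⟨x, hx, y, hy, (hXY x hx y hy).symm⟩
      · rintro ⟨x, hx, y, hy, rfl⟩
        exact ⟨y, hy, x, hx, hXY x hx y hy⟩
    rwa [h2] at h1
  obtain ⟨x₁, hx₁, hx₁1⟩ := h.col_nr hB hc
  obtain ⟨y₁, hy₁, hy₁1⟩ := h.col_nr hA hc.symm
  have hnB : ∃ u ∈ U, u ∈ B ∧ u ≠ 1 := ⟨y₁, right_mem_prodS hy₁, hy₁.1, hy₁1⟩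
  have hnA : ∃ u ∈ U, u ∈ A ∧ u ≠ 1 := ⟨x₁, left_mem_prodS hx₁, hx₁.1, hx₁1⟩
  have hgen : ∀ u ∈ U, ∃ v ∈ U, ∃ w ∈ U, v ∈ B ∧ w ∈ A ∧ u = v * w := by
    rintro _ ⟨x, hx, y, hy, rfl⟩
    exact ⟨y, right_mem_prodS hy, x, left_mem_prodS hx, hy.1, hx.1, hXY x hx y hy⟩
  -- every element of `B` outside `Y` has square one
  have key : ∀ b' ∈ B, b' ∉ nr B A → b' * b' = 1 := by
    intro b' hb' hbn'
    have hT := tv_prodS h hA hB hc (hXY := hXY) hb hbn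
    have hT' := tv_prodS h hA hB hc (hXY := hXY) hb' hbn'
    obtain ⟨g, hg, hg1⟩ := lemT h hU hB hA hT hTa hnB hnA hgen
    obtain ⟨g', hg', hg1'⟩ := lemT h hU hB hA hT' hTa hnB hnA hgen
    have hgi := cj_inv_eq hg'
    have hk : cj (g'⁻¹ * g) U = U := cj_mul_eq hgi hg
    have hE : EqOnU U ((g'⁻¹ * g) * b * (g'⁻¹ * g)⁻¹) b' := by
      intro u hu
      have h1 : g' * u * g'⁻¹ ∈ U := conj_mem_of_cj hg' hu
      have h2 := (hg1 _ h1).trans (hg1' _ h1).symm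
      have h3 := congrArg (fun t => g'⁻¹ * t * g') h2
      simpa [mul_assoc] using h3
    have hTk : Tv U (cj (g'⁻¹ * g) B) b' := (hT.conj hk).congr hE hT'.norm
    have hkB : cj (g'⁻¹ * g) B = B := by
      refine (Tv.unique h hB (h.conj B hB _) hT' hTk hnB).symm
    -- `b' = y (k b k⁻¹)`
    set k := g'⁻¹ * g with hkdef
    have hkb : k * b * k⁻¹ ∈ B := conj_mem_of_cj hkB hb
    have hy : b' * (k * b * k⁻¹)⁻¹ ∈ nr B A := by
      refine h.mem_nr_of_comm hA hx₁.1 hx₁1 (B.mul_mem hb' (B.inv_mem hkb)) ?_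
      have h1 : (k * b * k⁻¹)⁻¹ * x₁ * ((k * b * k⁻¹)⁻¹)⁻¹ ∈ U :=
        conj_mem_of_cj (cj_inv_eq (hT.conj hk).norm) (left_mem_prodS hx₁)
      have h2 := hE _ h1
      have h3 : k * b * k⁻¹ * ((k * b * k⁻¹)⁻¹ * x₁ * ((k * b * k⁻¹)⁻¹)⁻¹) * (k * b * k⁻¹)⁻¹ = x₁ := by
        simp [mul_assoc]
      rw [h3] at h2
      have h4 := congrArg (· * (b' * (k * b * k⁻¹)⁻¹)) h2
      rw [h4]
      simp [mul_assoc]
    have hyy := h.stageA hB hA hc.1.symm hy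
    have e1 : b' = b' * (k * b * k⁻¹)⁻¹ * (k * b * k⁻¹) := by simp [mul_assoc]
    have e2 : b' * b' = (b' * (k * b * k⁻¹)⁻¹) * ((k * b * k⁻¹) * (b' * (k * b * k⁻¹)⁻¹))
        * (k * b * k⁻¹) := by simp [mul_assoc]
    rw [e2, h.comm B hB _ hkb _ hy.1]
    have e3 : (b' * (k * b * k⁻¹)⁻¹) * ((b' * (k * b * k⁻¹)⁻¹) * (k * b * k⁻¹)) * (k * b * k⁻¹)
        = (b' * (k * b * k⁻¹)⁻¹) * (b' * (k * b * k⁻¹)⁻¹) * (k * (b * b) * k⁻¹) := by
      simp [mul_assoc]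
    rw [e3, hyy, hbb]
    simp
  obtain ⟨c, hcB, hcc⟩ := h.nonelem B hB
  by_cases hcn : c ∈ nr B A
  · exact hcc (h.stageA hB hA hc.1.symm hcn)
  · exact hcc (key c hcB hcn)

end


end Cfsg.Agent.TIAbelian.CaseBBase
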