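/-
helper262: S1779, pairs: the collinearity geometry of the conjugates of `B`.
-/
import Cfsg.Agent.TIAbelian.PairOmega

set_option autoImplicit false

namespace Cfsg.Agent.TIAbelian.PairGeo

open Cfsg.Agent.TIAbelian.PairBase Cfsg.Agent.TIAbelian.PairOmega

variable {G : Type*} [Group G]

/-- `Ω₁(C)` as a set. -/
def Om (C : Subgroup G) : Set G := {x | x ∈ C ∧ x * x = 1}

theorem mem_Om {C : Subgroup G} {x : G} : x ∈ Om C ↔ x ∈ C ∧ x * x = 1 := Iff.rfl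

theorem one_mem_Om (C : Subgroup G) : (1 : G) ∈ Om C := ⟨C.one_mem, by simp⟩

theorem inv_Om {C : Subgroup G} {x : G} (hx : x ∈ Om C) : x⁻¹ = x :=
  inv_eq_of_mul_eq_one_left hx.2

theorem conj_mem_Om_cj {C : Subgroup G} {g x : G} (hx : x ∈ Om C) : g * x * g⁻¹ ∈ Om (cj g C) := by
  refine ⟨conj_mem_cj hx.1, ?_⟩
  have : g * x * g⁻¹ * (g * x * g⁻¹) = g * (x * x) * g⁻¹ := by simp [mul_assoc]
  rw [this, hx.2]
  simp

theorem mem_Om_cj {C : Subgroup G} {g x : G} : x ∈ Om (cj g C) ↔ g⁻¹ * x * g ∈ Om C := by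
  constructor
  · intro hx
    have := conj_mem_Om_cj (g := g⁻¹) hx
    rw [cj_inv_cj] at this
    simpa using this
  · intro hx
    have := conj_mem_Om_cj (g := g) hx
    simpa [mul_assoc] using this

theorem Col.cj {A B : Subgroup G} (hc : Col A B) (g : G) : Col (PairBase.cj g A) (PairBase.cj g B) := by
  obtain ⟨h1, x, hx, y, hy, hx1, hy1, hxy⟩ := hc
  refine ⟨fun h0 => h1 (cj_inj h0), g * x * g⁻¹, conj_mem_cj hx, g * y * g⁻¹, conj_mem_cj hy,
    ?_, ?_, ?_⟩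
  · intro h0
    apply hx1
    have := congrArg (fun t => g⁻¹ * t * g) h0
    simpa [mul_assoc] using this
  · intro h0
    apply hy1
    have := congrArg (fun t => g⁻¹ * t * g) h0
    simpa [mul_assoc] using this
  · have := congrArg (fun t => g * t * g⁻¹) hxy
    simpa [mul_assoc] using this

/-- The facts about the family used below. -/
structure Geo (P : Set (Subgroup G)) : Prop extends TIFam P where
  exp4 : ∀ C ∈ P, ∀ c ∈ C, (c * c) * (c * c) = 1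
  norm_iff : ∀ A ∈ P, ∀ B ∈ P, Col A B → ∀ b ∈ B, (cj b A = A ↔ b * b = 1)
  comm_om : ∀ A ∈ P, ∀ B ∈ P, Col A B → ∀ x ∈ Om A, ∀ y ∈ Om B, x * y = y * x
  brak : ∀ A ∈ P, ∀ B ∈ P, Col A B → ∀ x ∈ Om A, ∀ b ∈ B, b * x * b⁻¹ * x⁻¹ ∈ Om B
  surj : ∀ A ∈ P, ∀ B ∈ P, Col A B → ∀ b ∈ B, b * b ≠ 1 → ∀ y ∈ Om B, ∃ x ∈ Om A,
    b * x * b⁻¹ * x⁻¹ = y

theorem geo_of_col [Finite G] {P : Set (Subgroup G)} (h : TIFam P)
    (hex : ∃ A ∈ P, ∃ B ∈ P, Col A B) : Geo P := by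
  have hnr : ∀ A ∈ P, ∀ B ∈ P, Col A B → ∀ b, b ∈ nr B A ↔ b ∈ Om B := by
    intro A hA B hB hc b
    constructor
    · intro hb
      exact ⟨hb.1, (mem_nr_iff h hA hB hc hb.1).1 hb⟩
    · intro hb
      exact (mem_nr_iff h hA hB hc hb.1).2 hb.2
  refine { toTIFam := h, exp4 := ?_, norm_iff := ?_, comm_om := ?_, brak := ?_, surj := ?_ }
  · intro C hC c hc
    obtain ⟨A, hA, B, hB, hAB⟩ := hex
    obtain ⟨g, rfl⟩ := h.trans B hB C hC
    rw [mem_cj] at hc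
    have h1 := (hnr A hA B hB hAB _).1 (h.sq_mem_nr hA hB hAB hc)
    have h2 := h1.2
    have h3 := congrArg (fun t => g * t * g⁻¹) h2
    simpa [mul_assoc] using h3
  · intro A hA B hB hAB b hb
    rw [← mem_nr_iff h hA hB hAB hb]
    exact ⟨fun h1 => ⟨hb, h1⟩, fun h1 => h1.2⟩
  · intro A hA B hB hAB x hx y hy
    exact h.comm_nr hA hB hAB.1 ((hnr B hB A hA hAB.symm x).2 hx) ((hnr A hA B hB hAB y).2 hy)
  · intro A hA B hB hAB x hx b hb
    rw [← hnr A hA B hB hAB]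
    have h1 := (nr B A).inv_mem (h.comm_mem hA hB hAB ((hnr B hB A hA hAB.symm x).2 hx) hb)
    simpa [mul_assoc] using h1
  · intro A hA B hB hAB b hb hbb y hy
    have hbn : b ∉ nr B A := fun h0 => hbb ((mem_nr_iff h hA hB hAB hb).1 h0)
    obtain ⟨x, hx, hxy⟩ := h.surj hA hB hAB hb hbn ((nr B A).inv_mem ((hnr A hA B hB hAB y).2 hy))
    refine ⟨x, (hnr B hB A hA hAB.symm x).1 hx, ?_⟩
    have := congrArg (fun t => t⁻¹) hxy
    simpa [mul_assoc] using this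

namespace Geo

variable {P : Set (Subgroup G)} (h : Geo P)
include h

theorem mul_Om {C : Subgroup G} (hC : C ∈ P) {x y : G} (hx : x ∈ Om C) (hy : y ∈ Om C) :
    x * y ∈ Om C := by
  refine ⟨C.mul_mem hx.1 hy.1, ?_⟩
  have : x * y * (x * y) = x * (y * x) * y := by simp only [mul_assoc]
  rw [this, h.comm C hC _ hy.1 _ hx.1]
  have : x * (x * y) * y = (x * x) * (y * y) := by simp only [mul_assoc]
  rw [this, hx.2, hy.2, one_mul]

theorem sq_Om {C : Subgroup G} (hC : C ∈ P) {c : G} (hc : c ∈ C) : c * c ∈ Om C :=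
  ⟨C.mul_mem hc hc, h.exp4 C hC c hc⟩

omit h in
/-- nontrivial commuting elements of different members: they are collinear and the elements are
involutions. -/
theorem col_of_comm {A B : Subgroup G} (hne : A ≠ B) {x y : G} (hx : x ∈ A) (hx1 : x ≠ 1)
    (hy : y ∈ B) (hy1 : y ≠ 1) (hxy : x * y = y * x) : Col A B :=
  ⟨hne, x, hx, y, hy, hx1, hy1, hxy⟩

theorem sq_of_comm {A B : Subgroup G} (hA : A ∈ P) (hB : B ∈ P) (hne : A ≠ B) {x y : G}
    (hx : x ∈ A) (hx1 : x ≠ 1) (hy : y ∈ B) (hxy : x * y = y * x) : y * y = 1 := by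
  by_cases hy1 : y = 1
  · rw [hy1, one_mul]
  · exact (h.norm_iff A hA B hB (col_of_comm hne hx hx1 hy hy1 hxy) y hy).1
      (h.norm_of_comm hA hx hx1 hxy.symm)

/-- Injectivity of `x ↦ [b, x]`. -/
theorem brak_ne {A B : Subgroup G} (hA : A ∈ P) (hB : B ∈ P) (hne : A ≠ B) {x b : G}
    (hx : x ∈ A) (hx1 : x ≠ 1) (hb : b ∈ B) (hbb : b * b ≠ 1) : b * x * b⁻¹ * x⁻¹ ≠ 1 := by
  intro h0
  apply hbb
  refine h.sq_of_comm hA hB hne hx hx1 hb ?_
  rw [mul_inv_eq_one, mul_inv_eq_iff_eq_mul] at h0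
  exact h0.symm

theorem brak_inj {A B : Subgroup G} (hA : A ∈ P) (hB : B ∈ P) (hne : A ≠ B)
    {x x' b : G} (hx : x ∈ A) (hx' : x' ∈ A) (hb : b ∈ B) (hbb : b * b ≠ 1)
    (he : b * x * b⁻¹ * x⁻¹ = b * x' * b⁻¹ * x'⁻¹) : x = x' := by
  by_contra hxx
  have h1 : x'⁻¹ * x ≠ 1 := by
    intro h0
    apply hxx
    rw [inv_mul_eq_one] at h0
    exact h0.symm
  apply hbb
  refine h.sq_of_comm hA hB hne (A.mul_mem (A.inv_mem hx') hx) h1 hb ?_
  have h2 : x * b⁻¹ * x⁻¹ = x' * b⁻¹ * x'⁻¹ := by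
    have := congrArg (fun t => b⁻¹ * t) he
    simpa [mul_assoc] using this
  have h3 := congrArg (fun t => b * (x'⁻¹ * t * x) * b) h2
  have h4 : b * (x'⁻¹ * x) = x'⁻¹ * x * b := by simpa [mul_assoc] using h3
  exact h4.symm

end Geo

end Cfsg.Agent.TIAbelian.PairGeo
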