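/-
helper262: S1779, pairs: parity of fixed points, the lemma on `C_G(V_A V_B)`, Lemma F'.
-/
import Cfsg.Agent.TIAbelian.PairGeo

set_option autoImplicit false

namespace Cfsg.Agent.TIAbelian.PairLine

open Cfsg.Agent.TIAbelian.PairBase Cfsg.Agent.TIAbelian.PairOmega Cfsg.Agent.TIAbelian.PairGeo

/-- Parity: if the involutory map `f` has exactly one fixed point on `S` then the involutory map
`g` has a fixed point. -/
theorem parity {α : Type*} [Finite α] (S : Set α) (f g : α → α) (hf : ∀ x ∈ S, f x ∈ S)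
    (hff : ∀ x ∈ S, f (f x) = x) (a₀ : α) (ha₀ : a₀ ∈ S) (hfix : ∀ x ∈ S, f x = x ↔ x = a₀)
    (hg : ∀ x ∈ S, g x ∈ S) (hgg : ∀ x ∈ S, g (g x) = x) : ∃ x ∈ S, g x = x := by
  classical
  have : Fintype ↥S := Fintype.ofFinite _
  let F : Function.End ↥S := fun x => ⟨f x, hf x x.2⟩
  let K : Function.End ↥S := fun x => ⟨g x, hg x x.2⟩
  have hF : F ^ 2 ^ 1 = 1 := by
    funext x
    apply Subtype.ext
    exact hff x x.2
  have hK : K ^ 2 ^ 1 = 1 := by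
    funext x
    apply Subtype.ext
    exact hgg x x.2
  have h1 := Equiv.Perm.card_fixedPoints_modEq hF
  have h2 := Equiv.Perm.card_fixedPoints_modEq hK
  have h3 : Fintype.card ↥(Function.fixedPoints F) = 1 := by
    rw [Fintype.card_eq_one_iff]
    refine ⟨⟨⟨a₀, ha₀⟩, ?_⟩, ?_⟩
    · apply Subtype.ext
      exact (hfix a₀ ha₀).2 rfl
    · rintro ⟨⟨x, hx⟩, hx2⟩
      apply Subtype.ext
      apply Subtype.ext
      exact (hfix x hx).1 (congrArg Subtype.val hx2)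
  rw [h3] at h1
  by_contra hcon
  push Not at hcon
  have h4 : Fintype.card ↥(Function.fixedPoints K) = 0 := by
    rw [Fintype.card_eq_zero_iff]
    exact ⟨fun x => hcon x.1.1 x.1.2 (congrArg Subtype.val x.2)⟩
  rw [h4] at h2
  have := h1.symm.trans h2
  exact absurd this (by decide)

variable {G : Type*} [Group G]

section

variable {P : Set (Subgroup G)} (h : Geo P)
include h

theorem comm_brak {A : Subgroup G} (hA : A ∈ P) {k a : G} (ha : a ∈ A) (haa : a * a ≠ 1)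
    (kA : ∀ x ∈ Om A, k * x = x * k) : k * a * k⁻¹ * a⁻¹ ∈ Om A := by
  have hk : cj k A = A :=
    h.norm_of_comm hA (h.sq_Om hA ha).1 haa (kA _ (h.sq_Om hA ha))
  have h1 : k * a * k⁻¹ ∈ A := conj_mem_of_cj hk ha
  refine ⟨A.mul_mem h1 (A.inv_mem ha), ?_⟩
  have e1 : k * a * k⁻¹ * a⁻¹ * (k * a * k⁻¹ * a⁻¹) = (k * a * k⁻¹) * (a⁻¹ * (k * a * k⁻¹)) * a⁻¹ := by
    simp only [mul_assoc]
  rw [e1, h.comm A hA _ (A.inv_mem ha) _ h1]
  have e2 : (k * a * k⁻¹) * ((k * a * k⁻¹) * a⁻¹) * a⁻¹ = (k * (a * a)) * k⁻¹ * (a * a)⁻¹ := by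
    simp [mul_assoc]
  rw [e2, kA _ (h.sq_Om hA ha)]
  simp

/-- `k` centralises `V_A V_B` and `k² ∈ V_A V_B` imply `k² = 1`. -/
theorem klem {A B : Subgroup G} (hA : A ∈ P) (hB : B ∈ P) (hc : Col A B) {k : G}
    (kA : ∀ x ∈ Om A, k * x = x * k) (kB : ∀ y ∈ Om B, k * y = y * k) {x₀ y₀ : G}
    (hx₀ : x₀ ∈ Om A) (hy₀ : y₀ ∈ Om B) (hkk : k * k = x₀ * y₀) : k * k = 1 := by
  obtain ⟨a, ha, haa⟩ := h.nonelem A hA
  obtain ⟨b, hb, hbb⟩ := h.nonelem B hB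
  have hca := comm_brak h hA ha haa kA
  have hcb := comm_brak h hB hb hbb kB
  have cAB := h.comm_om A hA B hB hc
  set ca := k * a * k⁻¹ * a⁻¹ with hcadef
  set cb := k * b * k⁻¹ * b⁻¹ with hcbdef
  have hcab : a * cb * a⁻¹ * cb⁻¹ ∈ Om A := h.brak B hB A hA hc.symm cb hcb a ha
  obtain ⟨x₂, hx₂, e₂⟩ := h.surj A hA B hB hc b hb hbb cb hcb
  set x₁ := ca * (a * cb * a⁻¹ * cb⁻¹) with hx₁def
  have hx₁ : x₁ ∈ Om A := h.mul_Om hA hca hcab
  obtain ⟨y₃, hy₃, e₃⟩ := h.surj B hB A hA hc.symm a ha haa x₁ hx₁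
  have hy₂ : cb * y₃ ∈ Om B := h.mul_Om hB hcb hy₃
  -- `k (a b) = x₁ cb a b k`
  have f1 : k * (a * b) = x₁ * cb * (a * b) * k := by
    have e : x₁ * cb * (a * b) * k = ca * a * cb * b * k := by
      rw [hx₁def]
      simp [mul_assoc]
    rw [e, hcadef, hcbdef]
    simp [mul_assoc]
  -- `(a b) (x₂ cb y₃) = x₁ y₃ x₂ (a b)`
  have f2 : (a * b) * (x₂ * (cb * y₃)) = x₁ * y₃ * x₂ * (a * b) := by
    have g1 : b * x₂ = cb * x₂ * b := by rw [← e₂]; simp [mul_assoc]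
    have g2 : b * (cb * y₃) = (cb * y₃) * b := h.comm B hB _ hb _ hy₂.1
    have g3 : a * y₃ = x₁ * y₃ * a := by rw [← e₃]; simp [mul_assoc]
    calc (a * b) * (x₂ * (cb * y₃)) = a * (b * x₂) * (cb * y₃) := by simp only [mul_assoc]
      _ = a * cb * x₂ * (b * (cb * y₃)) := by rw [g1]; simp only [mul_assoc]
      _ = a * cb * (x₂ * (cb * y₃)) * b := by rw [g2]; simp only [mul_assoc]
      _ = a * (cb * cb) * y₃ * x₂ * b := by rw [cAB x₂ hx₂ _ hy₂]; simp only [mul_assoc]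
      _ = x₁ * y₃ * (a * x₂) * b := by rw [hcb.2, mul_one, g3]; simp only [mul_assoc]
      _ = x₁ * y₃ * x₂ * (a * b) := by
        rw [h.comm A hA _ ha _ hx₂.1]; simp only [mul_assoc]
  -- `u k` commutes with `a b`
  set u := x₂ * (cb * y₃) with hudef
  have f3 : u * x₁ * cb = x₁ * y₃ * x₂ := by
    have c1 : (cb * y₃) * x₁ = x₁ * (cb * y₃) := (cAB x₁ hx₁ _ hy₂).symm
    have c2 : cb * y₃ * cb = y₃ := by
      rw [h.comm B hB _ hcb.1 _ hy₃.1, mul_assoc, hcb.2, mul_one]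
    calc u * x₁ * cb = x₂ * ((cb * y₃) * x₁) * cb := by rw [hudef]; simp only [mul_assoc]
      _ = (x₂ * x₁) * (cb * y₃ * cb) := by rw [c1]; simp only [mul_assoc]
      _ = x₁ * (x₂ * y₃) := by rw [c2, h.comm A hA _ hx₂.1 _ hx₁.1, mul_assoc]
      _ = x₁ * y₃ * x₂ := by rw [cAB x₂ hx₂ _ hy₃, ← mul_assoc]
  have f4 : (u * k) * (a * b) = (a * b) * (u * k) := by
    calc (u * k) * (a * b) = u * (k * (a * b)) := by simp only [mul_assoc]
      _ = (u * x₁ * cb) * (a * b) * k := by rw [f1]; simp only [mul_assoc]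
      _ = (a * b) * u * k := by rw [f3, f2]
      _ = (a * b) * (u * k) := by simp only [mul_assoc]
  have ku : k * u = u * k := by
    rw [hudef, ← mul_assoc, kA _ hx₂, mul_assoc, kB _ hy₂, ← mul_assoc]
  have huu : u * u = 1 := by
    have : u * u = (x₂ * ((cb * y₃) * x₂)) * (cb * y₃) := by rw [hudef]; simp only [mul_assoc]
    rw [this, ← cAB x₂ hx₂ _ hy₂]
    have : x₂ * (x₂ * (cb * y₃)) * (cb * y₃) = (x₂ * x₂) * ((cb * y₃) * (cb * y₃)) := by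
      simp only [mul_assoc]
    rw [this, hx₂.2, hy₂.2, one_mul]
  have f5 : (u * k) * (u * k) = k * k := by
    have : (u * k) * (u * k) = u * (k * u) * k := by simp only [mul_assoc]
    rw [this, ku]
    have : u * (u * k) * k = (u * u) * (k * k) := by simp only [mul_assoc]
    rw [this, huu, one_mul]
  have f6 : (k * k) * (a * b) = (a * b) * (k * k) := by
    rw [← f5, mul_assoc, f4, ← mul_assoc, f4, mul_assoc]
  rw [hkk] at f6
  -- now compute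
  have hβ : b * x₀ * b⁻¹ * x₀⁻¹ ∈ Om B := h.brak A hA B hB hc x₀ hx₀ b hb
  set y' := b * x₀ * b⁻¹ * x₀⁻¹ with hy'
  have hα : a * (y' * y₀) * a⁻¹ * (y' * y₀)⁻¹ ∈ Om A :=
    h.brak B hB A hA hc.symm _ (h.mul_Om hB hβ hy₀) a ha
  set x'' := a * (y' * y₀) * a⁻¹ * (y' * y₀)⁻¹ with hx''
  have f7 : (a * b) * (x₀ * y₀) = x'' * (y' * y₀) * x₀ * (a * b) := by
    have g1 : b * x₀ = y' * x₀ * b := by rw [hy']; simp [mul_assoc]
    have g3 : a * (y' * y₀) = x'' * (y' * y₀) * a := by rw [hx'']; simp [mul_assoc]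
    calc (a * b) * (x₀ * y₀) = a * (b * x₀) * y₀ := by simp only [mul_assoc]
      _ = a * y' * x₀ * (b * y₀) := by rw [g1]; simp only [mul_assoc]
      _ = a * y' * (x₀ * y₀) * b := by rw [h.comm B hB _ hb _ hy₀.1]; simp only [mul_assoc]
      _ = (a * (y' * y₀)) * x₀ * b := by rw [cAB x₀ hx₀ _ hy₀]; simp only [mul_assoc]
      _ = x'' * (y' * y₀) * (a * x₀) * b := by rw [g3]; simp only [mul_assoc]
      _ = x'' * (y' * y₀) * x₀ * (a * b) := by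
        rw [h.comm A hA _ ha _ hx₀.1]; simp only [mul_assoc]
  rw [f7] at f6
  have f8 := mul_right_cancel f6
  have f9 : x'' * y' = 1 := by
    have e : x'' * (y' * y₀) * x₀ = (x'' * y') * (x₀ * y₀) := by
      rw [cAB x₀ hx₀ _ hy₀]; simp only [mul_assoc]
    rw [e] at f8
    have := mul_right_cancel (b := x₀ * y₀) (f8.symm.trans (one_mul _).symm)
    exact this
  have hy'1 : y' = 1 := by
    by_contra h0
    apply hc.1
    refine h.ti A hA B hB y' ?_ hβ.1 h0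
    have : y' = x''⁻¹ := (inv_eq_of_mul_eq_one_right f9).symm
    rw [this]
    exact A.inv_mem hα.1
  have hx0 : x₀ = 1 := by
    by_contra h0
    exact h.brak_ne hA hB hc.1 hx₀.1 h0 hb hbb hy'1
  rw [hy'1, mul_one] at f9
  have hy0 : y₀ = 1 := by
    by_contra h0
    refine h.brak_ne hB hA hc.1.symm hy₀.1 h0 ha haa ?_
    rw [hx'', hy'1, one_mul] at f9
    exact f9
  rw [hkk, hx0, hy0, one_mul]

theorem exists_ne_Om {C : Subgroup G} (hC : C ∈ P) : ∃ v ∈ Om C, v ≠ 1 := by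
  obtain ⟨c, hc, hcc⟩ := h.nonelem C hC
  exact ⟨c * c, h.sq_Om hC hc, hcc⟩

theorem ncard_Om {C D : Subgroup G} (hC : C ∈ P) (hD : D ∈ P) : (Om C).ncard = (Om D).ncard := by
  obtain ⟨g, rfl⟩ := h.trans C hC D hD
  have : Om (cj g C) = (fun x => g * x * g⁻¹) '' Om C := by
    ext x
    constructor
    · intro hx
      exact ⟨g⁻¹ * x * g, mem_Om_cj.1 hx, by simp [mul_assoc]⟩
    · rintro ⟨y, hy, rfl⟩
      exact conj_mem_Om_cj hy
  rw [this, Set.ncard_image_of_injective]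
  intro x y hxy
  simpa using hxy

/-- Lemma F': an involution `t` normalising `B` and moving the neighbour `A` of `B` (to another
neighbour of `A`). -/
theorem lemF [Finite G] {A B : Subgroup G} (hA : A ∈ P) (hB : B ∈ P) (hc : Col A B) {t : G}
    (tt : t * t = 1) (htB : cj t B = B) (tB : ∀ v ∈ Om B, t * v = v * t)
    (hcA : Col A (cj t A))
    (hP : ∀ Q ∈ P, (∀ v ∈ Om Q, ∃ x ∈ Om A, ∃ x' ∈ Om (cj t A), v = x * x') → cj t Q = Q →
      ∀ v ∈ Om Q, t * v = v * t) :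
    (∀ x ∈ Om A, x * (t * x * t⁻¹) ∈ Om B) ∧ (∀ v ∈ Om B, ∃ x ∈ Om A, v = x * (t * x * t⁻¹)) := by
  have hA' : cj t A ∈ P := h.conj A hA t
  have ti : t⁻¹ = t := inv_eq_of_mul_eq_one_left tt
  obtain ⟨a, ha, haa⟩ := h.nonelem A hA
  have cAA := h.comm_om A hA _ hA' hcA
  let S : Set (Subgroup G) :=
    {Q | Q ∈ P ∧ ∀ v ∈ Om Q, ∃ x ∈ Om A, ∃ x' ∈ Om (cj t A), v = x * x'}
  have hcomm : ∀ Q ∈ S, ∀ v ∈ Om Q, ∀ y ∈ Om A, y * v = v * y := by
    rintro Q ⟨hQ, hQ2⟩ v hv y hy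
    obtain ⟨x, hx, x', hx', rfl⟩ := hQ2 v hv
    rw [← mul_assoc, h.comm A hA _ hy.1 _ hx.1, mul_assoc, cAA _ hy _ hx', mul_assoc]
  have htconj : ∀ x' ∈ Om (cj t A), t * x' * t⁻¹ ∈ Om A := by
    intro x' hx'
    have := mem_Om_cj.1 hx'
    rwa [ti] at this ⊢
  obtain ⟨Q, ⟨hQ, hQ2⟩, hQ3⟩ := parity S (fun Q => cj a Q) (fun Q => cj t Q) (by
      rintro Q ⟨hQ, hQ2⟩
      refine ⟨h.conj Q hQ a, ?_⟩
      intro v hv
      obtain ⟨x, hx, x', hx', e⟩ := hQ2 _ (mem_Om_cj.1 hv)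
      refine ⟨x * (a * x' * a⁻¹ * x'⁻¹), h.mul_Om hA hx (h.brak _ hA' A hA hcA.symm x' hx' a ha),
        x', hx', ?_⟩
      have e1 : v = a * (a⁻¹ * v * a) * a⁻¹ := by simp [mul_assoc]
      rw [e1, e]
      have e2 : a * (x * x') * a⁻¹ = (a * x) * (x' * a⁻¹) := by simp only [mul_assoc]
      rw [e2, h.comm A hA _ ha _ hx.1]
      simp [mul_assoc]) (by
      rintro Q ⟨hQ, hQ2⟩
      obtain ⟨v, hv, hv1⟩ := exists_ne_Om h hQ
      rw [cj_cj]
      exact h.norm_of_comm hQ hv.1 hv1 (hcomm Q ⟨hQ, hQ2⟩ v hv _ (h.sq_Om hA ha))) A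
    ⟨hA, fun v hv => ⟨v, hv, 1, one_mem_Om _, by simp⟩⟩ (by
      rintro Q hQ
      constructor
      · intro h1
        by_contra h0
        obtain ⟨v, hv, hv1⟩ := exists_ne_Om h hQ.1
        have hcQ : Col Q A := Geo.col_of_comm h0 hv.1 hv1 (h.sq_Om hA ha).1 haa
          (hcomm Q hQ v hv _ (h.sq_Om hA ha)).symm
        exact haa ((h.norm_iff Q hQ.1 A hA hcQ a ha).1 h1)
      · rintro rfl
        exact cj_self ha) (by
      rintro Q ⟨hQ, hQ2⟩
      refine ⟨h.conj Q hQ t, ?_⟩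
      intro v hv
      obtain ⟨x, hx, x', hx', e⟩ := hQ2 _ (mem_Om_cj.1 hv)
      refine ⟨t * x' * t⁻¹, htconj x' hx', t * x * t⁻¹, conj_mem_Om_cj hx, ?_⟩
      rw [cAA _ (htconj x' hx') _ (conj_mem_Om_cj hx)]
      have e1 : v = t * (t⁻¹ * v * t) * t⁻¹ := by simp [mul_assoc]
      rw [e1, e]
      simp [mul_assoc]) (by
      rintro Q ⟨hQ, hQ2⟩
      rw [cj_cj, tt, cj_one])
  have tQ := hP Q hQ hQ2 hQ3
  -- elements of `V_Q` are `x x^t`
  have claim1 : ∀ v ∈ Om Q, ∃ x ∈ Om A, v = x * (t * x * t⁻¹) := by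
    intro v hv
    obtain ⟨x, hx, x', hx', e⟩ := hQ2 v hv
    have hx1 := htconj x' hx'
    refine ⟨x, hx, ?_⟩
    have e0 : x' = t * (t * x' * t⁻¹) * t⁻¹ := by
      have : t * (t * x' * t⁻¹) * t⁻¹ = (t * t) * x' * (t * t)⁻¹ := by simp [mul_assoc]
      rw [this, tt]
      simp
    have e1 : t * v * t⁻¹ = v := by rw [tQ v hv, mul_inv_cancel_right]
    have e2 : t * v * t⁻¹ = (t * x * t⁻¹) * (t * x' * t⁻¹) := by rw [e]; simp [mul_assoc]
    rw [← cAA _ hx1 _ (conj_mem_Om_cj hx)] at e2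
    have e3 : x⁻¹ * (t * x' * t⁻¹) = x' * (t * x * t⁻¹)⁻¹ := by
      rw [inv_mul_eq_iff_eq_mul, ← mul_assoc, eq_mul_inv_iff_mul_eq, ← e2, e1, e]
    have e4 : x⁻¹ * (t * x' * t⁻¹) = 1 := by
      by_contra h0
      refine hcA.1 (h.ti A hA _ hA' _ (A.mul_mem (A.inv_mem hx.1) hx1.1) ?_ h0)
      rw [e3]
      exact (cj t A).mul_mem hx'.1 ((cj t A).inv_mem (conj_mem_cj hx.1))
    rw [inv_mul_eq_one] at e4
    rw [e, e0, ← e4]
  have hQB : Q = B := by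
    by_contra h0
    obtain ⟨v, hv, hv1⟩ := exists_ne_Om h hQ
    obtain ⟨b, hb, hbb⟩ := h.nonelem B hB
    apply hbb
    refine h.sq_of_comm hQ hB h0 hv.1 hv1 hb ?_
    obtain ⟨x, hx, e⟩ := claim1 v hv
    have hx' : t * x * t⁻¹ ∈ Om (cj t A) := conj_mem_Om_cj hx
    have hcA'B : Col (cj t A) B := by
      have := PairGeo.Col.cj hc t
      rwa [htB] at this
    have hcc : b * x * b⁻¹ * x⁻¹ ∈ Om B := h.brak A hA B hB hc x hx b hb
    have hb' : t * b * t⁻¹ ∈ B := conj_mem_of_cj htB hb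
    have hw : b⁻¹ * (t * b * t⁻¹) ∈ Om B := by
      refine ⟨B.mul_mem (B.inv_mem hb) hb', ?_⟩
      have e1 : b⁻¹ * (t * b * t⁻¹) * (b⁻¹ * (t * b * t⁻¹))
          = b⁻¹ * ((t * b * t⁻¹) * b⁻¹) * (t * b * t⁻¹) := by simp only [mul_assoc]
      rw [e1, h.comm B hB _ hb' _ (B.inv_mem hb)]
      have e2 : b⁻¹ * (b⁻¹ * (t * b * t⁻¹)) * (t * b * t⁻¹) = (b * b)⁻¹ * (t * (b * b) * t⁻¹) := by
        simp [mul_assoc]
      rw [e2, tB _ (h.sq_Om hB hb)]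
      simp
    have e1 : t * (b * x * b⁻¹ * x⁻¹) * t⁻¹ = b * x * b⁻¹ * x⁻¹ := by
      rw [tB _ hcc, mul_inv_cancel_right]
    have e2 : b * (t * x * t⁻¹) * b⁻¹ * (t * x * t⁻¹)⁻¹ = b * x * b⁻¹ * x⁻¹ := by
      rw [← e1]
      have e3 : t * (b * x * b⁻¹ * x⁻¹) * t⁻¹
          = b * ((b⁻¹ * (t * b * t⁻¹)) * (t * x * t⁻¹) * (b⁻¹ * (t * b * t⁻¹))⁻¹) * b⁻¹
            * (t * x * t⁻¹)⁻¹ := by simp [mul_assoc]
      rw [e3, ← h.comm_om _ hA' B hB hcA'B _ hx' _ hw, mul_inv_cancel_right]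
    have f1 : b * x = (b * x * b⁻¹ * x⁻¹) * x * b := by simp [mul_assoc]
    have f2 : b * (t * x * t⁻¹) = (b * x * b⁻¹ * x⁻¹) * (t * x * t⁻¹) * b := by
      rw [← e2]
      simp [mul_assoc]
    rw [e]
    set c := b * x * b⁻¹ * x⁻¹ with hcdef
    set x' := t * x * t⁻¹ with hx'def
    have f3 : b * (x * x') = x * x' * b := by
      calc b * (x * x') = (b * x) * x' := by simp only [mul_assoc]
        _ = c * x * (b * x') := by rw [f1]; simp only [mul_assoc]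
        _ = c * (x * c) * x' * b := by rw [f2]; simp only [mul_assoc]
        _ = (c * c) * (x * x') * b := by
          rw [h.comm_om A hA B hB hc x hx c hcc]; simp only [mul_assoc]
        _ = x * x' * b := by rw [hcc.2, one_mul]
    exact f3.symm
  subst hQB
  refine ⟨?_, claim1⟩
  have himg : Om Q = (fun x => x * (t * x * t⁻¹)) '' Om A := by
    refine Set.eq_of_subset_of_ncard_le ?_ ?_ (Set.toFinite _)
    · intro v hv
      obtain ⟨x, hx, e⟩ := claim1 v hv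
      exact ⟨x, hx, e.symm⟩
    · calc ((fun x => x * (t * x * t⁻¹)) '' Om A).ncard ≤ (Om A).ncard :=
          Set.ncard_image_le (Set.toFinite _)
        _ = (Om Q).ncard := ncard_Om h hA hQ
  intro x hx
  rw [himg]
  exact ⟨x, hx, rfl⟩

end

end Cfsg.Agent.TIAbelian.PairLine
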