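/-
helper998: S1779, case b: the relations between the members of a class of abelian TI 2-subgroups.
-/
import Cfsg.Agent.TIAbelian.CaseBBase
import Cfsg.Agent.TIAbelian.PairLine

set_option autoImplicit false

namespace Cfsg.Agent.TIAbelian.CaseBGeo

open Cfsg.Agent.TIAbelian.PairBase hiding TIFam
open Cfsg.Agent.TIAbelian.PairOmega
open Cfsg.Agent.TIAbelian.CaseBBase
open Cfsg.Agent.TIAbelian.PairGeo (Om mem_Om one_mem_Om inv_Om conj_mem_Om_cj mem_Om_cj)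

variable {G : Type*} [Group G]

/-- `A` and `B` commute elementwise. -/
def Cm (A B : Subgroup G) : Prop := ∀ a ∈ A, ∀ b ∈ B, a * b = b * a

/-- `A` and `B` have commuting nontrivial elements. -/
def Ap (A B : Subgroup G) : Prop := ∃ x ∈ A, ∃ y ∈ B, x ≠ 1 ∧ y ≠ 1 ∧ x * y = y * x

theorem Cm.symm {A B : Subgroup G} (h : Cm A B) : Cm B A := fun b hb a ha => (h a ha b hb).symm

theorem Ap.symm {A B : Subgroup G} (h : Ap A B) : Ap B A := by
  obtain ⟨x, hx, y, hy, hx1, hy1, hxy⟩ := h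
  exact ⟨y, hy, x, hx, hy1, hx1, hxy.symm⟩

theorem not_cm_iff {A B : Subgroup G} : ¬ Cm A B ↔ Nc A B := by
  unfold Cm Nc
  push Not
  rfl

theorem nb_iff {A B : Subgroup G} : Nb A B ↔ ¬ Cm A B ∧ Ap A B := by
  rw [not_cm_iff]
  rfl

theorem Nb.not_cm {A B : Subgroup G} (h : Nb A B) : ¬ Cm A B := (nb_iff.1 h).1

theorem Nb.ap {A B : Subgroup G} (h : Nb A B) : Ap A B := h.2

theorem nb_of {A B : Subgroup G} (h1 : Ap A B) (h2 : ¬ Cm A B) : Nb A B := nb_iff.2 ⟨h2, h1⟩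

theorem Ap.cj {A B : Subgroup G} (hc : Ap A B) (g : G) : Ap (PairBase.cj g A) (PairBase.cj g B) := by
  obtain ⟨x, hx, y, hy, hx1, hy1, hxy⟩ := hc
  refine ⟨g * x * g⁻¹, conj_mem_cj hx, g * y * g⁻¹, conj_mem_cj hy, ?_, ?_, ?_⟩
  · intro h0
    apply hx1
    have := congrArg (fun t => g⁻¹ * t * g) h0
    simpa [mul_assoc] using this
  · intro h0
    apply hy1
    have := congrArg (fun t => g⁻¹ * t * g) h0
    simpa [mul_assoc] using this
  · have := congrArg (fun t => g * t * g⁻¹) hxy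
    simpa [mul_assoc] using this

theorem Cm.cj {A B : Subgroup G} (hc : Cm A B) (g : G) : Cm (PairBase.cj g A) (PairBase.cj g B) := by
  intro a ha b hb
  rw [mem_cj] at ha hb
  have := congrArg (fun t => g * t * g⁻¹) (hc _ ha _ hb)
  simpa [mul_assoc] using this

theorem cm_cj_iff {A B : Subgroup G} (g : G) :
    Cm (PairBase.cj g A) (PairBase.cj g B) ↔ Cm A B := by
  constructor
  · intro h1
    have := h1.cj g⁻¹
    rwa [cj_inv_cj, cj_inv_cj] at this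
  · intro h1
    exact h1.cj g

theorem ap_cj_iff {A B : Subgroup G} (g : G) :
    Ap (PairBase.cj g A) (PairBase.cj g B) ↔ Ap A B := by
  constructor
  · intro h1
    have := h1.cj g⁻¹
    rwa [cj_inv_cj, cj_inv_cj] at this
  · intro h1
    exact h1.cj g

theorem Nb.cj {A B : Subgroup G} (hc : Nb A B) (g : G) : Nb (PairBase.cj g A) (PairBase.cj g B) := by
  rw [nb_iff] at hc ⊢
  exact ⟨fun h0 => hc.1 ((cm_cj_iff g).1 h0), hc.2.cj g⟩

section

variable {P : Set (Subgroup G)} (h : Fam P)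
include h

theorem exists_ne_one {C : Subgroup G} (hC : C ∈ P) : ∃ c ∈ Om C, c ≠ 1 := by
  obtain ⟨e, he, he1, hee, _⟩ := h.noncyc C hC 1
  exact ⟨e, ⟨he, hee⟩, he1⟩

theorem exists_two_Om {C : Subgroup G} (hC : C ∈ P) (z : G) : ∃ c ∈ Om C, c ≠ 1 ∧ c ≠ z := by
  obtain ⟨e, he, he1, hee, hez⟩ := h.noncyc C hC z
  exact ⟨e, ⟨he, hee⟩, he1, hez⟩

theorem mul_Om {C : Subgroup G} (hC : C ∈ P) {x y : G} (hx : x ∈ Om C) (hy : y ∈ Om C) :
    x * y ∈ Om C := by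
  refine ⟨C.mul_mem hx.1 hy.1, ?_⟩
  have : x * y * (x * y) = x * (y * x) * y := by simp only [mul_assoc]
  rw [this, h.comm C hC _ hy.1 _ hx.1]
  have : x * (x * y) * y = (x * x) * (y * y) := by simp only [mul_assoc]
  rw [this, hx.2, hy.2, one_mul]

theorem cm_self {C : Subgroup G} (hC : C ∈ P) : Cm C C := h.comm C hC

theorem ap_self {C : Subgroup G} (hC : C ∈ P) : Ap C C := by
  obtain ⟨c, hc, hc1⟩ := exists_ne_one h hC
  exact ⟨c, hc.1, c, hc.1, hc1, hc1, rfl⟩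

theorem ap_of_cm {A B : Subgroup G} (hA : A ∈ P) (hB : B ∈ P) (hc : Cm A B) : Ap A B := by
  obtain ⟨a, ha, ha1⟩ := exists_ne_one h hA
  obtain ⟨b, hb, hb1⟩ := exists_ne_one h hB
  exact ⟨a, ha.1, b, hb.1, ha1, hb1, hc a ha.1 b hb.1⟩

theorem cm_or_nb {A B : Subgroup G} (hc : Ap A B) : Cm A B ∨ Nb A B := by
  by_cases h1 : Cm A B
  · exact Or.inl h1
  · exact Or.inr (nb_of hc h1)

theorem nb_ne {A B : Subgroup G} (hA : A ∈ P) (hn : Nb A B) : A ≠ B := h.ne hA hn.1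

/-- `N_B(A) = Ω₁(B)` for neighbours. -/
theorem norm_iff [Finite G] {A B : Subgroup G} (hA : A ∈ P) (hB : B ∈ P) (hn : Nb A B) {b : G}
    (hb : b ∈ B) : cj b A = A ↔ b * b = 1 := by
  rw [← mem_nr_iff h hA hB hn hb]
  exact ⟨fun h1 => ⟨hb, h1⟩, fun h1 => h1.2⟩

theorem mem_nr_Om [Finite G] {A B : Subgroup G} (hA : A ∈ P) (hB : B ∈ P) (hn : Nb A B) {b : G} :
    b ∈ nr B A ↔ b ∈ Om B := by
  constructor
  · intro hb
    exact ⟨hb.1, (mem_nr_iff h hA hB hn hb.1).1 hb⟩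
  · intro hb
    exact (mem_nr_iff h hA hB hn hb.1).2 hb.2

theorem comm_om [Finite G] {A B : Subgroup G} (hA : A ∈ P) (hB : B ∈ P) (ha : Ap A B) {x y : G}
    (hx : x ∈ Om A) (hy : y ∈ Om B) : x * y = y * x := by
  rcases cm_or_nb h ha with h1 | h1
  · exact h1 x hx.1 y hy.1
  · exact h.comm_nr hA hB (h.ne hA h1.1) ((mem_nr_Om h hB hA h1.symm).2 hx)
      ((mem_nr_Om h hA hB h1).2 hy)

theorem brak [Finite G] {A B : Subgroup G} (hA : A ∈ P) (hB : B ∈ P) (hn : Nb A B) {x b : G}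
    (hx : x ∈ Om A) (hb : b ∈ B) : b * x * b⁻¹ * x⁻¹ ∈ Om B := by
  rw [← mem_nr_Om h hA hB hn]
  have h1 := (nr B A).inv_mem (h.comm_mem hA hB hn ((mem_nr_Om h hB hA hn.symm).2 hx) hb)
  simpa [mul_assoc] using h1

theorem surj [Finite G] {A B : Subgroup G} (hA : A ∈ P) (hB : B ∈ P) (hn : Nb A B) {b y : G}
    (hb : b ∈ B) (hbb : b * b ≠ 1) (hy : y ∈ Om B) : ∃ x ∈ Om A, b * x * b⁻¹ * x⁻¹ = y := by
  have hbn : b ∉ nr B A := fun h0 => hbb ((mem_nr_iff h hA hB hn hb).1 h0)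
  obtain ⟨x, hx, hxy⟩ := h.surj hA hB hn hb hbn ((nr B A).inv_mem ((mem_nr_Om h hA hB hn).2 hy))
  refine ⟨x, (mem_nr_Om h hB hA hn.symm).1 hx, ?_⟩
  have := congrArg (fun t => t⁻¹) hxy
  simpa [mul_assoc] using this

theorem exp4 [Finite G] (hex : ∃ A ∈ P, ∃ B ∈ P, Nb A B) {C : Subgroup G} (hC : C ∈ P) {c : G}
    (hc : c ∈ C) : (c * c) * (c * c) = 1 := by
  obtain ⟨A, hA, B, hB, hAB⟩ := hex
  obtain ⟨g, rfl⟩ := h.trans B hB C hC
  rw [mem_cj] at hc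
  have h1 := (mem_nr_Om h hA hB hAB).1 (h.sq_mem_nr hA hB hAB hc)
  have h3 := congrArg (fun t => g * t * g⁻¹) h1.2
  simpa [mul_assoc] using h3

/-- `x` normalises `B` if it commutes with a nontrivial element of `B`. -/
theorem norm_of_comm {B : Subgroup G} (hB : B ∈ P) {x b : G} (hb : b ∈ B) (hb1 : b ≠ 1)
    (hxb : x * b = b * x) : cj x B = B := h.norm_of_comm hB hb hb1 hxb

/-- An element `b` of `B` with `b² ≠ 1` normalises `A` only if `A` and `B` commute. -/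
theorem cm_of_norm {A B : Subgroup G} (hA : A ∈ P) (hB : B ∈ P) {b : G} (hb : b ∈ B)
    (hbb : b * b ≠ 1) (hn : cj b A = A) : Cm A B := by
  by_contra h0
  exact hbb (h.stageA hB hA (not_cm_iff.1 h0).symm ⟨hb, hn⟩)

theorem cm_of_comm {A B : Subgroup G} (hA : A ∈ P) (hB : B ∈ P) {a b : G} (ha : a ∈ A)
    (ha1 : a ≠ 1) (hb : b ∈ B) (hbb : b * b ≠ 1) (hab : a * b = b * a) : Cm A B :=
  cm_of_norm h hA hB hb hbb (h.norm_of_comm hA ha ha1 hab.symm)

/-- If `b ∈ B`, `b ≠ 1`, normalises `A` then `A ≈ B`. -/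
theorem ap_of_norm {A B : Subgroup G} (hA : A ∈ P) (hB : B ∈ P) {b : G} (hb : b ∈ B)
    (hb1 : b ≠ 1) (hn : cj b A = A) : Ap A B := by
  -- pass to an involution
  obtain ⟨n, hn2⟩ := h.two B hB b hb
  obtain ⟨k, hk1, hk2⟩ := two_descend b n hn2 (fun y => y = 1) rfl hb1
  set y := b ^ (2 ^ k) with hy
  have hyB : y ∈ B := B.pow_mem hb _
  have hyn : cj y A = A := cj_pow_eq hn _
  obtain ⟨v, hv, hv1⟩ := exists_ne_one h hA
  have hw : y * v * y⁻¹ ∈ A := conj_mem_of_cj hyn hv.1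
  by_cases h0 : y * v * y⁻¹ = v
  · exact ⟨v, hv.1, y, hyB, hv1, hk1, (eq_comm_iff.2 h0).symm⟩
  · refine ⟨v * (y * v * y⁻¹), A.mul_mem hv.1 hw, y, hyB, ?_, hk1, ?_⟩
    · intro h3
      apply h0
      exact mul_left_cancel (h3.trans hv.2.symm)
    · symm
      rw [eq_comm_iff]
      have h3 : y * (v * (y * v * y⁻¹)) * y⁻¹ = (y * v * y⁻¹) * ((y * y) * v * (y * y)⁻¹) := by
        simp [mul_assoc]
      rw [h3, hk2]
      simp only [one_mul, inv_one, mul_one]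
      exact h.comm A hA _ hw _ hv.1

/-- An element centralising a nontrivial element of `A` and lying in an `Om` of a member `B ≈ A`. -/
theorem om_norm [Finite G] {A B : Subgroup G} (hA : A ∈ P) (hB : B ∈ P) (ha : Ap A B) {b : G}
    (hb : b ∈ Om B) : cj b A = A := by
  obtain ⟨v, hv, hv1⟩ := exists_ne_one h hA
  exact h.norm_of_comm hA hv.1 hv1 (comm_om h hA hB ha hv hb).symm

/-- Injectivity of `x ↦ [b, x]`: for neighbours `A`, `B`, `b ∈ B` with `b² ≠ 1` commutes with no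
nontrivial element of `A`. -/
theorem brak_ne {A B : Subgroup G} (hA : A ∈ P) (hB : B ∈ P) (hn : ¬ Cm A B)
    {x b : G} (hx : x ∈ A) (hx1 : x ≠ 1) (hb : b ∈ B) (hbb : b * b ≠ 1) :
    b * x * b⁻¹ * x⁻¹ ≠ 1 := by
  intro h0
  apply hn
  refine cm_of_comm h hA hB hx hx1 hb hbb ?_
  rw [mul_inv_eq_one, mul_inv_eq_iff_eq_mul] at h0
  exact h0.symm

theorem ncard_Om {C D : Subgroup G} (hC : C ∈ P) (hD : D ∈ P) : (Om C).ncard = (Om D).ncard := by
  obtain ⟨g, rfl⟩ := h.trans C hC D hD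
  have : Om (cj g C) = (fun x => g * x * g⁻¹) '' Om C := by
    ext x
    constructor
    · intro hx
      exact ⟨g⁻¹ * x * g, mem_Om_cj.1 hx, by simp [mul_assoc]⟩
    · rintro ⟨y, hy, rfl⟩
      exact conj_mem_Om_cj hy
  rw [this, Set.ncard_image_of_injective]
  intro x y hxy
  simpa using hxy

/-- `Ω₁(C)` as a subgroup. -/
def OmS {C : Subgroup G} (hC : C ∈ P) : Subgroup G where
  carrier := Om C
  one_mem' := one_mem_Om C
  mul_mem' := fun hx hy => mul_Om h hC hx hy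
  inv_mem' := fun {x} hx => by
    rw [inv_Om hx]
    exact hx

theorem mem_OmS {C : Subgroup G} (hC : C ∈ P) {x : G} : x ∈ OmS h hC ↔ x ∈ Om C := Iff.rfl

/-- Two members are equal if they have the same nontrivial element. -/
theorem eq_of_mem {C D : Subgroup G} (hC : C ∈ P) (hD : D ∈ P) {x : G} (hx : x ∈ C) (hx' : x ∈ D)
    (hx1 : x ≠ 1) : C = D := h.ti C hC D hD x hx hx' hx1

end

end Cfsg.Agent.TIAbelian.CaseBGeo
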