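/-
helper998: S1779, case b: two lemmas on involutions acting on lines.
-/
import Cfsg.Agent.TIAbelian.CaseBGeo

set_option autoImplicit false

namespace Cfsg.Agent.TIAbelian.CaseBK

open Cfsg.Agent.TIAbelian.PairBase hiding TIFam
open Cfsg.Agent.TIAbelian.PairOmega
open Cfsg.Agent.TIAbelian.CaseBBase
open Cfsg.Agent.TIAbelian.CaseBGeo
open Cfsg.Agent.TIAbelian.PairGeo (Om mem_Om one_mem_Om inv_Om conj_mem_Om_cj mem_Om_cj)

variable {G : Type*} [Group G] {P : Set (Subgroup G)} (h : Fam P)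
include h

/-- (N2) If `Om B` normalises the abelian group `V`, which contains the member `D`, then `D ≈ B`. -/
theorem ap_of_normV {V D B : Subgroup G} (hV : ∀ x ∈ V, ∀ y ∈ V, x * y = y * x) (hD : D ∈ P)
    (hDV : D ≤ V) (hB : B ∈ P) (hn : ∀ u ∈ Om B, cj u V = V) : Ap D B := by
  obtain ⟨v, hv, hvv⟩ := h.nonelem D hD
  by_cases h0 : ∃ b ∈ B, b ∈ V ∧ b ≠ 1
  · obtain ⟨b, hb, hbV, hb1⟩ := h0
    refine ⟨v, hv, b, hb, ?_, hb1, hV _ (hDV hv) _ hbV⟩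
    rintro rfl
    exact hvv (one_mul 1)
  push Not at h0
  -- centralisers in `V` of elements of `Om B` agree
  have key : ∀ x ∈ Om B, x ≠ 1 → ∀ c ∈ V, x * c = c * x → ∀ y ∈ Om B, y * c = c * y := by
    intro x hx hx1 c hc hxc y hy
    have hcB : cj c B = B := h.norm_of_comm hB hx.1 hx1 hxc.symm
    have h1 : y * c * y⁻¹ * c⁻¹ ∈ B := by
      have : y * c * y⁻¹ * c⁻¹ = y * (c * y⁻¹ * c⁻¹) := by simp only [mul_assoc]
      rw [this]
      exact B.mul_mem hy.1 (conj_mem_of_cj hcB (B.inv_mem hy.1))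
    have h2 : y * c * y⁻¹ * c⁻¹ ∈ V := V.mul_mem (conj_mem_of_cj (hn y hy) hc) (V.inv_mem hc)
    have h3 := h0 _ h1 h2
    rw [mul_inv_eq_one, mul_inv_eq_iff_eq_mul] at h3
    exact h3
  obtain ⟨u₁, hu₁, hu₁1⟩ := exists_ne_one h hB
  obtain ⟨u₂, hu₂, hu₂1, hu₁₂⟩ := exists_two_Om h hB u₁
  have hu₃ := mul_Om h hB hu₁ hu₂
  have hu₃1 : u₁ * u₂ ≠ 1 := by
    intro h3
    apply hu₁₂
    exact mul_left_cancel (h3.trans hu₁.2.symm)
  have hvV := hDV hv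
  have cc : ∀ x ∈ Om B, x ≠ 1 → ∀ y ∈ Om B, y * (v * (x * v * x⁻¹)) = (v * (x * v * x⁻¹)) * y := by
    intro x hx hx1
    have hxv : x * v * x⁻¹ ∈ V := conj_mem_of_cj (hn x hx) hvV
    refine key x hx hx1 _ (V.mul_mem hvV hxv) ?_
    rw [eq_comm_iff]
    have e1 : x * (v * (x * v * x⁻¹)) * x⁻¹ = (x * v * x⁻¹) * ((x * x) * v * (x * x)⁻¹) := by
      simp [mul_assoc]
    rw [e1, hx.2]
    simp only [one_mul, inv_one, mul_one]
    exact hV _ hxv _ hvV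
  have c1 := cc u₁ hu₁ hu₁1 u₁ hu₁
  have c2 := cc u₂ hu₂ hu₂1 u₁ hu₁
  have c3 := cc _ hu₃ hu₃1 u₁ hu₁
  have hv1 : u₁ * v * u₁⁻¹ ∈ V := conj_mem_of_cj (hn _ hu₁) hvV
  have hv2 : u₂ * v * u₂⁻¹ ∈ V := conj_mem_of_cj (hn _ hu₂) hvV
  -- the third element is `(u₁ v u₁⁻¹) (u₂ v u₂⁻¹)`
  have e3 : v * (u₁ * u₂ * v * (u₁ * u₂)⁻¹) = (u₁ * v * u₁⁻¹) * (u₂ * v * u₂⁻¹) := by
    have e4 : u₁ * (v * (u₁ * u₂ * v * (u₁ * u₂)⁻¹)) * u₁⁻¹
        = (u₁ * v * u₁⁻¹) * ((u₁ * u₁) * (u₂ * v * u₂⁻¹) * (u₁ * u₁)⁻¹) := by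
      simp [mul_assoc]
    rw [eq_comm_iff.1 c3, hu₁.2] at e4
    simpa using e4
  have e5 : (v * (u₁ * v * u₁⁻¹)) * (v * (u₂ * v * u₂⁻¹))
      = (v * v) * (v * (u₁ * u₂ * v * (u₁ * u₂)⁻¹)) := by
    rw [e3]
    have : (v * (u₁ * v * u₁⁻¹)) * (v * (u₂ * v * u₂⁻¹))
      = v * ((u₁ * v * u₁⁻¹) * v) * (u₂ * v * u₂⁻¹) := by simp only [mul_assoc]
    rw [this, hV _ hv1 _ hvV]
    simp only [mul_assoc]
  have e6 : v * v = (v * (u₁ * v * u₁⁻¹)) * (v * (u₂ * v * u₂⁻¹))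
      * (v * (u₁ * u₂ * v * (u₁ * u₂)⁻¹))⁻¹ := by
    rw [e5, mul_inv_cancel_right]
  have e7 : u₁ * (v * v) = (v * v) * u₁ := by
    have d1 : Commute u₁ (v * (u₁ * v * u₁⁻¹)) := c1
    have d2 : Commute u₁ (v * (u₂ * v * u₂⁻¹)) := c2
    have d3 : Commute u₁ (v * (u₁ * u₂ * v * (u₁ * u₂)⁻¹)) := c3
    rw [e6]
    exact ((d1.mul_right d2).mul_right d3.inv_right).eq
  exact ⟨v * v, D.mul_mem hv hv, u₁, hu₁.1, hvv, hu₁1, e7.symm⟩

/-- (N2) for a set of pairwise commuting conjugates. -/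
theorem ap_of_cj_comm {D B : Subgroup G} (hD : D ∈ P) (hB : B ∈ P)
    (hc : ∀ u ∈ Om B, Cm D (cj u D)) : Ap D B := by
  set V : Subgroup G := Subgroup.closure {x : G | ∃ u ∈ Om B, x ∈ cj u D} with hVdef
  have hgen : ∀ x ∈ {x : G | ∃ u ∈ Om B, x ∈ cj u D}, ∀ y ∈ {x : G | ∃ u ∈ Om B, x ∈ cj u D},
      x * y = y * x := by
    rintro x ⟨u, hu, hx⟩ y ⟨w, hw, hy⟩
    have h1 := (cm_cj_iff u).2 (hc _ (mul_Om h hB hu hw))
    rw [cj_cj] at h1
    have h2 : u * (u * w) = w := by rw [← mul_assoc, hu.2, one_mul]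
    rw [h2] at h1
    exact h1 x hx y hy
  have hV : ∀ x ∈ V, ∀ y ∈ V, x * y = y * x := by
    intro x hx y hy
    have h1 := Subgroup.isMulCommutative_closure hgen
    exact congrArg Subtype.val (h1.is_comm.comm ⟨x, hx⟩ ⟨y, hy⟩)
  have hDV : D ≤ V := by
    intro x hx
    apply Subgroup.subset_closure
    exact ⟨1, one_mem_Om B, by rwa [cj_one]⟩
  refine ap_of_normV h hV hD hDV hB ?_
  intro u hu
  have hle : ∀ w ∈ Om B, cj w V ≤ V := by
    intro w hw x hx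
    rw [mem_cj] at hx
    have h2 : ∀ y ∈ V, w * y * w⁻¹ ∈ V := by
      intro y hy
      induction hy using Subgroup.closure_induction with
      | mem y hy =>
        obtain ⟨t, ht, hy⟩ := hy
        apply Subgroup.subset_closure
        refine ⟨w * t, mul_Om h hB hw ht, ?_⟩
        rw [← cj_cj]
        exact conj_mem_cj hy
      | one => simp [V.one_mem]
      | mul y z _ _ hy hz =>
        have : w * (y * z) * w⁻¹ = (w * y * w⁻¹) * (w * z * w⁻¹) := by simp [mul_assoc]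
        rw [this]
        exact V.mul_mem hy hz
      | inv y _ hy =>
        have : w * y⁻¹ * w⁻¹ = (w * y * w⁻¹)⁻¹ := by simp [mul_assoc]
        rw [this]
        exact V.inv_mem hy
    have := h2 _ hx
    simpa [mul_assoc] using this
  apply le_antisymm (hle u hu)
  intro x hx
  rw [mem_cj]
  have h3 : u⁻¹ * x * u ∈ cj u⁻¹ V := by
    rw [mem_cj]
    simpa [mul_assoc] using hx
  rw [inv_Om hu] at h3 ⊢
  exact hle u hu h3

/-- The involution `s` moves the member `X` to a neighbour `X'` of `X`: then `s` fixes a member `R` of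
the line of `X`, `X'`. -/
theorem lemK [Finite G] {X : Subgroup G} (hX : X ∈ P) {s : G} (ss : s * s = 1)
    (hn : Nb X (cj s X)) :
    ∃ R ∈ P, Nb R X ∧ cj s R = R ∧ (∃ e ∈ Om X, e ≠ 1 ∧ e * (s * e * s⁻¹) ∈ Om R) ∧
      (∀ v ∈ Om R, ∃ e ∈ Om X, ∃ e' ∈ Om (cj s X), v = e * e') ∧
      ((∀ v ∈ Om R, s * v = v * s) → ∀ e ∈ Om X, e * (s * e * s⁻¹) ∈ Om R) := by
  have hX' : cj s X ∈ P := h.conj X hX s
  have hne : X ≠ cj s X := nb_ne h hX hn
  have si : s⁻¹ = s := inv_eq_of_mul_eq_one_left ss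
  have hex : ∃ A ∈ P, ∃ B ∈ P, Nb A B := ⟨X, hX, _, hX', hn⟩
  obtain ⟨a, ha, haa⟩ := h.nonelem X hX
  have haO : a * a ∈ Om X := ⟨X.mul_mem ha ha, exp4 h hex hX ha⟩
  have cXX : ∀ x ∈ Om X, ∀ y ∈ Om (cj s X), x * y = y * x :=
    fun x hx y hy => comm_om h hX hX' (Nb.ap hn) hx hy
  let S : Set (Subgroup G) :=
    {Q | Q ∈ P ∧ ∀ v ∈ Om Q, ∃ x ∈ Om X, ∃ x' ∈ Om (cj s X), v = x * x'}
  have hcomm : ∀ Q ∈ S, ∀ v ∈ Om Q, ∀ y ∈ Om X, y * v = v * y := by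
    rintro Q ⟨hQ, hQ2⟩ v hv y hy
    obtain ⟨x, hx, x', hx', rfl⟩ := hQ2 v hv
    rw [← mul_assoc, h.comm X hX _ hy.1 _ hx.1, mul_assoc, cXX _ hy _ hx', mul_assoc]
  have htconj : ∀ x' ∈ Om (cj s X), s * x' * s⁻¹ ∈ Om X := by
    intro x' hx'
    have := mem_Om_cj.1 hx'
    rwa [si] at this ⊢
  -- members of `S` commuting with `X` are equal to `X`
  have hSX : ∀ Q ∈ S, Cm Q X → Q = X := by
    rintro Q ⟨hQ, hQ2⟩ hc
    obtain ⟨v, hv, hv1⟩ := exists_ne_one h hQ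
    obtain ⟨x, hx, x', hx', e⟩ := hQ2 v hv
    have hx'1 : x' = 1 := by
      by_contra h0
      apply Nb.not_cm hn
      apply Cm.symm
      refine cm_of_comm h hX' hX hx'.1 h0 ha haa ?_
      have h1 := hc v hv.1 a ha
      rw [e] at h1
      have h2 : x * (a * x') = x * (x' * a) := by
        rw [← mul_assoc, ← h.comm X hX a ha x hx.1, mul_assoc, ← h1, mul_assoc]
      exact (mul_left_cancel h2).symm
    rw [hx'1, mul_one] at e
    exact eq_of_mem h hQ hX hv.1 (e ▸ hx.1) hv1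
  obtain ⟨Q, hQS, hQ3⟩ := PairLine.parity S (fun Q => cj a Q) (fun Q => cj s Q) (by
      rintro Q ⟨hQ, hQ2⟩
      refine ⟨h.conj Q hQ a, ?_⟩
      intro v hv
      obtain ⟨x, hx, x', hx', e⟩ := hQ2 _ (mem_Om_cj.1 hv)
      refine ⟨x * (a * x' * a⁻¹ * x'⁻¹), mul_Om h hX hx (brak h hX' hX hn.symm hx' ha),
        x', hx', ?_⟩
      have e1 : v = a * (a⁻¹ * v * a) * a⁻¹ := by simp [mul_assoc]
      rw [e1, e]
      have e2 : a * (x * x') * a⁻¹ = (a * x) * (x' * a⁻¹) := by simp only [mul_assoc]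
      rw [e2, h.comm X hX _ ha _ hx.1]
      simp [mul_assoc]) (by
      rintro Q ⟨hQ, hQ2⟩
      obtain ⟨v, hv, hv1⟩ := exists_ne_one h hQ
      show cj a (cj a Q) = Q
      rw [cj_cj]
      exact h.norm_of_comm hQ hv.1 hv1 (hcomm Q ⟨hQ, hQ2⟩ v hv _ haO)) X
    ⟨hX, fun v hv => ⟨v, hv, 1, one_mem_Om _, by simp⟩⟩ (by
      rintro Q hQ
      constructor
      · intro h1
        exact hSX Q hQ (cm_of_norm h hQ.1 hX ha haa h1)
      · rintro rfl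
        exact cj_self ha) (by
      rintro Q ⟨hQ, hQ2⟩
      refine ⟨h.conj Q hQ s, ?_⟩
      intro v hv
      obtain ⟨x, hx, x', hx', e⟩ := hQ2 _ (mem_Om_cj.1 hv)
      refine ⟨s * x' * s⁻¹, htconj x' hx', s * x * s⁻¹, conj_mem_Om_cj hx, ?_⟩
      rw [cXX _ (htconj x' hx') _ (conj_mem_Om_cj hx)]
      have e1 : v = s * (s⁻¹ * v * s) * s⁻¹ := by simp [mul_assoc]
      rw [e1, e]
      simp [mul_assoc]) (by
      rintro Q ⟨hQ, hQ2⟩
      show cj s (cj s Q) = Q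
      rw [cj_cj, ss, cj_one])
  have hQ := hQS.1
  have hQ2 := hQS.2
  -- `Q ≠ X`
  have hQX : Q ≠ X := by
    rintro rfl
    exact hne hQ3.symm
  have hncQ : ¬ Cm Q X := fun h0 => hQX (hSX Q hQS h0)
  have hQap : Ap Q X := by
    obtain ⟨v, hv, hv1⟩ := exists_ne_one h hQ
    exact ⟨v, hv.1, a * a, haO.1, hv1, haa, (hcomm Q hQS v hv _ haO).symm⟩
  -- elements of `Om Q` commuting with `s` are `x x^s`
  have claim1 : ∀ v ∈ Om Q, s * v = v * s → ∃ x ∈ Om X, v = x * (s * x * s⁻¹) := by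
    intro v hv hsv
    obtain ⟨x, hx, x', hx', e⟩ := hQ2 v hv
    have hx1 := htconj x' hx'
    refine ⟨x, hx, ?_⟩
    have e0 : x' = s * (s * x' * s⁻¹) * s⁻¹ := by
      have : s * (s * x' * s⁻¹) * s⁻¹ = (s * s) * x' * (s * s)⁻¹ := by simp [mul_assoc]
      rw [this, ss]
      simp
    have e1 : s * v * s⁻¹ = v := by rw [hsv, mul_inv_cancel_right]
    have e2 : s * v * s⁻¹ = (s * x * s⁻¹) * (s * x' * s⁻¹) := by rw [e]; simp [mul_assoc]
    rw [← cXX _ hx1 _ (conj_mem_Om_cj hx)] at e2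
    have e3 : x⁻¹ * (s * x' * s⁻¹) = x' * (s * x * s⁻¹)⁻¹ := by
      rw [inv_mul_eq_iff_eq_mul, ← mul_assoc, eq_mul_inv_iff_mul_eq, ← e2, e1, e]
    have e4 : x⁻¹ * (s * x' * s⁻¹) = 1 := by
      by_contra h0
      refine hne (h.ti X hX _ hX' _ (X.mul_mem (X.inv_mem hx.1) hx1.1) ?_ h0)
      rw [e3]
      exact (cj s X).mul_mem hx'.1 ((cj s X).inv_mem (conj_mem_cj hx.1))
    rw [inv_mul_eq_one] at e4
    rw [e, e0, ← e4]
  refine ⟨Q, hQ, nb_of hQap hncQ, hQ3, ?_, hQ2, ?_⟩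
  · -- a nontrivial element of `Om Q` centralised by `s`
    obtain ⟨v, hv, hv1⟩ := exists_ne_one h hQ
    have hw : s * v * s⁻¹ ∈ Om Q := by
      have := conj_mem_Om_cj (g := s) hv
      rwa [hQ3] at this
    by_cases h0 : s * v * s⁻¹ = v
    · obtain ⟨x, hx, e⟩ := claim1 v hv (eq_comm_iff.2 h0)
      refine ⟨x, hx, ?_, e ▸ hv⟩
      rintro rfl
      apply hv1
      rw [e]
      simp
    · have hvw := mul_Om h hQ hv hw
      have hcc : s * (v * (s * v * s⁻¹)) = (v * (s * v * s⁻¹)) * s := by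
        rw [eq_comm_iff]
        have e1 : s * (v * (s * v * s⁻¹)) * s⁻¹ = (s * v * s⁻¹) * ((s * s) * v * (s * s)⁻¹) := by
          simp [mul_assoc]
        rw [e1, ss]
        simp only [one_mul, inv_one, mul_one]
        exact h.comm Q hQ _ hw.1 _ hv.1
      obtain ⟨x, hx, e⟩ := claim1 _ hvw hcc
      refine ⟨x, hx, ?_, e ▸ hvw⟩
      rintro rfl
      apply h0
      have e5 : v * (s * v * s⁻¹) = 1 := by rw [e]; simp
      exact (mul_left_cancel (e5.trans hv.2.symm))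
  · intro hs
    have himg : Om Q = (fun x => x * (s * x * s⁻¹)) '' Om X := by
      refine Set.eq_of_subset_of_ncard_le ?_ ?_ (Set.toFinite _)
      · intro v hv
        obtain ⟨x, hx, e⟩ := claim1 v hv (hs v hv)
        exact ⟨x, hx, e.symm⟩
      · calc ((fun x => x * (s * x * s⁻¹)) '' Om X).ncard ≤ (Om X).ncard :=
            Set.ncard_image_le (Set.toFinite _)
          _ = (Om Q).ncard := ncard_Om h hX hQ
    intro x hx
    rw [himg]
    exact ⟨x, hx, rfl⟩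

end Cfsg.Agent.TIAbelian.CaseBK
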