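/-
helper998: S1779, case b: local data at a member (interface).
-/
import Cfsg.Agent.TIAbelian.CaseBGeo

set_option autoImplicit false

namespace Cfsg.Agent.TIAbelian.CaseBLoc

open Cfsg.Agent.TIAbelian.PairBase hiding TIFam
open Cfsg.Agent.TIAbelian.PairOmega
open Cfsg.Agent.TIAbelian.CaseBBase
open Cfsg.Agent.TIAbelian.CaseBGeo
open Cfsg.Agent.TIAbelian.PairGeo (Om mem_Om one_mem_Om inv_Om conj_mem_Om_cj mem_Om_cj)

variable {G : Type*} [Group G]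

/-- Local data at the member `A` of `P`: `M_A = {g | cj g A = A}` is a maximal 2-local subgroup of
characteristic 2 and `Q = O₂(M_A)`. -/
structure Loc (P : Set (Subgroup G)) (A Q : Subgroup G) : Prop where
  /-- `Q ≤ M_A` -/
  le : ∀ q ∈ Q, cj q A = A
  /-- `Q` is a 2-group -/
  two : IsPGroup 2 ↥Q
  /-- `Q` is normal in `M_A` -/
  norm : ∀ g : G, cj g A = A → cj g Q = Q
  /-- `Q` is the largest normal 2-subgroup of `M_A` -/
  max2 : ∀ R : Subgroup G, IsPGroup 2 ↥R → (∀ r ∈ R, cj r A = A) →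
    (∀ g : G, cj g A = A → cj g R = R) → R ≤ Q
  /-- S1783 -/
  sq : ∀ B ∈ P, (∀ b ∈ B, cj b A = A) → ∀ b ∈ B, b * b ∈ Q
  /-- Baer-Suzuki -/
  bs : ∀ e : G, cj e A = A → e * e = 1 → e ∉ Q →
    ∃ x : G, cj x A = A ∧ x ≠ 1 ∧ Odd (orderOf x) ∧ e * x * e⁻¹ = x⁻¹
  /-- `M_A` is a maximal 2-local subgroup -/
  max : ∀ R : Subgroup G, IsPGroup 2 ↥R → R ≠ ⊥ → (∀ g : G, cj g A = A → cj g R = R) →
    ∀ g : G, cj g R = R → cj g A = A

end Cfsg.Agent.TIAbelian.CaseBLoc
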