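/-
helper198: S1779, case b, steps (b0) and (b1).
-/
import Cfsg.Agent.TIAbelian.CaseBK
import Cfsg.Agent.TIAbelian.CaseBLoc
import Cfsg.Agent.Lib.FrattiniPGroup
import Cfsg.Agent.S1782

set_option autoImplicit false
set_option maxHeartbeats 400000

namespace Cfsg.Agent.TIAbelian.CaseB1

open scoped commutatorElement
open Cfsg.Agent.TIAbelian.PairBase hiding TIFam
open Cfsg.Agent.TIAbelian.PairOmega
open Cfsg.Agent.TIAbelian.CaseBBase
open Cfsg.Agent.TIAbelian.CaseBGeo
open Cfsg.Agent.TIAbelian.CaseBLoc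
open Cfsg.Agent.TIAbelian.CaseBK
open Cfsg.Agent.TIAbelian.PairGeo (Om mem_Om one_mem_Om inv_Om conj_mem_Om_cj mem_Om_cj)

variable {G : Type*} [Group G] {P : Set (Subgroup G)}

theorem card_eq (h : Fam P) {A B : Subgroup G} (hA : A ∈ P) (hB : B ∈ P) :
    Nat.card A = Nat.card B := by
  obtain ⟨g, rfl⟩ := h.trans A hA B hB
  exact Nat.card_congr (A.equivMapOfInjective _ (MulAut.conj g).injective).toEquiv

/-- (S1782) members of the family contained in a common 2-group commute -/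
theorem comm2 [Finite G] (h : Fam P) {S : Subgroup G} (hS : IsPGroup 2 S) {B C : Subgroup G}
    (hB : B ∈ P) (hC : C ∈ P) (hBS : B ≤ S) (hCS : C ≤ S) : Cm B C := by
  classical
  have : Fact (Nat.Prime 2) := ⟨Nat.prime_two⟩
  by_cases hne : B = C
  · subst hne; exact h.comm B hB
  have hinj : Function.Injective (Subgroup.map S.subtype) :=
    Subgroup.map_injective S.subtype_injective
  have key := S1782.result hS {R : Subgroup S | R.map S.subtype ∈ P} (by
    intro s R hR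
    show (R.map (MulAut.conj s).toMonoidHom).map S.subtype ∈ P
    have h1 : (R.map (MulAut.conj s).toMonoidHom).map S.subtype = cj (s : G) (R.map S.subtype) := by
      unfold cj
      rw [Subgroup.map_map, Subgroup.map_map]
      congr 1
    rw [h1]
    exact h.conj _ hR s) (by
    intro R hR hF
    obtain ⟨c, hc, hcc⟩ := h.nonelem _ hR
    obtain ⟨r, hr, rfl⟩ := hc
    apply hcc
    have h1 := Lib.FrattiniPGroup.pow_mem_frattini (hS.to_subgroup R) (⟨r, hr⟩ : R)
    rw [hF, Subgroup.mem_bot] at h1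
    have h2 : r ^ 2 = 1 := congrArg Subtype.val h1
    rw [← map_mul, ← pow_two, h2, map_one]) (by
    intro R hR T hT
    have h1 := card_eq h hR hT
    rwa [Nat.card_congr (R.equivMapOfInjective _ S.subtype_injective).symm.toEquiv,
      Nat.card_congr (T.equivMapOfInjective _ S.subtype_injective).symm.toEquiv] at h1) (by
    intro R hR T hT
    by_cases h1 : R ⊓ T = ⊥
    · right; exact h1
    · left
      obtain ⟨⟨x, hxR, hxT⟩, hx1⟩ := Subgroup.ne_bot_iff_exists_ne_one.mp h1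
      apply hinj
      refine h.ti _ hR _ hT (x : G) ⟨x, hxR, rfl⟩ ⟨x, hxT, rfl⟩ ?_
      intro h0
      exact hx1 (Subtype.ext (Subtype.ext h0)))
    (B.subgroupOf S) (by
      show (B.subgroupOf S).map S.subtype ∈ P
      rw [Subgroup.subgroupOf_map_subtype, inf_eq_left.mpr hBS]; exact hB)
    (C.subgroupOf S) (by
      show (C.subgroupOf S).map S.subtype ∈ P
      rw [Subgroup.subgroupOf_map_subtype, inf_eq_left.mpr hCS]; exact hC) (by
      intro h1
      apply hne
      have h2 := congrArg (Subgroup.map S.subtype) h1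
      rwa [Subgroup.subgroupOf_map_subtype, Subgroup.subgroupOf_map_subtype,
        inf_eq_left.mpr hBS, inf_eq_left.mpr hCS] at h2)
  intro b hb c hc
  have h1 : ⁅(⟨b, hBS hb⟩ : S), (⟨c, hCS hc⟩ : S)⁆ ∈ ⁅B.subgroupOf S, C.subgroupOf S⁆ :=
    Subgroup.commutator_mem_commutator (Subgroup.mem_subgroupOf.mpr hb)
      (Subgroup.mem_subgroupOf.mpr hc)
  rw [key, Subgroup.mem_bot, commutatorElement_eq_one_iff_mul_comm] at h1
  exact congrArg Subtype.val h1

/-- the 2-group `Q B` -/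
theorem isPGroup_sup [Finite G] (h : Fam P) {A Q : Subgroup G} (hl : Loc P A Q) {B : Subgroup G}
    (hB : B ∈ P) (hn : ∀ b ∈ B, cj b A = A) : IsPGroup 2 (Q ⊔ B : Subgroup G) := by
  have : Fact (Nat.Prime 2) := ⟨Nat.prime_two⟩
  have hB2 : IsPGroup 2 B := by
    intro b
    obtain ⟨n, hn⟩ := h.two B hB b b.2
    exact ⟨n, Subtype.ext hn⟩
  refine hl.two.to_sup_of_normal_left' hB2 ?_
  intro b hb
  rw [Subgroup.mem_normalizer_iff_map_conj_eq]
  exact hl.norm b (hn b hb)

/-- (b0) -/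
theorem b0 [Finite G] (h : Fam P) {A Q : Subgroup G} (hA : A ∈ P) (hl : Loc P A Q)
    {B : Subgroup G} (hB : B ∈ P) (hAB : Cm A B) : ∀ e ∈ Om B, e ∈ Q := by
  intro e he
  by_contra heQ
  -- elements of `B` normalise `A`
  have hnA : ∀ b ∈ B, cj b A = A := by
    intro b hb
    obtain ⟨v, hv, hv1⟩ := exists_ne_one h hA
    exact h.norm_of_comm hA hv.1 hv1 (hAB v hv.1 b hb).symm
  -- an involution `y` of `B` in `Q`
  obtain ⟨y, hyB, hyQ, hy1, hyy⟩ : ∃ y ∈ B, y ∈ Q ∧ y ≠ 1 ∧ y * y = 1 := by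
    obtain ⟨c, hc, hcc⟩ := h.nonelem B hB
    obtain ⟨n, hn⟩ := h.two B hB c hc
    obtain ⟨k, hk1, hk2⟩ := two_descend c n hn (fun t => t * t = 1) (by simp) hcc
    exact ⟨_, B.mul_mem (B.pow_mem hc _) (B.pow_mem hc _),
      hl.sq B hB hnA _ (B.pow_mem hc _), hk1, hk2⟩
  obtain ⟨x, hxA, hx1, hxo, hex⟩ := hl.bs e (hnA e he.1) he.2 heQ
  have hxQ := hl.norm x hxA
  have hei : e⁻¹ = e := inv_Om he
  have hxe : e * x⁻¹ * e⁻¹ = x := by
    have h1 := congrArg (fun t => t⁻¹) hex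
    simpa [mul_assoc] using h1
  have hey : e * y = y * e := h.comm B hB _ he.1 _ hyB
  set g : G := x * y * x⁻¹ with hg
  have hgQ : g ∈ Q := conj_mem_of_cj hxQ hyQ
  have hgg : g * g = 1 := by
    have h1 : g * g = x * (y * y) * x⁻¹ := by rw [hg]; group
    rw [h1, hyy]; group
  have hgi : g⁻¹ = g := inv_eq_of_mul_eq_one_right hgg
  have hge : e * g * e⁻¹ = x⁻¹ * y * x := by
    calc e * g * e⁻¹ = (e * x * e⁻¹) * (e * y * e⁻¹) * (e * x⁻¹ * e⁻¹) := by rw [hg]; group
      _ = x⁻¹ * y * x := by rw [hex, hxe, hey, mul_inv_cancel_right]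
  -- `B` and `B^g` commute
  have hcm : Cm B (cj g B) := by
    have hS := isPGroup_sup h hl hB hnA
    refine comm2 h hS hB (h.conj B hB g) le_sup_right ?_
    rintro _ ⟨b, hb, rfl⟩
    show g * b * g⁻¹ ∈ Q ⊔ B
    exact mul_mem (mul_mem (Subgroup.mem_sup_left hgQ) (Subgroup.mem_sup_right hb))
      (inv_mem (Subgroup.mem_sup_left hgQ))
  have he1 : e * (g * e * g⁻¹) = (g * e * g⁻¹) * e := hcm e he.1 _ (conj_mem_cj he.1)
  -- `c = g (e g e⁻¹)⁻¹`
  set g' : G := e * g * e⁻¹ with hg'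
  have hgg' : g' * g' = 1 := by
    have h1 : g' * g' = e * (g * g) * e⁻¹ := by rw [hg']; group
    rw [h1, hgg]; group
  have hgi' : g'⁻¹ = g' := inv_eq_of_mul_eq_one_right hgg'
  have heg' : e * g' * e⁻¹ = g := by
    have h1 : e * g' * e⁻¹ = (e * e) * g * (e * e)⁻¹ := by rw [hg']; group
    rw [h1, he.2]; group
  -- `c := g * g'` commutes with `e`
  have hc1 : g * g' = g * e * g⁻¹ * e := by
    have h1 : g * g' = g * e * g * e⁻¹ := by rw [hg']; group
    rw [h1, hei, hgi]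
  have hc2 : e * (g * g') = (g * g') * e := by
    rw [hc1]
    calc e * (g * e * g⁻¹ * e) = (e * (g * e * g⁻¹)) * e := by group
      _ = g * e * g⁻¹ * e * e := by rw [he1]
  have hc3 : g' * g = g * g' := by
    have h1 : e * (g * g') * e⁻¹ = g' * g := by
      calc e * (g * g') * e⁻¹ = (e * g * e⁻¹) * (e * g' * e⁻¹) := by group
        _ = g' * g := by rw [heg', ← hg']
    rw [← h1, hc2, mul_inv_cancel_right]
  -- so `y` commutes with `x² y x⁻²`
  have hap : Ap B (cj (x * x) B) := by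
    refine ⟨y, hyB, x * x * y * (x * x)⁻¹, conj_mem_cj hyB, hy1, ?_, ?_⟩
    · intro h0
      apply hy1
      have := congrArg (fun t => (x * x)⁻¹ * t * (x * x)) h0
      simpa [mul_assoc] using this
    · have h1 : (x⁻¹ * y * x) * (x * y * x⁻¹) = (x * y * x⁻¹) * (x⁻¹ * y * x) := by
        rw [← hge]; exact hc3
      have h2 := congrArg (fun t => x * t * x⁻¹) h1
      have h3 : x * ((x⁻¹ * y * x) * (x * y * x⁻¹)) * x⁻¹ = y * (x * x * y * (x * x)⁻¹) := by group
      have h4 : x * ((x * y * x⁻¹) * (x⁻¹ * y * x)) * x⁻¹ = (x * x * y * (x * x)⁻¹) * y := by group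
      rw [← h3, ← h4]; exact h2
  have hcomm := comm_om h hB (h.conj B hB (x * x)) hap he (conj_mem_Om_cj (g := x * x) he)
  -- `x² e x⁻² = x⁴ e`
  have h4 : x * x * e * (x * x)⁻¹ = x * x * x * x * e := by
    have h5 : e * (x * x)⁻¹ = (x * x) * e := by
      have h6 : e * (x * x)⁻¹ * e⁻¹ = x * x := by
        calc e * (x * x)⁻¹ * e⁻¹ = (e * x⁻¹ * e⁻¹) * (e * x⁻¹ * e⁻¹) := by group
          _ = x * x := by rw [hxe]
      calc e * (x * x)⁻¹ = (e * (x * x)⁻¹ * e⁻¹) * e := by group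
        _ = (x * x) * e := by rw [h6]
    rw [mul_assoc (x * x) e, h5]; group
  rw [h4] at hcomm
  -- so `e` commutes with `x⁴`
  have h5 : e * (x * x * x * x) * e⁻¹ = x * x * x * x := by
    have h6 : e * (x * x * x * x) = x * x * x * x * e := by
      have h7 : e * (x * x * x * x) * e = x * x * x * x * e * e := by
        rw [mul_assoc]; exact hcomm
      exact mul_right_cancel h7
    rw [h6, mul_inv_cancel_right]
  have h6 : e * (x * x * x * x) * e⁻¹ = (x * x * x * x)⁻¹ := by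
    calc e * (x * x * x * x) * e⁻¹ = (e * x * e⁻¹) * (e * x * e⁻¹) * (e * x * e⁻¹) * (e * x * e⁻¹) := by
          group
      _ = (x * x * x * x)⁻¹ := by rw [hex]; group
  have h7 : x ^ 8 = 1 := by
    have h8 : (x * x * x * x) * (x * x * x * x) = 1 := by
      have h9 : x * x * x * x = (x * x * x * x)⁻¹ := h5.symm.trans h6
      calc (x * x * x * x) * (x * x * x * x) = (x * x * x * x) * (x * x * x * x)⁻¹ := by rw [← h9]
        _ = 1 := mul_inv_cancel _
    calc x ^ 8 = (x * x * x * x) * (x * x * x * x) := by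
          simp only [pow_succ, pow_zero, one_mul, mul_assoc]
      _ = 1 := h8
  have h8 : orderOf x ∣ 8 := orderOf_dvd_of_pow_eq_one h7
  have h9 : Nat.Coprime (orderOf x) 8 := by
    have : Nat.Coprime (orderOf x) (2 ^ 3) :=
      Nat.Coprime.pow_right 3 (Nat.coprime_two_right.mpr hxo)
    simpa using this
  have h10 : orderOf x = 1 := Nat.Coprime.eq_one_of_dvd h9 h8
  exact hx1 (orderOf_eq_one_iff.mp h10)

/-- (b1) -/
theorem b1 [Finite G] (h : Fam P) (hloc : ∀ A ∈ P, ∃ Q, Loc P A Q) :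
    ∀ A ∈ P, ∀ B ∈ P, ∀ C ∈ P, Cm A B → Cm A C → Ap B C := by
  intro A hA B hB C hC hAB hAC
  obtain ⟨Q, hl⟩ := hloc A hA
  have hnA : ∀ b ∈ C, cj b A = A := by
    intro b hb
    obtain ⟨v, hv, hv1⟩ := exists_ne_one h hA
    exact h.norm_of_comm hA hv.1 hv1 (hAC v hv.1 b hb).symm
  have hS := isPGroup_sup h hl hC hnA
  set S : Subgroup G := Q ⊔ C with hSdef
  set V : Subgroup G := Subgroup.closure {x : G | ∃ D ∈ P, D ≤ S ∧ x ∈ D} with hVdef
  have hgen : ∀ x ∈ {x : G | ∃ D ∈ P, D ≤ S ∧ x ∈ D}, ∀ y ∈ {x : G | ∃ D ∈ P, D ≤ S ∧ x ∈ D},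
      x * y = y * x := by
    rintro x ⟨D, hD, hDS, hx⟩ y ⟨E, hE, hES, hy⟩
    exact comm2 h hS hD hE hDS hES x hx y hy
  have hV : ∀ x ∈ V, ∀ y ∈ V, x * y = y * x := by
    intro x hx y hy
    have h1 := Subgroup.isMulCommutative_closure hgen
    exact congrArg Subtype.val (h1.is_comm.comm ⟨x, hx⟩ ⟨y, hy⟩)
  have hCV : C ≤ V := fun x hx => Subgroup.subset_closure ⟨C, hC, le_sup_right, hx⟩
  refine (ap_of_normV h hV hC hCV hB ?_).symm
  intro u hu
  have huS : u ∈ S := Subgroup.mem_sup_left (b0 h hA hl hB hAB u hu)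
  have hle : ∀ w ∈ S, ∀ y ∈ V, w * y * w⁻¹ ∈ V := by
    intro w hw y hy
    induction hy using Subgroup.closure_induction with
    | mem y hy =>
      obtain ⟨D, hD, hDS, hy⟩ := hy
      apply Subgroup.subset_closure
      refine ⟨cj w D, h.conj D hD w, ?_, conj_mem_cj hy⟩
      rintro _ ⟨d, hd, rfl⟩
      exact mul_mem (mul_mem hw (hDS hd)) (inv_mem hw)
    | one => simp [V.one_mem]
    | mul y z _ _ hy hz =>
      have : w * (y * z) * w⁻¹ = (w * y * w⁻¹) * (w * z * w⁻¹) := by simp [mul_assoc]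
      rw [this]
      exact V.mul_mem hy hz
    | inv y _ hy =>
      have : w * y⁻¹ * w⁻¹ = (w * y * w⁻¹)⁻¹ := by simp [mul_assoc]
      rw [this]
      exact V.inv_mem hy
  ext x
  rw [mem_cj]
  constructor
  · intro hx
    have := hle u huS _ hx
    simpa [mul_assoc] using this
  · intro hx
    have := hle u⁻¹ (inv_mem huS) _ hx
    simpa [mul_assoc] using this

end Cfsg.Agent.TIAbelian.CaseB1
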