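/-
helper262: S1779, pairs: the algebra forcing `q = 4`.
-/
import Mathlib

set_option autoImplicit false

namespace Cfsg.Agent.TIAbelian.PairAlg

theorem alg {β W : Type*} [Mul β] [AddCommGroup W] (F : β → AddMonoid.End W) (ξ sq : β → W)
    (b₀ : β) (hF : ∀ b c, F (b * c) = F b + F c) (hξ : ∀ b c, ξ (b * c) = ξ b + ξ c)
    (hFξ : ∀ b, F b (ξ b) = sq b) (hwd : ∀ b c, F b = F c → ξ b = ξ c) (h0 : F b₀ = 1)
    (hw : sq b₀ ≠ 0) (hinj : ∀ b, F b ≠ 0 → ∀ w, F b w = 0 → w = 0)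
    (h2 : ∀ b, F b ≠ 0 → ∃ c, F c = F b * F b ∧ sq c = F b (sq b₀))
    (char2 : ∀ w : W, w + w = 0) (b c : β) (hb0 : F b ≠ 0) (hb1 : F b ≠ 1) :
    F c = 0 ∨ F c = 1 ∨ F c = F b ∨ F c = F b + 1 := by
  have charR : ∀ r : AddMonoid.End W, r + r = 0 := by
    intro r
    ext w
    exact char2 (r w)
  have negR : ∀ r : AddMonoid.End W, -r = r := fun r => neg_eq_of_add_eq_zero_left (charR r)
  have hξ0 : ξ b₀ = sq b₀ := by
    have := hFξ b₀
    rw [h0] at this
    exact this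
  -- `f ξ(b₂) = w₀`
  have key1 : ∀ b, F b ≠ 0 → ∃ c, F c = F b * F b ∧ F b (ξ c) = sq b₀ := by
    intro b hb
    obtain ⟨c, hc1, hc2⟩ := h2 b hb
    refine ⟨c, hc1, ?_⟩
    have h3 := hFξ c
    rw [hc1, hc2] at h3
    have h4 : F b (F b (ξ c) - sq b₀) = 0 := by
      rw [map_sub, sub_eq_zero]
      exact h3
    exact sub_eq_zero.mp (hinj b hb _ h4)
  have key2 : ∀ b, F b ≠ 0 → F b ≠ 1 → F b * F b = F b + 1 := by
    intro b hb0 hb1
    obtain ⟨b₂, e1, e2⟩ := key1 b hb0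
    have hb1' : F (b * b₀) ≠ 0 := by
      rw [hF, h0]
      intro h3
      apply hb1
      have := eq_neg_of_add_eq_zero_left h3
      rwa [negR] at this
    obtain ⟨b₃, e3, e4⟩ := key1 (b * b₀) hb1'
    have e5 : F b₃ = F (b₂ * b₀) := by
      rw [e3, hF, hF, h0, e1, add_mul, mul_add, mul_one, one_mul]
      have : F b * F b + F b + (F b + 1) = F b * F b + 1 + (F b + F b) := by abel
      rw [this, charR, add_zero]
    have e6 := hwd _ _ e5
    rw [hξ, hξ0] at e6
    rw [e6, hF, h0] at e4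
    have e7 : F b (ξ b₂) + F b (sq b₀) + (ξ b₂ + sq b₀) = sq b₀ := by
      have h1 : (F b) (ξ b₂ + sq b₀) + (ξ b₂ + sq b₀) = sq b₀ := e4
      rwa [map_add] at h1
    rw [e2] at e7
    -- `ξ b₂ = f w₀ + w₀`
    have e8 : ξ b₂ = F b (sq b₀) + sq b₀ := by
      have h1 : ξ b₂ = (sq b₀ + F b (sq b₀) + (ξ b₂ + sq b₀)) - (F b (sq b₀)) - (sq b₀ + sq b₀) := by
        abel
      rw [h1, e7, char2, sub_zero]
      have h3 : sq b₀ - F b (sq b₀) = F b (sq b₀) + sq b₀ - (F b (sq b₀) + F b (sq b₀)) := by abel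
      rw [h3, char2, sub_zero]
    rw [e8, map_add] at e2
    -- `(f² + f + 1) w₀ = 0`
    have e9 : F (b₂ * b * b₀) = F b * F b + F b + 1 := by rw [hF, hF, h0, e1]
    have e10 : F (b₂ * b * b₀) (sq b₀) = 0 := by
      rw [e9]
      show F b (F b (sq b₀)) + F b (sq b₀) + sq b₀ = 0
      rw [e2, char2]
    have e11 : F (b₂ * b * b₀) = 0 := by
      by_contra h3
      exact hw (hinj _ h3 _ e10)
    rw [e9, add_assoc] at e11
    have := eq_neg_of_add_eq_zero_left e11
    rwa [negR] at this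
  by_contra hcon
  push Not at hcon
  obtain ⟨hc0, hc1, hcb, hcb1⟩ := hcon
  have hbc0 : F (b * c) ≠ 0 := by
    rw [hF]
    intro h3
    apply hcb
    have := eq_neg_of_add_eq_zero_right h3
    rwa [negR] at this
  have hbc1 : F (b * c) ≠ 1 := by
    rw [hF]
    intro h3
    apply hcb1
    have h4 : F c = (F b + F c) - F b := by abel
    rw [h4, h3, sub_eq_add_neg, negR, add_comm]
  have f1 := key2 b hb0 hb1
  have f2 := key2 c hc0 hc1
  have f3 := key2 (b * c) hbc0 hbc1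
  rw [hF] at f3
  set f := F b with hf
  set g := F c with hg
  have f4 : f * g + g * f = 1 := by
    have h1 : (f + g) * (f + g) = f * f + g * g + (f * g + g * f) := by noncomm_ring
    rw [h1, f1, f2] at f3
    have h5 : f * g + g * f = (f + 1 + (g + 1) + (f * g + g * f)) - (f + g + 1) - 1 := by abel
    rw [h5, f3, sub_self, zero_sub, negR]
  have f5 : g * f = 1 + f * g := by
    have h5 : g * f = (f * g + g * f) - f * g := by abel
    rw [h5, f4, sub_eq_add_neg, negR]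
  have f6 : g * (f * f) = g * f + g := by rw [f1, mul_add, mul_one]
  have f7 : g * (f * f) = f * g + g := by
    rw [← mul_assoc, f5, add_mul, one_mul, mul_assoc, f5, mul_add, mul_one, ← add_assoc, charR,
      zero_add, ← mul_assoc, f1, add_mul, one_mul]
  have f8 : g * f = f * g := add_right_cancel (f6.symm.trans f7)
  rw [f8, charR] at f4
  apply hw
  have : (1 : AddMonoid.End W) (sq b₀) = 0 := by rw [← f4]; rfl
  exact this

end Cfsg.Agent.TIAbelian.PairAlg
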