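/-
helper262: S1779, pairs: maximal cliques of the collinearity graph.
-/
import Cfsg.Agent.TIAbelian.PairLine

set_option autoImplicit false

namespace Cfsg.Agent.TIAbelian.PairClique

open Cfsg.Agent.TIAbelian.PairBase Cfsg.Agent.TIAbelian.PairOmega Cfsg.Agent.TIAbelian.PairGeo
open Cfsg.Agent.TIAbelian.PairLine

variable {G : Type*} [Group G]

/-- maximal cliques -/
structure MaxClique (P K : Set (Subgroup G)) : Prop where
  sub : ∀ C ∈ K, C ∈ P
  col : ∀ C ∈ K, ∀ D ∈ K, C ≠ D → Col C D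
  max : ∀ D ∈ P, (∀ C ∈ K, C ≠ D → Col C D) → D ∈ K

theorem exists_maxClique [Finite G] {P : Set (Subgroup G)} {A B : Subgroup G} (hA : A ∈ P)
    (hB : B ∈ P) (hc : Col A B) : ∃ K, MaxClique P K ∧ A ∈ K ∧ B ∈ K := by
  classical
  let p : Set (Subgroup G) → Prop := fun K =>
    (∀ C ∈ K, C ∈ P) ∧ (∀ C ∈ K, ∀ D ∈ K, C ≠ D → Col C D)
  have hp : p {A, B} := by
    constructor
    · rintro C (rfl | rfl)
      · exact hA
      · exact hB
    · rintro C (rfl | rfl) D (rfl | rfl) hne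
      · exact absurd rfl hne
      · exact hc
      · exact hc.symm
      · exact absurd rfl hne
  obtain ⟨K, hK1, hK2⟩ := Finite.exists_le_maximal hp
  refine ⟨K, ⟨hK2.prop.1, hK2.prop.2, ?_⟩, hK1 (Or.inl rfl), hK1 (Or.inr rfl)⟩
  intro D hD hD2
  have h1 : p (insert D K) := by
    constructor
    · rintro C (rfl | hC)
      · exact hD
      · exact hK2.prop.1 C hC
    · rintro C (rfl | hC) C' (rfl | hC') hne
      · exact absurd rfl hne
      · exact (hD2 C' hC' hne.symm).symm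
      · exact hD2 C hC hne
      · exact hK2.prop.2 C hC C' hC' hne
  exact hK2.le_of_ge h1 (Set.subset_insert D K) (Set.mem_insert D K)

/-- The subgroup generated by the `Ω₁(C)`, `C` in the clique. -/
def EE (K : Set (Subgroup G)) : Subgroup G := Subgroup.closure {x | ∃ C ∈ K, x ∈ Om C}

theorem mem_EE {K : Set (Subgroup G)} {C : Subgroup G} (hC : C ∈ K) {x : G} (hx : x ∈ Om C) :
    x ∈ EE K := Subgroup.subset_closure ⟨C, hC, hx⟩

section

variable {P : Set (Subgroup G)} (h : Geo P) {K : Set (Subgroup G)} (hK : MaxClique P K)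
include h hK

theorem gen_comm {x y : G} (hx : ∃ C ∈ K, x ∈ Om C) (hy : ∃ C ∈ K, y ∈ Om C) : x * y = y * x := by
  obtain ⟨C, hC, hx⟩ := hx
  obtain ⟨D, hD, hy⟩ := hy
  by_cases hCD : C = D
  · subst hCD
    exact h.comm C (hK.sub C hC) _ hx.1 _ hy.1
  · exact h.comm_om C (hK.sub C hC) D (hK.sub D hD) (hK.col C hC D hD hCD) x hx y hy

theorem EE_comm : ∀ x ∈ EE K, ∀ y ∈ EE K, x * y = y * x := by
  intro x hx y hy
  have h1 : EE K ≤ Subgroup.centralizer {x | ∃ C ∈ K, x ∈ Om C} := by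
    rw [EE, Subgroup.closure_le]
    intro z hz
    rw [SetLike.mem_coe, Subgroup.mem_centralizer_iff]
    intro w hw
    exact gen_comm h hK hw hz
  have h2 : EE K ≤ Subgroup.centralizer (EE K : Set G) := by
    rw [EE, Subgroup.closure_le]
    intro z hz
    rw [SetLike.mem_coe, Subgroup.mem_centralizer_iff]
    intro w hw
    exact (Subgroup.mem_centralizer_iff.1 (h1 hw) z hz).symm
  exact (Subgroup.mem_centralizer_iff.1 (h2 hx) y hy).symm

theorem EE_sq : ∀ x ∈ EE K, x * x = 1 := by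
  have hE := EE_comm h hK
  intro x hx
  have : ∀ x (hx : x ∈ Subgroup.closure {x | ∃ C ∈ K, x ∈ Om C}), x ∈ EE K ∧ x * x = 1 := by
    intro x hx
    induction hx using Subgroup.closure_induction with
    | mem x hx =>
      obtain ⟨C, hC, hx⟩ := hx
      exact ⟨mem_EE hC hx, hx.2⟩
    | one => exact ⟨(EE K).one_mem, by simp⟩
    | mul x y _ _ hx hy =>
      refine ⟨(EE K).mul_mem hx.1 hy.1, ?_⟩
      have : x * y * (x * y) = x * (y * x) * y := by simp only [mul_assoc]
      rw [this, hE y hy.1 x hx.1]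
      have : x * (x * y) * y = (x * x) * (y * y) := by simp only [mul_assoc]
      rw [this, hx.2, hy.2, one_mul]
    | inv x _ hx =>
      refine ⟨(EE K).inv_mem hx.1, ?_⟩
      rw [← mul_inv_rev, hx.2, inv_one]
  exact (this x hx).2

theorem mem_of_EE {D : Subgroup G} (hD : D ∈ P) {d : G} (hd : d ∈ D) (hd1 : d ≠ 1)
    (hdE : d ∈ EE K) : D ∈ K := by
  refine hK.max D hD ?_
  intro C hC hne
  obtain ⟨v, hv, hv1⟩ := exists_ne_Om h (hK.sub C hC)
  exact Geo.col_of_comm hne hv.1 hv1 hd hd1 (EE_comm h hK v (mem_EE hC hv) d hdE)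

theorem conj_EE {C : Subgroup G} (hC : C ∈ K) {c : G} (hc : c ∈ C) : cj c (EE K) = EE K := by
  refine cj_eq_of_forall (B := C) ?_ hc
  intro c hc u hu
  have h1 : EE K ≤ cj c⁻¹ (EE K) := by
    conv_lhs => rw [EE]
    rw [Subgroup.closure_le]
    rintro x ⟨D, hD, hx⟩
    rw [SetLike.mem_coe, mem_cj, inv_inv]
    by_cases hCD : D = C
    · subst hCD
      rw [h.comm D (hK.sub D hD) _ hc _ hx.1, mul_inv_cancel_right]
      exact mem_EE hD hx
    · have hb := h.brak D (hK.sub D hD) C (hK.sub C hC) (hK.col D hD C hC hCD) x hx c hc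
      have e : c * x * c⁻¹ = (c * x * c⁻¹ * x⁻¹) * x := by simp [mul_assoc]
      rw [e]
      exact (EE K).mul_mem (mem_EE hC hb) (mem_EE hD hx)
  have := h1 hu
  rwa [mem_cj, inv_inv] at this

theorem cj_mem_K {t : G} (ht : cj t (EE K) = EE K) {C : Subgroup G} (hC : C ∈ K) : cj t C ∈ K := by
  obtain ⟨v, hv, hv1⟩ := exists_ne_Om h (hK.sub C hC)
  refine mem_of_EE h hK (h.conj C (hK.sub C hC) t) (conj_mem_cj (g := t) hv.1) ?_ ?_
  · intro h0
    apply hv1
    have := congrArg (fun s => t⁻¹ * s * t) h0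
    simpa [mul_assoc] using this
  · have := conj_mem_cj (g := t) (mem_EE hC hv)
    rwa [ht] at this

/-- the fixed points on the clique of an element of `C` outside `Ω₁(C)`. -/
theorem fix_iff {C : Subgroup G} (hC : C ∈ K) {c : G} (hc : c ∈ C) (hcc : c * c ≠ 1)
    {D : Subgroup G} (hD : D ∈ K) : cj c D = D ↔ D = C := by
  constructor
  · intro h1
    by_contra h0
    exact hcc ((h.norm_iff D (hK.sub D hD) C (hK.sub C hC) (hK.col D hD C hC h0) c hc).1 h1)
  · rintro rfl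
    exact cj_self hc

theorem sq_fix {C : Subgroup G} (hC : C ∈ K) {c : G} (hc : c ∈ C)
    {D : Subgroup G} (hD : D ∈ K) : cj c (cj c D) = D := by
  rw [cj_cj]
  have h1 := h.sq_Om (hK.sub C hC) hc
  by_cases hCD : D = C
  · subst hCD
    exact cj_self h1.1
  · exact (h.norm_iff D (hK.sub D hD) C (hK.sub C hC) (hK.col D hD C hC hCD) _ h1.1).2 h1.2

theorem exists_fix [Finite G] (hne : K.Nonempty) {t : G} (tt : t * t = 1) (ht : cj t (EE K) = EE K) :
    ∃ B ∈ K, cj t B = B := by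
  obtain ⟨A, hA⟩ := hne
  obtain ⟨a, ha, haa⟩ := h.nonelem A (hK.sub A hA)
  refine parity K (fun Q => cj a Q) (fun Q => cj t Q)
    (fun Q hQ => cj_mem_K h hK (conj_EE h hK hA ha) hQ)
    (fun Q hQ => sq_fix h hK hA ha hQ) A hA
    (fun Q hQ => fix_iff h hK hA ha haa hQ)
    (fun Q hQ => cj_mem_K h hK ht hQ) ?_
  intro Q hQ
  show cj t (cj t Q) = Q
  rw [cj_cj, tt, cj_one]

/-- A `2`-group normalising `EE K` fixes a member of the clique. -/
theorem exists_fix_group [Finite G] (hne : K.Nonempty) (T : Subgroup G) (hT : IsPGroup 2 ↥T)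
    (hTE : ∀ t ∈ T, cj t (EE K) = EE K) : ∃ B ∈ K, ∀ t ∈ T, cj t B = B := by
  classical
  obtain ⟨A, hA⟩ := hne
  obtain ⟨a, ha, haa⟩ := h.nonelem A (hK.sub A hA)
  have : Fintype ↥K := Fintype.ofFinite _
  let F : Function.End ↥K := fun x => ⟨cj a x, cj_mem_K h hK (conj_EE h hK hA ha) x.2⟩
  have hF : F ^ 2 ^ 1 = 1 := by
    funext x
    apply Subtype.ext
    exact sq_fix h hK hA ha x.2
  have h1 := Equiv.Perm.card_fixedPoints_modEq hF
  have h3 : Fintype.card ↥(Function.fixedPoints F) = 1 := by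
    rw [Fintype.card_eq_one_iff]
    refine ⟨⟨⟨A, hA⟩, ?_⟩, ?_⟩
    · apply Subtype.ext
      exact (fix_iff h hK hA ha haa hA).2 rfl
    · rintro ⟨⟨x, hx⟩, hx2⟩
      apply Subtype.ext
      apply Subtype.ext
      exact (fix_iff h hK hA ha haa hx).1 (congrArg Subtype.val hx2)
  rw [h3] at h1
  have hodd : ¬ 2 ∣ Nat.card ↥K := by
    rw [Nat.card_eq_fintype_card]
    intro h0
    have h4 : Fintype.card ↥K ≡ 0 [MOD 2] := (Nat.modEq_zero_iff_dvd).2 h0
    exact absurd (h1.symm.trans h4) (by decide)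
  let _ : MulAction ↥T ↥K :=
    { smul := fun t C => ⟨cj (t : G) C, cj_mem_K h hK (hTE t t.2) C.2⟩
      one_smul := fun C => Subtype.ext (cj_one _)
      mul_smul := fun s t C => Subtype.ext (cj_cj (s : G) (t : G) (C : Subgroup G)).symm }
  have : Fact (Nat.Prime 2) := ⟨Nat.prime_two⟩
  obtain ⟨B, hB⟩ := hT.nonempty_fixed_point_of_prime_not_dvd_card ↥K hodd
  refine ⟨B, B.2, ?_⟩
  intro t ht
  exact congrArg Subtype.val (hB ⟨t, ht⟩)

end

end Cfsg.Agent.TIAbelian.PairClique
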