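/-
helper262: S1779, pairs: if every involution of a member normalising `EE K` lies in `EE K`, then
`EE K` is strongly closed.
-/
import Cfsg.Agent.TIAbelian.PairClique

set_option autoImplicit false

namespace Cfsg.Agent.TIAbelian.PairStrong

open Cfsg.Agent.TIAbelian.PairBase Cfsg.Agent.TIAbelian.PairOmega Cfsg.Agent.TIAbelian.PairGeo
open Cfsg.Agent.TIAbelian.PairLine Cfsg.Agent.TIAbelian.PairClique

variable {G : Type*} [Group G]

theorem cj_le_cj {g : G} {H K : Subgroup G} (hHK : H ≤ K) : cj g H ≤ cj g K := by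
  intro x hx
  rw [mem_cj] at hx ⊢
  exact hHK hx

theorem isPGroup_cj {g : G} {H : Subgroup G} (hH : IsPGroup 2 ↥H) : IsPGroup 2 ↥(cj g H) :=
  hH.map _

theorem exists_norm [Finite G] {S S₁ : Subgroup G} (hS : IsPGroup 2 ↥S) (hle : S₁ ≤ S)
    (hne : S₁ ≠ S) : ∃ g ∈ S, g ∉ S₁ ∧ cj g S₁ = S₁ := by
  have : Fact (Nat.Prime 2) := ⟨Nat.prime_two⟩
  have hnil := hS.isNilpotent
  have hlt : S₁.subgroupOf S < ⊤ := by
    rw [lt_top_iff_ne_top]
    intro h0
    rw [Subgroup.subgroupOf_eq_top] at h0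
    exact hne (le_antisymm hle h0)
  have h1 := Group.normalizerCondition_of_isNilpotent (G := ↥S) _ hlt
  obtain ⟨g, hg1, hg2⟩ := Set.exists_of_ssubset h1
  refine ⟨g, g.2, ?_, ?_⟩
  · intro h0
    exact hg2 (Subgroup.mem_subgroupOf.2 h0)
  · have h2 := fun y => (Subgroup.mem_normalizer_iff.1 hg1 y)
    ext x
    rw [mem_cj]
    constructor
    · intro hx
      have h3 := (h2 ⟨_, hle hx⟩).1 (Subgroup.mem_subgroupOf.2 hx)
      rw [Subgroup.mem_subgroupOf] at h3
      simpa [mul_assoc] using h3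
    · intro hx
      have h4 : (g : G)⁻¹ * x * g ∈ S := S.mul_mem (S.mul_mem (S.inv_mem g.2) (hle hx)) g.2
      have h3 := (h2 ⟨_, h4⟩).2 (by
        rw [Subgroup.mem_subgroupOf]
        simpa [mul_assoc] using hx)
      exact Subgroup.mem_subgroupOf.1 h3

/-- Two `2`-subgroups of `L` are, after conjugating one inside `L`, in a common `2`-subgroup. -/
theorem exists_common [Finite G] {L Q R : Subgroup G} (hQL : Q ≤ L) (hRL : R ≤ L)
    (hQ : IsPGroup 2 ↥Q) (hR : IsPGroup 2 ↥R) :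
    ∃ l ∈ L, ∃ S : Subgroup G, IsPGroup 2 ↥S ∧ cj l Q ≤ S ∧ R ≤ S := by
  have : Fact (Nat.Prime 2) := ⟨Nat.prime_two⟩
  have hQ' : IsPGroup 2 ↥(Q.subgroupOf L) :=
    hQ.comap_of_injective L.subtype L.subtype_injective
  have hR' : IsPGroup 2 ↥(R.subgroupOf L) :=
    hR.comap_of_injective L.subtype L.subtype_injective
  obtain ⟨SQ, hSQ⟩ := hQ'.exists_le_sylow
  obtain ⟨SR, hSR⟩ := hR'.exists_le_sylow
  obtain ⟨l, hl⟩ := MulAction.exists_smul_eq ↥L SQ SR
  refine ⟨l, l.2, (SR : Subgroup ↥L).map L.subtype, SR.2.map _, ?_, ?_⟩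
  · intro x hx
    rw [mem_cj] at hx
    have h1 : (⟨(l : G)⁻¹ * x * l, hQL hx⟩ : ↥L) ∈ (SQ : Subgroup ↥L) :=
      hSQ (Subgroup.mem_subgroupOf.2 hx)
    have hxL : x ∈ L := by
      have := L.mul_mem (L.mul_mem l.2 (hQL hx)) (L.inv_mem l.2)
      simpa [mul_assoc] using this
    refine ⟨⟨x, hxL⟩, ?_, rfl⟩
    rw [← hl]
    show _ ∈ ((l • SQ : Sylow 2 ↥L) : Subgroup ↥L)
    rw [Sylow.coe_subgroup_smul, Subgroup.mem_pointwise_smul_iff_inv_smul_mem]
    convert h1 using 1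
    apply Subtype.ext
    simp [MulAut.smul_def]
  · intro x hx
    exact ⟨⟨x, hRL hx⟩, hSR (Subgroup.mem_subgroupOf.2 hx), rfl⟩

section

variable {P : Set (Subgroup G)} (h : Geo P)
include h

/-- `Ω₁(C)` as a subgroup. -/
def OmS {C : Subgroup G} (hC : C ∈ P) : Subgroup G where
  carrier := Om C
  one_mem' := one_mem_Om C
  mul_mem' := fun hx hy => h.mul_Om hC hx hy
  inv_mem' := fun {x} hx => by
    rw [inv_Om hx]
    exact hx

omit h in
theorem isPGroup_of_sq {H : Subgroup G} (hH : ∀ x ∈ H, x * x = 1) : IsPGroup 2 ↥H := by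
  intro x
  refine ⟨1, ?_⟩
  apply Subtype.ext
  simpa [pow_two] using hH x x.2

variable {K : Set (Subgroup G)} (hK : MaxClique P K)
include hK

theorem lemFK [Finite G] {t : G} (tt : t * t = 1) (ht : cj t (EE K) = EE K)
    (hcomm : ∀ C ∈ K, cj t C = C → ∀ v ∈ Om C, t * v = v * t) {A B : Subgroup G} (hA : A ∈ K)
    (hB : B ∈ K) (hAt : cj t A ≠ A) (hBt : cj t B = B) :
    (∀ x ∈ Om A, x * (t * x * t⁻¹) ∈ Om B) ∧ (∀ v ∈ Om B, ∃ x ∈ Om A, v = x * (t * x * t⁻¹)) := by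
  have hne : A ≠ B := by
    rintro rfl
    exact hAt hBt
  have hA' := cj_mem_K h hK ht hA
  refine lemF h (hK.sub A hA) (hK.sub B hB) (hK.col A hA B hB hne) tt hBt (hcomm B hB hBt)
    (hK.col A hA _ hA' (Ne.symm hAt)) ?_
  intro Q hQ hQ2 hQ3
  refine hcomm Q ?_ hQ3
  obtain ⟨v, hv, hv1⟩ := exists_ne_Om h hQ
  refine mem_of_EE h hK hQ hv.1 hv1 ?_
  obtain ⟨x, hx, x', hx', rfl⟩ := hQ2 v hv
  exact (EE K).mul_mem (mem_EE hA hx) (mem_EE hA' hx')

variable (H1 : ∀ C ∈ P, ∀ c ∈ Om C, cj c (EE K) = EE K → c ∈ EE K)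
include H1

theorem W0 [Finite G] {S : Subgroup G} (hS : IsPGroup 2 ↥S) (hES : EE K ≤ S) :
    ∀ s ∈ S, cj s (EE K) = EE K := by
  set S₁ : Subgroup G := S ⊓ stb (EE K) with hS₁
  have hE1 : EE K ≤ S₁ := fun x hx => ⟨hES hx, cj_self hx⟩
  have key : ∀ g : G, cj g S₁ = S₁ → cj g (EE K) ≤ EE K := by
    intro g hg x hx
    rw [mem_cj] at hx
    have h1 : EE K ≤ cj g⁻¹ (EE K) := by
      conv_lhs => rw [EE]
      rw [Subgroup.closure_le]
      rintro y ⟨C, hC, hy⟩
      rw [SetLike.mem_coe, mem_cj, inv_inv]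
      refine H1 (cj g C) (h.conj C (hK.sub C hC) g) _ (conj_mem_Om_cj hy) ?_
      have h2 := conj_mem_of_cj hg (hE1 (mem_EE hC hy))
      exact h2.2
    have := h1 hx
    rw [mem_cj] at this
    simpa [mul_assoc] using this
  have hSS : S₁ = S := by
    by_contra h0
    obtain ⟨g, hgS, hg1, hg2⟩ := exists_norm hS inf_le_left h0
    apply hg1
    refine ⟨hgS, ?_⟩
    show cj g (EE K) = EE K
    refine le_antisymm (key g hg2) ?_
    have h1 := key g⁻¹ (cj_inv_eq hg2)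
    have h2 := cj_le_cj (g := g) h1
    rwa [cj_cj_inv] at h2
  intro s hs
  rw [← hSS] at hs
  exact hs.2

theorem W1 [Finite G] {S : Subgroup G} (hS : IsPGroup 2 ↥S) {g : G} (hES : cj g (EE K) ≤ S) :
    ∀ C ∈ P, ∀ c ∈ Om C, c ∈ S → c ∈ cj g (EE K) := by
  intro C hC c hc hcS
  have h1 : EE K ≤ cj g⁻¹ S := by
    have := cj_le_cj (g := g⁻¹) hES
    rwa [cj_inv_cj] at this
  have h2 := W0 h hK H1 (isPGroup_cj (g := g⁻¹) hS) h1
  rw [mem_cj]
  have h3 : g⁻¹ * c * g ∈ Om (cj g⁻¹ C) := by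
    rw [mem_Om_cj]
    simpa [mul_assoc] using hc
  refine H1 _ (h.conj C hC g⁻¹) _ h3 (h2 _ ?_)
  rw [mem_cj]
  simpa [mul_assoc] using hcS

/-- `EE K` is strongly closed in every `2`-subgroup containing it. -/
theorem strong [Finite G] (hne : K.Nonempty) {T : Subgroup G} (hT : IsPGroup 2 ↥T)
    (hET : EE K ≤ T) : ∀ x ∈ EE K, ∀ g : G, g * x * g⁻¹ ∈ T → g * x * g⁻¹ ∈ EE K := by
  intro x hx g hxT
  set t := g * x * g⁻¹ with htdef
  by_cases ht1 : t = 1
  · rw [ht1]; exact (EE K).one_mem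
  have tE' : t ∈ cj g (EE K) := conj_mem_cj hx
  have hE2 : IsPGroup 2 ↥(EE K) := isPGroup_of_sq (EE_sq h hK)
  set L := Subgroup.centralizer {t} with hLdef
  have memL : ∀ y, y ∈ L ↔ y * t = t * y := by
    intro y
    rw [hLdef, Subgroup.mem_centralizer_singleton_iff]
  have hcomm' : ∀ k : G, ∀ y ∈ cj k (EE K), ∀ z ∈ cj k (EE K), y * z = z * y := by
    intro k y hy z hz
    rw [mem_cj] at hy hz
    have := EE_comm h hK _ hy _ hz
    have h2 := congrArg (fun s => k * s * k⁻¹) this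
    simpa [mul_assoc] using h2
  have hE'L : cj g (EE K) ≤ L := fun y hy => (memL y).2 (hcomm' g y hy t tE')
  have hCTL : T ⊓ L ≤ L := inf_le_right
  obtain ⟨l, hl, R, hR, hR1, hR2⟩ := exists_common hE'L hCTL (isPGroup_cj hE2)
    (hT.to_le inf_le_left)
  rw [cj_cj] at hR1
  set k := l * g with hk
  have tE : t ∈ cj k (EE K) := by
    rw [hk, ← cj_cj, mem_cj]
    have : l⁻¹ * t * l = t := by
      rw [mul_assoc, ← (memL l).1 hl, inv_mul_cancel_left]
    rwa [this]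
  have tt : t * t = 1 := by
    rw [mem_cj] at tE
    have := EE_sq h hK _ tE
    have h2 := congrArg (fun s => k * s * k⁻¹) this
    simpa [mul_assoc] using h2
  have hW := W1 h hK H1 hR hR1
  -- members meeting `E''`
  have hin : ∀ D ∈ P, ∀ d ∈ D, d ≠ 1 → d ∈ cj k (EE K) → ∀ v ∈ Om D, v ∈ cj k (EE K) := by
    intro D hD d hd hd1 hdE v hv
    rw [mem_cj] at hdE
    have h1 : cj k⁻¹ D ∈ K := by
      refine mem_of_EE h hK (h.conj D hD k⁻¹) (d := k⁻¹ * d * k) ?_ ?_ hdE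
      · rw [mem_cj]
        simpa [mul_assoc] using hd
      · intro h0
        apply hd1
        have := congrArg (fun s => k * s * k⁻¹) h0
        simpa [mul_assoc] using this
    rw [mem_cj]
    refine mem_EE h1 ?_
    rw [mem_Om_cj]
    simpa [mul_assoc] using hv
  have hfixcomm : ∀ C ∈ K, cj t C = C → ∀ v ∈ Om C, t * v = v * t := by
    intro C hC hCt
    -- a nontrivial element of `Om C` centralised by `t`
    obtain ⟨c, hc, hc1, hct⟩ : ∃ c ∈ Om C, c ≠ 1 ∧ t * c = c * t := by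
      obtain ⟨v, hv, hv1⟩ := exists_ne_Om h (hK.sub C hC)
      have hw : t * v * t⁻¹ ∈ Om C := by
        have := conj_mem_Om_cj (g := t) hv
        rwa [hCt] at this
      by_cases h0 : t * v * t⁻¹ = v
      · exact ⟨v, hv, hv1, eq_comm_iff.2 h0⟩
      · refine ⟨v * (t * v * t⁻¹), h.mul_Om (hK.sub C hC) hv hw, ?_, ?_⟩
        · intro h3
          apply h0
          exact mul_left_cancel (h3.trans hv.2.symm)
        · rw [eq_comm_iff]
          have h3 : t * (v * (t * v * t⁻¹)) * t⁻¹ = (t * v * t⁻¹) * ((t * t) * v * (t * t)⁻¹) := by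
            simp [mul_assoc]
          rw [h3, tt]
          simp only [one_mul, inv_one, mul_one]
          exact h.comm C (hK.sub C hC) _ hw.1 _ hv.1
    have hcE : c ∈ cj k (EE K) := by
      refine hW C (hK.sub C hC) c hc (hR2 ⟨hET (mem_EE hC hc), ?_⟩)
      exact (memL c).2 hct.symm
    intro v hv
    exact hcomm' k t tE v (hin C (hK.sub C hC) c hc.1 hc1 hcE v hv)
  have htE : cj t (EE K) = EE K := W0 h hK H1 hT hET t hxT
  obtain ⟨B, hB, hBt⟩ := exists_fix h hK hne tt htE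
  by_cases hall : ∀ A ∈ K, ∀ y ∈ Om A, t * y = y * t
  · -- `t` centralises `E`
    have h1 : EE K ≤ cj k (EE K) := by
      conv_lhs => rw [EE]
      rw [Subgroup.closure_le]
      rintro y ⟨A, hA, hy⟩
      refine hW A (hK.sub A hA) y hy (hR2 ⟨hET (mem_EE hA hy), ?_⟩)
      exact (memL y).2 (hall A hA y hy).symm
    have h2 : EE K = cj k (EE K) := by
      refine Subgroup.eq_of_le_of_card_ge h1 ?_
      exact (Nat.card_congr ((EE K).equivMapOfInjective _ (MulAut.conj k).injective).toEquiv).ge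
    rw [h2]
    exact tE
  · exfalso
    push Not at hall
    obtain ⟨A, hA, x₁, hx₁, hx₁t⟩ := hall
    have hAt : cj t A ≠ A := fun h0 => hx₁t (hfixcomm A hA h0 x₁ hx₁)
    have hF := (lemFK h hK tt htE hfixcomm hA hB hAt hBt).1
    have hne' : A ≠ B := by
      rintro rfl
      exact hAt hBt
    have cAB := h.comm_om A (hK.sub A hA) B (hK.sub B hB) (hK.col A hA B hB hne')
    obtain ⟨w, hw, hw1⟩ := exists_ne_Om h (hK.sub B hB)
    have hBE : ∀ v ∈ Om B, v ∈ cj k (EE K) := by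
      have hwE : w ∈ cj k (EE K) := by
        refine hW B (hK.sub B hB) w hw (hR2 ⟨hET (mem_EE hB hw), ?_⟩)
        exact (memL w).2 (hfixcomm B hB hBt w hw).symm
      exact hin B (hK.sub B hB) w hw.1 hw1 hwE
    let L₂ : Subgroup G :=
      { carrier := {y | (∀ v ∈ Om B, y * v = v * y) ∧ y * t * y⁻¹ * t⁻¹ ∈ Om B}
        one_mem' := ⟨by simp, by simpa using one_mem_Om B⟩
        mul_mem' := by
          rintro y z ⟨hy1, hy2⟩ ⟨hz1, hz2⟩
          refine ⟨fun v hv => by rw [mul_assoc, hz1 v hv, ← mul_assoc, hy1 v hv, mul_assoc], ?_⟩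
          have e1 : y * z * t * (y * z)⁻¹ * t⁻¹
              = (y * (z * t * z⁻¹ * t⁻¹)) * (t * y⁻¹ * t⁻¹) := by simp [mul_assoc]
          rw [e1, hy1 _ hz2]
          have e2 : z * t * z⁻¹ * t⁻¹ * y * (t * y⁻¹ * t⁻¹)
              = (z * t * z⁻¹ * t⁻¹) * (y * t * y⁻¹ * t⁻¹) := by simp [mul_assoc]
          rw [e2]
          exact h.mul_Om (hK.sub B hB) hz2 hy2
        inv_mem' := by
          rintro y ⟨hy1, hy2⟩
          have hyi : ∀ v ∈ Om B, y⁻¹ * v = v * y⁻¹ := by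
            intro v hv
            have := congrArg (fun s => y⁻¹ * s * y⁻¹) (hy1 v hv)
            simpa [mul_assoc] using this.symm
          refine ⟨hyi, ?_⟩
          have e1 : y⁻¹ * t * y⁻¹⁻¹ * t⁻¹ = (y⁻¹ * (y * t * y⁻¹ * t⁻¹)⁻¹) * y := by simp [mul_assoc]
          rw [e1, inv_Om hy2, hyi _ hy2, mul_assoc, inv_mul_cancel, mul_one]
          exact hy2 }
    have hQL : OmS h (hK.sub A hA) ≤ L₂ := by
      intro y hy
      have hy' : y ∈ Om A := hy
      refine ⟨fun v hv => cAB y hy' v hv, ?_⟩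
      have e1 : y * t * y⁻¹ * t⁻¹ = y * (t * y * t⁻¹) := by
        conv_lhs => rw [inv_Om hy']
        simp only [mul_assoc]
      rw [e1]
      exact hF y hy'
    have hEL : cj k (EE K) ≤ L₂ := by
      intro y hy
      refine ⟨fun v hv => hcomm' k y hy v (hBE v hv), ?_⟩
      rw [hcomm' k y hy t tE]
      simpa using one_mem_Om B
    obtain ⟨m, hm, S, hS, hS1, hS2⟩ := exists_common hQL hEL
      (isPGroup_of_sq fun y hy => (show y ∈ Om A from hy).2) (isPGroup_cj hE2)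
    have hmx : m * x₁ * m⁻¹ ∈ cj k (EE K) := by
      refine W1 h hK H1 hS hS2 (cj m A) (h.conj A (hK.sub A hA) m) _ (conj_mem_Om_cj hx₁) ?_
      exact hS1 (conj_mem_cj (show x₁ ∈ OmS h (hK.sub A hA) from hx₁))
    have hmt := hcomm' k t tE _ hmx
    have hmi := L₂.inv_mem hm
    obtain ⟨hmi1, hmi2⟩ := hmi
    set v := m⁻¹ * t * m⁻¹⁻¹ * t⁻¹ with hv
    apply hx₁t
    have e1 : m⁻¹ * t * m = v * t := by rw [hv]; simp [mul_assoc]
    have e2 : (v * t) * x₁ = x₁ * (v * t) := by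
      rw [← e1]
      have := congrArg (fun s => m⁻¹ * s * m) hmt
      simpa [mul_assoc] using this
    have e3 : v * (t * x₁) = v * (x₁ * t) := by
      rw [← mul_assoc v, e2, ← mul_assoc x₁, cAB x₁ hx₁ v hmi2, mul_assoc v]
    exact mul_left_cancel e3

end

end Cfsg.Agent.TIAbelian.PairStrong
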