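/-
helper262: S1779, pairs: case (II), two full lines through `B`.
-/
import Cfsg.Agent.TIAbelian.PairStrong

set_option autoImplicit false

namespace Cfsg.Agent.TIAbelian.PairTwo

open Cfsg.Agent.TIAbelian.PairBase Cfsg.Agent.TIAbelian.PairOmega Cfsg.Agent.TIAbelian.PairGeo
open Cfsg.Agent.TIAbelian.PairLine Cfsg.Agent.TIAbelian.PairClique Cfsg.Agent.TIAbelian.PairStrong

variable {G : Type*} [Group G]

/-- Two neighbours `A`, `C` of `B` with `[V_A, V_C] = V_B`. -/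
structure TwoLines (P : Set (Subgroup G)) (A B C : Subgroup G) : Prop where
  hA : A ∈ P
  hB : B ∈ P
  hC : C ∈ P
  AB : Col A B
  CB : Col C B
  br : ∀ x ∈ Om A, ∀ y ∈ Om C, x ≠ 1 → y ≠ 1 →
    x * y * x⁻¹ * y⁻¹ ∈ Om B ∧ x * y * x⁻¹ * y⁻¹ ≠ 1

section

variable {P : Set (Subgroup G)} (h : Geo P)
include h

theorem col_of_norm {C D : Subgroup G} (hD : D ∈ P) (hne : C ≠ D) {t : G}
    (ht : t ∈ C) (ht1 : t ≠ 1) (tt : t * t = 1) (htD : cj t D = D) : Col C D := by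
  obtain ⟨v, hv, hv1⟩ := exists_ne_Om h hD
  have hw : t * v * t⁻¹ ∈ Om D := by
    have := conj_mem_Om_cj (g := t) hv
    rwa [htD] at this
  by_cases h0 : t * v * t⁻¹ = v
  · exact Geo.col_of_comm hne ht ht1 hv.1 hv1 (eq_comm_iff.2 h0)
  · refine Geo.col_of_comm hne ht ht1 (D.mul_mem hv.1 hw.1) ?_ (?_ : t * (v * (t * v * t⁻¹)) = _)
    · intro h3
      apply h0
      exact mul_left_cancel (h3.trans hv.2.symm)
    · rw [eq_comm_iff]
      have h3 : t * (v * (t * v * t⁻¹)) * t⁻¹ = (t * v * t⁻¹) * ((t * t) * v * (t * t)⁻¹) := by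
        simp [mul_assoc]
      rw [h3, tt]
      simp only [one_mul, inv_one, mul_one]
      exact h.comm D hD _ hw.1 _ hv.1

omit h in
theorem symm_of {A B C : Subgroup G} (hT : TwoLines P A B C) : TwoLines P C B A := by
  refine ⟨hT.hC, hT.hB, hT.hA, hT.CB, hT.AB, ?_⟩
  intro x hx y hy hx1 hy1
  obtain ⟨h1, h2⟩ := hT.br y hy x hx hy1 hx1
  have e : x * y * x⁻¹ * y⁻¹ = (y * x * y⁻¹ * x⁻¹)⁻¹ := by simp [mul_assoc]
  rw [e, inv_Om h1]
  exact ⟨h1, h2⟩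

theorem conj_of {A B C : Subgroup G} (hT : TwoLines P A B C) (g : G) :
    TwoLines P (cj g A) (cj g B) (cj g C) := by
  refine ⟨h.conj _ hT.hA g, h.conj _ hT.hB g, h.conj _ hT.hC g, PairGeo.Col.cj hT.AB g,
    PairGeo.Col.cj hT.CB g, ?_⟩
  intro x hx y hy hx1 hy1
  obtain ⟨h1, h2⟩ := hT.br _ (mem_Om_cj.1 hx) _ (mem_Om_cj.1 hy) (by
      intro h0
      apply hx1
      have := congrArg (fun t => g * t * g⁻¹) h0
      simpa [mul_assoc] using this) (by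
      intro h0
      apply hy1
      have := congrArg (fun t => g * t * g⁻¹) h0
      simpa [mul_assoc] using this)
  have e : x * y * x⁻¹ * y⁻¹ = g * ((g⁻¹ * x * g) * (g⁻¹ * y * g) * (g⁻¹ * x * g)⁻¹
      * (g⁻¹ * y * g)⁻¹) * g⁻¹ := by simp [mul_assoc]
  rw [e]
  refine ⟨conj_mem_Om_cj h1, ?_⟩
  intro h0
  apply h2
  have := congrArg (fun t => g⁻¹ * t * g) h0
  simpa [mul_assoc] using this

/-- Case (II): an involution of a member normalising `EE K` but not in `EE K`. -/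
theorem exists_twoLines [Finite G] {K : Set (Subgroup G)} (hK : MaxClique P K) (hne : K.Nonempty)
    (hII : ∃ C ∈ P, ∃ c ∈ Om C, cj c (EE K) = EE K ∧ c ∉ EE K) :
    ∃ A ∈ K, ∃ B ∈ K, ∃ C, TwoLines P A B C := by
  obtain ⟨C, hC, c, hc, hcE, hcn⟩ := hII
  have hc1 : c ≠ 1 := by
    rintro rfl
    exact hcn (EE K).one_mem
  have hCK : C ∉ K := fun h0 => hcn (mem_EE h0 hc)
  have hfix : ∀ D ∈ K, cj c D = D → ∀ v ∈ Om D, c * v = v * c := by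
    intro D hD hcD v hv
    have hCD : C ≠ D := by
      rintro rfl
      exact hCK hD
    exact h.comm_om C hC D (hK.sub D hD)
      (col_of_norm h (hK.sub D hD) hCD hc.1 hc1 hc.2 hcD) c hc v hv
  obtain ⟨B, hB, hcB⟩ := exists_fix h hK hne hc.2 hcE
  obtain ⟨A, hA, x₁, hx₁, hx₁c⟩ : ∃ A ∈ K, ∃ x ∈ Om A, c * x ≠ x * c := by
    by_contra hcon
    push Not at hcon
    apply hCK
    refine hK.max C hC ?_
    intro D hD hne'
    obtain ⟨v, hv, hv1⟩ := exists_ne_Om h (hK.sub D hD)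
    exact Geo.col_of_comm hne' hv.1 hv1 hc.1 hc1 (hcon D hD v hv).symm
  have hcA : cj c A ≠ A := fun h0 => hx₁c (hfix A hA h0 x₁ hx₁)
  have hF := (lemFK h hK hc.2 hcE hfix hA hB hcA hcB).1
  have hAB : A ≠ B := by
    rintro rfl
    exact hcA hcB
  have hCB : C ≠ B := by
    rintro rfl
    exact hCK hB
  have cAB := hK.col A hA B hB hAB
  have cCB := col_of_norm h (hK.sub B hB) hCB hc.1 hc1 hc.2 hcB
  have hAC : A ≠ C := by
    rintro rfl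
    exact hCK hA
  refine ⟨A, hA, B, hB, C, hK.sub A hA, hK.sub B hB, hC, cAB, cCB, ?_⟩
  intro x hx y hy hx1 hy1
  have hxi := inv_Om hx
  -- `v = x (c x c⁻¹) ∈ V_B`
  set v := x * (c * x * c⁻¹) with hv
  have hvB : v ∈ Om B := hF x hx
  have hcv : c * v = v * c := h.comm_om C hC B (hK.sub B hB) cCB c hc v hvB
  have e1 : x * c * x⁻¹ = v * c := by
    rw [hv, hxi]
    simp [mul_assoc]
  have hCx : C ≠ cj x C := by
    intro h0
    have h1 : x * c * x⁻¹ ∈ C := by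
      rw [h0]
      exact conj_mem_cj hc.1
    rw [e1] at h1
    have h2 : v ∈ C := by
      have := C.mul_mem h1 (C.inv_mem hc.1)
      simpa using this
    have h3 : v = 1 := by
      by_contra h4
      exact hCB (h.ti C hC B (hK.sub B hB) v h2 hvB.1 h4)
    rw [h3, one_mul, mul_inv_eq_iff_eq_mul] at e1
    -- `c` commutes with `x`, so `c` normalises `A`
    exact hcA (h.norm_of_comm (hK.sub A hA) hx.1 hx1 e1.symm)
  have cCx : Col C (cj x C) := by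
    refine Geo.col_of_comm hCx hc.1 hc1 (conj_mem_cj (g := x) hc.1) ?_ ?_
    · intro h0
      apply hc1
      have := congrArg (fun t => x⁻¹ * t * x) h0
      simpa [mul_assoc] using this
    · rw [e1, ← mul_assoc, hcv]
  have hF2 := (lemF h hC (hK.sub B hB) cCB hx.2
    ((h.norm_iff B (hK.sub B hB) A (hK.sub A hA) cAB.symm x hx.1).2 hx.2)
    (fun w hw => h.comm_om A (hK.sub A hA) B (hK.sub B hB) cAB x hx w hw) cCx (by
      intro Q hQ _ hxQ w hw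
      by_cases hQA : A = Q
      · subst hQA
        exact h.comm A hQ _ hx.1 _ hw.1
      · exact h.comm_om A (hK.sub A hA) Q hQ
          (col_of_norm h hQ hQA hx.1 hx1 hx.2 hxQ) x hx w hw)).1 y hy
  have hyB : ∀ w ∈ Om B, y * w = w * y := fun w hw => h.comm_om C hC B (hK.sub B hB) cCB y hy w hw
  have e2 : x * y * x⁻¹ * y⁻¹ = y * (x * y * x⁻¹) := by
    have h1 := hyB _ hF2
    have h2 : y * (y * (x * y * x⁻¹)) = x * y * x⁻¹ := by rw [← mul_assoc, hy.2, one_mul]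
    have h3 : x * y * x⁻¹ = y * (x * y * x⁻¹) * y := h2.symm.trans h1
    rw [mul_inv_eq_iff_eq_mul]
    exact h3
  rw [e2]
  refine ⟨hF2, ?_⟩
  intro h0
  apply hCx
  have h3 : x * y * x⁻¹ = y := by
    have := congrArg (fun t => y * t) h0
    simp only [mul_one] at this
    rw [← mul_assoc, hy.2, one_mul] at this
    exact this
  exact (h.norm_of_comm hC hy.1 hy1 (eq_comm_iff.2 h3)).symm

end

namespace TwoLines

variable {P : Set (Subgroup G)} {A B C : Subgroup G} (T : TwoLines P A B C) (h : Geo P)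
include T h

omit h in
theorem br' {x y : G} (hx : x ∈ Om A) (hy : y ∈ Om C) : y * x * y⁻¹ * x⁻¹ ∈ Om B := by
  by_cases hx1 : x = 1
  · subst hx1
    simpa using one_mem_Om B
  by_cases hy1 : y = 1
  · subst hy1
    simpa using one_mem_Om B
  have h1 := (T.br x hx y hy hx1 hy1).1
  have e : y * x * y⁻¹ * x⁻¹ = (x * y * x⁻¹ * y⁻¹)⁻¹ := by simp [mul_assoc]
  rw [e, inv_Om h1]
  exact h1

omit h in
theorem comm_ne {x y : G} (hx : x ∈ Om A) (hy : y ∈ Om C) (hx1 : x ≠ 1) (hyx : y * x = x * y) :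
    y = 1 := by
  by_contra hy1
  apply (T.br x hx y hy hx1 hy1).2
  rw [mul_inv_eq_one, mul_inv_eq_iff_eq_mul]
  exact hyx.symm

theorem br_surj [Finite G] {x v : G} (hx : x ∈ Om A) (hx1 : x ≠ 1) (hv : v ∈ Om B) :
    ∃ y ∈ Om C, y * x * y⁻¹ * x⁻¹ = v := by
  have hinj : Set.InjOn (fun y => y * x * y⁻¹ * x⁻¹) (Om C) := by
    intro y hy y' hy' he
    have h1 : y'⁻¹ * y = 1 := by
      refine comm_ne T hx (h.mul_Om T.hC ?_ hy) hx1 ?_
      · rw [inv_Om hy']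
        exact hy'
      · have h2 := mul_right_cancel he
        have h3 := congrArg (fun t => y'⁻¹ * t * y) h2
        simpa [mul_assoc] using h3
    rw [inv_mul_eq_one] at h1
    exact h1.symm
  have himg : (fun y => y * x * y⁻¹ * x⁻¹) '' Om C = Om B := by
    refine Set.eq_of_subset_of_ncard_le ?_ ?_ (Set.toFinite _)
    · rintro _ ⟨y, hy, rfl⟩
      exact T.br' hx hy
    · rw [Set.InjOn.ncard_image hinj]
      exact (ncard_Om h T.hB T.hC).le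
  rw [← himg] at hv
  obtain ⟨y, hy, e⟩ := hv
  exact ⟨y, hy, e⟩

/-- `k` normalises `A`, `[k, x] ∈ V_B`: then `k` centralises `x`. -/
theorem fix_of_norm {k x : G} (hx : x ∈ Om A) (hk : cj k A = A) (hkx : k * x * k⁻¹ * x⁻¹ ∈ Om B) :
    k * x * k⁻¹ = x := by
  have h1 : k * x * k⁻¹ * x⁻¹ ∈ A := A.mul_mem (conj_mem_of_cj hk hx.1) (A.inv_mem hx.1)
  have h2 : k * x * k⁻¹ * x⁻¹ = 1 := by
    by_contra h0
    exact T.AB.1 (h.ti A T.hA B T.hB _ h1 hkx.1 h0)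
  rwa [mul_inv_eq_one] at h2

/-- every `b ∈ B` acts on `V_A` as some `y ∈ V_C`. -/
theorem L2 [Finite G] {b : G} (hb : b ∈ B) :
    ∃ y ∈ Om C, ∀ x ∈ Om A, b * x * b⁻¹ = y * x * y⁻¹ := by
  obtain ⟨x₁, hx₁, hx₁1⟩ := exists_ne_Om h T.hA
  have hb1 := h.brak A T.hA B T.hB T.AB x₁ hx₁ b hb
  obtain ⟨y, hy, e⟩ := T.br_surj h hx₁ hx₁1 hb1
  refine ⟨y, hy, ?_⟩
  have hyi := inv_Om hy
  have e1 : y * x₁ * y⁻¹ = b * x₁ * b⁻¹ := mul_right_cancel e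
  have hk : cj (y⁻¹ * b) A = A := by
    refine h.norm_of_comm T.hA hx₁.1 hx₁1 ?_
    have := congrArg (fun t => y⁻¹ * t * b) e1
    simpa [mul_assoc] using this.symm
  intro x hx
  have hbx := h.brak A T.hA B T.hB T.AB x hx b hb
  have hyx := T.br' hx hy
  have h3 : (y⁻¹ * b) * x * (y⁻¹ * b)⁻¹ = x := by
    refine T.fix_of_norm h hx hk ?_
    have hv := h.comm_om C T.hC B T.hB T.CB y hy _ hbx
    have e3 : (y⁻¹ * b) * x * (y⁻¹ * b)⁻¹ * x⁻¹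
        = (y⁻¹ * (b * x * b⁻¹ * x⁻¹) * y) * (y⁻¹ * x * y⁻¹⁻¹ * x⁻¹) := by
      simp [mul_assoc]
    have e4 : y⁻¹ * (b * x * b⁻¹ * x⁻¹) * y = b * x * b⁻¹ * x⁻¹ := by
      rw [mul_assoc, ← hv, inv_mul_cancel_left]
    rw [e3, e4, hyi]
    exact h.mul_Om T.hB hbx hyx
  have h4 := congrArg (fun t => y * t * y⁻¹) h3
  simpa [mul_assoc] using h4

/-- the line through `A` and `B`. -/
def UU : Subgroup G :=
  prodS (OmS h T.hA) (OmS h T.hB) (fun x hx y hy => h.comm_om A T.hA B T.hB T.AB x hx y hy)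

theorem mem_UU {u : G} : u ∈ T.UU h ↔ ∃ x ∈ Om A, ∃ y ∈ Om B, u = x * y := Iff.rfl

theorem left_UU {x : G} (hx : x ∈ Om A) : x ∈ T.UU h := ⟨x, hx, 1, one_mem_Om B, by simp⟩

theorem right_UU {y : G} (hy : y ∈ Om B) : y ∈ T.UU h := ⟨1, one_mem_Om A, y, hy, by simp⟩

theorem sq_UU : ∀ u ∈ T.UU h, u * u = 1 := by
  rintro _ ⟨x, hx, y, hy, rfl⟩
  have hx' : x ∈ Om A := hx
  have hy' : y ∈ Om B := hy
  have : x * y * (x * y) = x * (y * x) * y := by simp only [mul_assoc]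
  rw [this, ← h.comm_om A T.hA B T.hB T.AB x hx y hy]
  have : x * (x * y) * y = (x * x) * (y * y) := by simp only [mul_assoc]
  rw [this, hx'.2, hy'.2, one_mul]

theorem tvB {b : G} (hb : b ∈ B) (hbb : b * b ≠ 1) : Tv (T.UU h) B b := by
  have cAB := h.comm_om A T.hA B T.hB T.AB
  refine ⟨?_, ?_, ?_⟩
  · refine cj_eq_of_forall (B := B) ?_ hb
    rintro b hb _ ⟨x, hx, y, hy, rfl⟩
    have hx' : x ∈ Om A := hx
    have hy' : y ∈ Om B := hy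
    have hbr := h.brak A T.hA B T.hB T.AB x hx b hb
    refine ⟨x, hx, (b * x * b⁻¹ * x⁻¹) * y, h.mul_Om T.hB hbr hy, ?_⟩
    have h2 : b * (x * y) * b⁻¹ = (b * x * b⁻¹ * x⁻¹) * x * (b * y * b⁻¹) := by simp [mul_assoc]
    rw [h2, h.comm B T.hB b hb y hy'.1, mul_inv_cancel_right, ← cAB x hx _ hbr]
    simp only [mul_assoc]
  · rintro _ ⟨x, hx, y, hy, rfl⟩
    have hy' : y ∈ Om B := hy
    have hsq := h.sq_Om T.hB hb
    rw [← mul_assoc (b * b), ← cAB x hx _ hsq, mul_assoc x (b * b) y,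
      h.comm B T.hB _ hsq.1 _ hy'.1, mul_assoc x y]
  · rintro _ ⟨x, hx, y, hy, rfl⟩
    have hx' : x ∈ Om A := hx
    have hy' : y ∈ Om B := hy
    constructor
    · intro h1
      have hx1 : x = 1 := by
        by_contra h0
        refine hbb (h.sq_of_comm T.hA T.hB T.AB.1 hx'.1 h0 hb ?_)
        have h3 : b * x * y = x * b * y := by
          rw [mul_assoc b x y, h1, mul_assoc x y b, ← h.comm B T.hB _ hb _ hy'.1, ← mul_assoc]
        exact (mul_right_cancel h3).symm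
      rw [hx1, one_mul]
      exact hy'.1
    · intro h1
      exact h.comm B T.hB _ hb _ h1

theorem tvA {a : G} (ha : a ∈ A) (haa : a * a ≠ 1) : Tv (T.UU h) A a := by
  have cAB := h.comm_om A T.hA B T.hB T.AB
  refine ⟨?_, ?_, ?_⟩
  · refine cj_eq_of_forall (B := A) ?_ ha
    rintro a ha _ ⟨x, hx, y, hy, rfl⟩
    have hx' : x ∈ Om A := hx
    have hy' : y ∈ Om B := hy
    have hbr := h.brak B T.hB A T.hA T.AB.symm y hy a ha
    refine ⟨x * (a * y * a⁻¹ * y⁻¹), h.mul_Om T.hA hx hbr, y, hy, ?_⟩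
    have h2 : a * (x * y) * a⁻¹ = (a * x) * y * a⁻¹ := by simp [mul_assoc]
    rw [h2, h.comm A T.hA a ha x hx'.1]
    simp [mul_assoc]
  · rintro _ ⟨x, hx, y, hy, rfl⟩
    have hx' : x ∈ Om A := hx
    have hsq := h.sq_Om T.hA ha
    rw [← mul_assoc (a * a), h.comm A T.hA _ hsq.1 _ hx'.1, mul_assoc x (a * a) y,
      cAB _ hsq y hy, mul_assoc x y]
  · rintro _ ⟨x, hx, y, hy, rfl⟩
    have hx' : x ∈ Om A := hx
    have hy' : y ∈ Om B := hy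
    constructor
    · intro h1
      have hy1 : y = 1 := by
        by_contra h0
        refine haa (h.sq_of_comm T.hB T.hA T.AB.1.symm hy'.1 h0 ha ?_)
        have h3 : x * (a * y) = x * (y * a) := by
          rw [← mul_assoc, ← h.comm A T.hA a ha x hx'.1, mul_assoc, h1, mul_assoc]
        exact (mul_left_cancel h3).symm
      rw [hy1, mul_one]
      exact hx'.1
    · intro h1
      exact h.comm A T.hA _ ha _ h1

theorem tvC {c : G} (hc : c ∈ Om C) (hc1 : c ≠ 1) : Tv (T.UU h) B c := by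
  have cAB := h.comm_om A T.hA B T.hB T.AB
  have cCB := h.comm_om C T.hC B T.hB T.CB
  refine ⟨?_, ?_, ?_⟩
  · refine cj_eq_of_forall (B := OmS h T.hC) ?_ hc
    rintro b hb _ ⟨x, hx, y, hy, rfl⟩
    have hbr := T.br' hx hb
    refine ⟨x, hx, (b * x * b⁻¹ * x⁻¹) * y, h.mul_Om T.hB hbr hy, ?_⟩
    have h2 : b * (x * y) * b⁻¹ = (b * x * b⁻¹ * x⁻¹) * x * (b * y * b⁻¹) := by simp [mul_assoc]
    rw [h2, cCB b hb y hy, mul_inv_cancel_right, ← cAB x hx _ hbr]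
    simp only [mul_assoc]
  · intro u _
    rw [hc.2]
    simp
  · rintro _ ⟨x, hx, y, hy, rfl⟩
    constructor
    · intro h1
      have hx1 : x = 1 := by
        by_contra h0
        apply hc1
        refine T.comm_ne hx hc h0 ?_
        have h3 : c * x * y = x * c * y := by
          rw [mul_assoc c x y, h1, mul_assoc x y c, ← cCB c hc y hy, ← mul_assoc]
        exact mul_right_cancel h3
      rw [hx1, one_mul]
      exact (show y ∈ Om B from hy).1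
    · intro h1
      refine cCB c hc _ ⟨h1, ?_⟩
      exact T.sq_UU h _ ⟨x, hx, y, hy, rfl⟩

theorem ntB : ∃ u ∈ T.UU h, u ∈ B ∧ u ≠ 1 := by
  obtain ⟨v, hv, hv1⟩ := exists_ne_Om h T.hB
  exact ⟨v, T.right_UU h hv, hv.1, hv1⟩

theorem ntA : ∃ u ∈ T.UU h, u ∈ A ∧ u ≠ 1 := by
  obtain ⟨v, hv, hv1⟩ := exists_ne_Om h T.hA
  exact ⟨v, T.left_UU h hv, hv.1, hv1⟩

theorem genBA : ∀ u ∈ T.UU h, ∃ v ∈ T.UU h, ∃ w ∈ T.UU h, v ∈ B ∧ w ∈ A ∧ u = v * w := by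
  rintro _ ⟨x, hx, y, hy, rfl⟩
  exact ⟨y, T.right_UU h hy, x, T.left_UU h hx, (show y ∈ Om B from hy).1,
    (show x ∈ Om A from hx).1, h.comm_om A T.hA B T.hB T.AB x hx y hy⟩

/-- `r = q`: every `y ∈ V_C` acts on `V_A` as some element of `B`. -/
theorem L3 [Finite G] {y : G} (hy : y ∈ Om C) :
    ∃ b ∈ B, ∀ x ∈ Om A, b * x * b⁻¹ = y * x * y⁻¹ := by
  by_cases hy1 : y = 1
  · subst hy1
    exact ⟨1, B.one_mem, fun x _ => rfl⟩
  obtain ⟨a, ha, haa⟩ := h.nonelem A T.hA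
  obtain ⟨b₁, hb₁, hbb₁⟩ := h.nonelem B T.hB
  have hTa := T.tvA h ha haa
  have hTb := T.tvB h hb₁ hbb₁
  have hTy := T.tvC h hy hy1
  obtain ⟨g, hg, hg1⟩ := lemT h.toTIFam (T.sq_UU h) T.hB T.hA hTb hTa (T.ntB h) (T.ntA h) (T.genBA h)
  obtain ⟨g', hg', hg1'⟩ := lemT h.toTIFam (T.sq_UU h) T.hB T.hA hTy hTa (T.ntB h) (T.ntA h)
    (T.genBA h)
  have hgi := cj_inv_eq hg'
  have hk : cj (g'⁻¹ * g) (T.UU h) = T.UU h := cj_mul_eq hgi hg
  have hE : EqOnU (T.UU h) ((g'⁻¹ * g) * b₁ * (g'⁻¹ * g)⁻¹) y := by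
    intro u hu
    have h1 : g' * u * g'⁻¹ ∈ T.UU h := conj_mem_of_cj hg' hu
    have h2 := (hg1 _ h1).trans (hg1' _ h1).symm
    have h3 := congrArg (fun t => g'⁻¹ * t * g') h2
    simpa [mul_assoc] using h3
  have hTk : Tv (T.UU h) (cj (g'⁻¹ * g) B) y := (hTb.conj hk).congr hE hTy.norm
  have hkB : cj (g'⁻¹ * g) B = B :=
    (Tv.unique h.toTIFam T.hB (h.conj B T.hB _) hTy hTk (T.ntB h)).symm
  exact ⟨_, conj_mem_of_cj hkB hb₁, fun x hx => hE x (T.left_UU h hx)⟩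

/-- if `b` and `y` agree on `V_A` then `[y, b] = b²`. -/
theorem L4 {b y : G} (hb : b ∈ B) (hy : y ∈ Om C)
    (he : ∀ x ∈ Om A, b * x * b⁻¹ = y * x * y⁻¹) : b * y * b⁻¹ * y⁻¹ = b * b := by
  have hyi := inv_Om hy
  have hbr := h.brak C T.hC B T.hB T.CB y hy b hb
  have hk := klem h T.hA T.hB T.AB (k := y * b) (by
      intro x hx
      rw [eq_comm_iff]
      have e1 : y * b * x * (y * b)⁻¹ = y * (b * x * b⁻¹) * y⁻¹ := by simp [mul_assoc]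
      rw [e1, he x hx]
      have e2 : y * (y * x * y⁻¹) * y⁻¹ = (y * y) * x * (y * y)⁻¹ := by simp [mul_assoc]
      rw [e2, hy.2]
      simp) (by
      intro v hv
      rw [mul_assoc, h.comm B T.hB _ hb _ hv.1, ← mul_assoc,
        h.comm_om C T.hC B T.hB T.CB y hy v hv, mul_assoc]) (x₀ := 1)
    (y₀ := (b * y * b⁻¹ * y⁻¹)⁻¹ * (b * b)) (one_mem_Om A)
    (h.mul_Om T.hB (by rw [inv_Om hbr]; exact hbr) (h.sq_Om T.hB hb)) (by
      have : (1 : G) * ((b * y * b⁻¹ * y⁻¹)⁻¹ * (b * b)) = y * b * (y⁻¹ * b) := by simp [mul_assoc]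
      rw [this, hyi])
  have h1 : (b * y * b⁻¹ * y⁻¹)⁻¹ * (b * b) = 1 := by
    rw [← hk]
    have : (b * y * b⁻¹ * y⁻¹)⁻¹ * (b * b) = y * b * (y⁻¹ * b) := by simp [mul_assoc]
    rw [this, hyi]
  rw [inv_mul_eq_one] at h1
  exact h1

/-- for every `b ∈ B - V_B` there is `a ∈ A` with `[a, [b, x]] = x` for all `x ∈ V_A`. -/
theorem L5 [Finite G] {b : G} (hb : b ∈ B) (hbb : b * b ≠ 1) :
    ∃ a ∈ A, ∀ x ∈ Om A, a * (b * x * b⁻¹ * x⁻¹) * a⁻¹ * (b * x * b⁻¹ * x⁻¹)⁻¹ = x := by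
  obtain ⟨a₁, ha₁, haa₁⟩ := h.nonelem A T.hA
  have hTa := T.tvA h ha₁ haa₁
  have hTb := T.tvB h hb hbb
  obtain ⟨g, hg, hg1⟩ := lemT h.toTIFam (T.sq_UU h) T.hB T.hA hTb hTa (T.ntB h) (T.ntA h) (T.genBA h)
  have hTk : Tv (T.UU h) (cj g B) a₁ := (hTb.conj hg).congr hg1 hTa.norm
  have hgB : A = cj g B :=
    Tv.unique h.toTIFam T.hA (h.conj B T.hB _) hTa hTk (T.ntA h)
  have T' : TwoLines P (cj g A) A (cj g C) := by
    have := conj_of h T g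
    rwa [← hgB] at this
  have cA' := h.comm_om _ T'.hA A T.hA T'.AB
  have dec : ∀ u ∈ T.UU h, ∃ x' ∈ Om (cj g A), ∃ v' ∈ Om A, u = x' * v' := by
    intro u hu
    have h1 : g⁻¹ * u * g ∈ T.UU h := conj_mem_of_cj' hg hu
    obtain ⟨x, hx, y, hy, e⟩ := (T.mem_UU h).1 h1
    refine ⟨g * x * g⁻¹, conj_mem_Om_cj hx, g * y * g⁻¹, ?_, ?_⟩
    · have := conj_mem_Om_cj (g := g) hy
      rwa [← hgB] at this
    · have e2 : g * x * g⁻¹ * (g * y * g⁻¹) = g * (x * y) * g⁻¹ := by simp [mul_assoc]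
      rw [e2, ← e]
      simp [mul_assoc]
  have claim : ∀ u ∈ T.UU h, u ∉ A → ∃ y ∈ Om (cj g C), u ∈ cj y (cj g A) := by
    intro u hu huA
    obtain ⟨x', hx', v', hv', rfl⟩ := dec u hu
    have hx1 : x' ≠ 1 := by
      rintro rfl
      apply huA
      rw [one_mul]
      exact hv'.1
    obtain ⟨y, hy, e⟩ := T'.br_surj h hx' hx1 hv'
    refine ⟨y, hy, ?_⟩
    have e2 : x' * v' = y * x' * y⁻¹ := by
      rw [cA' _ hx' _ hv', ← e]
      simp [mul_assoc]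
    rw [e2]
    exact conj_mem_cj hx'.1
  obtain ⟨x₁, hx₁, hx₁1⟩ := exists_ne_Om h T.hA
  obtain ⟨v₁, hv₁, hv₁1⟩ := exists_ne_Om h T.hB
  have hbx1 : b * x₁ * b⁻¹ ≠ 1 := by
    intro h0
    apply hx₁1
    have := congrArg (fun t => b⁻¹ * t * b) h0
    simpa [mul_assoc] using this
  have hcb : Col A B := T.AB
  have hbA : cj b A ≠ A := fun h0 => hbb ((h.norm_iff A T.hA B T.hB T.AB b hb).1 h0)
  obtain ⟨y, hy, hyu⟩ := claim (b * x₁ * b⁻¹) (conj_mem_of_cj hTb.norm (T.left_UU h hx₁)) (by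
    intro h0
    exact hbA (h.norm_of_conj T.hA hx₁.1 hx₁1 h0))
  obtain ⟨y', hy', hyu'⟩ := claim v₁ (T.right_UU h hv₁) (by
    intro h0
    exact T.AB.1 (h.ti A T.hA B T.hB _ h0 hv₁.1 hv₁1))
  have e1 : cj b A = cj y (cj g A) :=
    h.ti _ (h.conj A T.hA b) _ (h.conj _ T'.hA y) _ (conj_mem_cj hx₁.1) hyu hbx1
  have e2 : B = cj y' (cj g A) :=
    h.ti B T.hB _ (h.conj _ T'.hA y') _ hv₁.1 hyu' hv₁1
  have e3 : cj b A = cj (y * y'⁻¹) B := by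
    rw [e1, e2, cj_cj _ y', mul_assoc, inv_mul_cancel, mul_one]
  have hyy : y * y'⁻¹ ∈ Om (cj g C) := by
    rw [inv_Om hy']
    exact h.mul_Om T'.hC hy hy'
  obtain ⟨a, ha, haE⟩ := T'.L3 h hyy
  refine ⟨a, ha, ?_⟩
  -- `a` and `y y'⁻¹` agree on `U`
  have hagree : ∀ u ∈ T.UU h, a * u * a⁻¹ = (y * y'⁻¹) * u * (y * y'⁻¹)⁻¹ := by
    intro u hu
    obtain ⟨x', hx', v', hv', rfl⟩ := dec u hu
    have f1 : a * v' * a⁻¹ = v' := by
      rw [h.comm A T.hA _ ha _ hv'.1, mul_inv_cancel_right]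
    have f2 : (y * y'⁻¹) * v' * (y * y'⁻¹)⁻¹ = v' := by
      rw [h.comm_om _ T'.hC A T.hA T'.CB _ hyy _ hv', mul_inv_cancel_right]
    have f3 : ∀ s : G, s * (x' * v') * s⁻¹ = (s * x' * s⁻¹) * (s * v' * s⁻¹) := by
      intro s
      simp [mul_assoc]
    rw [f3, f3, f1, f2, haE x' hx']
  have haB : cj a B = cj b A := by
    rw [e3]
    refine h.ti _ (h.conj B T.hB a) _ (h.conj B T.hB _) (a * v₁ * a⁻¹) (conj_mem_cj hv₁.1) ?_ ?_
    · rw [hagree _ (T.right_UU h hv₁)]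
      exact conj_mem_cj hv₁.1
    · intro h0
      apply hv₁1
      have := congrArg (fun t => a⁻¹ * t * a) h0
      simpa [mul_assoc] using this
  intro x hx
  have hbr := h.brak A T.hA B T.hB T.AB x hx b hb
  have hv : a⁻¹ * (b * x * b⁻¹) * a ∈ Om B := by
    have h1 : b * x * b⁻¹ ∈ Om (cj b A) := conj_mem_Om_cj hx
    rw [← haB] at h1
    exact mem_Om_cj.1 h1
  set v := a⁻¹ * (b * x * b⁻¹) * a with hvdef
  have hav := h.brak B T.hB A T.hA T.AB.symm v hv a ha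
  have f1 : (b * x * b⁻¹ * x⁻¹) * x = (a * v * a⁻¹ * v⁻¹) * v := by
    rw [hvdef]
    simp [mul_assoc]
  have f2 : (b * x * b⁻¹ * x⁻¹) * v⁻¹ = (a * v * a⁻¹ * v⁻¹) * x⁻¹ := by
    have c1 := h.comm_om A T.hA B T.hB T.AB x hx v hv
    have c2 : x⁻¹ * v⁻¹ = v⁻¹ * x⁻¹ := by rw [← mul_inv_rev, ← mul_inv_rev, c1]
    calc (b * x * b⁻¹ * x⁻¹) * v⁻¹ = ((b * x * b⁻¹ * x⁻¹) * x) * (x⁻¹ * v⁻¹) := by
          simp [mul_assoc]
      _ = ((a * v * a⁻¹ * v⁻¹) * v) * (v⁻¹ * x⁻¹) := by rw [f1, c2]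
      _ = (a * v * a⁻¹ * v⁻¹) * x⁻¹ := by simp [mul_assoc]
  have f3 : (b * x * b⁻¹ * x⁻¹) * v⁻¹ = 1 := by
    by_contra h0
    refine T.AB.1 (h.ti A T.hA B T.hB _ ?_ (B.mul_mem hbr.1 (B.inv_mem hv.1)) h0)
    rw [f2]
    exact A.mul_mem hav.1 (A.inv_mem hx.1)
  have f4 : (a * v * a⁻¹ * v⁻¹) * x⁻¹ = 1 := f2.symm.trans f3
  rw [mul_inv_eq_one] at f3 f4
  rw [f3]
  exact f4

/-- swapping element: `w = b a b` interchanges `x` and `[b, x]`. -/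
theorem exists_swap [Finite G] {b : G} (hb : b ∈ B) (hbb : b * b ≠ 1) :
    ∃ w : G, ∀ x ∈ Om A, w * x * w⁻¹ = b * x * b⁻¹ * x⁻¹ ∧
      w * (b * x * b⁻¹ * x⁻¹) * w⁻¹ = x := by
  obtain ⟨a, ha, haE⟩ := T.L5 h hb hbb
  refine ⟨b * a * b, ?_⟩
  intro x hx
  have hbr := h.brak A T.hA B T.hB T.AB x hx b hb
  have hax := haE x hx
  set v := b * x * b⁻¹ * x⁻¹ with hv
  have e1 : b * x * b⁻¹ = v * x := by rw [hv]; simp [mul_assoc]
  have e2 : a * v * a⁻¹ = x * v := by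
    rw [← hax]
    simp [mul_assoc]
  have e3 : a * x * a⁻¹ = x := by rw [h.comm A T.hA _ ha _ hx.1, mul_inv_cancel_right]
  have e4 : b * v * b⁻¹ = v := by rw [h.comm B T.hB _ hb _ hbr.1, mul_inv_cancel_right]
  have e5 : x * v = v * x := h.comm_om A T.hA B T.hB T.AB x hx v hbr
  constructor
  · have f1 : b * a * b * x * (b * a * b)⁻¹ = b * (a * (b * x * b⁻¹) * a⁻¹) * b⁻¹ := by
      simp [mul_assoc]
    have f2 : a * (v * x) * a⁻¹ = (a * v * a⁻¹) * (a * x * a⁻¹) := by simp [mul_assoc]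
    rw [f1, e1, f2, e2, e3, e5, mul_assoc v x x, hx.2, mul_one, e4]
  · have f1 : b * a * b * v * (b * a * b)⁻¹ = b * (a * (b * v * b⁻¹) * a⁻¹) * b⁻¹ := by
      simp [mul_assoc]
    have f2 : b * (x * v) * b⁻¹ = (b * x * b⁻¹) * (b * v * b⁻¹) := by simp [mul_assoc]
    rw [f1, e4, e2, f2, e4, e1, ← e5, mul_assoc x v v, hbr.2, mul_one]

/-- the element `b''` with `β_{b''} = β_b β_{b₀}⁻¹ β_b` and `b''² = β_b β_{b₀}⁻¹ (b₀²)`. -/
theorem L6 [Finite G] {b b₀ : G} (hb : b ∈ B) (hbb : b * b ≠ 1) (hb₀ : b₀ ∈ B)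
    (hbb₀ : b₀ * b₀ ≠ 1) : ∃ b₂ ∈ B,
      (∀ x ∈ Om A, ∀ x' ∈ Om A, b * x' * b⁻¹ * x'⁻¹ = b₀ * x * b₀⁻¹ * x⁻¹ →
        b₂ * x' * b₂⁻¹ * x'⁻¹ = b * x * b⁻¹ * x⁻¹) ∧
      (∀ x ∈ Om A, b₀ * b₀ = b₀ * x * b₀⁻¹ * x⁻¹ → b₂ * b₂ = b * x * b⁻¹ * x⁻¹) := by
  obtain ⟨w, hw⟩ := T.exists_swap h hb hbb
  obtain ⟨w₀, hw₀⟩ := T.exists_swap h hb₀ hbb₀
  -- `g = w w₀`
  have hg1 : ∀ x ∈ Om A, (w * w₀) * (b₀ * x * b₀⁻¹ * x⁻¹) * (w * w₀)⁻¹ = b * x * b⁻¹ * x⁻¹ := by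
    intro x hx
    have f1 : (w * w₀) * (b₀ * x * b₀⁻¹ * x⁻¹) * (w * w₀)⁻¹
        = w * (w₀ * (b₀ * x * b₀⁻¹ * x⁻¹) * w₀⁻¹) * w⁻¹ := by simp [mul_assoc]
    rw [f1, (hw₀ x hx).2, (hw x hx).1]
  have hg2 : ∀ x ∈ Om A, ∀ x' ∈ Om A, b * x' * b⁻¹ * x'⁻¹ = b₀ * x * b₀⁻¹ * x⁻¹ →
      (w * w₀) * x * (w * w₀)⁻¹ = x' := by
    intro x hx x' hx' he
    have f1 : (w * w₀) * x * (w * w₀)⁻¹ = w * (w₀ * x * w₀⁻¹) * w⁻¹ := by simp [mul_assoc]
    rw [f1, (hw₀ x hx).1, ← he, (hw x' hx').2]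
  set g := w * w₀ with hg
  have hgB : cj g B = B := by
    obtain ⟨x₁, hx₁, hx₁1⟩ := exists_ne_Om h T.hA
    refine h.norm_of_conj T.hB (h.brak A T.hA B T.hB T.AB x₁ hx₁ b₀ hb₀).1
      (h.brak_ne T.hA T.hB T.AB.1 hx₁.1 hx₁1 hb₀ hbb₀) ?_
    rw [hg1 x₁ hx₁]
    exact (h.brak A T.hA B T.hB T.AB x₁ hx₁ b hb).1
  refine ⟨g * b₀ * g⁻¹, conj_mem_of_cj hgB hb₀, ?_, ?_⟩
  · intro x hx x' hx' he
    rw [← hg1 x hx, ← hg2 x hx x' hx' he]
    simp [mul_assoc]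
  · intro x hx he
    rw [← hg1 x hx, ← he]
    simp [mul_assoc]

end TwoLines

end Cfsg.Agent.TIAbelian.PairTwo
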