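/-
helper262: S1779, pairs: `|B| = 16`, `B ≅ Z₄ × Z₄`.
-/
import Cfsg.Agent.TIAbelian.PairTwo
import Cfsg.Agent.TIAbelian.PairAlg

set_option autoImplicit false

namespace Cfsg.Agent.TIAbelian.PairFinal

open Cfsg.Agent.TIAbelian.PairBase Cfsg.Agent.TIAbelian.PairOmega Cfsg.Agent.TIAbelian.PairGeo
open Cfsg.Agent.TIAbelian.PairLine Cfsg.Agent.TIAbelian.PairClique Cfsg.Agent.TIAbelian.PairStrong
open Cfsg.Agent.TIAbelian.PairTwo

variable {G : Type*} [Group G]

section

variable {P : Set (Subgroup G)} (h : Geo P) {A B C : Subgroup G} (T : TwoLines P A B C)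

/-- `x ↦ [b, x]` -/
def brH (b : ↥B) : ↥(OmS h T.hA) →* ↥(OmS h T.hB) where
  toFun x := ⟨b * x * (b : G)⁻¹ * (x : G)⁻¹, h.brak A T.hA B T.hB T.AB x x.2 b b.2⟩
  map_one' := by
    apply Subtype.ext
    simp
  map_mul' x y := by
    apply Subtype.ext
    show (b : G) * (x * y) * (b : G)⁻¹ * (x * y : G)⁻¹
      = ((b : G) * x * (b : G)⁻¹ * (x : G)⁻¹) * ((b : G) * y * (b : G)⁻¹ * (y : G)⁻¹)
    have h1 := h.comm_om A T.hA B T.hB T.AB x x.2 _
      (h.brak A T.hA B T.hB T.AB y y.2 b b.2)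
    have e1 : (b : G) * (x * y) * (b : G)⁻¹ * (x * y : G)⁻¹
      = ((b : G) * x * (b : G)⁻¹) * (((b : G) * y * (b : G)⁻¹ * (y : G)⁻¹) * (x : G)⁻¹) := by simp [mul_assoc]
    have e2 : ((b : G) * y * (b : G)⁻¹ * (y : G)⁻¹) * (x : G)⁻¹
        = (x : G)⁻¹ * ((b : G) * y * (b : G)⁻¹ * (y : G)⁻¹) := by
      have := congrArg (fun t => (x : G)⁻¹ * t * (x : G)⁻¹) h1
      simpa [mul_assoc] using this
    rw [e1, e2]
    simp only [mul_assoc]

theorem brH_val (b : ↥B) (x : ↥(OmS h T.hA)) :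
    ((brH h T b x : ↥(OmS h T.hB)) : G) = b * x * (b : G)⁻¹ * (x : G)⁻¹ := rfl

theorem brH_bij [Finite G] {b : ↥B} (hb : (b : G) * b ≠ 1) :
    Function.Bijective (brH h T b) := by
  constructor
  · intro x y hxy
    apply Subtype.ext
    refine h.brak_inj T.hA T.hB T.AB.1 (show (x : G) ∈ Om A from x.2).1
      (show (y : G) ∈ Om A from y.2).1 b.2 hb ?_
    exact congrArg Subtype.val hxy
  · intro y
    obtain ⟨x, hx, e⟩ := h.surj A T.hA B T.hB T.AB b b.2 hb y y.2
    exact ⟨⟨x, hx⟩, Subtype.ext e⟩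

theorem brH_mul (b c : ↥B) (x : ↥(OmS h T.hA)) :
    brH h T (b * c) x = brH h T b x * brH h T c x := by
  apply Subtype.ext
  show ((b : G) * c) * x * ((b : G) * c)⁻¹ * (x : G)⁻¹
    = ((b : G) * x * (b : G)⁻¹ * (x : G)⁻¹) * ((c : G) * x * (c : G)⁻¹ * (x : G)⁻¹)
  have h1 := h.brak A T.hA B T.hB T.AB x x.2 c c.2
  have h2 := h.brak A T.hA B T.hB T.AB x x.2 b b.2
  have e1 : ((b : G) * c) * x * ((b : G) * c)⁻¹ * (x : G)⁻¹
      = (b * ((c : G) * x * (c : G)⁻¹ * (x : G)⁻¹)) * (x * (b : G)⁻¹ * (x : G)⁻¹) := by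
    simp [mul_assoc]
  rw [e1, h.comm B T.hB _ b.2 _ h1.1]
  have e2 : ((c : G) * x * (c : G)⁻¹ * (x : G)⁻¹) * (b : G) * (x * (b : G)⁻¹ * (x : G)⁻¹)
      = ((c : G) * x * (c : G)⁻¹ * (x : G)⁻¹) * ((b : G) * x * (b : G)⁻¹ * (x : G)⁻¹) := by
    simp only [mul_assoc]
  rw [e2, h.comm B T.hB _ h1.1 _ h2.1]

theorem sq_of_brH_one [Finite G] {b : ↥B} (hb : ∀ x, brH h T b x = 1) : (b : G) * b = 1 := by
  obtain ⟨x, hx, hx1⟩ := exists_ne_Om h T.hA
  by_contra h0
  exact h.brak_ne T.hA T.hB T.AB.1 hx.1 hx1 b.2 h0 (congrArg Subtype.val (hb ⟨x, hx⟩))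

theorem brH_one_of_sq {b : ↥B} (hb : (b : G) * b = 1) (x) : brH h T b x = 1 := by
  apply Subtype.ext
  show (b : G) * x * (b : G)⁻¹ * (x : G)⁻¹ = 1
  rw [← h.comm_om A T.hA B T.hB T.AB x x.2 b ⟨b.2, hb⟩]
  simp

include h T in
/-- at most four cosets of `V_B` in `B`. -/
theorem cosets [Finite G] (b₀ b c : ↥B) (hb₀ : (b₀ : G) * b₀ ≠ 1) (hb : (b : G) * b ≠ 1)
    (hbb₀ : ((b * b₀ : ↥B) : G) * ((b * b₀ : ↥B) : G) ≠ 1) :
    (c : G) * c = 1 ∨ ((c * b₀ : ↥B) : G) * ((c * b₀ : ↥B) : G) = 1 ∨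
      ((c * b : ↥B) : G) * ((c * b : ↥B) : G) = 1 ∨
      ((c * (b * b₀) : ↥B) : G) * ((c * (b * b₀) : ↥B) : G) = 1 := by
  classical
  -- the group structures
  let iB : CommGroup ↥(OmS h T.hB) :=
    commGrp (fun x hx y hy => h.comm B T.hB x (show x ∈ Om B from hx).1 y (show y ∈ Om B from hy).1)
  let e₀ : ↥(OmS h T.hA) ≃* ↥(OmS h T.hB) := MulEquiv.ofBijective (brH h T b₀) (brH_bij h T hb₀)
  have he₀ : ∀ x, e₀ x = brH h T b₀ x := fun x => rfl
  let F : ↥B → AddMonoid.End (Additive ↥(OmS h T.hB)) := fun b =>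
    MonoidHom.toAdditive ((brH h T b).comp e₀.symm.toMonoidHom)
  have hFv : ∀ b v, F b (Additive.ofMul v) = Additive.ofMul (brH h T b (e₀.symm v)) :=
    fun b v => rfl
  have hFx : ∀ b x, F b (Additive.ofMul (e₀ x)) = Additive.ofMul (brH h T b x) := by
    intro b x
    rw [hFv, MulEquiv.symm_apply_apply]
  have hF0 : ∀ b, F b = 0 ↔ (b : G) * b = 1 := by
    intro b
    constructor
    · intro h1
      refine sq_of_brH_one h T ?_
      intro x
      have := hFx b x
      rw [h1] at this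
      exact Additive.ofMul.injective this.symm
    · intro h1
      refine AddMonoidHom.ext fun v => ?_
      obtain ⟨x, hx⟩ := e₀.surjective (Additive.toMul v)
      have h2 : v = Additive.ofMul (e₀ x) := by rw [hx]; rfl
      rw [h2]
      refine (hFx b x).trans ?_
      rw [brH_one_of_sq h T h1]
      rfl
  -- `x(b)`
  have T' : TwoLines P C B A := symm_of T
  have hx : ∀ b : ↥B, ∃ x : ↥(OmS h T.hA), ∀ y ∈ Om C, (b : G) * y * (b : G)⁻¹ = x * y * (x : G)⁻¹ := by
    intro b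
    obtain ⟨x, hx, e⟩ := T'.L2 h b.2
    exact ⟨⟨x, hx⟩, e⟩
  choose X hX using hx
  have hXuniq : ∀ (b : ↥B) (x : ↥(OmS h T.hA)),
      (∀ y ∈ Om C, (b : G) * y * (b : G)⁻¹ = x * y * (x : G)⁻¹) → X b = x := by
    intro b x hx
    obtain ⟨y, hy, hy1⟩ := exists_ne_Om h T.hC
    have h1 := (hX b y hy).symm.trans (hx y hy)
    have h2 : ((x⁻¹ * X b : ↥(OmS h T.hA)) : G) = 1 := by
      refine T'.comm_ne hy (x⁻¹ * X b : ↥(OmS h T.hA)).2 hy1 ?_
      have := congrArg (fun t => (x : G)⁻¹ * t * X b) h1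
      simpa [mul_assoc] using this
    have h3 : x⁻¹ * X b = 1 := Subtype.ext h2
    rw [inv_mul_eq_one] at h3
    exact h3.symm
  have hXmul : ∀ b c, X (b * c) = X b * X c := by
    intro b c
    apply hXuniq
    intro y hy
    have hyB := h.comm_om C T.hC B T.hB T.CB y hy
    have hbr := h.brak A T.hA B T.hB T.AB (X c) (X c).2 b b.2
    -- `b (x_c y x_c⁻¹) b⁻¹`
    have e1 : ((b * c : ↥B) : G) * y * ((b * c : ↥B) : G)⁻¹
        = b * (c * y * (c : G)⁻¹) * (b : G)⁻¹ := by simp [mul_assoc]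
    rw [e1, hX c y hy]
    have e2 : (b : G) * (X c * y * (X c : G)⁻¹) * (b : G)⁻¹
        = ((b : G) * X c * (b : G)⁻¹ * (X c : G)⁻¹) * (X c * (b * y * (b : G)⁻¹) * (X c : G)⁻¹)
          * ((b : G) * X c * (b : G)⁻¹ * (X c : G)⁻¹)⁻¹ := by simp [mul_assoc]
    rw [e2, hX b y hy]
    set v := (b : G) * X c * (b : G)⁻¹ * (X c : G)⁻¹ with hv
    have e3 : (X c : G) * (X b * y * (X b : G)⁻¹) * (X c : G)⁻¹
        = ((X b * X c : ↥(OmS h T.hA)) : G) * y * ((X b * X c : ↥(OmS h T.hA)) : G)⁻¹ := by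
      have hc : (X c : G) * X b = X b * X c :=
        h.comm A T.hA _ (show (X c : G) ∈ Om A from (X c).2).1 _
          (show (X b : G) ∈ Om A from (X b).2).1
      show _ = ((X b : G) * X c) * y * ((X b : G) * X c)⁻¹
      rw [← hc]
      simp [mul_assoc]
    rw [e3]
    -- `v` commutes with `x y x⁻¹`
    have e4 : ∀ x ∈ Om A, v * (x * y * x⁻¹) = (x * y * x⁻¹) * v := by
      intro x hx
      have h1 := h.comm_om A T.hA B T.hB T.AB x hx v hbr
      have h2 : v * x⁻¹ = x⁻¹ * v := by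
        have := congrArg (fun t => x⁻¹ * t * x⁻¹) h1
        simpa [mul_assoc] using this
      calc v * (x * y * x⁻¹) = (v * x) * y * x⁻¹ := by simp only [mul_assoc]
        _ = x * (v * y) * x⁻¹ := by rw [← h1]; simp only [mul_assoc]
        _ = x * y * (v * x⁻¹) := by rw [← hyB v hbr]; simp only [mul_assoc]
        _ = x * y * x⁻¹ * v := by rw [h2]; simp only [mul_assoc]
    rw [e4 _ (X b * X c : ↥(OmS h T.hA)).2, mul_inv_cancel_right]
  have hXsq : ∀ b : ↥B, (b : G) * X b * (b : G)⁻¹ * (X b : G)⁻¹ = b * b :=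
    fun b => T'.L4 h b.2 (X b).2 (hX b)
  let sq : ↥B → Additive ↥(OmS h T.hB) := fun b => Additive.ofMul ⟨b * b, h.sq_Om T.hB b.2⟩
  let ξ : ↥B → Additive ↥(OmS h T.hB) := fun b => Additive.ofMul (e₀ (X b))
  have hFmul : ∀ b c, F (b * c) = F b + F c := by
    intro b c
    refine AddMonoidHom.ext fun v => ?_
    obtain ⟨x, hx⟩ := e₀.surjective (Additive.toMul v)
    have h2 : v = Additive.ofMul (e₀ x) := by rw [hx]; rfl
    rw [h2]
    show F (b * c) (Additive.ofMul (e₀ x)) = F b (Additive.ofMul (e₀ x)) + F c (Additive.ofMul (e₀ x))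
    rw [hFx, hFx, hFx, brH_mul]
    rfl
  have h1F : F b₀ = 1 := by
    refine AddMonoidHom.ext fun v => ?_
    obtain ⟨x, hx⟩ := e₀.surjective (Additive.toMul v)
    have h2 : v = Additive.ofMul (e₀ x) := by rw [hx]; rfl
    rw [h2]
    exact (hFx b₀ x).trans rfl
  have char2 : ∀ w : Additive ↥(OmS h T.hB), w + w = 0 := by
    intro w
    apply Additive.toMul.injective
    apply Subtype.ext
    exact (show ((Additive.toMul w : ↥(OmS h T.hB)) : G) ∈ Om B from (Additive.toMul w).2).2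
  have charR : ∀ r : AddMonoid.End (Additive ↥(OmS h T.hB)), r + r = 0 := by
    intro r
    refine AddMonoidHom.ext fun w => ?_
    exact char2 (r w)
  have key := PairAlg.alg F ξ sq b₀ hFmul (by
      intro b c
      show Additive.ofMul (e₀ (X (b * c))) = Additive.ofMul (e₀ (X b)) + Additive.ofMul (e₀ (X c))
      rw [hXmul, map_mul]
      rfl) (by
      intro b
      show F b (Additive.ofMul (e₀ (X b))) = _
      rw [hFx]
      apply Additive.toMul.injective
      apply Subtype.ext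
      exact hXsq b) (by
      intro b c hbc
      have h1 : F (b * c) = 0 := by rw [hFmul, hbc, charR]
      rw [hF0] at h1
      have h2 : X (b * c) = 1 := by
        apply hXuniq
        intro y hy
        rw [← h.comm_om C T.hC B T.hB T.CB y hy _ ⟨(b * c).2, h1⟩, mul_inv_cancel_right]
        simp
      rw [hXmul] at h2
      have h3 : X b = X c := by
        have h4 : X c * X c = 1 :=
          Subtype.ext (show (X c : G) ∈ Om A from (X c).2).2
        exact mul_right_cancel (h2.trans h4.symm)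
      show Additive.ofMul (e₀ (X b)) = Additive.ofMul (e₀ (X c))
      rw [h3]) h1F (by
      intro h1
      exact hb₀ (congrArg (fun t => ((Additive.toMul t : ↥(OmS h T.hB)) : G)) h1)) (by
      intro b hb w hw
      have hb' : (b : G) * b ≠ 1 := fun h1 => hb ((hF0 b).2 h1)
      obtain ⟨x, hx⟩ := e₀.surjective (Additive.toMul w)
      have h2 : w = Additive.ofMul (e₀ x) := by rw [hx]; rfl
      rw [h2, hFx] at hw
      have h3 : brH h T b x = brH h T b 1 := by
        rw [map_one]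
        exact Additive.ofMul.injective hw
      rw [h2, (brH_bij h T hb').1 h3, map_one]
      rfl) (by
      intro b hb
      have hb' : (b : G) * b ≠ 1 := fun h1 => hb ((hF0 b).2 h1)
      obtain ⟨b₂, hb₂, e1, e2⟩ := T.L6 h b.2 hb' b₀.2 hb₀
      refine ⟨⟨b₂, hb₂⟩, ?_, ?_⟩
      · refine AddMonoidHom.ext fun v => ?_
        obtain ⟨x', hx'⟩ := e₀.surjective (Additive.toMul v)
        have h2 : v = Additive.ofMul (e₀ x') := by rw [hx']; rfl
        rw [h2]
        show F ⟨b₂, hb₂⟩ (Additive.ofMul (e₀ x')) = F b (F b (Additive.ofMul (e₀ x')))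
        rw [hFx, hFx]
        obtain ⟨x, hx⟩ := e₀.surjective (brH h T b x')
        rw [← hx, hFx]
        apply Additive.toMul.injective
        apply Subtype.ext
        exact e1 x x.2 x' x'.2 (congrArg Subtype.val hx).symm
      · obtain ⟨x, hx⟩ := e₀.surjective ⟨(b₀ : G) * b₀, h.sq_Om T.hB b₀.2⟩
        show _ = F b (Additive.ofMul ⟨(b₀ : G) * b₀, h.sq_Om T.hB b₀.2⟩)
        rw [← hx, hFx]
        apply Additive.toMul.injective
        apply Subtype.ext
        exact e2 x x.2 (congrArg Subtype.val hx).symm) char2 b c (fun h1 => hb ((hF0 b).1 h1)) (by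
      intro h1
      apply hbb₀
      rw [← hF0, hFmul, h1, h1F, charR])
  rcases key with h1 | h1 | h1 | h1
  · left
    exact (hF0 c).1 h1
  · right; left
    rw [← hF0, hFmul, h1, h1F, charR]
  · right; right; left
    rw [← hF0, hFmul, h1, charR]
  · right; right; right
    rw [← hF0, hFmul, hFmul, h1, h1F, charR]

end

end Cfsg.Agent.TIAbelian.PairFinal
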