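/-
helper262: S1779, pairs: `|B| = 16`, `B ≅ Z₄ × Z₄`.
-/
import Cfsg.Agent.TIAbelian.PairFinal

set_option autoImplicit false

namespace Cfsg.Agent.TIAbelian.PairCard

open Cfsg.Agent.TIAbelian.PairBase Cfsg.Agent.TIAbelian.PairOmega Cfsg.Agent.TIAbelian.PairGeo
open Cfsg.Agent.TIAbelian.PairLine Cfsg.Agent.TIAbelian.PairClique Cfsg.Agent.TIAbelian.PairStrong
open Cfsg.Agent.TIAbelian.PairTwo Cfsg.Agent.TIAbelian.PairFinal

/-- An abelian group of order `16` with two elements `b₀`, `b₁` of order `4` whose product also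
has nontrivial square, all of exponent `4`. -/
theorem equiv_of_card {B : Type*} [Group B] (hc : ∀ x y : B, x * y = y * x)
    (hcard : Nat.card B = 16) (h4 : ∀ x : B, (x * x) * (x * x) = 1) (b₀ b₁ : B)
    (h0 : b₀ * b₀ ≠ 1) (h1 : b₁ * b₁ ≠ 1) (h01 : (b₁ * b₀) * (b₁ * b₀) ≠ 1) :
    Nonempty (B ≃* Multiplicative (ZMod 4) × Multiplicative (ZMod 4)) := by
  have hp4 : ∀ x : B, x ^ 4 = 1 := by
    intro x
    rw [← h4 x]
    simp [pow_succ, mul_assoc]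
  have hpow : ∀ (x : B) (i j : ZMod 4), x ^ (i + j).val = x ^ i.val * x ^ j.val := by
    intro x i j
    rw [ZMod.val_add, ← pow_add]
    exact (pow_eq_pow_mod _ (hp4 x)).symm
  let ψ : Multiplicative (ZMod 4) × Multiplicative (ZMod 4) →* B :=
    MonoidHom.mk' (fun p => b₀ ^ (Multiplicative.toAdd p.1).val * b₁ ^ (Multiplicative.toAdd p.2).val)
      (by
        rintro ⟨i, j⟩ ⟨i', j'⟩
        show b₀ ^ (Multiplicative.toAdd i + Multiplicative.toAdd i').val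
          * b₁ ^ (Multiplicative.toAdd j + Multiplicative.toAdd j').val = _
        rw [hpow, hpow]
        have := hc (b₀ ^ (Multiplicative.toAdd i').val) (b₁ ^ (Multiplicative.toAdd j).val)
        simp only [mul_assoc]
        rw [← mul_assoc (b₀ ^ (Multiplicative.toAdd i').val), this]
        simp only [mul_assoc])
  have h01' : b₀ * b₀ * (b₁ * b₁) ≠ 1 := by
    intro h
    apply h01
    have : b₁ * b₀ * (b₁ * b₀) = b₀ * b₀ * (b₁ * b₁) := by
      rw [hc b₁ b₀, mul_assoc b₀ b₁, ← mul_assoc b₁ b₀, hc b₁ b₀]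
      simp only [mul_assoc]
    rw [this, h]
  have hsqpow : ∀ (x : B) (n : ℕ), x ^ n * x ^ n = (x * x) ^ n := by
    intro x n
    rw [← pow_add, ← two_mul, pow_mul, pow_two]
  have key : ∀ m n : ℕ, m < 4 → n < 4 → b₀ ^ m * b₁ ^ n = 1 → m = 0 ∧ n = 0 := by
    intro m n hm hn he
    have hsq : (b₀ * b₀) ^ m * (b₁ * b₁) ^ n = 1 := by
      rw [← hsqpow, ← hsqpow]
      have e1 : b₀ ^ m * b₀ ^ m * (b₁ ^ n * b₁ ^ n) = (b₀ ^ m * b₁ ^ n) * (b₀ ^ m * b₁ ^ n) := by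
        have := hc (b₀ ^ m) (b₁ ^ n)
        calc b₀ ^ m * b₀ ^ m * (b₁ ^ n * b₁ ^ n) = b₀ ^ m * (b₀ ^ m * b₁ ^ n) * b₁ ^ n := by
              simp only [mul_assoc]
          _ = b₀ ^ m * (b₁ ^ n * b₀ ^ m) * b₁ ^ n := by rw [this]
          _ = (b₀ ^ m * b₁ ^ n) * (b₀ ^ m * b₁ ^ n) := by simp only [mul_assoc]
      rw [e1, he, one_mul]
    have hs0 : ∀ n : ℕ, (b₀ * b₀) ^ (n + 2) = (b₀ * b₀) ^ n := by
      intro n
      rw [pow_add, pow_two, h4, mul_one]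
    have hs1 : ∀ n : ℕ, (b₁ * b₁) ^ (n + 2) = (b₁ * b₁) ^ n := by
      intro n
      rw [pow_add, pow_two, h4, mul_one]
    have a2 : (b₀ * b₀) ^ 2 = 1 := by rw [pow_two, h4]
    have a3 : (b₀ * b₀) ^ 3 = b₀ * b₀ := by rw [pow_succ, a2, one_mul]
    have c2 : (b₁ * b₁) ^ 2 = 1 := by rw [pow_two, h4]
    have c3 : (b₁ * b₁) ^ 3 = b₁ * b₁ := by rw [pow_succ, c2, one_mul]
    interval_cases m <;> interval_cases n <;>
      simp only [pow_zero, pow_one, one_mul, mul_one, a2, a3, c2, c3] at hsq he ⊢ <;>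
      first
        | exact ⟨trivial, trivial⟩
        | exact absurd hsq h0
        | exact absurd hsq h1
        | exact absurd hsq h01'
        | exact absurd (by rw [← pow_two]; exact he) h0
        | exact absurd (by rw [← pow_two]; exact he) h1
        | exact absurd (by rw [← pow_two, ← pow_two]; exact he) h01'
  have hinj : Function.Injective ψ := by
    rw [injective_iff_map_eq_one]
    rintro ⟨i, j⟩ he
    obtain ⟨h1, h2⟩ := key _ _ (ZMod.val_lt (Multiplicative.toAdd i))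
      (ZMod.val_lt (Multiplicative.toAdd j)) he
    rw [ZMod.val_eq_zero] at h1 h2
    exact Prod.ext h1 h2
  have : Finite B := Nat.finite_of_card_ne_zero (by rw [hcard]; decide)
  have hbij : Function.Bijective ψ := by
    rw [Nat.bijective_iff_injective_and_card]
    refine ⟨hinj, ?_⟩
    rw [hcard, Nat.card_prod]
    simp
  exact ⟨(MulEquiv.ofBijective ψ hbij).symm⟩

variable {G : Type*} [Group G]

section

variable {P : Set (Subgroup G)} (h : Geo P) {A B C : Subgroup G} (T : TwoLines P A B C)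
include h T

theorem exists_hom [Finite G] : ∃ Y : ↥B →* ↥(OmS h T.hC),
    (∀ b : ↥B, ∀ x ∈ Om A, (b : G) * x * (b : G)⁻¹ = Y b * x * (Y b : G)⁻¹) ∧
    Function.Surjective Y ∧ ∀ b, Y b = 1 ↔ (b : G) * b = 1 := by
  have hY : ∀ b : ↥B, ∃ y : ↥(OmS h T.hC), ∀ x ∈ Om A,
      (b : G) * x * (b : G)⁻¹ = y * x * (y : G)⁻¹ := by
    intro b
    obtain ⟨y, hy, e⟩ := T.L2 h b.2
    exact ⟨⟨y, hy⟩, e⟩
  choose Y hY using hY
  have huniq : ∀ (b : ↥B) (y : ↥(OmS h T.hC)),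
      (∀ x ∈ Om A, (b : G) * x * (b : G)⁻¹ = y * x * (y : G)⁻¹) → Y b = y := by
    intro b y hy
    obtain ⟨x, hx, hx1⟩ := exists_ne_Om h T.hA
    have h1 := (hY b x hx).symm.trans (hy x hx)
    have h2 : ((y⁻¹ * Y b : ↥(OmS h T.hC)) : G) = 1 := by
      refine T.comm_ne hx (y⁻¹ * Y b : ↥(OmS h T.hC)).2 hx1 ?_
      have := congrArg (fun t => (y : G)⁻¹ * t * Y b) h1
      simpa [mul_assoc] using this
    have h3 : y⁻¹ * Y b = 1 := Subtype.ext h2
    rw [inv_mul_eq_one] at h3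
    exact h3.symm
  have hmul : ∀ b c, Y (b * c) = Y b * Y c := by
    intro b c
    apply huniq
    intro x hx
    have hxB := h.comm_om A T.hA B T.hB T.AB x hx
    have hbr := h.brak C T.hC B T.hB T.CB (Y c) (Y c).2 b b.2
    have e1 : ((b * c : ↥B) : G) * x * ((b * c : ↥B) : G)⁻¹
        = b * (c * x * (c : G)⁻¹) * (b : G)⁻¹ := by simp [mul_assoc]
    rw [e1, hY c x hx]
    have e2 : (b : G) * (Y c * x * (Y c : G)⁻¹) * (b : G)⁻¹
        = ((b : G) * Y c * (b : G)⁻¹ * (Y c : G)⁻¹) * (Y c * (b * x * (b : G)⁻¹) * (Y c : G)⁻¹)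
          * ((b : G) * Y c * (b : G)⁻¹ * (Y c : G)⁻¹)⁻¹ := by simp [mul_assoc]
    rw [e2, hY b x hx]
    set v := (b : G) * Y c * (b : G)⁻¹ * (Y c : G)⁻¹ with hv
    have e3 : (Y c : G) * (Y b * x * (Y b : G)⁻¹) * (Y c : G)⁻¹
        = ((Y b * Y c : ↥(OmS h T.hC)) : G) * x * ((Y b * Y c : ↥(OmS h T.hC)) : G)⁻¹ := by
      have hc : (Y c : G) * Y b = Y b * Y c :=
        h.comm C T.hC _ (show (Y c : G) ∈ Om C from (Y c).2).1 _
          (show (Y b : G) ∈ Om C from (Y b).2).1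
      show _ = ((Y b : G) * Y c) * x * ((Y b : G) * Y c)⁻¹
      rw [← hc]
      simp [mul_assoc]
    rw [e3]
    have e4 : ∀ y ∈ Om C, v * (y * x * y⁻¹) = (y * x * y⁻¹) * v := by
      intro y hy
      have h1 := h.comm_om C T.hC B T.hB T.CB y hy v hbr
      have h2 : v * y⁻¹ = y⁻¹ * v := by
        have := congrArg (fun t => y⁻¹ * t * y⁻¹) h1
        simpa [mul_assoc] using this
      calc v * (y * x * y⁻¹) = (v * y) * x * y⁻¹ := by simp only [mul_assoc]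
        _ = y * (v * x) * y⁻¹ := by rw [← h1]; simp only [mul_assoc]
        _ = y * x * (v * y⁻¹) := by rw [← hxB v hbr]; simp only [mul_assoc]
        _ = y * x * y⁻¹ * v := by rw [h2]; simp only [mul_assoc]
    rw [e4 _ (Y b * Y c : ↥(OmS h T.hC)).2, mul_inv_cancel_right]
  refine ⟨MonoidHom.mk' Y hmul, hY, ?_, ?_⟩
  · intro y
    obtain ⟨b, hb, e⟩ := T.L3 h y.2
    exact ⟨⟨b, hb⟩, huniq ⟨b, hb⟩ y e⟩
  · intro b
    show Y b = 1 ↔ _
    constructor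
    · intro h1
      obtain ⟨x, hx, hx1⟩ := exists_ne_Om h T.hA
      refine h.sq_of_comm T.hA T.hB T.AB.1 hx.1 hx1 b.2 ?_
      have h2 := hY b x hx
      rw [h1] at h2
      have h3 : (b : G) * x * (b : G)⁻¹ = x := by simpa using h2
      exact (eq_comm_iff.2 h3).symm
    · intro h1
      apply huniq
      intro x hx
      rw [← h.comm_om A T.hA B T.hB T.AB x hx b ⟨b.2, h1⟩, mul_inv_cancel_right]
      simp

/-- The conclusion of the pair analysis. -/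
theorem card_B [Finite G] : Nat.card ↥(OmS h T.hB) = 4 ∧ Nat.card ↥B = 16 ∧
    Nonempty (↥B ≃* Multiplicative (ZMod 4) × Multiplicative (ZMod 4)) := by
  classical
  obtain ⟨Y, hY1, hY2, hY3⟩ := exists_hom h T
  obtain ⟨b₀', hb₀', hb₀1⟩ := h.nonelem B T.hB
  set b₀ : ↥B := ⟨b₀', hb₀'⟩ with hb₀def
  have hb₀ : (b₀ : G) * b₀ ≠ 1 := hb₀1
  have hYsq : ∀ y : ↥(OmS h T.hC), y * y = 1 := fun y =>
    Subtype.ext (show (y : G) ∈ Om C from y.2).2
  have hYmul1 : ∀ b c : ↥B, Y (b * c) = 1 → Y b = Y c := by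
    intro b c hbc
    rw [map_mul] at hbc
    exact mul_right_cancel (hbc.trans (hYsq _).symm)
  -- at least three elements in `V_C`
  obtain ⟨y₁, hy₁, hy₁1⟩ := exists_ne_Om h T.hC
  have hnrC : ∀ y, y ∈ nr C B ↔ y ∈ Om C := by
    intro y
    constructor
    · intro hy
      exact ⟨hy.1, (h.norm_iff B T.hB C T.hC T.CB.symm y hy.1).1 hy.2⟩
    · intro hy
      exact ⟨hy.1, (h.norm_iff B T.hB C T.hC T.CB.symm y hy.1).2 hy.2⟩
  obtain ⟨v₁, hv₁, hv₁1⟩ := exists_ne_Om h T.hB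
  have hv₁' : v₁ ∈ nr B C := ⟨hv₁.1, (h.norm_iff C T.hC B T.hB T.CB v₁ hv₁.1).2 hv₁.2⟩
  obtain ⟨y₂, hy₂, hy₂1, hy₂₁⟩ := h.exists_two T.hC T.hB T.CB.1 ((hnrC y₁).2 hy₁) hy₁1 hv₁' hv₁1
  rw [hnrC] at hy₂
  -- `b₁`
  obtain ⟨b₁, hb₁, hb₁₀⟩ : ∃ b₁ : ↥B, (b₁ : G) * b₁ ≠ 1 ∧
      ((b₁ * b₀ : ↥B) : G) * ((b₁ * b₀ : ↥B) : G) ≠ 1 := by
    by_contra hcon
    push Not at hcon
    have hall : ∀ y : ↥(OmS h T.hC), y = 1 ∨ y = Y b₀ := by
      intro y
      obtain ⟨b, rfl⟩ := hY2 y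
      by_cases hb : (b : G) * b = 1
      · left
        exact (hY3 b).2 hb
      · right
        exact hYmul1 _ _ ((hY3 _).2 (hcon b hb))
    have e1 : (⟨y₁, hy₁⟩ : ↥(OmS h T.hC)) = Y b₀ :=
      (hall ⟨y₁, hy₁⟩).resolve_left (fun h0 => hy₁1 (congrArg Subtype.val h0))
    have e2 : (⟨y₂, hy₂⟩ : ↥(OmS h T.hC)) = Y b₀ :=
      (hall ⟨y₂, hy₂⟩).resolve_left (fun h0 => hy₂1 (congrArg Subtype.val h0))
    exact hy₂₁ (congrArg Subtype.val (e2.trans e1.symm))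
  have hcos := fun c => cosets h T b₀ b₁ c hb₀ hb₁ hb₁₀
  have hsurj4 : ∀ y : ↥(OmS h T.hC), y ∈ ({1, Y b₀, Y b₁, Y (b₁ * b₀)} : Finset ↥(OmS h T.hC)) := by
    intro y
    obtain ⟨c, rfl⟩ := hY2 y
    simp only [Finset.mem_insert, Finset.mem_singleton]
    rcases hcos c with h1 | h1 | h1 | h1
    · exact Or.inl ((hY3 c).2 h1)
    · exact Or.inr (Or.inl (hYmul1 _ _ ((hY3 _).2 h1)))
    · exact Or.inr (Or.inr (Or.inl (hYmul1 _ _ ((hY3 _).2 h1))))
    · exact Or.inr (Or.inr (Or.inr (hYmul1 _ _ ((hY3 _).2 h1))))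
  have : Fintype ↥(OmS h T.hC) := Fintype.ofFinite _
  have hle : Nat.card ↥(OmS h T.hC) ≤ 4 := by
    rw [Nat.card_eq_fintype_card, ← Finset.card_univ]
    calc (Finset.univ : Finset ↥(OmS h T.hC)).card
        ≤ ({1, Y b₀, Y b₁, Y (b₁ * b₀)} : Finset ↥(OmS h T.hC)).card :=
          Finset.card_le_card (fun y _ => hsurj4 y)
      _ ≤ 4 := Finset.card_le_four
  have hge : 3 ≤ Nat.card ↥(OmS h T.hC) := by
    rw [Nat.card_eq_fintype_card]
    have h3 : ({1, ⟨y₁, hy₁⟩, ⟨y₂, hy₂⟩} : Finset ↥(OmS h T.hC)).card = 3 := by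
      rw [Finset.card_eq_three]
      refine ⟨1, ⟨y₁, hy₁⟩, ⟨y₂, hy₂⟩, ?_, ?_, ?_, rfl⟩
      · intro h0; exact hy₁1 (congrArg Subtype.val h0).symm
      · intro h0; exact hy₂1 (congrArg Subtype.val h0).symm
      · intro h0; exact hy₂₁ (congrArg Subtype.val h0).symm
    rw [← h3]
    exact Finset.card_le_univ _
  have heven : 2 ∣ Nat.card ↥(OmS h T.hC) := by
    have : orderOf (⟨y₁, hy₁⟩ : ↥(OmS h T.hC)) = 2 := by
      rw [orderOf_eq_prime_iff]
      refine ⟨?_, fun h0 => hy₁1 (congrArg Subtype.val h0)⟩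
      rw [pow_two]
      exact hYsq _
    rw [← this]
    exact orderOf_dvd_natCard _
  have hC4 : Nat.card ↥(OmS h T.hC) = 4 := by omega
  have hBC : Nat.card ↥(OmS h T.hB) = Nat.card ↥(OmS h T.hC) := ncard_Om h T.hB T.hC
  have hB4 : Nat.card ↥(OmS h T.hB) = 4 := hBC.trans hC4
  have hker : Nat.card ↥Y.ker = 4 := by
    rw [← hB4]
    refine Nat.card_congr ⟨fun x => ⟨(x : ↥B), (x : ↥B).2, (hY3 _).1 x.2⟩,
      fun x => ⟨⟨x, (show (x : G) ∈ Om B from x.2).1⟩,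
        (hY3 _).2 (show (x : G) ∈ Om B from x.2).2⟩, fun x => rfl, fun x => rfl⟩
  have hB16 : Nat.card ↥B = 16 := by
    rw [← Y.ker.card_mul_index, Subgroup.index_ker, MonoidHom.range_eq_top.2 hY2, hker,
      Subgroup.card_top, hC4]
  refine ⟨hB4, hB16, ?_⟩
  refine equiv_of_card ?_ hB16 ?_ b₀ b₁ ?_ ?_ ?_
  · intro x y
    exact Subtype.ext (h.comm B T.hB x x.2 y y.2)
  · intro x
    exact Subtype.ext (h.exp4 B T.hB x x.2)
  · intro h0
    exact hb₀ (congrArg Subtype.val h0)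
  · intro h0
    exact hb₁ (congrArg Subtype.val h0)
  · intro h0
    exact hb₁₀ (congrArg Subtype.val h0)

end

end Cfsg.Agent.TIAbelian.PairCard
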