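/-
helper262: S1779, case b: two full lines through `B`, without the hypothesis that distinct
conjugates do not commute (`Fam`, `Nb` of helper998 instead of `TIFam`, `Col`).
-/
import Cfsg.Agent.TIAbelian.CaseBGeo
import Cfsg.Agent.TIAbelian.PairAlg
import Cfsg.Agent.TIAbelian.PairCard

set_option autoImplicit false

namespace Cfsg.Agent.TIAbelian.CaseBTwo

open Cfsg.Agent.TIAbelian.PairBase hiding TIFam
open Cfsg.Agent.TIAbelian.PairOmega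
open Cfsg.Agent.TIAbelian.CaseBBase
open Cfsg.Agent.TIAbelian.PairGeo (Om mem_Om one_mem_Om inv_Om conj_mem_Om_cj mem_Om_cj)

variable {G : Type*} [Group G]

/-- The facts about neighbours used below (`Nb` = noncommuting, with commuting nontrivial
elements). -/
structure Geo (P : Set (Subgroup G)) : Prop extends Fam P where
  exp4 : ∀ C ∈ P, ∀ c ∈ C, (c * c) * (c * c) = 1
  norm_iff : ∀ A ∈ P, ∀ B ∈ P, Nb A B → ∀ b ∈ B, (cj b A = A ↔ b * b = 1)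
  comm_om : ∀ A ∈ P, ∀ B ∈ P, Nb A B → ∀ x ∈ Om A, ∀ y ∈ Om B, x * y = y * x
  brak : ∀ A ∈ P, ∀ B ∈ P, Nb A B → ∀ x ∈ Om A, ∀ b ∈ B, b * x * b⁻¹ * x⁻¹ ∈ Om B
  surj : ∀ A ∈ P, ∀ B ∈ P, Nb A B → ∀ b ∈ B, b * b ≠ 1 → ∀ y ∈ Om B, ∃ x ∈ Om A,
    b * x * b⁻¹ * x⁻¹ = y

theorem geo_of_nb [Finite G] {P : Set (Subgroup G)} (h : Fam P)
    (hex : ∃ A ∈ P, ∃ B ∈ P, Nb A B) : Geo P :=
  { toFam := h
    exp4 := fun _ hC _ hc => CaseBGeo.exp4 h hex hC hc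
    norm_iff := fun _ hA _ hB hn _ hb => CaseBGeo.norm_iff h hA hB hn hb
    comm_om := fun _ hA _ hB hn _ hx _ hy => CaseBGeo.comm_om h hA hB hn.2 hx hy
    brak := fun _ hA _ hB hn _ hx _ hb => CaseBGeo.brak h hA hB hn hx hb
    surj := fun _ hA _ hB hn _ hb hbb _ hy => CaseBGeo.surj h hA hB hn hb hbb hy }

namespace Geo

variable {P : Set (Subgroup G)} (h : Geo P)
include h

theorem mul_Om {C : Subgroup G} (hC : C ∈ P) {x y : G} (hx : x ∈ Om C) (hy : y ∈ Om C) :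
    x * y ∈ Om C := by
  refine ⟨C.mul_mem hx.1 hy.1, ?_⟩
  have : x * y * (x * y) = x * (y * x) * y := by simp only [mul_assoc]
  rw [this, h.comm C hC _ hy.1 _ hx.1]
  have : x * (x * y) * y = (x * x) * (y * y) := by simp only [mul_assoc]
  rw [this, hx.2, hy.2, one_mul]

theorem sq_Om {C : Subgroup G} (hC : C ∈ P) {c : G} (hc : c ∈ C) : c * c ∈ Om C :=
  ⟨C.mul_mem hc hc, h.exp4 C hC c hc⟩

theorem nb_ne {A B : Subgroup G} (hA : A ∈ P) (hn : Nb A B) : A ≠ B := h.ne hA hn.1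

theorem sq_of_comm {A B : Subgroup G} (hA : A ∈ P) (hB : B ∈ P) (hn : Nb A B) {x y : G}
    (hx : x ∈ A) (hx1 : x ≠ 1) (hy : y ∈ B) (hxy : x * y = y * x) : y * y = 1 :=
  (h.norm_iff A hA B hB hn y hy).1 (h.norm_of_comm hA hx hx1 hxy.symm)

/-- Injectivity of `x ↦ [b, x]`. -/
theorem brak_ne {A B : Subgroup G} (hA : A ∈ P) (hB : B ∈ P) (hne : Nb A B) {x b : G}
    (hx : x ∈ A) (hx1 : x ≠ 1) (hb : b ∈ B) (hbb : b * b ≠ 1) : b * x * b⁻¹ * x⁻¹ ≠ 1 := by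
  intro h0
  apply hbb
  refine h.sq_of_comm hA hB hne hx hx1 hb ?_
  rw [mul_inv_eq_one, mul_inv_eq_iff_eq_mul] at h0
  exact h0.symm

theorem brak_inj {A B : Subgroup G} (hA : A ∈ P) (hB : B ∈ P) (hne : Nb A B)
    {x x' b : G} (hx : x ∈ A) (hx' : x' ∈ A) (hb : b ∈ B) (hbb : b * b ≠ 1)
    (he : b * x * b⁻¹ * x⁻¹ = b * x' * b⁻¹ * x'⁻¹) : x = x' := by
  by_contra hxx
  have h1 : x'⁻¹ * x ≠ 1 := by
    intro h0
    apply hxx
    rw [inv_mul_eq_one] at h0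
    exact h0.symm
  apply hbb
  refine h.sq_of_comm hA hB hne (A.mul_mem (A.inv_mem hx') hx) h1 hb ?_
  have h2 : x * b⁻¹ * x⁻¹ = x' * b⁻¹ * x'⁻¹ := by
    have := congrArg (fun t => b⁻¹ * t) he
    simpa [mul_assoc] using this
  have h3 := congrArg (fun t => b * (x'⁻¹ * t * x) * b) h2
  have h4 : b * (x'⁻¹ * x) = x'⁻¹ * x * b := by simpa [mul_assoc] using h3
  exact h4.symm

end Geo


section

variable {P : Set (Subgroup G)} (h : Geo P)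
include h

theorem comm_brak {A : Subgroup G} (hA : A ∈ P) {k a : G} (ha : a ∈ A) (haa : a * a ≠ 1)
    (kA : ∀ x ∈ Om A, k * x = x * k) : k * a * k⁻¹ * a⁻¹ ∈ Om A := by
  have hk : cj k A = A :=
    h.norm_of_comm hA (h.sq_Om hA ha).1 haa (kA _ (h.sq_Om hA ha))
  have h1 : k * a * k⁻¹ ∈ A := conj_mem_of_cj hk ha
  refine ⟨A.mul_mem h1 (A.inv_mem ha), ?_⟩
  have e1 : k * a * k⁻¹ * a⁻¹ * (k * a * k⁻¹ * a⁻¹) = (k * a * k⁻¹) * (a⁻¹ * (k * a * k⁻¹)) * a⁻¹ := by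
    simp only [mul_assoc]
  rw [e1, h.comm A hA _ (A.inv_mem ha) _ h1]
  have e2 : (k * a * k⁻¹) * ((k * a * k⁻¹) * a⁻¹) * a⁻¹ = (k * (a * a)) * k⁻¹ * (a * a)⁻¹ := by
    simp [mul_assoc]
  rw [e2, kA _ (h.sq_Om hA ha)]
  simp

/-- `k` centralises `V_A V_B` and `k² ∈ V_A V_B` imply `k² = 1`. -/
theorem klem {A B : Subgroup G} (hA : A ∈ P) (hB : B ∈ P) (hc : Nb A B) {k : G}
    (kA : ∀ x ∈ Om A, k * x = x * k) (kB : ∀ y ∈ Om B, k * y = y * k) {x₀ y₀ : G}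
    (hx₀ : x₀ ∈ Om A) (hy₀ : y₀ ∈ Om B) (hkk : k * k = x₀ * y₀) : k * k = 1 := by
  obtain ⟨a, ha, haa⟩ := h.nonelem A hA
  obtain ⟨b, hb, hbb⟩ := h.nonelem B hB
  have hca := comm_brak h hA ha haa kA
  have hcb := comm_brak h hB hb hbb kB
  have cAB := h.comm_om A hA B hB hc
  set ca := k * a * k⁻¹ * a⁻¹ with hcadef
  set cb := k * b * k⁻¹ * b⁻¹ with hcbdef
  have hcab : a * cb * a⁻¹ * cb⁻¹ ∈ Om A := h.brak B hB A hA hc.symm cb hcb a ha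
  obtain ⟨x₂, hx₂, e₂⟩ := h.surj A hA B hB hc b hb hbb cb hcb
  set x₁ := ca * (a * cb * a⁻¹ * cb⁻¹) with hx₁def
  have hx₁ : x₁ ∈ Om A := h.mul_Om hA hca hcab
  obtain ⟨y₃, hy₃, e₃⟩ := h.surj B hB A hA hc.symm a ha haa x₁ hx₁
  have hy₂ : cb * y₃ ∈ Om B := h.mul_Om hB hcb hy₃
  -- `k (a b) = x₁ cb a b k`
  have f1 : k * (a * b) = x₁ * cb * (a * b) * k := by
    have e : x₁ * cb * (a * b) * k = ca * a * cb * b * k := by
      rw [hx₁def]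
      simp [mul_assoc]
    rw [e, hcadef, hcbdef]
    simp [mul_assoc]
  -- `(a b) (x₂ cb y₃) = x₁ y₃ x₂ (a b)`
  have f2 : (a * b) * (x₂ * (cb * y₃)) = x₁ * y₃ * x₂ * (a * b) := by
    have g1 : b * x₂ = cb * x₂ * b := by rw [← e₂]; simp [mul_assoc]
    have g2 : b * (cb * y₃) = (cb * y₃) * b := h.comm B hB _ hb _ hy₂.1
    have g3 : a * y₃ = x₁ * y₃ * a := by rw [← e₃]; simp [mul_assoc]
    calc (a * b) * (x₂ * (cb * y₃)) = a * (b * x₂) * (cb * y₃) := by simp only [mul_assoc]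
      _ = a * cb * x₂ * (b * (cb * y₃)) := by rw [g1]; simp only [mul_assoc]
      _ = a * cb * (x₂ * (cb * y₃)) * b := by rw [g2]; simp only [mul_assoc]
      _ = a * (cb * cb) * y₃ * x₂ * b := by rw [cAB x₂ hx₂ _ hy₂]; simp only [mul_assoc]
      _ = x₁ * y₃ * (a * x₂) * b := by rw [hcb.2, mul_one, g3]; simp only [mul_assoc]
      _ = x₁ * y₃ * x₂ * (a * b) := by
        rw [h.comm A hA _ ha _ hx₂.1]; simp only [mul_assoc]
  -- `u k` commutes with `a b`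
  set u := x₂ * (cb * y₃) with hudef
  have f3 : u * x₁ * cb = x₁ * y₃ * x₂ := by
    have c1 : (cb * y₃) * x₁ = x₁ * (cb * y₃) := (cAB x₁ hx₁ _ hy₂).symm
    have c2 : cb * y₃ * cb = y₃ := by
      rw [h.comm B hB _ hcb.1 _ hy₃.1, mul_assoc, hcb.2, mul_one]
    calc u * x₁ * cb = x₂ * ((cb * y₃) * x₁) * cb := by rw [hudef]; simp only [mul_assoc]
      _ = (x₂ * x₁) * (cb * y₃ * cb) := by rw [c1]; simp only [mul_assoc]
      _ = x₁ * (x₂ * y₃) := by rw [c2, h.comm A hA _ hx₂.1 _ hx₁.1, mul_assoc]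
      _ = x₁ * y₃ * x₂ := by rw [cAB x₂ hx₂ _ hy₃, ← mul_assoc]
  have f4 : (u * k) * (a * b) = (a * b) * (u * k) := by
    calc (u * k) * (a * b) = u * (k * (a * b)) := by simp only [mul_assoc]
      _ = (u * x₁ * cb) * (a * b) * k := by rw [f1]; simp only [mul_assoc]
      _ = (a * b) * u * k := by rw [f3, f2]
      _ = (a * b) * (u * k) := by simp only [mul_assoc]
  have ku : k * u = u * k := by
    rw [hudef, ← mul_assoc, kA _ hx₂, mul_assoc, kB _ hy₂, ← mul_assoc]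
  have huu : u * u = 1 := by
    have : u * u = (x₂ * ((cb * y₃) * x₂)) * (cb * y₃) := by rw [hudef]; simp only [mul_assoc]
    rw [this, ← cAB x₂ hx₂ _ hy₂]
    have : x₂ * (x₂ * (cb * y₃)) * (cb * y₃) = (x₂ * x₂) * ((cb * y₃) * (cb * y₃)) := by
      simp only [mul_assoc]
    rw [this, hx₂.2, hy₂.2, one_mul]
  have f5 : (u * k) * (u * k) = k * k := by
    have : (u * k) * (u * k) = u * (k * u) * k := by simp only [mul_assoc]
    rw [this, ku]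
    have : u * (u * k) * k = (u * u) * (k * k) := by simp only [mul_assoc]
    rw [this, huu, one_mul]
  have f6 : (k * k) * (a * b) = (a * b) * (k * k) := by
    rw [← f5, mul_assoc, f4, ← mul_assoc, f4, mul_assoc]
  rw [hkk] at f6
  -- now compute
  have hβ : b * x₀ * b⁻¹ * x₀⁻¹ ∈ Om B := h.brak A hA B hB hc x₀ hx₀ b hb
  set y' := b * x₀ * b⁻¹ * x₀⁻¹ with hy'
  have hα : a * (y' * y₀) * a⁻¹ * (y' * y₀)⁻¹ ∈ Om A :=
    h.brak B hB A hA hc.symm _ (h.mul_Om hB hβ hy₀) a ha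
  set x'' := a * (y' * y₀) * a⁻¹ * (y' * y₀)⁻¹ with hx''
  have f7 : (a * b) * (x₀ * y₀) = x'' * (y' * y₀) * x₀ * (a * b) := by
    have g1 : b * x₀ = y' * x₀ * b := by rw [hy']; simp [mul_assoc]
    have g3 : a * (y' * y₀) = x'' * (y' * y₀) * a := by rw [hx'']; simp [mul_assoc]
    calc (a * b) * (x₀ * y₀) = a * (b * x₀) * y₀ := by simp only [mul_assoc]
      _ = a * y' * x₀ * (b * y₀) := by rw [g1]; simp only [mul_assoc]
      _ = a * y' * (x₀ * y₀) * b := by rw [h.comm B hB _ hb _ hy₀.1]; simp only [mul_assoc]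
      _ = (a * (y' * y₀)) * x₀ * b := by rw [cAB x₀ hx₀ _ hy₀]; simp only [mul_assoc]
      _ = x'' * (y' * y₀) * (a * x₀) * b := by rw [g3]; simp only [mul_assoc]
      _ = x'' * (y' * y₀) * x₀ * (a * b) := by
        rw [h.comm A hA _ ha _ hx₀.1]; simp only [mul_assoc]
  rw [f7] at f6
  have f8 := mul_right_cancel f6
  have f9 : x'' * y' = 1 := by
    have e : x'' * (y' * y₀) * x₀ = (x'' * y') * (x₀ * y₀) := by
      rw [cAB x₀ hx₀ _ hy₀]; simp only [mul_assoc]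
    rw [e] at f8
    have := mul_right_cancel (b := x₀ * y₀) (f8.symm.trans (one_mul _).symm)
    exact this
  have hy'1 : y' = 1 := by
    by_contra h0
    apply h.nb_ne hA hc
    refine h.ti A hA B hB y' ?_ hβ.1 h0
    have : y' = x''⁻¹ := (inv_eq_of_mul_eq_one_right f9).symm
    rw [this]
    exact A.inv_mem hα.1
  have hx0 : x₀ = 1 := by
    by_contra h0
    exact h.brak_ne hA hB hc hx₀.1 h0 hb hbb hy'1
  rw [hy'1, mul_one] at f9
  have hy0 : y₀ = 1 := by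
    by_contra h0
    refine h.brak_ne hB hA hc.symm hy₀.1 h0 ha haa ?_
    rw [hx'', hy'1, one_mul] at f9
    exact f9
  rw [hkk, hx0, hy0, one_mul]

theorem exists_ne_Om {C : Subgroup G} (hC : C ∈ P) : ∃ v ∈ Om C, v ≠ 1 := by
  obtain ⟨c, hc, hcc⟩ := h.nonelem C hC
  exact ⟨c * c, h.sq_Om hC hc, hcc⟩

theorem ncard_Om {C D : Subgroup G} (hC : C ∈ P) (hD : D ∈ P) : (Om C).ncard = (Om D).ncard := by
  obtain ⟨g, rfl⟩ := h.trans C hC D hD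
  have : Om (cj g C) = (fun x => g * x * g⁻¹) '' Om C := by
    ext x
    constructor
    · intro hx
      exact ⟨g⁻¹ * x * g, mem_Om_cj.1 hx, by simp [mul_assoc]⟩
    · rintro ⟨y, hy, rfl⟩
      exact conj_mem_Om_cj hy
  rw [this, Set.ncard_image_of_injective]
  intro x y hxy
  simpa using hxy

/-- `Ω₁(C)` as a subgroup. -/
def OmS {C : Subgroup G} (hC : C ∈ P) : Subgroup G where
  carrier := Om C
  one_mem' := one_mem_Om C
  mul_mem' := fun hx hy => h.mul_Om hC hx hy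
  inv_mem' := fun {x} hx => by
    rw [inv_Om hx]
    exact hx

end

/-- Two neighbours `A`, `C` of `B` with `[V_A, V_C] = V_B`. -/
structure TwoLines (P : Set (Subgroup G)) (A B C : Subgroup G) : Prop where
  hA : A ∈ P
  hB : B ∈ P
  hC : C ∈ P
  AB : Nb A B
  CB : Nb C B
  br : ∀ x ∈ Om A, ∀ y ∈ Om C, x ≠ 1 → y ≠ 1 →
    x * y * x⁻¹ * y⁻¹ ∈ Om B ∧ x * y * x⁻¹ * y⁻¹ ≠ 1

section

variable {P : Set (Subgroup G)} (h : Geo P)
include h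

omit h in
theorem symm_of {A B C : Subgroup G} (hT : TwoLines P A B C) : TwoLines P C B A := by
  refine ⟨hT.hC, hT.hB, hT.hA, hT.CB, hT.AB, ?_⟩
  intro x hx y hy hx1 hy1
  obtain ⟨h1, h2⟩ := hT.br y hy x hx hy1 hx1
  have e : x * y * x⁻¹ * y⁻¹ = (y * x * y⁻¹ * x⁻¹)⁻¹ := by simp [mul_assoc]
  rw [e, inv_Om h1]
  exact ⟨h1, h2⟩

theorem conj_of {A B C : Subgroup G} (hT : TwoLines P A B C) (g : G) :
    TwoLines P (cj g A) (cj g B) (cj g C) := by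
  refine ⟨h.conj _ hT.hA g, h.conj _ hT.hB g, h.conj _ hT.hC g, CaseBGeo.Nb.cj hT.AB g,
    CaseBGeo.Nb.cj hT.CB g, ?_⟩
  intro x hx y hy hx1 hy1
  obtain ⟨h1, h2⟩ := hT.br _ (mem_Om_cj.1 hx) _ (mem_Om_cj.1 hy) (by
      intro h0
      apply hx1
      have := congrArg (fun t => g * t * g⁻¹) h0
      simpa [mul_assoc] using this) (by
      intro h0
      apply hy1
      have := congrArg (fun t => g * t * g⁻¹) h0
      simpa [mul_assoc] using this)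
  have e : x * y * x⁻¹ * y⁻¹ = g * ((g⁻¹ * x * g) * (g⁻¹ * y * g) * (g⁻¹ * x * g)⁻¹
      * (g⁻¹ * y * g)⁻¹) * g⁻¹ := by simp [mul_assoc]
  rw [e]
  refine ⟨conj_mem_Om_cj h1, ?_⟩
  intro h0
  apply h2
  have := congrArg (fun t => g⁻¹ * t * g) h0
  simpa [mul_assoc] using this

end

namespace TwoLines

variable {P : Set (Subgroup G)} {A B C : Subgroup G} (T : TwoLines P A B C) (h : Geo P)
include T h

omit h in
theorem br' {x y : G} (hx : x ∈ Om A) (hy : y ∈ Om C) : y * x * y⁻¹ * x⁻¹ ∈ Om B := by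
  by_cases hx1 : x = 1
  · subst hx1
    simpa using one_mem_Om B
  by_cases hy1 : y = 1
  · subst hy1
    simpa using one_mem_Om B
  have h1 := (T.br x hx y hy hx1 hy1).1
  have e : y * x * y⁻¹ * x⁻¹ = (x * y * x⁻¹ * y⁻¹)⁻¹ := by simp [mul_assoc]
  rw [e, inv_Om h1]
  exact h1

omit h in
theorem comm_ne {x y : G} (hx : x ∈ Om A) (hy : y ∈ Om C) (hx1 : x ≠ 1) (hyx : y * x = x * y) :
    y = 1 := by
  by_contra hy1
  apply (T.br x hx y hy hx1 hy1).2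
  rw [mul_inv_eq_one, mul_inv_eq_iff_eq_mul]
  exact hyx.symm

theorem br_surj [Finite G] {x v : G} (hx : x ∈ Om A) (hx1 : x ≠ 1) (hv : v ∈ Om B) :
    ∃ y ∈ Om C, y * x * y⁻¹ * x⁻¹ = v := by
  have hinj : Set.InjOn (fun y => y * x * y⁻¹ * x⁻¹) (Om C) := by
    intro y hy y' hy' he
    have h1 : y'⁻¹ * y = 1 := by
      refine comm_ne T hx (h.mul_Om T.hC ?_ hy) hx1 ?_
      · rw [inv_Om hy']
        exact hy'
      · have h2 := mul_right_cancel he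
        have h3 := congrArg (fun t => y'⁻¹ * t * y) h2
        simpa [mul_assoc] using h3
    rw [inv_mul_eq_one] at h1
    exact h1.symm
  have himg : (fun y => y * x * y⁻¹ * x⁻¹) '' Om C = Om B := by
    refine Set.eq_of_subset_of_ncard_le ?_ ?_ (Set.toFinite _)
    · rintro _ ⟨y, hy, rfl⟩
      exact T.br' hx hy
    · rw [Set.InjOn.ncard_image hinj]
      exact (ncard_Om h T.hB T.hC).le
  rw [← himg] at hv
  obtain ⟨y, hy, e⟩ := hv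
  exact ⟨y, hy, e⟩

/-- `k` normalises `A`, `[k, x] ∈ V_B`: then `k` centralises `x`. -/
theorem fix_of_norm {k x : G} (hx : x ∈ Om A) (hk : cj k A = A) (hkx : k * x * k⁻¹ * x⁻¹ ∈ Om B) :
    k * x * k⁻¹ = x := by
  have h1 : k * x * k⁻¹ * x⁻¹ ∈ A := A.mul_mem (conj_mem_of_cj hk hx.1) (A.inv_mem hx.1)
  have h2 : k * x * k⁻¹ * x⁻¹ = 1 := by
    by_contra h0
    exact h.nb_ne T.hA T.AB (h.ti A T.hA B T.hB _ h1 hkx.1 h0)
  rwa [mul_inv_eq_one] at h2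

/-- every `b ∈ B` acts on `V_A` as some `y ∈ V_C`. -/
theorem L2 [Finite G] {b : G} (hb : b ∈ B) :
    ∃ y ∈ Om C, ∀ x ∈ Om A, b * x * b⁻¹ = y * x * y⁻¹ := by
  obtain ⟨x₁, hx₁, hx₁1⟩ := exists_ne_Om h T.hA
  have hb1 := h.brak A T.hA B T.hB T.AB x₁ hx₁ b hb
  obtain ⟨y, hy, e⟩ := T.br_surj h hx₁ hx₁1 hb1
  refine ⟨y, hy, ?_⟩
  have hyi := inv_Om hy
  have e1 : y * x₁ * y⁻¹ = b * x₁ * b⁻¹ := mul_right_cancel e
  have hk : cj (y⁻¹ * b) A = A := by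
    refine h.norm_of_comm T.hA hx₁.1 hx₁1 ?_
    have := congrArg (fun t => y⁻¹ * t * b) e1
    simpa [mul_assoc] using this.symm
  intro x hx
  have hbx := h.brak A T.hA B T.hB T.AB x hx b hb
  have hyx := T.br' hx hy
  have h3 : (y⁻¹ * b) * x * (y⁻¹ * b)⁻¹ = x := by
    refine T.fix_of_norm h hx hk ?_
    have hv := h.comm_om C T.hC B T.hB T.CB y hy _ hbx
    have e3 : (y⁻¹ * b) * x * (y⁻¹ * b)⁻¹ * x⁻¹
        = (y⁻¹ * (b * x * b⁻¹ * x⁻¹) * y) * (y⁻¹ * x * y⁻¹⁻¹ * x⁻¹) := by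
      simp [mul_assoc]
    have e4 : y⁻¹ * (b * x * b⁻¹ * x⁻¹) * y = b * x * b⁻¹ * x⁻¹ := by
      rw [mul_assoc, ← hv, inv_mul_cancel_left]
    rw [e3, e4, hyi]
    exact h.mul_Om T.hB hbx hyx
  have h4 := congrArg (fun t => y * t * y⁻¹) h3
  simpa [mul_assoc] using h4

/-- the line through `A` and `B`. -/
def UU : Subgroup G :=
  prodS (OmS h T.hA) (OmS h T.hB) (fun x hx y hy => h.comm_om A T.hA B T.hB T.AB x hx y hy)

theorem mem_UU {u : G} : u ∈ T.UU h ↔ ∃ x ∈ Om A, ∃ y ∈ Om B, u = x * y := Iff.rfl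

theorem left_UU {x : G} (hx : x ∈ Om A) : x ∈ T.UU h := ⟨x, hx, 1, one_mem_Om B, by simp⟩

theorem right_UU {y : G} (hy : y ∈ Om B) : y ∈ T.UU h := ⟨1, one_mem_Om A, y, hy, by simp⟩

theorem sq_UU : ∀ u ∈ T.UU h, u * u = 1 := by
  rintro _ ⟨x, hx, y, hy, rfl⟩
  have hx' : x ∈ Om A := hx
  have hy' : y ∈ Om B := hy
  have : x * y * (x * y) = x * (y * x) * y := by simp only [mul_assoc]
  rw [this, ← h.comm_om A T.hA B T.hB T.AB x hx y hy]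
  have : x * (x * y) * y = (x * x) * (y * y) := by simp only [mul_assoc]
  rw [this, hx'.2, hy'.2, one_mul]

theorem tvB {b : G} (hb : b ∈ B) (hbb : b * b ≠ 1) : Tv (T.UU h) B b := by
  have cAB := h.comm_om A T.hA B T.hB T.AB
  refine ⟨?_, ?_, ?_⟩
  · refine cj_eq_of_forall (B := B) ?_ hb
    rintro b hb _ ⟨x, hx, y, hy, rfl⟩
    have hx' : x ∈ Om A := hx
    have hy' : y ∈ Om B := hy
    have hbr := h.brak A T.hA B T.hB T.AB x hx b hb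
    refine ⟨x, hx, (b * x * b⁻¹ * x⁻¹) * y, h.mul_Om T.hB hbr hy, ?_⟩
    have h2 : b * (x * y) * b⁻¹ = (b * x * b⁻¹ * x⁻¹) * x * (b * y * b⁻¹) := by simp [mul_assoc]
    rw [h2, h.comm B T.hB b hb y hy'.1, mul_inv_cancel_right, ← cAB x hx _ hbr]
    simp only [mul_assoc]
  · rintro _ ⟨x, hx, y, hy, rfl⟩
    have hy' : y ∈ Om B := hy
    have hsq := h.sq_Om T.hB hb
    rw [← mul_assoc (b * b), ← cAB x hx _ hsq, mul_assoc x (b * b) y,
      h.comm B T.hB _ hsq.1 _ hy'.1, mul_assoc x y]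
  · rintro _ ⟨x, hx, y, hy, rfl⟩
    have hx' : x ∈ Om A := hx
    have hy' : y ∈ Om B := hy
    constructor
    · intro h1
      have hx1 : x = 1 := by
        by_contra h0
        refine hbb (h.sq_of_comm T.hA T.hB T.AB hx'.1 h0 hb ?_)
        have h3 : b * x * y = x * b * y := by
          rw [mul_assoc b x y, h1, mul_assoc x y b, ← h.comm B T.hB _ hb _ hy'.1, ← mul_assoc]
        exact (mul_right_cancel h3).symm
      rw [hx1, one_mul]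
      exact hy'.1
    · intro h1
      exact h.comm B T.hB _ hb _ h1

theorem tvA {a : G} (ha : a ∈ A) (haa : a * a ≠ 1) : Tv (T.UU h) A a := by
  have cAB := h.comm_om A T.hA B T.hB T.AB
  refine ⟨?_, ?_, ?_⟩
  · refine cj_eq_of_forall (B := A) ?_ ha
    rintro a ha _ ⟨x, hx, y, hy, rfl⟩
    have hx' : x ∈ Om A := hx
    have hy' : y ∈ Om B := hy
    have hbr := h.brak B T.hB A T.hA T.AB.symm y hy a ha
    refine ⟨x * (a * y * a⁻¹ * y⁻¹), h.mul_Om T.hA hx hbr, y, hy, ?_⟩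
    have h2 : a * (x * y) * a⁻¹ = (a * x) * y * a⁻¹ := by simp [mul_assoc]
    rw [h2, h.comm A T.hA a ha x hx'.1]
    simp [mul_assoc]
  · rintro _ ⟨x, hx, y, hy, rfl⟩
    have hx' : x ∈ Om A := hx
    have hsq := h.sq_Om T.hA ha
    rw [← mul_assoc (a * a), h.comm A T.hA _ hsq.1 _ hx'.1, mul_assoc x (a * a) y,
      cAB _ hsq y hy, mul_assoc x y]
  · rintro _ ⟨x, hx, y, hy, rfl⟩
    have hx' : x ∈ Om A := hx
    have hy' : y ∈ Om B := hy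
    constructor
    · intro h1
      have hy1 : y = 1 := by
        by_contra h0
        refine haa (h.sq_of_comm T.hB T.hA T.AB.symm hy'.1 h0 ha ?_)
        have h3 : x * (a * y) = x * (y * a) := by
          rw [← mul_assoc, ← h.comm A T.hA a ha x hx'.1, mul_assoc, h1, mul_assoc]
        exact (mul_left_cancel h3).symm
      rw [hy1, mul_one]
      exact hx'.1
    · intro h1
      exact h.comm A T.hA _ ha _ h1

theorem tvC {c : G} (hc : c ∈ Om C) (hc1 : c ≠ 1) : Tv (T.UU h) B c := by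
  have cAB := h.comm_om A T.hA B T.hB T.AB
  have cCB := h.comm_om C T.hC B T.hB T.CB
  refine ⟨?_, ?_, ?_⟩
  · refine cj_eq_of_forall (B := OmS h T.hC) ?_ hc
    rintro b hb _ ⟨x, hx, y, hy, rfl⟩
    have hbr := T.br' hx hb
    refine ⟨x, hx, (b * x * b⁻¹ * x⁻¹) * y, h.mul_Om T.hB hbr hy, ?_⟩
    have h2 : b * (x * y) * b⁻¹ = (b * x * b⁻¹ * x⁻¹) * x * (b * y * b⁻¹) := by simp [mul_assoc]
    rw [h2, cCB b hb y hy, mul_inv_cancel_right, ← cAB x hx _ hbr]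
    simp only [mul_assoc]
  · intro u _
    rw [hc.2]
    simp
  · rintro _ ⟨x, hx, y, hy, rfl⟩
    constructor
    · intro h1
      have hx1 : x = 1 := by
        by_contra h0
        apply hc1
        refine T.comm_ne hx hc h0 ?_
        have h3 : c * x * y = x * c * y := by
          rw [mul_assoc c x y, h1, mul_assoc x y c, ← cCB c hc y hy, ← mul_assoc]
        exact mul_right_cancel h3
      rw [hx1, one_mul]
      exact (show y ∈ Om B from hy).1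
    · intro h1
      refine cCB c hc _ ⟨h1, ?_⟩
      exact T.sq_UU h _ ⟨x, hx, y, hy, rfl⟩

theorem ntB : ∃ u ∈ T.UU h, u ∈ B ∧ u ≠ 1 := by
  obtain ⟨v, hv, hv1⟩ := exists_ne_Om h T.hB
  exact ⟨v, T.right_UU h hv, hv.1, hv1⟩

theorem ntA : ∃ u ∈ T.UU h, u ∈ A ∧ u ≠ 1 := by
  obtain ⟨v, hv, hv1⟩ := exists_ne_Om h T.hA
  exact ⟨v, T.left_UU h hv, hv.1, hv1⟩

theorem genBA : ∀ u ∈ T.UU h, ∃ v ∈ T.UU h, ∃ w ∈ T.UU h, v ∈ B ∧ w ∈ A ∧ u = v * w := by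
  rintro _ ⟨x, hx, y, hy, rfl⟩
  exact ⟨y, T.right_UU h hy, x, T.left_UU h hx, (show y ∈ Om B from hy).1,
    (show x ∈ Om A from hx).1, h.comm_om A T.hA B T.hB T.AB x hx y hy⟩

/-- `r = q`: every `y ∈ V_C` acts on `V_A` as some element of `B`. -/
theorem L3 [Finite G] {y : G} (hy : y ∈ Om C) :
    ∃ b ∈ B, ∀ x ∈ Om A, b * x * b⁻¹ = y * x * y⁻¹ := by
  by_cases hy1 : y = 1
  · subst hy1
    exact ⟨1, B.one_mem, fun x _ => rfl⟩
  obtain ⟨a, ha, haa⟩ := h.nonelem A T.hA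
  obtain ⟨b₁, hb₁, hbb₁⟩ := h.nonelem B T.hB
  have hTa := T.tvA h ha haa
  have hTb := T.tvB h hb₁ hbb₁
  have hTy := T.tvC h hy hy1
  obtain ⟨g, hg, hg1⟩ := CaseBBase.lemT h.toFam (T.sq_UU h) T.hB T.hA hTb hTa (T.ntB h) (T.ntA h) (T.genBA h)
  obtain ⟨g', hg', hg1'⟩ := CaseBBase.lemT h.toFam (T.sq_UU h) T.hB T.hA hTy hTa (T.ntB h) (T.ntA h)
    (T.genBA h)
  have hgi := cj_inv_eq hg'
  have hk : cj (g'⁻¹ * g) (T.UU h) = T.UU h := cj_mul_eq hgi hg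
  have hE : EqOnU (T.UU h) ((g'⁻¹ * g) * b₁ * (g'⁻¹ * g)⁻¹) y := by
    intro u hu
    have h1 : g' * u * g'⁻¹ ∈ T.UU h := conj_mem_of_cj hg' hu
    have h2 := (hg1 _ h1).trans (hg1' _ h1).symm
    have h3 := congrArg (fun t => g'⁻¹ * t * g') h2
    simpa [mul_assoc] using h3
  have hTk : Tv (T.UU h) (cj (g'⁻¹ * g) B) y := (hTb.conj hk).congr hE hTy.norm
  have hkB : cj (g'⁻¹ * g) B = B :=
    (CaseBBase.Tv.unique h.toFam T.hB (h.conj B T.hB _) hTy hTk (T.ntB h)).symm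
  exact ⟨_, conj_mem_of_cj hkB hb₁, fun x hx => hE x (T.left_UU h hx)⟩

/-- if `b` and `y` agree on `V_A` then `[y, b] = b²`. -/
theorem L4 {b y : G} (hb : b ∈ B) (hy : y ∈ Om C)
    (he : ∀ x ∈ Om A, b * x * b⁻¹ = y * x * y⁻¹) : b * y * b⁻¹ * y⁻¹ = b * b := by
  have hyi := inv_Om hy
  have hbr := h.brak C T.hC B T.hB T.CB y hy b hb
  have hk := klem h T.hA T.hB T.AB (k := y * b) (by
      intro x hx
      rw [eq_comm_iff]
      have e1 : y * b * x * (y * b)⁻¹ = y * (b * x * b⁻¹) * y⁻¹ := by simp [mul_assoc]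
      rw [e1, he x hx]
      have e2 : y * (y * x * y⁻¹) * y⁻¹ = (y * y) * x * (y * y)⁻¹ := by simp [mul_assoc]
      rw [e2, hy.2]
      simp) (by
      intro v hv
      rw [mul_assoc, h.comm B T.hB _ hb _ hv.1, ← mul_assoc,
        h.comm_om C T.hC B T.hB T.CB y hy v hv, mul_assoc]) (x₀ := 1)
    (y₀ := (b * y * b⁻¹ * y⁻¹)⁻¹ * (b * b)) (one_mem_Om A)
    (h.mul_Om T.hB (by rw [inv_Om hbr]; exact hbr) (h.sq_Om T.hB hb)) (by
      have : (1 : G) * ((b * y * b⁻¹ * y⁻¹)⁻¹ * (b * b)) = y * b * (y⁻¹ * b) := by simp [mul_assoc]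
      rw [this, hyi])
  have h1 : (b * y * b⁻¹ * y⁻¹)⁻¹ * (b * b) = 1 := by
    rw [← hk]
    have : (b * y * b⁻¹ * y⁻¹)⁻¹ * (b * b) = y * b * (y⁻¹ * b) := by simp [mul_assoc]
    rw [this, hyi]
  rw [inv_mul_eq_one] at h1
  exact h1

/-- for every `b ∈ B - V_B` there is `a ∈ A` with `[a, [b, x]] = x` for all `x ∈ V_A`. -/
theorem L5 [Finite G] {b : G} (hb : b ∈ B) (hbb : b * b ≠ 1) :
    ∃ a ∈ A, ∀ x ∈ Om A, a * (b * x * b⁻¹ * x⁻¹) * a⁻¹ * (b * x * b⁻¹ * x⁻¹)⁻¹ = x := by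
  obtain ⟨a₁, ha₁, haa₁⟩ := h.nonelem A T.hA
  have hTa := T.tvA h ha₁ haa₁
  have hTb := T.tvB h hb hbb
  obtain ⟨g, hg, hg1⟩ := CaseBBase.lemT h.toFam (T.sq_UU h) T.hB T.hA hTb hTa (T.ntB h) (T.ntA h) (T.genBA h)
  have hTk : Tv (T.UU h) (cj g B) a₁ := (hTb.conj hg).congr hg1 hTa.norm
  have hgB : A = cj g B :=
    CaseBBase.Tv.unique h.toFam T.hA (h.conj B T.hB _) hTa hTk (T.ntA h)
  have T' : TwoLines P (cj g A) A (cj g C) := by
    have := conj_of h T g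
    rwa [← hgB] at this
  have cA' := h.comm_om _ T'.hA A T.hA T'.AB
  have dec : ∀ u ∈ T.UU h, ∃ x' ∈ Om (cj g A), ∃ v' ∈ Om A, u = x' * v' := by
    intro u hu
    have h1 : g⁻¹ * u * g ∈ T.UU h := conj_mem_of_cj' hg hu
    obtain ⟨x, hx, y, hy, e⟩ := (T.mem_UU h).1 h1
    refine ⟨g * x * g⁻¹, conj_mem_Om_cj hx, g * y * g⁻¹, ?_, ?_⟩
    · have := conj_mem_Om_cj (g := g) hy
      rwa [← hgB] at this
    · have e2 : g * x * g⁻¹ * (g * y * g⁻¹) = g * (x * y) * g⁻¹ := by simp [mul_assoc]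
      rw [e2, ← e]
      simp [mul_assoc]
  have claim : ∀ u ∈ T.UU h, u ∉ A → ∃ y ∈ Om (cj g C), u ∈ cj y (cj g A) := by
    intro u hu huA
    obtain ⟨x', hx', v', hv', rfl⟩ := dec u hu
    have hx1 : x' ≠ 1 := by
      rintro rfl
      apply huA
      rw [one_mul]
      exact hv'.1
    obtain ⟨y, hy, e⟩ := T'.br_surj h hx' hx1 hv'
    refine ⟨y, hy, ?_⟩
    have e2 : x' * v' = y * x' * y⁻¹ := by
      rw [cA' _ hx' _ hv', ← e]
      simp [mul_assoc]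
    rw [e2]
    exact conj_mem_cj hx'.1
  obtain ⟨x₁, hx₁, hx₁1⟩ := exists_ne_Om h T.hA
  obtain ⟨v₁, hv₁, hv₁1⟩ := exists_ne_Om h T.hB
  have hbx1 : b * x₁ * b⁻¹ ≠ 1 := by
    intro h0
    apply hx₁1
    have := congrArg (fun t => b⁻¹ * t * b) h0
    simpa [mul_assoc] using this
  have hbA : cj b A ≠ A := fun h0 => hbb ((h.norm_iff A T.hA B T.hB T.AB b hb).1 h0)
  obtain ⟨y, hy, hyu⟩ := claim (b * x₁ * b⁻¹) (conj_mem_of_cj hTb.norm (T.left_UU h hx₁)) (by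
    intro h0
    exact hbA (h.norm_of_conj T.hA hx₁.1 hx₁1 h0))
  obtain ⟨y', hy', hyu'⟩ := claim v₁ (T.right_UU h hv₁) (by
    intro h0
    exact h.nb_ne T.hA T.AB (h.ti A T.hA B T.hB _ h0 hv₁.1 hv₁1))
  have e1 : cj b A = cj y (cj g A) :=
    h.ti _ (h.conj A T.hA b) _ (h.conj _ T'.hA y) _ (conj_mem_cj hx₁.1) hyu hbx1
  have e2 : B = cj y' (cj g A) :=
    h.ti B T.hB _ (h.conj _ T'.hA y') _ hv₁.1 hyu' hv₁1
  have e3 : cj b A = cj (y * y'⁻¹) B := by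
    rw [e1, e2, cj_cj _ y', mul_assoc, inv_mul_cancel, mul_one]
  have hyy : y * y'⁻¹ ∈ Om (cj g C) := by
    rw [inv_Om hy']
    exact h.mul_Om T'.hC hy hy'
  obtain ⟨a, ha, haE⟩ := T'.L3 h hyy
  refine ⟨a, ha, ?_⟩
  -- `a` and `y y'⁻¹` agree on `U`
  have hagree : ∀ u ∈ T.UU h, a * u * a⁻¹ = (y * y'⁻¹) * u * (y * y'⁻¹)⁻¹ := by
    intro u hu
    obtain ⟨x', hx', v', hv', rfl⟩ := dec u hu
    have f1 : a * v' * a⁻¹ = v' := by
      rw [h.comm A T.hA _ ha _ hv'.1, mul_inv_cancel_right]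
    have f2 : (y * y'⁻¹) * v' * (y * y'⁻¹)⁻¹ = v' := by
      rw [h.comm_om _ T'.hC A T.hA T'.CB _ hyy _ hv', mul_inv_cancel_right]
    have f3 : ∀ s : G, s * (x' * v') * s⁻¹ = (s * x' * s⁻¹) * (s * v' * s⁻¹) := by
      intro s
      simp [mul_assoc]
    rw [f3, f3, f1, f2, haE x' hx']
  have haB : cj a B = cj b A := by
    rw [e3]
    refine h.ti _ (h.conj B T.hB a) _ (h.conj B T.hB _) (a * v₁ * a⁻¹) (conj_mem_cj hv₁.1) ?_ ?_
    · rw [hagree _ (T.right_UU h hv₁)]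
      exact conj_mem_cj hv₁.1
    · intro h0
      apply hv₁1
      have := congrArg (fun t => a⁻¹ * t * a) h0
      simpa [mul_assoc] using this
  intro x hx
  have hbr := h.brak A T.hA B T.hB T.AB x hx b hb
  have hv : a⁻¹ * (b * x * b⁻¹) * a ∈ Om B := by
    have h1 : b * x * b⁻¹ ∈ Om (cj b A) := conj_mem_Om_cj hx
    rw [← haB] at h1
    exact mem_Om_cj.1 h1
  set v := a⁻¹ * (b * x * b⁻¹) * a with hvdef
  have hav := h.brak B T.hB A T.hA T.AB.symm v hv a ha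
  have f1 : (b * x * b⁻¹ * x⁻¹) * x = (a * v * a⁻¹ * v⁻¹) * v := by
    rw [hvdef]
    simp [mul_assoc]
  have f2 : (b * x * b⁻¹ * x⁻¹) * v⁻¹ = (a * v * a⁻¹ * v⁻¹) * x⁻¹ := by
    have c1 := h.comm_om A T.hA B T.hB T.AB x hx v hv
    have c2 : x⁻¹ * v⁻¹ = v⁻¹ * x⁻¹ := by rw [← mul_inv_rev, ← mul_inv_rev, c1]
    calc (b * x * b⁻¹ * x⁻¹) * v⁻¹ = ((b * x * b⁻¹ * x⁻¹) * x) * (x⁻¹ * v⁻¹) := by
          simp [mul_assoc]
      _ = ((a * v * a⁻¹ * v⁻¹) * v) * (v⁻¹ * x⁻¹) := by rw [f1, c2]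
      _ = (a * v * a⁻¹ * v⁻¹) * x⁻¹ := by simp [mul_assoc]
  have f3 : (b * x * b⁻¹ * x⁻¹) * v⁻¹ = 1 := by
    by_contra h0
    refine h.nb_ne T.hA T.AB (h.ti A T.hA B T.hB _ ?_ (B.mul_mem hbr.1 (B.inv_mem hv.1)) h0)
    rw [f2]
    exact A.mul_mem hav.1 (A.inv_mem hx.1)
  have f4 : (a * v * a⁻¹ * v⁻¹) * x⁻¹ = 1 := f2.symm.trans f3
  rw [mul_inv_eq_one] at f3 f4
  rw [f3]
  exact f4

/-- swapping element: `w = b a b` interchanges `x` and `[b, x]`. -/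
theorem exists_swap [Finite G] {b : G} (hb : b ∈ B) (hbb : b * b ≠ 1) :
    ∃ w : G, ∀ x ∈ Om A, w * x * w⁻¹ = b * x * b⁻¹ * x⁻¹ ∧
      w * (b * x * b⁻¹ * x⁻¹) * w⁻¹ = x := by
  obtain ⟨a, ha, haE⟩ := T.L5 h hb hbb
  refine ⟨b * a * b, ?_⟩
  intro x hx
  have hbr := h.brak A T.hA B T.hB T.AB x hx b hb
  have hax := haE x hx
  set v := b * x * b⁻¹ * x⁻¹ with hv
  have e1 : b * x * b⁻¹ = v * x := by rw [hv]; simp [mul_assoc]
  have e2 : a * v * a⁻¹ = x * v := by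
    rw [← hax]
    simp [mul_assoc]
  have e3 : a * x * a⁻¹ = x := by rw [h.comm A T.hA _ ha _ hx.1, mul_inv_cancel_right]
  have e4 : b * v * b⁻¹ = v := by rw [h.comm B T.hB _ hb _ hbr.1, mul_inv_cancel_right]
  have e5 : x * v = v * x := h.comm_om A T.hA B T.hB T.AB x hx v hbr
  constructor
  · have f1 : b * a * b * x * (b * a * b)⁻¹ = b * (a * (b * x * b⁻¹) * a⁻¹) * b⁻¹ := by
      simp [mul_assoc]
    have f2 : a * (v * x) * a⁻¹ = (a * v * a⁻¹) * (a * x * a⁻¹) := by simp [mul_assoc]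
    rw [f1, e1, f2, e2, e3, e5, mul_assoc v x x, hx.2, mul_one, e4]
  · have f1 : b * a * b * v * (b * a * b)⁻¹ = b * (a * (b * v * b⁻¹) * a⁻¹) * b⁻¹ := by
      simp [mul_assoc]
    have f2 : b * (x * v) * b⁻¹ = (b * x * b⁻¹) * (b * v * b⁻¹) := by simp [mul_assoc]
    rw [f1, e4, e2, f2, e4, e1, ← e5, mul_assoc x v v, hbr.2, mul_one]

/-- the element `b''` with `β_{b''} = β_b β_{b₀}⁻¹ β_b` and `b''² = β_b β_{b₀}⁻¹ (b₀²)`. -/
theorem L6 [Finite G] {b b₀ : G} (hb : b ∈ B) (hbb : b * b ≠ 1) (hb₀ : b₀ ∈ B)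
    (hbb₀ : b₀ * b₀ ≠ 1) : ∃ b₂ ∈ B,
      (∀ x ∈ Om A, ∀ x' ∈ Om A, b * x' * b⁻¹ * x'⁻¹ = b₀ * x * b₀⁻¹ * x⁻¹ →
        b₂ * x' * b₂⁻¹ * x'⁻¹ = b * x * b⁻¹ * x⁻¹) ∧
      (∀ x ∈ Om A, b₀ * b₀ = b₀ * x * b₀⁻¹ * x⁻¹ → b₂ * b₂ = b * x * b⁻¹ * x⁻¹) := by
  obtain ⟨w, hw⟩ := T.exists_swap h hb hbb
  obtain ⟨w₀, hw₀⟩ := T.exists_swap h hb₀ hbb₀
  -- `g = w w₀`
  have hg1 : ∀ x ∈ Om A, (w * w₀) * (b₀ * x * b₀⁻¹ * x⁻¹) * (w * w₀)⁻¹ = b * x * b⁻¹ * x⁻¹ := by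
    intro x hx
    have f1 : (w * w₀) * (b₀ * x * b₀⁻¹ * x⁻¹) * (w * w₀)⁻¹
        = w * (w₀ * (b₀ * x * b₀⁻¹ * x⁻¹) * w₀⁻¹) * w⁻¹ := by simp [mul_assoc]
    rw [f1, (hw₀ x hx).2, (hw x hx).1]
  have hg2 : ∀ x ∈ Om A, ∀ x' ∈ Om A, b * x' * b⁻¹ * x'⁻¹ = b₀ * x * b₀⁻¹ * x⁻¹ →
      (w * w₀) * x * (w * w₀)⁻¹ = x' := by
    intro x hx x' hx' he
    have f1 : (w * w₀) * x * (w * w₀)⁻¹ = w * (w₀ * x * w₀⁻¹) * w⁻¹ := by simp [mul_assoc]
    rw [f1, (hw₀ x hx).1, ← he, (hw x' hx').2]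
  set g := w * w₀ with hg
  have hgB : cj g B = B := by
    obtain ⟨x₁, hx₁, hx₁1⟩ := exists_ne_Om h T.hA
    refine h.norm_of_conj T.hB (h.brak A T.hA B T.hB T.AB x₁ hx₁ b₀ hb₀).1
      (h.brak_ne T.hA T.hB T.AB hx₁.1 hx₁1 hb₀ hbb₀) ?_
    rw [hg1 x₁ hx₁]
    exact (h.brak A T.hA B T.hB T.AB x₁ hx₁ b hb).1
  refine ⟨g * b₀ * g⁻¹, conj_mem_of_cj hgB hb₀, ?_, ?_⟩
  · intro x hx x' hx' he
    rw [← hg1 x hx, ← hg2 x hx x' hx' he]
    simp [mul_assoc]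
  · intro x hx he
    rw [← hg1 x hx, ← he]
    simp [mul_assoc]

end TwoLines

end Cfsg.Agent.TIAbelian.CaseBTwo
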