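/-
helper998: S1779, case b: interface for (b5).
-/
import Cfsg.Agent.TIAbelian.CaseBFinal
import Cfsg.Agent.TIAbelian.CaseBK

set_option autoImplicit false

namespace Cfsg.Agent.TIAbelian.CaseB5Def

open Cfsg.Agent.TIAbelian.PairBase hiding TIFam
open Cfsg.Agent.TIAbelian.PairOmega
open Cfsg.Agent.TIAbelian.CaseBBase
open Cfsg.Agent.TIAbelian.CaseBGeo
open Cfsg.Agent.TIAbelian.PairGeo (Om mem_Om one_mem_Om inv_Om conj_mem_Om_cj mem_Om_cj)

variable {G : Type*} [Group G]

/-- The family consists of groups of order 16 with four elements of order at most 2. -/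
structure Four (P : Set (Subgroup G)) : Prop extends CaseBTwo.Geo P where
  card : ∀ C ∈ P, Nat.card ↥C = 16
  card_om : ∀ C ∈ P, (Om C).ncard = 4

end Cfsg.Agent.TIAbelian.CaseB5Def
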