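/-
helper935: S1779, case b, step (b5): the torus of a line and the common table of commutators.
-/
import Cfsg.Agent.TIAbelian.CaseB5Def

set_option autoImplicit false

namespace Cfsg.Agent.TIAbelian.CaseB5

open Cfsg.Agent.TIAbelian.PairBase hiding TIFam
open Cfsg.Agent.TIAbelian.PairOmega
open Cfsg.Agent.TIAbelian.CaseBBase
open Cfsg.Agent.TIAbelian.CaseBGeo
open Cfsg.Agent.TIAbelian.CaseB5Def
open Cfsg.Agent.TIAbelian.PairGeo (Om mem_Om one_mem_Om inv_Om conj_mem_Om_cj mem_Om_cj)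

variable {G : Type*} [Group G]

section

variable {P : Set (Subgroup G)} (h : Four P)
include h

theorem card_OmS {C : Subgroup G} (hC : C ∈ P) :
    Nat.card ↥(CaseBTwo.OmS h.toGeo hC) = 4 := h.card_om C hC

/-- A homomorphism from a member to an `Ω₁` whose kernel has exponent two is onto. -/
theorem surj_of_ker [Finite G] {C D : Subgroup G} (hC : C ∈ P) (hD : D ∈ P)
    (φ : ↥D →* ↥(CaseBTwo.OmS h.toGeo hC)) (hφ : ∀ d : ↥D, φ d = 1 → (d : G) * d = 1) :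
    Function.Surjective φ := by
  have h1 : Nat.card ↥φ.ker ≤ 4 := by
    rw [← card_OmS h hD]
    refine Nat.card_le_card_of_injective
      (fun x : ↥φ.ker => (⟨((x : ↥D) : G), (x : ↥D).2, hφ _ x.2⟩ : ↥(CaseBTwo.OmS h.toGeo hD))) ?_
    intro x y hxy
    apply Subtype.ext
    apply Subtype.ext
    exact congrArg (fun t : ↥(CaseBTwo.OmS h.toGeo hD) => (t : G)) hxy
  have h2 := φ.ker.card_mul_index
  rw [Subgroup.index_ker, h.card D hD] at h2
  have h3 : Nat.card ↥φ.range ≤ 4 := by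
    rw [← card_OmS h hC]
    exact Subgroup.card_le_card_group _
  have h4 : Nat.card ↥φ.range = 4 := by
    have h5 : Nat.card ↥φ.ker * Nat.card ↥φ.range ≤ 4 * Nat.card ↥φ.range :=
      Nat.mul_le_mul_right _ h1
    omega
  rw [← MonoidHom.range_eq_top]
  apply Subgroup.eq_top_of_card_eq
  rw [h4, card_OmS h hC]

/-- every element of `Ω₁(D)` is a square in `D` -/
theorem exists_sq [Finite G] {D : Subgroup G} (hD : D ∈ P) {s : G} (hs : s ∈ Om D) :
    ∃ d ∈ D, d * d = s := by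
  let φ : ↥D →* ↥(CaseBTwo.OmS h.toGeo hD) := MonoidHom.mk'
    (fun d => ⟨(d : G) * d, h.sq_Om hD d.2⟩) (by
      intro a b
      apply Subtype.ext
      show (a : G) * b * (a * b) = a * a * (b * b)
      have e1 : (a : G) * b * (a * b) = a * (b * a) * b := by simp only [mul_assoc]
      rw [e1, h.comm D hD b b.2 a a.2]
      simp only [mul_assoc])
  obtain ⟨d, hd⟩ := surj_of_ker h hD hD φ
    (fun d hd => congrArg (fun t : ↥(CaseBTwo.OmS h.toGeo hD) => (t : G)) hd) ⟨s, hs⟩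
  exact ⟨d, d.2, congrArg (fun t : ↥(CaseBTwo.OmS h.toGeo hD) => (t : G)) hd⟩

/-- `d ↦ [d, x]` maps `D` onto `Ω₁(D)` for `x ∈ Ω₁(X)`, `x ≠ 1`. -/
theorem exists_brak [Finite G] {X D : Subgroup G} (hX : X ∈ P) (hD : D ∈ P) (hn : Nb X D) {x : G}
    (hx : x ∈ Om X) (hx1 : x ≠ 1) {s : G} (hs : s ∈ Om D) : ∃ d ∈ D, d * x * d⁻¹ * x⁻¹ = s := by
  let φ : ↥D →* ↥(CaseBTwo.OmS h.toGeo hD) := MonoidHom.mk'
    (fun d => ⟨(d : G) * x * (d : G)⁻¹ * x⁻¹, h.brak X hX D hD hn x hx d d.2⟩) (by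
      intro a b
      apply Subtype.ext
      show (a * b : G) * x * (a * b : G)⁻¹ * x⁻¹ = a * x * (a : G)⁻¹ * x⁻¹ * (b * x * (b : G)⁻¹ * x⁻¹)
      have hb := h.brak X hX D hD hn x hx b b.2
      have ha := h.brak X hX D hD hn x hx a a.2
      have e1 : (a * b : G) * x * (a * b : G)⁻¹ * x⁻¹ =
          (a * (b * x * (b : G)⁻¹ * x⁻¹)) * (x * (a : G)⁻¹ * x⁻¹) := by simp [mul_assoc]
      rw [e1, h.comm D hD a a.2 _ hb.1]
      have e2 : (b * x * (b : G)⁻¹ * x⁻¹ * a) * (x * (a : G)⁻¹ * x⁻¹) =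
          (b * x * (b : G)⁻¹ * x⁻¹) * (a * x * (a : G)⁻¹ * x⁻¹) := by simp [mul_assoc]
      rw [e2, h.comm D hD _ hb.1 _ ha.1])
  have hker : ∀ d : ↥D, φ d = 1 → (d : G) * d = 1 := by
    intro d hd
    by_contra h0
    exact h.brak_ne hX hD hn hx.1 hx1 d.2 h0
      (congrArg (fun t : ↥(CaseBTwo.OmS h.toGeo hD) => (t : G)) hd)
  obtain ⟨d, hd⟩ := surj_of_ker h hD hD φ hker ⟨s, hs⟩
  exact ⟨d, d.2, congrArg (fun t : ↥(CaseBTwo.OmS h.toGeo hD) => (t : G)) hd⟩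

/-- The swap. -/
theorem exists_swap [Finite G] {X D : Subgroup G} (hX : X ∈ P) (hD : D ∈ P) (hn : Nb X D) {a : G}
    (ha : a ∈ X) (haa : a * a ≠ 1) : ∃ w : G,
      (∀ g : G, (∀ x ∈ X, g * x = x * g) → (∀ d ∈ D, g * d = d * g) → g * w = w * g) ∧
      cj w X = D ∧ cj w D = X ∧ (∀ x ∈ Om X, w * x * w⁻¹ ∈ Om D) ∧
      (∀ x ∈ Om X, a * (w * x * w⁻¹) * a⁻¹ * (w * x * w⁻¹)⁻¹ = x) ∧
      (∀ y ∈ Om D, w * y * w⁻¹ = a * y * a⁻¹ * y⁻¹) := by
  obtain ⟨y₀, hy₀, hy₀1⟩ := CaseBTwo.exists_ne_Om h.toGeo hD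
  set x₀ := a * y₀ * a⁻¹ * y₀⁻¹ with hx₀def
  have hx₀ : x₀ ∈ Om X := h.brak D hD X hX hn.symm y₀ hy₀ a ha
  have hx₀1 : x₀ ≠ 1 := h.brak_ne hD hX hn.symm hy₀.1 hy₀1 ha haa
  obtain ⟨d, hd, hdx⟩ := exists_brak h hX hD hn hx₀ hx₀1 hy₀
  have hdd : d * d ≠ 1 := by
    intro h0
    apply hy₀1
    rw [← hdx, ← h.comm_om X hX D hD hn x₀ hx₀ d ⟨hd, h0⟩]
    simp
  -- `cj a D = cj d X`
  have e1 : d * x₀ * d⁻¹ = a * y₀ * a⁻¹ := by
    have e2 : d * x₀ * d⁻¹ = y₀ * x₀ := by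
      rw [← hdx]
      simp [mul_assoc]
    rw [e2, ← h.comm_om X hX D hD hn x₀ hx₀ y₀ hy₀, hx₀def]
    simp [mul_assoc]
  have hcj : cj a D = cj d X := by
    refine h.ti _ (h.conj D hD a) _ (h.conj X hX d) (a * y₀ * a⁻¹) (conj_mem_cj hy₀.1) ?_ ?_
    · rw [← e1]
      exact conj_mem_cj hx₀.1
    · intro h0
      apply hy₀1
      have := congrArg (fun t => a⁻¹ * t * a) h0
      simpa [mul_assoc] using this
  have haD : cj (a * a) D = D :=
    (h.norm_iff D hD X hX hn.symm (a * a) (X.mul_mem ha ha)).2 (h.exp4 X hX a ha)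
  have hdX : cj (d * d) X = X :=
    (h.norm_iff X hX D hD hn (d * d) (D.mul_mem hd hd)).2 (h.exp4 D hD d hd)
  have hwX : cj (a * d * a) X = D := by
    rw [← cj_cj, cj_self ha, ← cj_cj, ← hcj, cj_cj, haD]
  have hwD : cj (a * d * a) D = X := by
    rw [← cj_cj, hcj, ← cj_cj, cj_cj d d X, hdX, cj_self ha]
  have hne : X ≠ D := h.nb_ne hX hn
  have hint : ∀ g : G, g ∈ X → g ∈ D → g = 1 := by
    intro g hg1 hg2
    by_contra h0
    exact hne (h.ti X hX D hD g hg1 hg2 h0)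
  -- action on `Om X`
  have hA : ∀ x ∈ Om X, a * d * a * x * (a * d * a)⁻¹ = d * x * d⁻¹ * x⁻¹ ∧
      a * (d * x * d⁻¹ * x⁻¹) * a⁻¹ * (d * x * d⁻¹ * x⁻¹)⁻¹ = x := by
    intro x hx
    set y := d * x * d⁻¹ * x⁻¹ with hydef
    have hy : y ∈ Om D := h.brak X hX D hD hn x hx d hd
    have hay := h.brak D hD X hX hn.symm y hy a ha
    have hax : a * x = x * a := h.comm X hX a ha x hx.1
    have hxy : x * y = y * x := h.comm_om X hX D hD hn x hx y hy
    have hyx : d * x * d⁻¹ = y * x := by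
      rw [hydef]
      simp [mul_assoc]
    -- `w x w⁻¹ = [a, y] y x`
    have f1 : a * d * a * x * (a * d * a)⁻¹ = (a * y * a⁻¹ * y⁻¹) * x * y := by
      have g1 : a * d * a * x * (a * d * a)⁻¹ = a * (d * (a * x * a⁻¹) * d⁻¹) * a⁻¹ := by
        simp [mul_assoc]
      rw [g1, hax, mul_inv_cancel_right, hyx]
      have g2 : a * (y * x) * a⁻¹ = (a * y * a⁻¹) * (a * x * a⁻¹) := by simp [mul_assoc]
      rw [g2, hax, mul_inv_cancel_right]
      have g3 : a * y * a⁻¹ * y⁻¹ * x * y = a * y * a⁻¹ * (y⁻¹ * (x * y)) := by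
        simp only [mul_assoc]
      rw [g3, hxy]
      simp [mul_assoc]
    have f2 : a * d * a * x * (a * d * a)⁻¹ ∈ D := by
      rw [← hwX]
      exact conj_mem_cj hx.1
    have f3 : (a * y * a⁻¹ * y⁻¹) * x = 1 := by
      apply hint
      · exact X.mul_mem hay.1 hx.1
      · have : (a * y * a⁻¹ * y⁻¹) * x = (a * d * a * x * (a * d * a)⁻¹) * y⁻¹ := by
          rw [f1]
          simp [mul_assoc]
        rw [this]
        exact D.mul_mem f2 (D.inv_mem hy.1)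
    refine ⟨?_, ?_⟩
    · rw [f1, f3, one_mul]
    · have := eq_inv_of_mul_eq_one_left f3
      rw [this, inv_Om hx]
  -- action on `Om D`
  have hB : ∀ y ∈ Om D, a * d * a * y * (a * d * a)⁻¹ = a * y * a⁻¹ * y⁻¹ := by
    intro y hy
    set x := a * y * a⁻¹ * y⁻¹ with hxdef
    have hx : x ∈ Om X := h.brak D hD X hX hn.symm y hy a ha
    have hxy : x * y = y * x := h.comm_om X hX D hD hn x hx y hy
    set v := d * x * d⁻¹ * x⁻¹ with hvdef
    have hv : v ∈ Om D := h.brak X hX D hD hn x hx d hd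
    have hxv : x * v = v * x := h.comm_om X hX D hD hn x hx v hv
    have hav := h.brak D hD X hX hn.symm v hv a ha
    have hax : a * x = x * a := h.comm X hX a ha x hx.1
    have hdy : d * y = y * d := h.comm D hD d hd y hy.1
    have hvy : v * y = y * v := h.comm D hD v hv.1 y hy.1
    have hyx : a * y * a⁻¹ = x * y := by
      rw [hxdef]
      simp [mul_assoc]
    have hvx : d * x * d⁻¹ = v * x := by
      rw [hvdef]
      simp [mul_assoc]
    have f1 : a * d * a * y * (a * d * a)⁻¹ = (a * v * a⁻¹ * v⁻¹) * (v * y) := by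
      have g1 : a * d * a * y * (a * d * a)⁻¹ = a * (d * (a * y * a⁻¹) * d⁻¹) * a⁻¹ := by
        simp [mul_assoc]
      have g2 : d * (x * y) * d⁻¹ = (d * x * d⁻¹) * (d * y * d⁻¹) := by simp [mul_assoc]
      have g3 : a * (v * x * y) * a⁻¹ = (a * v * a⁻¹) * (a * x * a⁻¹) * (a * y * a⁻¹) := by
        simp [mul_assoc]
      rw [g1, hyx, g2, hdy, mul_inv_cancel_right, hvx, g3, hax, mul_inv_cancel_right, hyx]
      have g4 : a * v * a⁻¹ * x * (x * y) = a * v * a⁻¹ * ((x * x) * y) := by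
        simp only [mul_assoc]
      rw [g4, hx.2, one_mul]
      simp [mul_assoc]
    have f2 : a * d * a * y * (a * d * a)⁻¹ ∈ X := by
      rw [← hwD]
      exact conj_mem_cj hy.1
    have f3 : v * y = 1 := by
      apply hint
      · have : v * y = (a * v * a⁻¹ * v⁻¹)⁻¹ * (a * d * a * y * (a * d * a)⁻¹) := by
          rw [f1]
          simp [mul_assoc]
        rw [this]
        exact X.mul_mem (X.inv_mem hav.1) f2
      · exact D.mul_mem hv.1 hy.1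
    have f4 : v = y := by
      have := eq_inv_of_mul_eq_one_left f3
      rw [this, inv_Om hy]
    rw [f1, f3, mul_one, f4]
  refine ⟨a * d * a, ?_, hwX, hwD, ?_, ?_, hB⟩
  · intro g hg1 hg2
    have e1 := hg1 a ha
    have e2 := hg2 d hd
    calc g * (a * d * a) = (g * a) * d * a := by simp only [mul_assoc]
      _ = a * (g * d) * a := by rw [e1]; simp only [mul_assoc]
      _ = a * d * (g * a) := by rw [e2]; simp only [mul_assoc]
      _ = a * d * a * g := by rw [e1]; simp only [mul_assoc]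
  · intro x hx
    rw [(hA x hx).1]
    exact h.brak X hX D hD hn x hx d hd
  · intro x hx
    rw [(hA x hx).1]
    exact (hA x hx).2

/-- The torus of the line `X D`. -/
theorem torus [Finite G] {X D : Subgroup G} (hX : X ∈ P) (hD : D ∈ P) (hn : Nb X D) :
    ∃ τ : G, (∀ g : G, (∀ x ∈ X, g * x = x * g) → (∀ d ∈ D, g * d = d * g) → g * τ = τ * g) ∧
      cj τ X = X ∧ cj τ D = D ∧ ∀ x ∈ Om X, x ≠ 1 → τ * x * τ⁻¹ ≠ x := by
  -- two elements of `X` in different cosets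
  obtain ⟨s, hs, hs1⟩ := CaseBTwo.exists_ne_Om h.toGeo hX
  obtain ⟨s', hs', hs'1, hs's⟩ := CaseBGeo.exists_two_Om h.toFam hX s
  obtain ⟨a₁, ha₁, ha₁s⟩ := exists_sq h hX hs
  obtain ⟨a₂, ha₂, ha₂s⟩ := exists_sq h hX hs'
  obtain ⟨w₁, hw₁, c₁, d₁, -, -, f₁⟩ := exists_swap h hX hD hn ha₁ (by rw [ha₁s]; exact hs1)
  obtain ⟨w₂, hw₂, c₂, d₂, e₂, m₂, -⟩ := exists_swap h hX hD hn ha₂ (by rw [ha₂s]; exact hs'1)
  refine ⟨w₁ * w₂, ?_, ?_, ?_, ?_⟩
  · intro g hg1 hg2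
    rw [← mul_assoc, hw₁ g hg1 hg2, mul_assoc, hw₂ g hg1 hg2, mul_assoc]
  · rw [← cj_cj, c₂, d₁]
  · rw [← cj_cj, d₂, c₁]
  · intro x hx hx1 h0
    set y := w₂ * x * w₂⁻¹ with hydef
    have hy : y ∈ Om D := e₂ x hx
    have hy1 : y ≠ 1 := by
      intro h1
      apply hx1
      have := congrArg (fun t => w₂⁻¹ * t * w₂) (hydef.symm.trans h1)
      simpa [mul_assoc] using this
    have k1 : w₁ * w₂ * x * (w₁ * w₂)⁻¹ = w₁ * y * w₁⁻¹ := by
      rw [hydef]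
      simp [mul_assoc]
    have k2 : a₁ * y * a₁⁻¹ * y⁻¹ = x := by
      rw [← f₁ y hy, ← k1, h0]
    have k3 : a₂ * y * a₂⁻¹ * y⁻¹ = x := m₂ x hx
    have k4 : a₁ * y * a₁⁻¹ = a₂ * y * a₂⁻¹ := mul_right_cancel (k2.trans k3.symm)
    have k5 : y * (a₂⁻¹ * a₁) = (a₂⁻¹ * a₁) * y := by
      have := congrArg (fun t => a₂⁻¹ * t * a₁) k4
      simpa [mul_assoc] using this.symm
    have k6 : (a₂⁻¹ * a₁) * (a₂⁻¹ * a₁) = 1 :=
      h.sq_of_comm hD hX hn.symm hy.1 hy1 (X.mul_mem (X.inv_mem ha₂) ha₁) k5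
    apply hs's
    have k7 : (a₂⁻¹ * a₁) * (a₂⁻¹ * a₁) = a₂⁻¹ * a₂⁻¹ * (a₁ * a₁) := by
      have : (a₂⁻¹ * a₁) * (a₂⁻¹ * a₁) = a₂⁻¹ * (a₁ * a₂⁻¹) * a₁ := by simp only [mul_assoc]
      rw [this, h.comm X hX a₁ ha₁ _ (X.inv_mem ha₂)]
      simp only [mul_assoc]
    rw [k7, ha₁s] at k6
    have k8 : a₂⁻¹ * a₂⁻¹ = s' ⁻¹ := by rw [← ha₂s]; simp
    rw [k8] at k6
    exact (inv_mul_eq_one.1 k6)

/-- The elements of `Ω₁(D)`. -/
theorem fourD {D : Subgroup G} (hD : D ∈ P) {s s' : G} (hs : s ∈ Om D) (hs' : s' ∈ Om D)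
    (hs1 : s ≠ 1) (hs'1 : s' ≠ 1) (hss : s ≠ s') {t : G} (ht : t ∈ Om D) :
    t = 1 ∨ t = s ∨ t = s' ∨ t = s * s' := by
  classical
  have h1 : (({1, s, s', s * s'} : Finset G) : Set G) ⊆ Om D := by
    intro g hg
    simp only [Finset.coe_insert, Finset.coe_singleton, Set.mem_insert_iff,
      Set.mem_singleton_iff] at hg
    rcases hg with rfl | rfl | rfl | rfl
    · exact one_mem_Om D
    · exact hs
    · exact hs'
    · exact h.mul_Om hD hs hs'
  have h3 : s * s' ≠ 1 := by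
    intro h0
    apply hss
    rw [eq_inv_of_mul_eq_one_left h0, inv_Om hs']
  have h2 : ({1, s, s', s * s'} : Finset G).card = 4 := by
    rw [Finset.card_insert_of_notMem, Finset.card_insert_of_notMem,
      Finset.card_insert_of_notMem, Finset.card_singleton]
    · simp [hs1]
    · simp [hss, hs'1]
    · simp [hs1.symm, hs'1.symm, h3.symm]
  have h4 : (({1, s, s', s * s'} : Finset G) : Set G) = Om D := by
    refine Set.eq_of_subset_of_ncard_le h1 ?_ ?_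
    · rw [Set.ncard_coe_finset, h2, h.card_om D hD]
    · apply Set.finite_of_ncard_pos
      rw [h.card_om D hD]
      norm_num
  rw [← h4] at ht
  simpa using ht

/-- `[e, x] = e²` for all `e ∈ D` is impossible. -/
theorem not_all [Finite G] {X D : Subgroup G} (hX : X ∈ P) (hD : D ∈ P) (hn : Nb X D) {x : G}
    (hx : x ∈ Om X) (hx1 : x ≠ 1) (hall : ∀ e ∈ D, e * x * e⁻¹ * x⁻¹ = e * e) : False := by
  obtain ⟨τ, -, hτX, hτD, hτ⟩ := torus h hX hD hn
  have hx' : τ * x * τ⁻¹ ∈ Om X := by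
    have := conj_mem_Om_cj (g := τ) hx
    rwa [hτX] at this
  apply hτ x hx hx1
  obtain ⟨e, he, hee⟩ := h.nonelem D hD
  refine h.brak_inj hX hD hn hx'.1 hx.1 he hee ?_
  rw [hall e he]
  have h2 : τ⁻¹ * e * τ ∈ D := by
    rw [← mem_cj, hτD]
    exact he
  have h3 := congrArg (fun t => τ * t * τ⁻¹) (hall _ h2)
  simpa [mul_assoc] using h3

/-- `[e, x] = e²` cannot hold for elements of two different nontrivial cosets. -/
theorem not_two [Finite G] {X D : Subgroup G} (hX : X ∈ P) (hD : D ∈ P) (hn : Nb X D) {x : G}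
    (hx : x ∈ Om X) (hx1 : x ≠ 1) {d e : G} (hd : d ∈ D) (he : e ∈ D) (hdd : d * d ≠ 1)
    (hee : e * e ≠ 1) (hde : d * d ≠ e * e) (h1 : d * x * d⁻¹ * x⁻¹ = d * d)
    (h2 : e * x * e⁻¹ * x⁻¹ = e * e) : False := by
  have hmul : ∀ a ∈ D, ∀ b ∈ D, a * x * a⁻¹ * x⁻¹ = a * a → b * x * b⁻¹ * x⁻¹ = b * b →
      a * b * x * (a * b)⁻¹ * x⁻¹ = a * b * (a * b) := by
    intro a ha b hb k1 k2
    have e1 : a * b * x * (a * b)⁻¹ * x⁻¹ = a * (b * x * b⁻¹ * x⁻¹) * (x * a⁻¹ * x⁻¹) := by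
      simp [mul_assoc]
    rw [e1, k2]
    have e2 : a * (b * b) * (x * a⁻¹ * x⁻¹) = a * (b * b) * a⁻¹ * (a * x * a⁻¹ * x⁻¹) := by
      simp [mul_assoc]
    rw [e2, k1]
    have e3 : a * (b * b) * a⁻¹ * (a * a) = a * (b * (b * a)) := by simp [mul_assoc]
    rw [e3, h.comm D hD b hb a ha]
    simp only [mul_assoc]
  refine not_all h hX hD hn hx hx1 ?_
  intro f hf
  have key : ∀ g ∈ D, g * x * g⁻¹ * x⁻¹ = g * g → g * g = f * f → f * x * f⁻¹ * x⁻¹ = f * f := by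
    intro g hg k1 k2
    have hu : f * g⁻¹ ∈ Om D := by
      refine ⟨D.mul_mem hf (D.inv_mem hg), ?_⟩
      have e1 : f * g⁻¹ * (f * g⁻¹) = f * (g⁻¹ * f) * g⁻¹ := by simp only [mul_assoc]
      rw [e1, h.comm D hD _ (D.inv_mem hg) f hf]
      have e2 : f * (f * g⁻¹) * g⁻¹ = (f * f) * (g * g)⁻¹ := by simp [mul_assoc]
      rw [e2, k2, mul_inv_cancel]
    have hux := h.comm_om X hX D hD hn x hx _ hu
    have k3 := hmul _ hu.1 g hg (by rw [hu.2, ← hux]; simp [mul_assoc]) k1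
    simpa using k3
  rcases fourD h hD (h.sq_Om hD hd) (h.sq_Om hD he) hdd hee hde (h.sq_Om hD hf) with k | k | k | k
  · exact key 1 D.one_mem (by simp) (by rw [k, one_mul])
  · exact key d hd h1 k.symm
  · exact key e he h2 k.symm
  · refine key (d * e) (D.mul_mem hd he) (hmul d hd e he h1 h2) ?_
    rw [k]
    have : d * e * (d * e) = d * (e * d) * e := by simp only [mul_assoc]
    rw [this, h.comm D hD e he d hd]
    simp only [mul_assoc]

/-- every `x ∈ Ω₁(X)#` is `x_δ` for some `δ` -/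
theorem exists_delta [Finite G] {X D : Subgroup G} (hX : X ∈ P) (hD : D ∈ P) (hn : Nb X D) {x : G}
    (hx : x ∈ Om X) (hx1 : x ≠ 1) : ∃ d ∈ D, d * d ≠ 1 ∧ d * x * d⁻¹ * x⁻¹ = d * d := by
  obtain ⟨s, hs, hs1⟩ := CaseBTwo.exists_ne_Om h.toGeo hD
  obtain ⟨s', hs', hs'1, hs's⟩ := CaseBGeo.exists_two_Om h.toFam hD s
  obtain ⟨a, ha, has⟩ := exists_sq h hD hs
  obtain ⟨b, hb, hbs⟩ := exists_sq h hD hs'
  have hss : s * s' ≠ 1 := by
    intro h0
    apply hs's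
    rw [eq_inv_of_mul_eq_one_right h0, inv_Om hs]
  have hab : a * b * (a * b) = s * s' := by
    have : a * b * (a * b) = a * (b * a) * b := by simp only [mul_assoc]
    rw [this, h.comm D hD b hb a ha, ← has, ← hbs]
    simp only [mul_assoc]
  obtain ⟨x₁, hx₁, k₁⟩ := h.surj X hX D hD hn a ha (by rw [has]; exact hs1) (a * a) (h.sq_Om hD ha)
  obtain ⟨x₂, hx₂, k₂⟩ := h.surj X hX D hD hn b hb (by rw [hbs]; exact hs'1) (b * b)
    (h.sq_Om hD hb)
  obtain ⟨x₃, hx₃, k₃⟩ := h.surj X hX D hD hn (a * b) (D.mul_mem ha hb) (by rw [hab]; exact hss)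
    (a * b * (a * b)) (h.sq_Om hD (D.mul_mem ha hb))
  have n₁ : x₁ ≠ 1 := by
    rintro rfl
    apply hs1
    rw [← has, ← k₁]
    simp
  have n₂ : x₂ ≠ 1 := by
    rintro rfl
    apply hs'1
    rw [← hbs, ← k₂]
    simp
  have n₃ : x₃ ≠ 1 := by
    rintro rfl
    apply hss
    rw [← hab, ← k₃]
    simp
  have n₁₂ : x₁ ≠ x₂ := by
    rintro rfl
    exact not_two h hX hD hn hx₁ n₁ ha hb (by rw [has]; exact hs1) (by rw [hbs]; exact hs'1)
      (by rw [has, hbs]; exact hs's.symm) k₁ k₂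
  have n₁₃ : x₁ ≠ x₃ := by
    rintro rfl
    refine not_two h hX hD hn hx₁ n₁ ha (D.mul_mem ha hb) (by rw [has]; exact hs1)
      (by rw [hab]; exact hss) ?_ k₁ k₃
    rw [has, hab]
    intro h0
    exact hs'1 (mul_eq_left.1 h0.symm)
  have n₂₃ : x₂ ≠ x₃ := by
    rintro rfl
    refine not_two h hX hD hn hx₂ n₂ hb (D.mul_mem ha hb) (by rw [hbs]; exact hs'1)
      (by rw [hab]; exact hss) ?_ k₂ k₃
    rw [hbs, hab]
    intro h0
    exact hs1 (mul_eq_right.1 h0.symm)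
  have hx12 : x₁ * x₂ = x₃ := by
    rcases fourD h hX hx₁ hx₂ n₁ n₂ n₁₂ hx₃ with k | k | k | k
    · exact absurd k n₃
    · exact absurd k.symm n₁₃
    · exact absurd k.symm n₂₃
    · exact k.symm
  rcases fourD h hX hx₁ hx₂ n₁ n₂ n₁₂ hx with k | k | k | k
  · exact absurd k hx1
  · rw [k]
    exact ⟨a, ha, by rw [has]; exact hs1, k₁⟩
  · rw [k]
    exact ⟨b, hb, by rw [hbs]; exact hs'1, k₂⟩
  · rw [k, hx12]
    exact ⟨a * b, D.mul_mem ha hb, by rw [hab]; exact hss, k₃⟩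

/-- The table: `[e, x] = δ² e²` for `e` outside `Ω₁(D) ∪ δ Ω₁(D)` if `[δ, x] = δ²`. -/
theorem table [Finite G] {X D : Subgroup G} (hX : X ∈ P) (hD : D ∈ P) (hn : Nb X D) {x : G}
    (hx : x ∈ Om X) (hx1 : x ≠ 1) {d e : G} (hd : d ∈ D) (he : e ∈ D) (hdd : d * d ≠ 1)
    (hee : e * e ≠ 1) (hde : d * d ≠ e * e) (h1 : d * x * d⁻¹ * x⁻¹ = d * d) :
    e * x * e⁻¹ * x⁻¹ = d * d * (e * e) := by
  rcases fourD h hD (h.sq_Om hD hd) (h.sq_Om hD he) hdd hee hde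
    (h.brak X hX D hD hn x hx e he) with k | k | k | k
  · exact absurd k (h.brak_ne hX hD hn hx.1 hx1 he hee)
  · exfalso
    have k2 : e * x * e⁻¹ = d * x * d⁻¹ := mul_right_cancel (k.trans h1.symm)
    have k3 : x * (d⁻¹ * e) = (d⁻¹ * e) * x := by
      have := congrArg (fun t => d⁻¹ * t * e) k2
      simpa [mul_assoc] using this.symm
    have k4 := h.sq_of_comm hX hD hn hx.1 hx1 (D.mul_mem (D.inv_mem hd) he) k3
    apply hde
    have k5 : (d⁻¹ * e) * (d⁻¹ * e) = d⁻¹ * d⁻¹ * (e * e) := by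
      have : (d⁻¹ * e) * (d⁻¹ * e) = d⁻¹ * (e * d⁻¹) * e := by simp only [mul_assoc]
      rw [this, h.comm D hD e he _ (D.inv_mem hd)]
      simp only [mul_assoc]
    rw [k5] at k4
    have k6 : (d * d)⁻¹ * (e * e) = 1 := by
      rw [← k4]
      simp
    exact inv_mul_eq_one.1 k6
  · exact (not_two h hX hD hn hx hx1 hd he hdd hee hde h1 k).elim
  · exact k

/-- Commuting neighbours of `D` act in the same way. -/
theorem twin [Finite G] {A D R : Subgroup G} (hA : A ∈ P) (hD : D ∈ P) (hR : R ∈ P)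
    (hAD : Nb A D) (hRD : Nb R D) (hAR : Cm A R) :
    ∀ p ∈ Om R, ∃ a ∈ Om A, (p ≠ 1 → a ≠ 1) ∧ ∀ d ∈ D, d * (a * p) = (a * p) * d := by
  intro p hp
  by_cases hp1 : p = 1
  · subst hp1
    exact ⟨1, one_mem_Om A, fun h0 => absurd rfl h0, fun d _ => by simp⟩
  obtain ⟨δ, hδ, hδδ, hδp⟩ := exists_delta h hR hD hRD hp hp1
  obtain ⟨a, ha, hδa⟩ := h.surj A hA D hD hAD δ hδ hδδ (δ * δ) (h.sq_Om hD hδ)
  have ha1 : a ≠ 1 := by
    rintro rfl
    apply hδδ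
    rw [← hδa]
    simp
  refine ⟨a, ha, fun _ => ha1, ?_⟩
  have key : ∀ d ∈ D, d * a * d⁻¹ * a⁻¹ = d * p * d⁻¹ * p⁻¹ := by
    intro d hd
    by_cases hdd : d * d = 1
    · rw [← h.comm_om A hA D hD hAD a ha d ⟨hd, hdd⟩, ← h.comm_om R hR D hD hRD p hp d ⟨hd, hdd⟩]
      simp
    · by_cases hdδ : δ * δ = d * d
      · -- `d ∈ δ Ω₁(D)`
        have hu : d * δ⁻¹ ∈ Om D := by
          refine ⟨D.mul_mem hd (D.inv_mem hδ), ?_⟩
          have e1 : d * δ⁻¹ * (d * δ⁻¹) = d * (δ⁻¹ * d) * δ⁻¹ := by simp only [mul_assoc]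
          rw [e1, h.comm D hD _ (D.inv_mem hδ) d hd]
          have e2 : d * (d * δ⁻¹) * δ⁻¹ = (d * d) * (δ * δ)⁻¹ := by simp [mul_assoc]
          rw [e2, hdδ, mul_inv_cancel]
        have aux : ∀ X ∈ P, Nb X D → ∀ x ∈ Om X, d * x * d⁻¹ * x⁻¹ = δ * x * δ⁻¹ * x⁻¹ := by
          intro X hX hn x hx
          have hux := h.comm_om X hX D hD hn x hx _ hu
          have hb := h.brak X hX D hD hn x hx δ hδ
          have e1 : d * x * d⁻¹ * x⁻¹ =
              (d * δ⁻¹) * (δ * x * δ⁻¹ * x⁻¹) * (x * (d * δ⁻¹)⁻¹ * x⁻¹) := by simp [mul_assoc]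
          have e2 : x * (d * δ⁻¹)⁻¹ * x⁻¹ = (d * δ⁻¹)⁻¹ := by
            rw [inv_Om hu, hux]
            simp
          rw [e1, e2, h.comm D hD _ hu.1 _ hb.1]
          simp [mul_assoc]
        rw [aux A hA hAD a ha, aux R hR hRD p hp, hδa, hδp]
      · rw [table h hA hD hAD ha ha1 hδ hd hδδ hdd hdδ hδa,
          table h hR hD hRD hp hp1 hδ hd hδδ hdd hdδ hδp]
  intro d hd
  have k1 := key d hd
  have hap : a * p = p * a := hAR a ha.1 p hp.1
  have hva := h.brak A hA D hD hAD a ha d hd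
  set v := d * a * d⁻¹ * a⁻¹ with hvdef
  have e1 : d * a = v * a * d := by
    rw [hvdef]
    simp [mul_assoc]
  have e2 : d * p = v * p * d := by
    rw [k1]
    simp [mul_assoc]
  have e3 : a * v = v * a := h.comm_om A hA D hD hAD a ha v hva
  calc d * (a * p) = (d * a) * p := by rw [mul_assoc]
    _ = v * a * (d * p) := by rw [e1]; simp only [mul_assoc]
    _ = v * (a * v) * p * d := by rw [e2]; simp only [mul_assoc]
    _ = (v * v) * (a * p) * d := by rw [e3]; simp only [mul_assoc]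
    _ = a * p * d := by rw [hva.2, one_mul]

end

end Cfsg.Agent.TIAbelian.CaseB5
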