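/-
helper806: S1779, case b, step (b2): existence of a triple `D ~ A ⊥ B` with `D` far from `B`.
-/
import Cfsg.Agent.TIAbelian.CaseBLoc
import Cfsg.Prelude.Def_CaseTheorems

set_option autoImplicit false

namespace Cfsg.Agent.TIAbelian.CaseB2

open Cfsg
open Cfsg.Agent.TIAbelian.PairBase hiding TIFam
open Cfsg.Agent.TIAbelian.CaseBBase
open Cfsg.Agent.TIAbelian.CaseBGeo
open Cfsg.Agent.TIAbelian.CaseBLoc (Loc)
open Cfsg.Agent.TIAbelian.PairGeo (Om mem_Om one_mem_Om inv_Om conj_mem_Om_cj mem_Om_cj)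

variable {G : Type*} [Group G]

/-- Membership in the normalizer of a subgroup, in terms of `cj`. -/
theorem mem_normalizer_iff_cj {g : G} {H : Subgroup G} :
    g ∈ Subgroup.normalizer (H : Set G) ↔ cj g H = H := by
  rw [Subgroup.mem_normalizer_iff]
  constructor
  · intro h0
    ext x
    rw [mem_cj]
    have h1 := h0 (g⁻¹ * x * g)
    have h2 : g * (g⁻¹ * x * g) * g⁻¹ = x := by simp [mul_assoc]
    rw [h2] at h1
    exact h1
  · intro h0 x
    constructor
    · intro hx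
      exact conj_mem_of_cj h0 hx
    · intro hx
      have h1 := conj_mem_of_cj' h0 hx
      have h2 : g⁻¹ * (g * x * g⁻¹) * g = x := by simp [mul_assoc]
      rwa [h2] at h1

/-- The normalizers of the members of `P` are maximal 2-local. -/
def MaxLoc (P : Set (Subgroup G)) : Prop :=
  ∀ A ∈ P, ∀ R : Subgroup G, IsPGroup 2 ↥R → R ≠ ⊥ → (∀ g : G, cj g A = A → cj g R = R) →
    ∀ g : G, cj g R = R → cj g A = A

theorem maxLoc_of_loc {P : Set (Subgroup G)} (hloc : ∀ A ∈ P, ∃ Q, Loc P A Q) : MaxLoc P := by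
  intro A hA
  obtain ⟨Q, hQ⟩ := hloc A hA
  exact hQ.max

theorem maxLoc_of_isMaximalTwoLocal {P : Set (Subgroup G)}
    (hmax : ∀ C ∈ P, IsMaximalTwoLocal (Subgroup.normalizer (C : Set G))) : MaxLoc P := by
  intro A hA R hR hR1 hn g hg
  have h2 : Subgroup.normalizer (A : Set G) ≤ Subgroup.normalizer (R : Set G) := by
    intro x hx
    rw [mem_normalizer_iff_cj] at hx ⊢
    exact hn x hx
  have h3 := (hmax A hA).2 _ ⟨R, hR, hR1, rfl⟩ h2
  rwa [← mem_normalizer_iff_cj, ← h3, mem_normalizer_iff_cj]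

/-- The subgroup generated by the `Ω₁(C)`, `C` in a set `O` of members. -/
def EO (O : Set (Subgroup G)) : Subgroup G :=
  Subgroup.closure {x | ∃ C ∈ O, x ∈ Om C}

theorem Om_le_EO {O : Set (Subgroup G)} {C : Subgroup G} (hC : C ∈ O) {x : G} (hx : x ∈ Om C) :
    x ∈ EO O := Subgroup.subset_closure ⟨C, hC, hx⟩

/-- An element which stabilises `O` normalises `EO O`. -/
theorem cj_EO_le {O : Set (Subgroup G)} {g : G} (hg : ∀ C ∈ O, cj g C ∈ O) :
    cj g (EO O) ≤ EO O := by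
  unfold cj EO
  rw [MonoidHom.map_closure, Subgroup.closure_le]
  rintro _ ⟨x, ⟨C, hC, hx⟩, rfl⟩
  apply Subgroup.subset_closure
  refine ⟨cj g C, hg C hC, ?_⟩
  exact conj_mem_Om_cj hx

theorem cj_EO [Finite G] {O : Set (Subgroup G)} {g : G} (hg : ∀ C ∈ O, cj g C ∈ O) :
    cj g (EO O) = EO O := by
  apply Subgroup.eq_of_le_of_card_ge (cj_EO_le hg)
  unfold cj
  rw [Subgroup.card_map_of_injective (MulAut.conj g).injective]

section

variable {P : Set (Subgroup G)} (h : Fam P)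
include h

variable {O : Set (Subgroup G)} (hOP : ∀ C ∈ O, C ∈ P) (hO : ∀ C ∈ O, ∀ D ∈ O, Ap C D)
include hOP hO

theorem EO_comm [Finite G] {x y : G} (hx : x ∈ EO O) (hy : y ∈ EO O) : x * y = y * x := by
  have h1 : EO O ≤ Subgroup.centralizer ((EO O : Subgroup G) : Set G) := by
    conv_lhs => unfold EO
    rw [Subgroup.closure_le]
    rintro a ⟨C, hC, ha⟩
    have h2 : EO O ≤ Subgroup.centralizer {a} := by
      unfold EO
      rw [Subgroup.closure_le]
      rintro b ⟨D, hD, hb⟩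
      show b ∈ Subgroup.centralizer {a}
      rw [Subgroup.mem_centralizer_iff]
      intro a' ha'
      rw [Set.mem_singleton_iff.1 ha']
      exact comm_om h (hOP C hC) (hOP D hD) (hO C hC D hD) ha hb
    show a ∈ Subgroup.centralizer _
    rw [Subgroup.mem_centralizer_iff]
    intro b hb
    have h3 := (Subgroup.mem_centralizer_iff.1 (h2 hb)) a rfl
    exact h3.symm
  exact ((Subgroup.mem_centralizer_iff.1 (h1 hx)) y hy).symm

theorem EO_sq [Finite G] {x : G} (hx : x ∈ EO O) : x * x = 1 := by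
  unfold EO at hx
  induction hx using Subgroup.closure_induction with
  | mem x hx =>
    obtain ⟨C, hC, hx⟩ := hx
    exact hx.2
  | one => exact one_mul 1
  | mul x y hx hy ihx ihy =>
    have h1 := EO_comm h hOP hO hx hy
    calc x * y * (x * y) = x * (y * x) * y := by simp only [mul_assoc]
      _ = x * (x * y) * y := by rw [h1]
      _ = (x * x) * (y * y) := by simp only [mul_assoc]
      _ = 1 := by rw [ihx, ihy, one_mul]
  | inv x hx ih =>
    rw [← mul_inv_rev, ih, inv_one]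

theorem isPGroup_EO [Finite G] : IsPGroup 2 (EO O) := by
  intro x
  refine ⟨1, ?_⟩
  apply Subtype.ext
  have := EO_sq h hOP hO x.2
  simpa [pow_two] using this

theorem EO_ne_bot (hne : O.Nonempty) : EO O ≠ ⊥ := by
  obtain ⟨C, hC⟩ := hne
  obtain ⟨c, hc, hc1⟩ := exists_ne_one h (hOP C hC)
  intro h0
  apply hc1
  have := Om_le_EO hC hc
  rwa [h0, Subgroup.mem_bot] at this

/-- Maximality: if `N(A)` stabilises `O`, then every element which stabilises `O` lies in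
`N(A)`. -/
theorem norm_of_stab [Finite G] (hmax : MaxLoc P)
    (hne : O.Nonempty) {A : Subgroup G} (hA : A ∈ P)
    (hst : ∀ g : G, cj g A = A → ∀ C ∈ O, cj g C ∈ O) {g : G} (hg : ∀ C ∈ O, cj g C ∈ O) :
    cj g A = A :=
  hmax A hA (EO O) (isPGroup_EO h hOP hO) (EO_ne_bot h hOP hO hne)
    (fun x hx => cj_EO (hst x hx)) g (cj_EO hg)

end

section

variable {P : Set (Subgroup G)} (h : Fam P)
include h

/-- If `N(A)` and `N(B)` are equal then `A = B`. -/
theorem eq_of_norm_iff [Finite G]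
    (hmax : MaxLoc P)
    {A B : Subgroup G} (hA : A ∈ P) (hB : B ∈ P)
    (hAB : ∀ g : G, cj g A = A ↔ cj g B = B) : A = B := by
  obtain ⟨g, rfl⟩ := h.trans A hA B hB
  -- the set of members with the same normalizer as `A`
  let W : Set (Subgroup G) := {C | C ∈ P ∧ ∀ x : G, cj x C = C ↔ cj x A = A}
  have hWP : ∀ C ∈ W, C ∈ P := fun C hC => hC.1
  have hW : ∀ C ∈ W, ∀ D ∈ W, Ap C D := by
    intro C hC D hD
    obtain ⟨c, hc, hc1⟩ := exists_ne_one h hC.1
    refine (ap_of_norm h hD.1 hC.1 hc.1 hc1 ?_).symm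
    rw [hD.2, ← hC.2]
    exact cj_self hc.1
  have hAW : A ∈ W := ⟨hA, fun x => Iff.rfl⟩
  -- conjugation by an element `y` moves the normalizers
  have hmove : ∀ (y x : G) (C : Subgroup G), cj x (cj y C) = cj y C ↔ cj (y⁻¹ * x * y) C = C := by
    intro y x C
    constructor
    · intro h1
      apply cj_inj (g := y)
      rw [cj_cj]
      have : y * (y⁻¹ * x * y) = x * y := by simp [mul_assoc]
      rw [this, ← cj_cj, h1]
    · intro h1
      rw [cj_cj]
      have : x * y = y * (y⁻¹ * x * y) := by simp [mul_assoc]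
      rw [this, ← cj_cj, h1]
  -- an element `y` such that `N(A)^y = N(A)` stabilises `W`
  have hstab : ∀ y : G, (∀ x : G, cj (y⁻¹ * x * y) A = A ↔ cj x A = A) →
      ∀ C ∈ W, cj y C ∈ W := by
    intro y hy C hC
    refine ⟨h.conj C hC.1 y, fun x => ?_⟩
    rw [hmove, hC.2, hy]
  have h1 : cj g A = A := by
    apply norm_of_stab h hWP hW hmax ⟨A, hAW⟩ hA
    · intro y hy
      apply hstab
      intro x
      rw [← hmove, hy]
    · apply hstab
      intro x
      rw [← hmove, ← hAB]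
  exact h1.symm

/-- (b2): there are `D ~ A ⊥ B` with `D` far from `B`. -/
theorem exists_far [Finite G] (hmax : MaxLoc P)
    (hb1 : ∀ A ∈ P, ∀ B ∈ P, ∀ C ∈ P, Cm A B → Cm A C → Ap B C)
    (hex : ∃ A ∈ P, ∃ B ∈ P, A ≠ B ∧ Cm A B) :
    ∃ A ∈ P, ∃ B ∈ P, ∃ D ∈ P, A ≠ B ∧ Cm A B ∧ Nb D A ∧ ¬ Ap D B := by
  by_contra hcon
  push Not at hcon
  obtain ⟨A, hA, B, hB, hne, hAB⟩ := hex
  -- `A` and `B` have the same neighbours
  have h1 : ∀ A ∈ P, ∀ B ∈ P, A ≠ B → Cm A B → ∀ D ∈ P, Ap D A → Ap D B := by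
    intro A hA B hB hne hAB D hD hDA
    rcases cm_or_nb h hDA with h2 | h2
    · exact hb1 A hA D hD B hB h2.symm hAB
    · exact hcon A hA B hB D hD hne hAB h2
  have h2 : ∀ D ∈ P, Ap D A ↔ Ap D B := fun D hD =>
    ⟨h1 A hA B hB hne hAB D hD, h1 B hB A hA (Ne.symm hne) hAB.symm D hD⟩
  let O : Set (Subgroup G) := {C | C ∈ P ∧ ∀ D ∈ P, Ap D C ↔ Ap D A}
  have hOP : ∀ C ∈ O, C ∈ P := fun C hC => hC.1
  have hO : ∀ C ∈ O, ∀ D ∈ O, Ap C D := by
    intro C hC D hD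
    rw [hD.2 C hC.1]
    exact ((hC.2 A hA).2 (ap_self h hA)).symm
  have hAO : A ∈ O := ⟨hA, fun D _ => Iff.rfl⟩
  have hBO : B ∈ O := ⟨hB, fun D hD => (h2 D hD).symm⟩
  -- the normalizer of any member `C` of `O` stabilises `O`
  have hst : ∀ C ∈ O, ∀ g : G, cj g C = C → ∀ D ∈ O, cj g D ∈ O := by
    intro C hC g hg D hD
    refine ⟨h.conj D hD.1 g, fun X hX => ?_⟩
    have h3 : Ap X (cj g D) ↔ Ap (cj g⁻¹ X) D := by
      rw [← ap_cj_iff (A := cj g⁻¹ X) g, cj_cj_inv]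
    have h4 : Ap X (cj g C) ↔ Ap (cj g⁻¹ X) C := by
      rw [← ap_cj_iff (A := cj g⁻¹ X) g, cj_cj_inv]
    rw [h3, hD.2 _ (h.conj X hX _), ← hC.2 _ (h.conj X hX _), ← h4, hg, hC.2 _ hX]
  apply hne
  apply eq_of_norm_iff h hmax hA hB
  intro g
  constructor
  · intro hg
    exact norm_of_stab h hOP hO hmax ⟨A, hAO⟩ hB (hst B hBO) (hst A hAO g hg)
  · intro hg
    exact norm_of_stab h hOP hO hmax ⟨A, hAO⟩ hA (hst A hAO) (hst B hBO g hg)

/-- (b2) in terms of the local data `Loc`. -/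
theorem b2 [Finite G] (hloc : ∀ A ∈ P, ∃ Q, Loc P A Q)
    (hb1 : ∀ A ∈ P, ∀ B ∈ P, ∀ C ∈ P, Cm A B → Cm A C → Ap B C)
    {A B : Subgroup G} (hA : A ∈ P) (hB : B ∈ P) (hne : A ≠ B) (hAB : Cm A B) :
    ∃ A ∈ P, ∃ B ∈ P, ∃ D ∈ P, A ≠ B ∧ Cm A B ∧ Nb D A ∧ ¬ Ap D B :=
  exists_far h (maxLoc_of_loc hloc) hb1 ⟨A, hA, B, hB, hne, hAB⟩

end

end Cfsg.Agent.TIAbelian.CaseB2
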