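/-
helper998: S1779, case b: the far lemma.
-/
import Cfsg.Agent.TIAbelian.CaseBK

set_option autoImplicit false
set_option linter.unusedSectionVars false
set_option linter.unusedSimpArgs false

namespace Cfsg.Agent.TIAbelian.CaseB3

open Cfsg.Agent.TIAbelian.PairBase hiding TIFam
open Cfsg.Agent.TIAbelian.PairOmega
open Cfsg.Agent.TIAbelian.CaseBBase
open Cfsg.Agent.TIAbelian.CaseBGeo
open Cfsg.Agent.TIAbelian.CaseBK
open Cfsg.Agent.TIAbelian.PairGeo (Om mem_Om one_mem_Om inv_Om conj_mem_Om_cj mem_Om_cj)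

variable {G : Type*} [Group G]

/-- The hypothesis (b1): two members commuting with `A` have commuting involutions. -/
def HB1 (P : Set (Subgroup G)) : Prop :=
  ∀ A ∈ P, ∀ B ∈ P, ∀ C ∈ P, Cm A B → Cm A C → Ap B C

/-- The group generated by the `Om B`, `B` commuting with `A`. -/
def UA (P : Set (Subgroup G)) (A : Subgroup G) : Subgroup G :=
  Subgroup.closure {x : G | ∃ B ∈ P, Cm A B ∧ x ∈ Om B}

variable {P : Set (Subgroup G)} (h : Fam P)
include h

theorem UA_om {A B : Subgroup G} (hB : B ∈ P) (hAB : Cm A B) {x : G} (hx : x ∈ Om B) :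
    x ∈ UA P A := Subgroup.subset_closure ⟨B, hB, hAB, hx⟩

theorem UA_comm [Finite G] (hb1 : HB1 P) {A : Subgroup G} (hA : A ∈ P) :
    ∀ x ∈ UA P A, ∀ y ∈ UA P A, x * y = y * x := by
  have hgen : ∀ x ∈ {x : G | ∃ B ∈ P, Cm A B ∧ x ∈ Om B},
      ∀ y ∈ {x : G | ∃ B ∈ P, Cm A B ∧ x ∈ Om B}, x * y = y * x := by
    rintro x ⟨B, hB, hAB, hx⟩ y ⟨C, hC, hAC, hy⟩
    exact comm_om h hB hC (hb1 A hA B hB C hC hAB hAC) hx hy
  intro x hx y hy
  have h1 := Subgroup.isMulCommutative_closure hgen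
  exact congrArg Subtype.val (h1.is_comm.comm ⟨x, hx⟩ ⟨y, hy⟩)

theorem UA_sq [Finite G] (hb1 : HB1 P) {A : Subgroup G} (hA : A ∈ P) {x : G} (hx : x ∈ UA P A) :
    x * x = 1 := by
  have hc := UA_comm h hb1 hA
  have h2 : ∀ x ∈ UA P A, x * x = 1 := by
    intro x hx
    induction hx using Subgroup.closure_induction with
    | mem x hx =>
      obtain ⟨B, hB, hAB, hx⟩ := hx
      exact hx.2
    | one => simp
    | mul x y hx' hy' hx hy =>
      have e := hc x hx' y hy'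
      have : x * y * (x * y) = x * (y * x) * y := by simp only [mul_assoc]
      rw [this, ← e]
      have : x * (x * y) * y = (x * x) * (y * y) := by simp only [mul_assoc]
      rw [this, hx, hy, one_mul]
    | inv x _ hx => rw [← mul_inv_rev, hx, inv_one]
  exact h2 x hx

theorem UA_cent {A : Subgroup G} {a x : G} (ha : a ∈ A) (hx : x ∈ UA P A) : a * x = x * a := by
  have h2 : ∀ x ∈ UA P A, a * x = x * a := by
    intro x hx
    induction hx using Subgroup.closure_induction with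
    | mem x hx =>
      obtain ⟨B, hB, hAB, hx⟩ := hx
      exact hAB a ha x hx.1
    | one => simp
    | mul x y _ _ hx hy => rw [← mul_assoc, hx, mul_assoc, hy, mul_assoc]
    | inv x _ hx =>
      have : Commute a x := hx
      exact this.inv_right.eq
  exact h2 x hx

theorem UA_conj {A : Subgroup G} {g x : G} (hg : cj g A = A) (hx : x ∈ UA P A) :
    g * x * g⁻¹ ∈ UA P A := by
  have h2 : ∀ x ∈ UA P A, g * x * g⁻¹ ∈ UA P A := by
    intro x hx
    induction hx using Subgroup.closure_induction with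
    | mem x hx =>
      obtain ⟨B, hB, hAB, hx⟩ := hx
      refine UA_om h (h.conj B hB g) ?_ (conj_mem_Om_cj hx)
      have := hAB.cj g
      rwa [hg] at this
    | one => simp [Subgroup.one_mem]
    | mul x y _ _ hx hy =>
      have : g * (x * y) * g⁻¹ = (g * x * g⁻¹) * (g * y * g⁻¹) := by simp [mul_assoc]
      rw [this]
      exact (UA P A).mul_mem hx hy
    | inv x _ hx =>
      have : g * x⁻¹ * g⁻¹ = (g * x * g⁻¹)⁻¹ := by simp [mul_assoc]
      rw [this]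
      exact (UA P A).inv_mem hx
  exact h2 x hx

/-- A member with a nontrivial element in `UA A` commutes with `A`. -/
theorem cm_of_UA {A C : Subgroup G} (hA : A ∈ P) (hC : C ∈ P) {x : G} (hx : x ∈ C) (hx1 : x ≠ 1)
    (hxU : x ∈ UA P A) : Cm A C := by
  obtain ⟨a, ha, haa⟩ := h.nonelem A hA
  exact (cm_of_comm h hC hA hx hx1 ha haa (UA_cent h ha hxU).symm).symm

/-- The far lemma. -/
theorem far_lemma [Finite G] (hb1 : HB1 P) {A B D : Subgroup G} (hA : A ∈ P) (hB : B ∈ P)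
    (hD : D ∈ P) (hDA : Nb D A) (hAB : Cm A B) (hBD : ¬ Ap D B) :
    ∃ R ∈ P, R ≠ A ∧ Cm A R ∧ Nb R D ∧ Nb R B ∧
      (∀ e ∈ Om D, ∀ u ∈ Om B, e * u * e * u ∈ Om R) ∧
      (∀ e ∈ Om D, ∀ u ∈ Om B, e ≠ 1 → u ≠ 1 → e * u * e * u ≠ 1) ∧
      (∀ u ∈ Om B, u ≠ 1 → Nb D (cj u D)) ∧
      (∀ e ∈ Om D, e ≠ 1 → Nb B (cj e B)) := by
  have hap_symm : ¬ Ap B D := fun h0 => hBD h0.symm
  -- the elements of `Om D` normalise `A`
  have eA : ∀ e ∈ Om D, cj e A = A := fun e he => om_norm h hA hD (Nb.ap hDA).symm he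
  have k_ne : ∀ e ∈ Om D, ∀ u ∈ Om B, e ≠ 1 → u ≠ 1 → e * u * e * u ≠ 1 := by
    intro e he u hu he1 hu1 h0
    apply hBD
    refine ⟨e, he.1, u, hu.1, he1, hu1, ?_⟩
    have h1 : e * u * (e * u) = 1 := by rw [← h0]; simp only [mul_assoc]
    have h2 : e * u = (e * u)⁻¹ := eq_inv_of_mul_eq_one_left h1
    rw [h2, mul_inv_rev, inv_Om he, inv_Om hu]
  have k_mem : ∀ e ∈ Om D, ∀ u ∈ Om B, e * u * e * u ∈ UA P A := by
    intro e he u hu
    have h1 := UA_om h hB hAB hu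
    have h2 := UA_conj h (eA e he) h1
    rw [inv_Om he] at h2
    exact (UA P A).mul_mem h2 h1
  have k_sq : ∀ e ∈ Om D, ∀ u ∈ Om B, (e * u * e * u) * (e * u * e * u) = 1 :=
    fun e he u hu => UA_sq h hb1 hA (k_mem e he u hu)
  -- (1) `D ≈ D^u` and `B ≈ B^e`
  obtain ⟨e₀, he₀, he₀1⟩ := exists_ne_one h hD
  obtain ⟨u₀, hu₀, hu₀1⟩ := exists_ne_one h hB
  have apD : ∀ u ∈ Om B, Ap D (cj u D) := by
    intro u hu
    refine ⟨e₀, he₀.1, u * e₀ * u⁻¹, conj_mem_cj he₀.1, he₀1, ?_, ?_⟩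
    · intro h0
      apply he₀1
      have := congrArg (fun t => u⁻¹ * t * u) h0
      simpa [mul_assoc] using this
    · rw [inv_Om hu]
      have h1 := k_sq e₀ he₀ u hu
      have h2 : (e₀ * (u * e₀ * u)) * (e₀ * (u * e₀ * u)) = 1 := by
        rw [← h1]; simp only [mul_assoc]
      have h3 : e₀ * (u * e₀ * u) = (e₀ * (u * e₀ * u))⁻¹ := eq_inv_of_mul_eq_one_left h2
      rw [h3]
      simp [mul_assoc, inv_Om he₀, inv_Om hu]
  have cmAe : ∀ e ∈ Om D, Cm A (cj e B) := by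
    intro e he
    have := hAB.cj e
    rwa [eA e he] at this
  have apB : ∀ e ∈ Om D, Ap B (cj e B) := fun e he =>
    hb1 A hA B hB _ (h.conj B hB e) hAB (cmAe e he)
  -- (2)
  obtain ⟨u₁, hu₁, hDu₁⟩ : ∃ u ∈ Om B, ¬ Cm D (cj u D) := by
    by_contra hcon
    push Not at hcon
    exact hBD (ap_of_cj_comm h hD hB hcon)
  obtain ⟨e₁, he₁, hBe₁⟩ : ∃ e ∈ Om D, ¬ Cm B (cj e B) := by
    by_contra hcon
    push Not at hcon
    exact hap_symm (ap_of_cj_comm h hB hD hcon)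
  have he₁1 : e₁ ≠ 1 := by
    rintro rfl
    rw [cj_one] at hBe₁
    exact hBe₁ (cm_self h hB)
  -- (3)
  have step3 : ∀ u ∈ Om B, ¬ Cm D (cj u D) →
      ∃ R ∈ P, Nb R D ∧ Cm A R ∧ ∀ e ∈ Om D, e * u * e * u ∈ Om R := by
    intro u hu hDu
    obtain ⟨R, hR, hRD, hRu, ⟨e, he, he1, hk⟩, _, hall⟩ :=
      lemK h hD (s := u) hu.2 (nb_of (apD u hu) hDu)
    rw [inv_Om hu] at hk
    have hu1 : u ≠ 1 := by
      rintro rfl
      rw [cj_one] at hDu
      exact hDu (cm_self h hD)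
    have e1 : e * (u * e * u) = e * u * e * u := by simp only [mul_assoc]
    rw [e1] at hk
    have hAR : Cm A R := cm_of_UA h hA hR hk.1 (k_ne e he u hu he1 hu1) (k_mem e he u hu)
    have hRB : Ap R B := hb1 A hA R hR B hB hAR hAB
    refine ⟨R, hR, hRD, hAR, ?_⟩
    intro e' he'
    have h1 := hall (fun v hv => (comm_om h hR hB hRB hv hu).symm) e' he'
    rw [inv_Om hu] at h1
    have e1 : e' * (u * e' * u) = e' * u * e' * u := by simp only [mul_assoc]
    rwa [e1] at h1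
  have step3' : ∀ e ∈ Om D, ¬ Cm B (cj e B) →
      ∃ R ∈ P, Nb R B ∧ Cm A R ∧ ∀ u ∈ Om B, e * u * e * u ∈ Om R := by
    intro e he hBe
    obtain ⟨R, hR, hRB, hRe, ⟨u, hu, hu1, hk⟩, _, hall⟩ :=
      lemK h hB (s := e) he.2 (nb_of (apB e he) hBe)
    rw [inv_Om he] at hk
    have he1 : e ≠ 1 := by
      rintro rfl
      rw [cj_one] at hBe
      exact hBe (cm_self h hB)
    have kk : ∀ u ∈ Om B, u * (e * u * e) = e * u * e * u := by
      intro u hu
      have h1 := k_sq e he u hu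
      have h3 : e * u * e * u = (e * u * e * u)⁻¹ := eq_inv_of_mul_eq_one_left h1
      rw [h3]
      simp [mul_assoc, inv_Om he, inv_Om hu]
    rw [kk u hu] at hk
    have hAR : Cm A R := cm_of_UA h hA hR hk.1 (k_ne e he u hu he1 hu1) (k_mem e he u hu)
    have hRD : Ap R D := ap_of_norm h hR hD he.1 he1 hRe
    refine ⟨R, hR, hRB, hAR, ?_⟩
    intro u' hu'
    have h1 := hall (fun v hv => (comm_om h hR hD hRD hv he).symm) u' hu'
    rw [inv_Om he, kk u' hu'] at h1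
    exact h1
  obtain ⟨R, hR, hRD, hAR, hR1⟩ := step3 u₁ hu₁ hDu₁
  obtain ⟨R', hR', hRB', hAR', hR1'⟩ := step3' e₁ he₁ hBe₁
  have hu₁1 : u₁ ≠ 1 := by
    rintro rfl
    rw [cj_one] at hDu₁
    exact hDu₁ (cm_self h hD)
  have hRR' : R = R' :=
    eq_of_mem h hR hR' (hR1 e₁ he₁).1 (hR1' u₁ hu₁).1 (k_ne e₁ he₁ u₁ hu₁ he₁1 hu₁1)
  subst hRR'
  have nbD : ∀ u ∈ Om B, u ≠ 1 → Nb D (cj u D) := by
    intro u hu hu1
    refine nb_of (apD u hu) ?_
    intro h0
    apply Nb.not_cm hRD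
    obtain ⟨d, hd, hdd⟩ := h.nonelem D hD
    have hk := hR1' u hu
    refine cm_of_comm h hR hD hk.1 (k_ne e₁ he₁ u hu he₁1 hu1) hd hdd ?_
    have c1 : Commute d e₁ := h.comm D hD _ hd _ he₁.1
    have c2 : Commute d (u * e₁ * u) := by
      have := h0 d hd (u * e₁ * u⁻¹) (conj_mem_cj he₁.1)
      rw [inv_Om hu] at this
      exact this
    have e2 : e₁ * u * e₁ * u = e₁ * (u * e₁ * u) := by simp only [mul_assoc]
    rw [e2]
    exact (c1.mul_right c2).eq.symm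
  have nbB : ∀ e ∈ Om D, e ≠ 1 → Nb B (cj e B) := by
    intro e he he1
    refine nb_of (apB e he) ?_
    intro h0
    apply Nb.not_cm hRB'
    obtain ⟨b, hb, hbb⟩ := h.nonelem B hB
    have hk := hR1 e he
    refine cm_of_comm h hR hB hk.1 (k_ne e he u₁ hu₁ he1 hu₁1) hb hbb ?_
    have c1 : Commute b u₁ := h.comm B hB _ hb _ hu₁.1
    have c2 : Commute b (e * u₁ * e) := by
      have := h0 b hb (e * u₁ * e⁻¹) (conj_mem_cj hu₁.1)
      rw [inv_Om he] at this
      exact this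
    exact (c2.mul_right c1).eq.symm
  have hk_all : ∀ e ∈ Om D, ∀ u ∈ Om B, e * u * e * u ∈ Om R := by
    intro e he u hu
    by_cases hu1 : u = 1
    · subst hu1
      have : e * 1 * e * 1 = 1 := by simp [he.2]
      rw [this]
      exact one_mem_Om R
    obtain ⟨T, hT, hTD, hAT, hT1⟩ := step3 u hu (Nb.not_cm (nbD u hu hu1))
    have : T = R := eq_of_mem h hT hR (hT1 e₁ he₁).1 (hR1' u hu).1 (k_ne e₁ he₁ u hu he₁1 hu1)
    rw [← this]
    exact hT1 e he
  refine ⟨R, hR, ?_, hAR, hRD, hRB', hk_all, k_ne, nbD, nbB⟩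
  rintro rfl
  exact Nb.not_cm hRB' hAB

end Cfsg.Agent.TIAbelian.CaseB3
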