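/-
helper998: S1779, case b: the contradiction.
-/
import Cfsg.Agent.TIAbelian.CaseB3
import Cfsg.Agent.TIAbelian.CaseB5Def

set_option autoImplicit false
set_option linter.unusedSectionVars false

namespace Cfsg.Agent.TIAbelian.CaseB6

open Cfsg.Agent.TIAbelian.PairBase hiding TIFam
open Cfsg.Agent.TIAbelian.PairOmega
open Cfsg.Agent.TIAbelian.CaseBBase
open Cfsg.Agent.TIAbelian.CaseBGeo
open Cfsg.Agent.TIAbelian.CaseBK
open Cfsg.Agent.TIAbelian.CaseB3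
open Cfsg.Agent.TIAbelian.CaseB5Def
open Cfsg.Agent.TIAbelian.PairGeo (Om mem_Om one_mem_Om inv_Om conj_mem_Om_cj mem_Om_cj)

variable {G : Type*} [Group G]

variable {P : Set (Subgroup G)} (h : Four P)
include h

/-- Full lines. -/
theorem surj2 [Finite G] {X Y : Subgroup G} (hX : X ∈ P) (hY : Y ∈ P) (hn : Nb X Y) {y : G}
    (hy : y ∈ Om Y) (hy1 : y ≠ 1) {x₀ : G} (hx₀ : x₀ ∈ Om X) :
    ∃ a ∈ X, a * y * a⁻¹ * y⁻¹ = x₀ := by
  have hF := h.toFam
  let f : ↥X →* ↥X := MonoidHom.mk'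
    (fun a => ⟨a * y * (a : G)⁻¹ * y⁻¹, (brak hF hY hX hn.symm hy a.2).1⟩) (by
      intro a b
      apply Subtype.ext
      show (a * b : G) * y * (a * b : G)⁻¹ * y⁻¹ = (a * y * (a : G)⁻¹ * y⁻¹) * (b * y * (b : G)⁻¹ * y⁻¹)
      have h1 : (b * y * (b : G)⁻¹ * y⁻¹) ∈ X := (brak hF hY hX hn.symm hy b.2).1
      have h2 := h.comm X hX _ a.2 _ h1
      have h3 := h.comm X hX _ (brak hF hY hX hn.symm hy a.2).1 _ h1
      rw [h3]
      have e1 : (a * b : G) * y * (a * b : G)⁻¹ * y⁻¹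
          = (a * (b * y * (b : G)⁻¹ * y⁻¹)) * y * (a : G)⁻¹ * y⁻¹ := by simp [mul_assoc]
      rw [e1, h2]
      simp only [mul_assoc])
  have hfv : ∀ a : ↥X, ((f a : ↥X) : G) = a * y * (a : G)⁻¹ * y⁻¹ := fun a => rfl
  have hker : ∀ a : ↥X, a ∈ f.ker ↔ (a : G) ∈ Om X := by
    intro a
    rw [MonoidHom.mem_ker]
    constructor
    · intro h1
      have h2 := congrArg (fun t : ↥X => (t : G)) h1
      have h3 : (a : G) * y * (a : G)⁻¹ * y⁻¹ = 1 := h2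
      rw [mul_inv_eq_one, mul_inv_eq_iff_eq_mul] at h3
      exact ⟨a.2, (norm_iff hF hY hX hn.symm a.2).1 (hF.norm_of_comm hY hy.1 hy1 h3)⟩
    · intro h1
      apply Subtype.ext
      show (a : G) * y * (a : G)⁻¹ * y⁻¹ = 1
      rw [comm_om hF hX hY (Nb.ap hn) h1 hy]
      simp
  have hkcard : Nat.card ↥f.ker = 4 := by
    rw [← h.card_om X hX, ← Nat.card_coe_set_eq]
    refine Nat.card_congr ⟨fun a => ⟨(a : ↥X), (hker _).1 a.2⟩, fun x => ⟨⟨x, x.2.1⟩, (hker _).2 x.2⟩,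
      fun a => rfl, fun x => rfl⟩
  have hrcard : Nat.card ↥f.range = 4 := by
    have h1 := f.ker.card_mul_index
    rw [Subgroup.index_ker, hkcard, h.card X hX] at h1
    omega
  have himg : (fun t : ↥X => (t : G)) '' (f.range : Set ↥X) = Om X := by
    refine Set.eq_of_subset_of_ncard_le ?_ ?_ (Set.toFinite _)
    · rintro _ ⟨_, ⟨a, rfl⟩, rfl⟩
      exact brak hF hY hX hn.symm hy a.2
    · rw [h.card_om X hX, Set.ncard_image_of_injective _ Subtype.val_injective,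
        ← Nat.card_coe_set_eq]
      exact hrcard.ge
  rw [← himg] at hx₀
  obtain ⟨_, ⟨a, rfl⟩, e⟩ := hx₀
  exact ⟨a, a.2, e⟩

omit h in
/-- The commutator `[e, u]` is multiplicative in `u`. -/
theorem k_mul {e u v : G} (he : e * e = 1) (hc : (e * v * e) * u = u * (e * v * e)) :
    e * (u * v) * e * (u * v) = (e * u * e * u) * (e * v * e * v) := by
  calc e * (u * v) * e * (u * v) = e * u * (e * e) * v * e * (u * v) := by
        rw [he]; simp only [mul_assoc, one_mul]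
    _ = e * u * e * ((e * v * e) * u) * v := by simp only [mul_assoc]
    _ = e * u * e * (u * (e * v * e)) * v := by rw [hc]
    _ = (e * u * e * u) * (e * v * e * v) := by simp only [mul_assoc]

/-- (L5) -/
theorem L5 [Finite G] (hb1 : HB1 P) {A D B₁ B₂ R₁ R₂ : Subgroup G} (hA : A ∈ P) (hD : D ∈ P)
    (hDA : Nb D A) (hB₁ : B₁ ∈ P) (hB₂ : B₂ ∈ P) (hR₁ : R₁ ∈ P) (hR₂ : R₂ ∈ P) (hAB₁ : Cm A B₁)
    (hAB₂ : Cm A B₂) (f₁ : ¬ Ap D B₁) (f₂ : ¬ Ap D B₂) (hR₁D : Nb R₁ D) (hR₂D : Nb R₂ D)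
    (k₁ : ∀ e ∈ Om D, ∀ u ∈ Om B₁, e * u * e * u ∈ Om R₁)
    (k₂ : ∀ e ∈ Om D, ∀ u ∈ Om B₂, e * u * e * u ∈ Om R₂) (hne : R₁ ≠ R₂) : ¬ Nb B₁ B₂ := by
  intro hn
  have hF := h.toFam
  have eA : ∀ e ∈ Om D, cj e A = A := fun e he => om_norm hF hA hD (Nb.ap hDA).symm he
  obtain ⟨δ, hδ, hδδ⟩ := h.nonelem D hD
  obtain ⟨e, he, he1⟩ := exists_ne_one hF hD
  obtain ⟨z, hz, hz1⟩ := exists_ne_one hF hR₁
  -- `z'` with `[δ, z'] = [δ, z]`
  have hw := brak hF hR₁ hD hR₁D hz hδ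
  obtain ⟨z', hz', hzz'⟩ := surj hF hR₂ hD hR₂D hδ hδδ hw
  have hw1 : δ * z * δ⁻¹ * z⁻¹ ≠ 1 := brak_ne hF hR₁ hD (Nb.not_cm hR₁D) hz.1 hz1 hδ hδδ
  have hz'1 : z' ≠ 1 := by
    rintro rfl
    apply hw1
    rw [← hzz']
    simp
  have hzz1 : z * z' ≠ 1 := by
    intro h0
    apply hne
    have h1 : z = z' := by
      have h2 := eq_inv_of_mul_eq_one_left h0
      rwa [inv_Om hz'] at h2
    exact eq_of_mem hF hR₁ hR₂ hz.1 (h1 ▸ hz'.1) hz1
  have hδz : δ * (z * z') = (z * z') * δ := by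
    rw [eq_comm_iff]
    have e1 : δ * (z * z') * δ⁻¹ = (δ * z * δ⁻¹ * z⁻¹) * (z * (δ * z' * δ⁻¹ * z'⁻¹)) * z' := by
      simp [mul_assoc]
    rw [e1, hzz', ← comm_om hF hD hR₁ (Nb.ap hR₁D).symm hw hz]
    have e2 : (δ * z * δ⁻¹ * z⁻¹) * ((δ * z * δ⁻¹ * z⁻¹) * z) * z'
        = ((δ * z * δ⁻¹ * z⁻¹) * (δ * z * δ⁻¹ * z⁻¹)) * z * z' := by simp only [mul_assoc]
    rw [e2, hw.2, one_mul]
  -- `u`, `u'`
  have kU : ∀ {B : Subgroup G}, B ∈ P → Cm A B → ∀ u ∈ Om B, e * u * e ∈ UA P A := by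
    intro B hB hAB u hu
    have h1 := UA_om hF hB hAB hu
    have h2 := UA_conj hF (eA e he) h1
    rwa [inv_Om he] at h2
  have k_surj : ∀ {B R : Subgroup G}, B ∈ P → R ∈ P → Cm A B → ¬ Ap D B →
      (∀ e ∈ Om D, ∀ u ∈ Om B, e * u * e * u ∈ Om R) → ∀ z ∈ Om R, ∃ u ∈ Om B, e * u * e * u = z := by
    intro B R hB hR hAB f k z hz
    have hinj : Set.InjOn (fun u => e * u * e * u) (Om B) := by
      intro u hu v hv huv
      have huv' : e * u * e * u = e * v * e * v := huv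
      have h1 : e * (u * v) * e * (u * v) = 1 := by
        rw [k_mul he.2 (UA_comm hF hb1 hA _ (kU hB hAB v hv) _ (UA_om hF hB hAB hu)), huv',
          (k e he v hv).2]
      by_contra hne
      have h2 : u * v ≠ 1 := by
        intro h3
        apply hne
        have h4 := eq_inv_of_mul_eq_one_left h3
        rwa [inv_Om hv] at h4
      apply f
      refine ⟨e, he.1, u * v, (mul_Om hF hB hu hv).1, he1, h2, ?_⟩
      have h3 : (e * (u * v)) * (e * (u * v)) = 1 := by rw [← h1]; simp only [mul_assoc]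
      have h4 : e * (u * v) = (e * (u * v))⁻¹ := eq_inv_of_mul_eq_one_left h3
      rw [h4, mul_inv_rev, inv_Om he, inv_Om (mul_Om hF hB hu hv)]
    have himg : (fun u => e * u * e * u) '' Om B = Om R := by
      refine Set.eq_of_subset_of_ncard_le ?_ ?_ (Set.toFinite _)
      · rintro _ ⟨u, hu, rfl⟩
        exact k e he u hu
      · rw [Set.InjOn.ncard_image hinj, h.card_om R hR, h.card_om B hB]
    rw [← himg] at hz
    obtain ⟨u, hu, e1⟩ := hz
    exact ⟨u, hu, e1⟩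
  obtain ⟨u, hu, hku⟩ := k_surj hB₁ hR₁ hAB₁ f₁ k₁ z hz
  obtain ⟨u', hu', hku'⟩ := k_surj hB₂ hR₂ hAB₂ f₂ k₂ z' hz'
  have hu1 : u ≠ 1 := by
    rintro rfl
    apply hz1
    rw [← hku]
    simp [he.2]
  have hu'1 : u' ≠ 1 := by
    rintro rfl
    apply hz'1
    rw [← hku']
    simp [he.2]
  -- `u u'` lies in a member
  obtain ⟨a, ha, hau⟩ := surj2 h hB₁ hB₂ hn hu' hu'1 hu
  set C := cj a B₂ with hCdef
  have hC : C ∈ P := h.conj B₂ hB₂ a
  have huC : u * u' ∈ Om C := by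
    have h1 := conj_mem_Om_cj (g := a) hu'
    have h2 : a * u' * a⁻¹ = u * u' := by rw [← hau]; simp [mul_assoc]
    rwa [h2] at h1
  have huu1 : u * u' ≠ 1 := by
    intro h0
    apply nb_ne hF hB₁ hn
    have h1 : u = u' := by
      have h2 := eq_inv_of_mul_eq_one_left h0
      rwa [inv_Om hu'] at h2
    exact eq_of_mem hF hB₁ hB₂ hu.1 (h1 ▸ hu'.1) hu1
  have huuU : u * u' ∈ UA P A :=
    (UA P A).mul_mem (UA_om hF hB₁ hAB₁ hu) (UA_om hF hB₂ hAB₂ hu')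
  have hAC : Cm A C := cm_of_UA hF hA hC huC.1 huu1 huuU
  have hkk : e * (u * u') * e * (u * u') = z * z' := by
    rw [k_mul he.2 (UA_comm hF hb1 hA _ (kU hB₂ hAB₂ u' hu') _ (UA_om hF hB₁ hAB₁ hu)), hku, hku']
  have fC : ¬ Ap D C := by
    intro h0
    apply hzz1
    rw [← hkk]
    have h1 := comm_om hF hD hC h0 he huC
    have h2 : e * (u * u') * e * (u * u') = e * ((u * u') * e) * (u * u') := by
      simp only [mul_assoc]
    rw [h2, ← h1]
    have h3 : e * (e * (u * u')) * (u * u') = (e * e) * ((u * u') * (u * u')) := by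
      simp only [mul_assoc]
    rw [h3, he.2, huC.2, one_mul]
  obtain ⟨T, hT, _, _, hTD, _, hTk, _⟩ := far_lemma hF hb1 hA hC hD hDA hAC fC
  have hzT := hTk e he _ huC
  rw [hkk] at hzT
  exact Nb.not_cm hTD (cm_of_comm hF hT hD hzT.1 hzz1 hδ hδδ hδz.symm)

theorem conj_ne_one {g x : G} (hx : x ≠ 1) : g * x * g⁻¹ ≠ 1 := by
  intro h0
  apply hx
  have := congrArg (fun t => g⁻¹ * t * g) h0
  simpa [mul_assoc] using this

/-- (b6) -/
theorem b6 [Finite G] (hb1 : HB1 P) {A B D : Subgroup G} (hA : A ∈ P) (hB : B ∈ P) (hD : D ∈ P)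
    (hDA : Nb D A) (hAB : Cm A B) (hBD : ¬ Ap D B)
    (htorus : ∃ τ : G, (∀ g : G, (∀ x ∈ A, g * x = x * g) → (∀ d ∈ D, g * d = d * g) →
      g * τ = τ * g) ∧ cj τ A = A ∧ cj τ D = D ∧ ∀ x ∈ Om A, x ≠ 1 → τ * x * τ⁻¹ ≠ x)
    (htwin : ∀ R ∈ P, Nb R D → Cm A R → ∀ p ∈ Om R, ∃ a ∈ Om A, (p ≠ 1 → a ≠ 1) ∧
      ∀ d ∈ D, d * (a * p) = (a * p) * d) : False := by
  have hF := h.toFam
  obtain ⟨R, hR, hRA, hAR, hRD, hRB, hk, hkne, _, _⟩ := far_lemma hF hb1 hA hB hD hDA hAB hBD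
  obtain ⟨τ, hτ, hτA, hτD, hτx⟩ := htorus
  -- the conjugates
  have hR' : cj τ R ∈ P := h.conj R hR τ
  have hB' : cj τ B ∈ P := h.conj B hB τ
  have hAR' : Cm A (cj τ R) := by
    have := hAR.cj τ
    rwa [hτA] at this
  have hAB' : Cm A (cj τ B) := by
    have := hAB.cj τ
    rwa [hτA] at this
  have hBD' : ¬ Ap D (cj τ B) := by
    intro h0
    apply hBD
    rw [← ap_cj_iff τ, hτD]
    exact h0
  have hRD' : Nb (cj τ R) D := by
    have := CaseBGeo.Nb.cj hRD τ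
    rwa [hτD] at this
  have hRB' : Nb (cj τ R) (cj τ B) := CaseBGeo.Nb.cj hRB τ
  have hτinv : ∀ e ∈ Om D, τ⁻¹ * e * τ ∈ Om D := by
    intro e he
    have h1 : e ∈ Om (cj τ D) := by rwa [hτD]
    exact mem_Om_cj.1 h1
  have hk' : ∀ e ∈ Om D, ∀ u ∈ Om (cj τ B), e * u * e * u ∈ Om (cj τ R) := by
    intro e he u hu
    have h1 := conj_mem_Om_cj (g := τ) (hk _ (hτinv e he) _ (mem_Om_cj.1 hu))
    have h2 : τ * (τ⁻¹ * e * τ * (τ⁻¹ * u * τ) * (τ⁻¹ * e * τ) * (τ⁻¹ * u * τ)) * τ⁻¹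
        = e * u * e * u := by simp [mul_assoc]
    rwa [h2] at h1
  -- the key relation
  have key : ∀ p ∈ Om R, p ≠ 1 → ∃ b ∈ Om A, b ≠ 1 ∧ τ * p * τ⁻¹ = b * p := by
    intro p hp hp1
    obtain ⟨a, ha, ha1, hap⟩ := htwin R hR hRD hAR p hp
    have ha1 := ha1 hp1
    have h1 : (a * p) * τ = τ * (a * p) := by
      apply hτ
      · intro x hx
        have c1 : Commute x a := h.comm A hA x hx a ha.1
        have c2 : Commute x p := hAR x hx p hp.1
        exact (c1.mul_right c2).eq.symm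
      · intro d hd
        exact (hap d hd).symm
    have haτ : τ * a * τ⁻¹ ∈ Om A := by
      have := conj_mem_Om_cj (g := τ) ha
      rwa [hτA] at this
    refine ⟨τ * a * τ⁻¹ * a, mul_Om hF hA haτ ha, ?_, ?_⟩
    · intro h0
      apply hτx a ha ha1
      have h2 := eq_inv_of_mul_eq_one_left h0
      rwa [inv_Om ha] at h2
    · have h2 : τ * p * τ⁻¹ = (τ * a * τ⁻¹)⁻¹ * (τ * (a * p) * τ⁻¹) := by simp [mul_assoc]
      rw [h2, inv_Om haτ, ← h1]
      simp only [mul_assoc, mul_inv_cancel, mul_one]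
  -- `R' ≠ R`
  have hne : R ≠ cj τ R := by
    intro h0
    obtain ⟨p, hp, hp1⟩ := exists_ne_one hF hR
    obtain ⟨b, hb, hb1', e⟩ := key p hp hp1
    have h1 : τ * p * τ⁻¹ ∈ R := by
      rw [h0]
      exact conj_mem_cj hp.1
    rw [e] at h1
    have h2 : b ∈ R := by
      have := R.mul_mem h1 (R.inv_mem hp.1)
      simpa using this
    exact hRA (eq_of_mem hF hR hA h2 hb.1 hb1')
  -- `B ~ R'`
  have hBR' : Nb B (cj τ R) := by
    refine nb_of (hb1 A hA B hB _ hR' hAB hAR') ?_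
    intro h0
    obtain ⟨p, hp, hp1⟩ := exists_ne_one hF hR
    obtain ⟨b, hb, hb1', e⟩ := key p hp hp1
    obtain ⟨c, hc, hcc⟩ := h.nonelem B hB
    apply Nb.not_cm hRB
    refine cm_of_comm hF hR hB hp.1 hp1 hc hcc ?_
    have c1 : Commute c (τ * p * τ⁻¹) := h0 c hc _ (conj_mem_cj hp.1)
    have c2 : Commute c b := (hAB b hb.1 c hc).symm
    have h1 : p = b⁻¹ * (τ * p * τ⁻¹) := by rw [e, inv_mul_cancel_left]
    rw [h1]
    exact (c2.inv_right.mul_right c1).eq.symm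
  -- `B' ~ R`
  have hB'R : Nb (cj τ B) R := by
    refine nb_of (hb1 A hA _ hB' _ hR hAB' hAR) ?_
    intro h0
    obtain ⟨p, hp, hp1⟩ := exists_ne_one hF hR
    obtain ⟨b, hb, hb1', e⟩ := key p hp hp1
    obtain ⟨c, hc, hcc⟩ := h.nonelem (cj τ B) hB'
    apply Nb.not_cm hRB'
    refine cm_of_comm hF hR' hB' (conj_mem_cj hp.1) (conj_ne_one h hp1) hc hcc ?_
    have c1 : Commute c p := h0 c hc _ hp.1
    have c2 : Commute c b := (hAB' b hb.1 c hc).symm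
    rw [e]
    exact (c2.mul_right c1).eq.symm
  -- `B` and `B'` commute
  have hBB' : Cm B (cj τ B) := by
    rcases cm_or_nb hF (hb1 A hA B hB _ hB' hAB hAB') with h1 | h1
    · exact h1
    · exact absurd h1 (L5 h hb1 hA hD hDA hB hB' hR hR' hAB hAB' hBD hBD' hRD hRD' hk hk' hne)
  -- `B'' = B^{p'}`
  obtain ⟨p, hp, hpp⟩ := h.nonelem (cj τ R) hR'
  have hB'' : cj p B ∈ P := h.conj B hB p
  have hpA : cj p A = A := by
    obtain ⟨a, ha, ha1⟩ := exists_ne_one hF hA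
    exact hF.norm_of_comm hA ha.1 ha1 (hAR' a ha.1 p hp).symm
  have hAB'' : Cm A (cj p B) := by
    have := hAB.cj p
    rwa [hpA] at this
  have hform : ∀ u ∈ Om (cj p B), ∃ w ∈ Om (cj τ R), ∃ v ∈ Om B, u = w * v ∧ (v ≠ 1 → w ≠ 1) := by
    intro u hu
    have hv := mem_Om_cj.1 hu
    refine ⟨_, brak hF hB hR' hBR' hv hp, _, hv, by simp [mul_assoc], ?_⟩
    intro h1
    exact brak_ne hF hB hR' (Nb.not_cm hBR') hv.1 h1 hp hpp
  have hkk : ∀ e ∈ Om D, ∀ w ∈ Om (cj τ R), ∀ v ∈ Om B,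
      e * (w * v) * e * (w * v) = e * v * e * v := by
    intro e he w hw v hv
    have c1 : e * w = w * e := comm_om hF hD hR' (Nb.ap hRD').symm he hw
    have c2 : w * v = v * w := comm_om hF hR' hB (Nb.ap hBR').symm hw hv
    have e1 : e * (w * v) * e * (w * v) = e * (w * v) * (e * w) * v := by simp only [mul_assoc]
    rw [e1, c1, c2]
    have e2 : e * (v * w) * (w * e) * v = e * v * (w * w) * e * v := by simp only [mul_assoc]
    rw [e2, hw.2, mul_one]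
  have hk'' : ∀ e ∈ Om D, ∀ u ∈ Om (cj p B), e * u * e * u ∈ Om R := by
    intro e he u hu
    obtain ⟨w, hw, v, hv, rfl, _⟩ := hform u hu
    rw [hkk e he w hw v hv]
    exact hk e he v hv
  -- a particular element
  obtain ⟨v, hv, hv1⟩ := exists_ne_one hF hB
  obtain ⟨e, he, he1⟩ := exists_ne_one hF hD
  have huB'' : p * v * p⁻¹ ∈ Om (cj p B) := conj_mem_Om_cj hv
  have hw := brak hF hB hR' hBR' hv hp
  have hw1 : p * v * p⁻¹ * v⁻¹ ≠ 1 := brak_ne hF hB hR' (Nb.not_cm hBR') hv.1 hv1 hp hpp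
  have heq : p * v * p⁻¹ = (p * v * p⁻¹ * v⁻¹) * v := by simp
  have hBD'' : ¬ Ap D (cj p B) := by
    intro h0
    apply hkne e he v hv he1 hv1
    rw [← hkk e he _ hw v hv, ← heq]
    have c1 := comm_om hF hD hB'' h0 he huB''
    have h2 : e * (p * v * p⁻¹) * e * (p * v * p⁻¹) = e * ((p * v * p⁻¹) * e) * (p * v * p⁻¹) := by
      simp only [mul_assoc]
    rw [h2, ← c1]
    have h3 : e * (e * (p * v * p⁻¹)) * (p * v * p⁻¹)
        = (e * e) * ((p * v * p⁻¹) * (p * v * p⁻¹)) := by simp only [mul_assoc]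
    rw [h3, he.2, huB''.2, one_mul]
  have hB''B' : Nb (cj p B) (cj τ B) := by
    refine nb_of (hb1 A hA _ hB'' _ hB' hAB'' hAB') ?_
    intro h0
    obtain ⟨c, hc, hcc⟩ := h.nonelem (cj τ B) hB'
    apply Nb.not_cm hRB'
    refine cm_of_comm hF hR' hB' hw.1 hw1 hc hcc ?_
    have c1 : Commute c (p * v * p⁻¹) := (h0 _ huB''.1 c hc).symm
    have c2 : Commute c v := (hBB' v hv.1 c hc).symm
    exact (c1.mul_right c2.inv_right).eq.symm
  exact L5 h hb1 hA hD hDA hB'' hB' hR hR' hAB'' hAB' hBD'' hBD' hRD hRD' hk'' hk' hne hB''B'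

end Cfsg.Agent.TIAbelian.CaseB6
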