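/-
helper998: S1779, case b: assembly of the pieces.
-/
import Cfsg.Agent.TIAbelian.CaseB6
import Cfsg.Agent.TIAbelian.CaseB2

set_option autoImplicit false
set_option linter.unusedSectionVars false

namespace Cfsg.Agent.TIAbelian.CaseBCore

open Cfsg.Agent.TIAbelian.PairBase hiding TIFam
open Cfsg.Agent.TIAbelian.PairOmega
open Cfsg.Agent.TIAbelian.CaseBBase
open Cfsg.Agent.TIAbelian.CaseBGeo
open Cfsg.Agent.TIAbelian.CaseBK
open Cfsg.Agent.TIAbelian.CaseB3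
open Cfsg.Agent.TIAbelian.CaseB5Def
open Cfsg.Agent.TIAbelian.CaseB6
open Cfsg.Agent.TIAbelian.CaseBTwo (TwoLines)
open Cfsg.Agent.TIAbelian.PairGeo (Om mem_Om one_mem_Om inv_Om conj_mem_Om_cj mem_Om_cj)

variable {G : Type*} [Group G]

/-- The far configuration implies `Four P`. -/
theorem four_of_far [Finite G] {P : Set (Subgroup G)} (h : Fam P) (hb1 : HB1 P)
    {A B D : Subgroup G} (hA : A ∈ P) (hB : B ∈ P) (hD : D ∈ P) (hDA : Nb D A) (hAB : Cm A B)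
    (hBD : ¬ Ap D B) : Four P := by
  obtain ⟨R, hR, hRA, hAR, hRD, hRB, hk, hkne, _, _⟩ := far_lemma h hb1 hA hB hD hDA hAB hBD
  have hG : CaseBTwo.Geo P := CaseBTwo.geo_of_nb h ⟨D, hD, A, hA, hDA⟩
  have T : TwoLines P D R B := by
    refine ⟨hD, hR, hB, hRD.symm, hRB.symm, ?_⟩
    intro x hx y hy hx1 hy1
    rw [inv_Om hx, inv_Om hy]
    exact ⟨hk x hx y hy, hkne x hx y hy hx1 hy1⟩
  obtain ⟨h4, h16, _⟩ := CaseBFinal.card_B hG T
  have h4' : (Om R).ncard = 4 := by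
    rw [← h4, ← Nat.card_coe_set_eq]
    rfl
  refine { toGeo := hG, card := ?_, card_om := ?_ }
  · intro C hC
    obtain ⟨g, rfl⟩ := h.trans R hR C hC
    rw [← h16]
    refine (Nat.card_congr ⟨fun x => ⟨g * x * g⁻¹, conj_mem_cj x.2⟩,
      fun y => ⟨g⁻¹ * y * g, mem_cj.1 y.2⟩, ?_, ?_⟩).symm
    · intro x
      apply Subtype.ext
      simp [mul_assoc]
    · intro y
      apply Subtype.ext
      simp [mul_assoc]
  · intro C hC
    rw [ncard_Om h hC hR, h4']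

/-- The statement of `torus`. -/
def HTorus (P : Set (Subgroup G)) : Prop :=
  ∀ X ∈ P, ∀ D ∈ P, Nb X D → ∃ τ : G, (∀ g : G, (∀ x ∈ X, g * x = x * g) →
    (∀ d ∈ D, g * d = d * g) → g * τ = τ * g) ∧ cj τ X = X ∧ cj τ D = D ∧
    ∀ x ∈ Om X, x ≠ 1 → τ * x * τ⁻¹ ≠ x

/-- The statement of `twin`. -/
def HTwin (P : Set (Subgroup G)) : Prop :=
  ∀ A ∈ P, ∀ D ∈ P, ∀ R ∈ P, Nb A D → Nb R D → Cm A R → ∀ p ∈ Om R, ∃ a ∈ Om A,
    (p ≠ 1 → a ≠ 1) ∧ ∀ d ∈ D, d * (a * p) = (a * p) * d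

/-- Case b, modulo (b1) and (b5). -/
theorem no_comm_of [Finite G] {P : Set (Subgroup G)} (h : Fam P)
    (hloc : ∀ A ∈ P, ∃ Q, CaseBLoc.Loc P A Q) (hb1 : HB1 P)
    (htorus : Four P → HTorus P) (htwin : Four P → HTwin P) {A B : Subgroup G} (hA : A ∈ P)
    (hB : B ∈ P) (hne : A ≠ B) : ¬ Cm A B := by
  intro hAB
  obtain ⟨A, hA, B, hB, D, hD, hne, hAB, hDA, hBD⟩ := CaseB2.b2 h hloc hb1 hA hB hne hAB
  have h4 := four_of_far h hb1 hA hB hD hDA hAB hBD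
  exact b6 h4 hb1 hA hB hD hDA hAB hBD (htorus h4 A hA D hD hDA.symm)
    (fun R hR hRD hAR => htwin h4 A hA D hD R hR hDA.symm hRD hAR)

end Cfsg.Agent.TIAbelian.CaseBCore
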