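/-
helper998: S1779, case b: distinct members of the class do not commute.
-/
import Cfsg.Agent.TIAbelian.CaseBCore
import Cfsg.Agent.TIAbelian.CaseB1
import Cfsg.Agent.TIAbelian.CaseB5

set_option autoImplicit false

namespace Cfsg.Agent.TIAbelian.CaseBMain

open Cfsg.Agent.TIAbelian.PairBase hiding TIFam
open Cfsg.Agent.TIAbelian.CaseBBase
open Cfsg.Agent.TIAbelian.CaseBGeo

variable {G : Type*} [Group G]

/-- Case b: two distinct members of the class do not commute elementwise. -/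
theorem no_comm [Finite G] {P : Set (Subgroup G)} (h : Fam P)
    (hloc : ∀ A ∈ P, ∃ Q, CaseBLoc.Loc P A Q) {A B : Subgroup G} (hA : A ∈ P) (hB : B ∈ P)
    (hne : A ≠ B) : ¬ Cm A B :=
  CaseBCore.no_comm_of h hloc (CaseB1.b1 h hloc)
    (fun h4 _ hX _ hD hn => CaseB5.torus h4 hX hD hn)
    (fun h4 _ hA _ hD _ hR hAD hRD hAR => CaseB5.twin h4 hA hD hR hAD hRD hAR) hA hB hne

end Cfsg.Agent.TIAbelian.CaseBMain
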