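/-
helper262 (statement and proof of helper996): S1779, a strongly closed abelian subgroup of a
2-group `T ≥ O₂(H)` of a group `H` of characteristic `2` is normal.
-/
import Mathlib
import Cfsg.Prelude.Def_CaseTheorems
import Cfsg.Agent.Lib.Cores

set_option autoImplicit false

namespace Cfsg.Agent.TIAbelian.PairSCM

open Cfsg

theorem scm {H : Type*} [Group H] [Finite H] (hc : IsOfCharacteristicTwo H) (T E : Subgroup H)
    (_hT : IsPGroup 2 ↥T) (hQT : pCore 2 H ≤ T) (hET : E ≤ T)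
    (hE : ∀ x ∈ E, ∀ y ∈ E, x * y = y * x)
    (hs : ∀ x ∈ E, ∀ g : H, g * x * g⁻¹ ∈ T → g * x * g⁻¹ ∈ E) : E.Normal := by
  have : Fact (Nat.Prime 2) := ⟨Nat.prime_two⟩
  have hQn : (pCore 2 H).Normal := Cfsg.Agent.Lib.Cores.pCore_normal 2
  have hQ2 : IsPGroup 2 ↥(pCore 2 H) := Cfsg.Agent.Lib.Cores.pCore_isPGroup 2
  set Q := pCore 2 H with hQ
  -- `E ∩ Q` is invariant
  have hE0 : ∀ e ∈ E, e ∈ Q → ∀ g : H, g * e * g⁻¹ ∈ E := fun e he heQ g =>
    hs e he g (hQT (hQn.conj_mem e heQ g))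
  let K : Subgroup H :=
    { carrier := {g | (∀ q ∈ Q, g * q * g⁻¹ * q⁻¹ ∈ E ∧ g * q * g⁻¹ * q⁻¹ ∈ Q) ∧
        (∀ e ∈ E, e ∈ Q → g * e = e * g)}
      one_mem' := by
        refine ⟨fun q _ => ?_, fun e _ _ => by simp⟩
        simp [E.one_mem, Q.one_mem]
      mul_mem' := by
        rintro g k ⟨hg1, hg2⟩ ⟨hk1, hk2⟩
        refine ⟨fun q hq => ?_, fun e he heQ => ?_⟩
        · have h1 := hk1 q hq
          have h2 := hg1 q hq
          have e1 : g * k * q * (g * k)⁻¹ * q⁻¹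
              = (g * (k * q * k⁻¹ * q⁻¹)) * (q * g⁻¹ * q⁻¹) := by simp [mul_assoc]
          have e2 : (k * q * k⁻¹ * q⁻¹) * g * (q * g⁻¹ * q⁻¹)
              = (k * q * k⁻¹ * q⁻¹) * (g * q * g⁻¹ * q⁻¹) := by simp only [mul_assoc]
          rw [e1, hg2 _ h1.1 h1.2, e2]
          exact ⟨E.mul_mem h1.1 h2.1, Q.mul_mem h1.2 h2.2⟩
        · rw [mul_assoc, hk2 e he heQ, ← mul_assoc, hg2 e he heQ, mul_assoc]
      inv_mem' := by
        rintro g ⟨hg1, hg2⟩
        have hgi : ∀ e ∈ E, e ∈ Q → g⁻¹ * e = e * g⁻¹ := by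
          intro e he heQ
          have := congrArg (fun t => g⁻¹ * t * g⁻¹) (hg2 e he heQ)
          simpa [mul_assoc] using this.symm
        refine ⟨fun q hq => ?_, hgi⟩
        have h1 := hg1 q hq
        have e1 : g⁻¹ * q * g⁻¹⁻¹ * q⁻¹ = (g⁻¹ * (g * q * g⁻¹ * q⁻¹)⁻¹) * g := by simp [mul_assoc]
        rw [e1, hgi _ (E.inv_mem h1.1) (Q.inv_mem h1.2), inv_mul_cancel_right]
        exact ⟨E.inv_mem h1.1, Q.inv_mem h1.2⟩ }
  have hKn : K.Normal := by
    constructor
    rintro g ⟨hg1, hg2⟩ k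
    refine ⟨fun q hq => ?_, fun e he heQ => ?_⟩
    · have hq' : k⁻¹ * q * k ∈ Q := by simpa using hQn.conj_mem q hq k⁻¹
      have h1 := hg1 _ hq'
      have e1 : k * g * k⁻¹ * q * (k * g * k⁻¹)⁻¹ * q⁻¹
          = k * (g * (k⁻¹ * q * k) * g⁻¹ * (k⁻¹ * q * k)⁻¹) * k⁻¹ := by simp [mul_assoc]
      rw [e1]
      exact ⟨hE0 _ h1.1 h1.2 k, hQn.conj_mem _ h1.2 k⟩
    · have h1 : k⁻¹ * e * k ∈ E := by simpa using hE0 e he heQ k⁻¹
      have h2 : k⁻¹ * e * k ∈ Q := by simpa using hQn.conj_mem e heQ k⁻¹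
      have h3 := hg2 _ h1 h2
      have := congrArg (fun t => k * t * k⁻¹) h3
      simpa [mul_assoc] using this
  have hK2 : IsPGroup 2 ↥K := by
    -- elements of odd order in `K` are trivial
    have hodd : ∀ x ∈ K, Odd (orderOf x) → x = 1 := by
      rintro x ⟨hx1, hx2⟩ hxo
      have hxc : x ∈ Subgroup.centralizer (Q : Set H) := by
        rw [Subgroup.mem_centralizer_iff]
        intro q hq
        obtain ⟨he, heQ⟩ := hx1 q hq
        set e := x * q * x⁻¹ * q⁻¹ with hedef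
        have hxe := hx2 e he heQ
        have hn : ∀ n : ℕ, x ^ n * q * (x ^ n)⁻¹ = e ^ n * q := by
          intro n
          induction n with
          | zero => simp
          | succ n ih =>
            have hxen : x * e ^ n * x⁻¹ = e ^ n := by
              have : Commute x (e ^ n) := Commute.pow_right hxe n
              rw [this.eq, mul_inv_cancel_right]
            have e1 : x ^ (n + 1) * q * (x ^ (n + 1))⁻¹ = x * (x ^ n * q * (x ^ n)⁻¹) * x⁻¹ := by
              rw [pow_succ']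
              simp [mul_assoc]
            have e2 : x * (e ^ n * q) * x⁻¹ = (x * e ^ n * x⁻¹) * (x * q * x⁻¹) := by
              simp [mul_assoc]
            have e3 : x * q * x⁻¹ = e * q := by rw [hedef]; simp [mul_assoc]
            rw [e1, ih, e2, hxen, e3, ← mul_assoc, ← pow_succ]
        have h1 := hn (orderOf x)
        rw [pow_orderOf_eq_one] at h1
        have h2 : e ^ orderOf x = 1 := by
          have : (1 : H) * q = e ^ orderOf x * q := by simpa using h1
          exact (mul_right_cancel this).symm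
        obtain ⟨k, hk⟩ := hQ2 ⟨e, heQ⟩
        have h3 : e ^ 2 ^ k = 1 := congrArg Subtype.val hk
        have h4 : orderOf e ∣ 1 := by
          have hcop : Nat.Coprime (2 ^ k) (orderOf x) := by
            apply Nat.Coprime.pow_left
            rw [Nat.coprime_two_left]
            exact hxo
          have := Nat.dvd_gcd (orderOf_dvd_of_pow_eq_one h3) (orderOf_dvd_of_pow_eq_one h2)
          rwa [hcop] at this
        have h5 : e = 1 := orderOf_eq_one_iff.1 (Nat.dvd_one.1 h4)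
        rw [hedef, mul_inv_eq_one, mul_inv_eq_iff_eq_mul] at h5
        exact h5.symm
      have hxQ : x ∈ Q := hc hxc
      obtain ⟨k, hk⟩ := hQ2 ⟨x, hxQ⟩
      have h3 : x ^ 2 ^ k = 1 := congrArg Subtype.val hk
      have hcop : Nat.Coprime (2 ^ k) (orderOf x) := by
        apply Nat.Coprime.pow_left
        rw [Nat.coprime_two_left]
        exact hxo
      have := Nat.dvd_gcd (orderOf_dvd_of_pow_eq_one h3) (dvd_refl (orderOf x))
      rw [hcop] at this
      exact orderOf_eq_one_iff.1 (Nat.dvd_one.1 this)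
    intro g
    obtain ⟨k, m, hm, hkm⟩ := Nat.exists_eq_two_pow_mul_odd (n := orderOf (g : H))
      (orderOf_pos (g : H)).ne'
    refine ⟨k, ?_⟩
    apply Subtype.ext
    refine hodd _ (K.pow_mem g.2 (2 ^ k)) ?_
    have hval : ((g ^ 2 ^ k : ↥K) : H) = (g : H) ^ 2 ^ k := rfl
    rw [hval, orderOf_pow_of_dvd (pow_ne_zero _ two_ne_zero) (hkm ▸ Dvd.intro _ rfl), hkm,
      Nat.mul_div_cancel_left _ (by positivity)]
    exact hm
  have hKQ : K ≤ Q := Cfsg.Agent.Lib.Cores.le_pCore hKn hK2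
  have hEK : E ≤ K := by
    intro e he
    refine ⟨fun q hq => ?_, fun e' he' _ => hE e he e' he'⟩
    have hqT := hQT hq
    have h1 : q * e⁻¹ * q⁻¹ ∈ E :=
      hs _ (E.inv_mem he) q (T.mul_mem (T.mul_mem hqT (T.inv_mem (hET he))) (T.inv_mem hqT))
    have e1 : e * q * e⁻¹ * q⁻¹ = e * (q * e⁻¹ * q⁻¹) := by simp [mul_assoc]
    refine ⟨?_, Q.mul_mem (hQn.conj_mem q hq e) (Q.inv_mem hq)⟩
    rw [e1]
    exact E.mul_mem he h1
  exact ⟨fun e he g => hE0 e he (hKQ (hEK he)) g⟩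

end Cfsg.Agent.TIAbelian.PairSCM
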