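/-
helper262: S1779, pairs: main theorem of the pair analysis.
-/
import Cfsg.Agent.TIAbelian.PairCard
import Cfsg.Agent.TIAbelian.PairSCM

set_option autoImplicit false

namespace Cfsg.Agent.TIAbelian.PairMain

open Cfsg.Agent.TIAbelian.PairBase Cfsg.Agent.TIAbelian.PairOmega Cfsg.Agent.TIAbelian.PairGeo
open Cfsg.Agent.TIAbelian.PairLine Cfsg.Agent.TIAbelian.PairClique Cfsg.Agent.TIAbelian.PairStrong
open Cfsg.Agent.TIAbelian.PairTwo Cfsg.Agent.TIAbelian.PairFinal Cfsg.Agent.TIAbelian.PairCard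

variable {G : Type*} [Group G]

theorem mem_normalizer_iff_cj {g : G} {H : Subgroup G} :
    g ∈ Subgroup.normalizer (H : Set G) ↔ cj g H = H := by
  rw [Subgroup.mem_normalizer_iff]
  constructor
  · intro h1
    ext x
    rw [mem_cj]
    constructor
    · intro hx
      have := (h1 (g⁻¹ * x * g)).1 hx
      simpa [mul_assoc] using this
    · intro hx
      refine (h1 _).2 ?_
      simpa [mul_assoc] using hx
  · intro h1 x
    constructor
    · intro hx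
      exact conj_mem_of_cj h1 hx
    · intro hx
      have := conj_mem_of_cj' h1 (SetLike.mem_coe.1 hx)
      simpa [mul_assoc] using this

/-- Case (I) does not occur when `N_G(B₀)` is a maximal `2`-local subgroup of characteristic `2`. -/
theorem noH1 [Finite G] {P : Set (Subgroup G)} (h : Geo P) {K : Set (Subgroup G)}
    (hK : MaxClique P K) {A₁ A₂ : Subgroup G} (hA₁ : A₁ ∈ K) (hA₂ : A₂ ∈ K) (hne : A₁ ≠ A₂)
    {B₀ : Subgroup G} (hB₀ : B₀ ∈ P)
    (hM : Cfsg.IsMaximalTwoLocal (Subgroup.normalizer (B₀ : Set G)))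
    (hMc : Cfsg.IsOfCharacteristicTwo ↥(Subgroup.normalizer (B₀ : Set G))) :
    ¬ ∀ C ∈ P, ∀ c ∈ Om C, cj c (EE K) = EE K → c ∈ EE K := by
  intro H1
  have : Fact (Nat.Prime 2) := ⟨Nat.prime_two⟩
  have hE2 : IsPGroup 2 ↥(EE K) := isPGroup_of_sq (EE_sq h hK)
  obtain ⟨T, hT⟩ := hE2.exists_le_sylow
  have hKne : K.Nonempty := ⟨A₁, hA₁⟩
  have hTE := W0 h hK H1 T.2 hT
  obtain ⟨C, hC, hTC⟩ := exists_fix_group h hK hKne T T.2 hTE
  obtain ⟨g, hg⟩ := h.trans C (hK.sub C hC) B₀ hB₀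
  have hst := strong h hK H1 hKne T.2 hT
  set M := Subgroup.normalizer (B₀ : Set G) with hMdef
  have memM : ∀ {x : G}, x ∈ M ↔ cj x B₀ = B₀ := mem_normalizer_iff_cj
  -- the conjugate Sylow subgroup
  have hTM : ((g • T : Sylow 2 G) : Subgroup G) ≤ M := by
    intro x hx
    have hx' : x ∈ cj g (T : Subgroup G) := hx
    rw [mem_cj] at hx'
    rw [memM, ← hg, cj_cj]
    have h1 := hTC _ hx'
    have h2 : x * g = g * (g⁻¹ * x * g) := by simp [mul_assoc]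
    rw [h2, ← cj_cj, h1]
  have hQT : Cfsg.pCore 2 ↥M ≤ (cj g (T : Subgroup G)).subgroupOf M :=
    Cfsg.Agent.Lib.Cores.pCore_le_sylow ((g • T : Sylow 2 G).subtype hTM)
  have hT2 : IsPGroup 2 ↥((cj g (T : Subgroup G)).subgroupOf M) :=
    ((g • T : Sylow 2 G).subtype hTM).2
  have hET : (cj g (EE K)).subgroupOf M ≤ (cj g (T : Subgroup G)).subgroupOf M := by
    intro x hx
    rw [Subgroup.mem_subgroupOf] at hx ⊢
    exact cj_le_cj hT hx
  have hEM : cj g (EE K) ≤ M := (cj_le_cj hT).trans hTM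
  have hn := PairSCM.scm hMc _ _ hT2 hQT hET (by
      intro x hx y hy
      rw [Subgroup.mem_subgroupOf, mem_cj] at hx hy
      apply Subtype.ext
      have h1 := EE_comm h hK _ hx _ hy
      have h2 := congrArg (fun t => g * t * g⁻¹) h1
      simpa [mul_assoc] using h2) (by
      intro x hx m hm
      rw [Subgroup.mem_subgroupOf, mem_cj] at hx hm ⊢
      have e1 : g⁻¹ * ((m * x * m⁻¹ : ↥M) : G) * g
          = (g⁻¹ * m * g) * (g⁻¹ * x * g) * (g⁻¹ * m * g)⁻¹ := by simp [mul_assoc]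
      rw [e1] at hm ⊢
      exact hst _ hx _ hm)
  have hME : M ≤ Subgroup.normalizer ((cj g (EE K) : Subgroup G) : Set G) := by
    have key : ∀ m ∈ M, ∀ x ∈ cj g (EE K), m * x * m⁻¹ ∈ cj g (EE K) := by
      intro m hm x hx
      exact hn.conj_mem ⟨x, hEM hx⟩ hx ⟨m, hm⟩
    intro m hm
    rw [mem_normalizer_iff_cj]
    exact cj_eq_of_forall key hm
  have hloc : Cfsg.IsTwoLocal (Subgroup.normalizer ((cj g (EE K) : Subgroup G) : Set G)) := by
    refine ⟨cj g (EE K), isPGroup_cj hE2, ?_, rfl⟩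
    intro h0
    obtain ⟨v, hv, hv1⟩ := exists_ne_Om h (hK.sub _ hA₁)
    have h1 : g * v * g⁻¹ ∈ cj g (EE K) := conj_mem_cj (mem_EE hA₁ hv)
    rw [h0, Subgroup.mem_bot] at h1
    apply hv1
    have := congrArg (fun t => g⁻¹ * t * g) h1
    simpa [mul_assoc] using this
  have heq := hM.2 _ hloc hME
  -- a member different from `C`
  obtain ⟨A, hA, hAC⟩ : ∃ A ∈ K, A ≠ C := by
    by_cases h1 : A₁ = C
    · exact ⟨A₂, hA₂, fun h2 => hne (h1.trans h2.symm)⟩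
    · exact ⟨A₁, hA₁, h1⟩
  obtain ⟨a, ha, haa⟩ := h.nonelem A (hK.sub A hA)
  have h1 : g * a * g⁻¹ ∈ M := by
    rw [← heq, mem_normalizer_iff_cj, cj_cj]
    have : g * a * g⁻¹ * g = g * a := by simp [mul_assoc]
    rw [this, ← cj_cj, conj_EE h hK hA ha]
  rw [memM, ← hg, cj_cj] at h1
  have h2 : g * a * g⁻¹ * g = g * a := by simp [mul_assoc]
  rw [h2, ← cj_cj] at h1
  have h3 := cj_inj h1
  exact haa ((h.norm_iff C (hK.sub C hC) A (hK.sub A hA) (hK.col C hC A hA (Ne.symm hAC)) a ha).1 h3)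

/-- Main theorem of the pair analysis. -/
theorem main [Finite G] {P : Set (Subgroup G)} (h : TIFam P) (hex : ∃ A ∈ P, ∃ B ∈ P, Col A B)
    {B₀ : Subgroup G} (hB₀ : B₀ ∈ P)
    (hM : Cfsg.IsMaximalTwoLocal (Subgroup.normalizer (B₀ : Set G)))
    (hMc : Cfsg.IsOfCharacteristicTwo ↥(Subgroup.normalizer (B₀ : Set G))) :
    Geo P ∧ (∃ A B C, TwoLines P A B C) ∧ ∀ B ∈ P, (Om B).ncard = 4 ∧ Nat.card ↥B = 16 ∧
      Nonempty (↥B ≃* Multiplicative (ZMod 4) × Multiplicative (ZMod 4)) := by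
  have hg : Geo P := geo_of_col h hex
  obtain ⟨A, hA, A', hA', hc⟩ := hex
  obtain ⟨K, hK, hAK, hAK'⟩ := exists_maxClique hA hA' hc
  have h1 := noH1 hg hK hAK hAK' hc.1 hB₀ hM hMc
  push Not at h1
  obtain ⟨C, hC, c, hc, hcE, hcn⟩ := h1
  obtain ⟨A₁, _, B₁, _, C₁, T⟩ := exists_twoLines hg hK ⟨A, hAK⟩ ⟨C, hC, c, hc, hcE, hcn⟩
  have hcard := card_B hg T
  refine ⟨hg, ⟨A₁, B₁, C₁, T⟩, ?_⟩
  intro B hB
  obtain ⟨g, rfl⟩ := h.trans B₁ T.hB B hB
  have e : ↥B₁ ≃* ↥(cj g B₁) := B₁.equivMapOfInjective _ (MulAut.conj g).injective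
  refine ⟨?_, ?_, ?_⟩
  · rw [← ncard_Om hg T.hB hB]
    exact hcard.1
  · rw [← hcard.2.1]
    exact (Nat.card_congr e.toEquiv).symm
  · exact hcard.2.2.map (fun f => e.symm.trans f)

end Cfsg.Agent.TIAbelian.PairMain
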