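/-
helper262: S1779: instances of `Fam`, `TIFam` for the class of an abelian TI 2-subgroup.
-/
import Cfsg.Agent.TIAbelian.PairMain
import Cfsg.Agent.TIAbelian.CaseBGeo
import Cfsg.Agent.Involutions.NormalFour

set_option autoImplicit false

namespace Cfsg.Agent.TIAbelian.PairInst

open Cfsg.Agent.TIAbelian.PairBase Cfsg.Agent.TIAbelian.PairOmega Cfsg.Agent.TIAbelian.PairGeo
open Cfsg.Agent.TIAbelian.CaseBBase (Fam Nc Nb)
open Cfsg.Agent.TIAbelian.PairMain (mem_normalizer_iff_cj)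

variable {G : Type*} [Group G]

/-- the class of `B` -/
def Cls (B : Subgroup G) : Set (Subgroup G) := {C | ∃ g : G, cj g B = C}

theorem self_mem_Cls (B : Subgroup G) : B ∈ Cls B := ⟨1, cj_one B⟩

theorem cj_mem_Cls {B : Subgroup G} (g : G) : cj g B ∈ Cls B := ⟨g, rfl⟩

theorem fam_of [Finite G] {B : Subgroup G} (hc : ∀ x ∈ B, ∀ y ∈ B, x * y = y * x)
    (h2 : IsPGroup 2 ↥B) (hti : ∀ g : G, cj g B = B ∨ cj g B ⊓ B = ⊥) (hcyc : ¬ IsCyclic ↥B)
    (hel : ∃ c ∈ B, c * c ≠ 1) : Fam (Cls B) := by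
  refine ⟨?_, ?_, ?_, ?_, ?_, ?_, ?_⟩
  · rintro _ ⟨k, rfl⟩ g
    exact ⟨g * k, (cj_cj g k B).symm⟩
  · rintro _ ⟨k, rfl⟩ _ ⟨l, rfl⟩
    exact ⟨l * k⁻¹, by rw [cj_cj, inv_mul_cancel_right]⟩
  · rintro _ ⟨k, rfl⟩ x hx y hy
    rw [mem_cj] at hx hy
    have := congrArg (fun t => k * t * k⁻¹) (hc _ hx _ hy)
    simpa [mul_assoc] using this
  · rintro _ ⟨k, rfl⟩ x hx
    rw [mem_cj] at hx
    obtain ⟨n, hn⟩ := h2 ⟨_, hx⟩
    refine ⟨n, ?_⟩
    have h3 : (k⁻¹ * x * k) ^ 2 ^ n = 1 := congrArg Subtype.val hn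
    have h4 : (k⁻¹ * x * k⁻¹⁻¹) ^ 2 ^ n = k⁻¹ * x ^ 2 ^ n * k⁻¹⁻¹ := conj_pow
    rw [inv_inv, h3] at h4
    have := congrArg (fun t => k * t * k⁻¹) h4
    simpa [mul_assoc] using this.symm
  · rintro _ ⟨k, rfl⟩ _ ⟨l, rfl⟩ x hx hx' hx1
    rw [mem_cj] at hx hx'
    have h1 : cj (l⁻¹ * k) B = B := by
      rcases hti (l⁻¹ * k) with h1 | h1
      · exact h1
      · exfalso
        apply hx1
        have h3 : l⁻¹ * x * l ∈ cj (l⁻¹ * k) B ⊓ B := by
          refine Subgroup.mem_inf.2 ⟨?_, hx'⟩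
          rw [mem_cj]
          simpa [mul_assoc] using hx
        rw [h1, Subgroup.mem_bot] at h3
        have := congrArg (fun t => l * t * l⁻¹) h3
        simpa [mul_assoc] using this
    rw [← cj_cj] at h1
    have h2 : cj l (cj l⁻¹ (cj k B)) = cj l B := by rw [h1]
    rwa [cj_cj_inv] at h2
  · have key : ∀ z : G, ∃ e ∈ B, e ≠ 1 ∧ e * e = 1 ∧ e ≠ z := by
      intro z
      by_contra hcon
      push Not at hcon
      apply hcyc
      obtain ⟨a, -, ha⟩ := Involutions.NormalFour.exists_generator h2 (⊤ : Subgroup ↥B)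
        (fun a _ b _ => Subtype.ext (hc a a.2 b b.2)) (by
          intro x _ y _ hx hy
          have hz : ∀ u : ↥B, orderOf u = 2 → (u : G) = z := by
            intro u hu
            rw [orderOf_eq_prime_iff] at hu
            refine hcon u u.2 (fun h0 => hu.2 (Subtype.ext h0)) ?_
            have := congrArg Subtype.val hu.1
            rwa [pow_two] at this
          exact Subtype.ext ((hz x hx).trans (hz y hy).symm))
      exact ⟨a, fun x => ha x (Subgroup.mem_top x)⟩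
    rintro _ ⟨k, rfl⟩ z
    obtain ⟨e, he, he1, hee, hez⟩ := key (k⁻¹ * z * k)
    refine ⟨k * e * k⁻¹, conj_mem_cj he, ?_, ?_, ?_⟩
    · intro h0
      apply he1
      have := congrArg (fun t => k⁻¹ * t * k) h0
      simpa [mul_assoc] using this
    · have : k * e * k⁻¹ * (k * e * k⁻¹) = k * (e * e) * k⁻¹ := by simp [mul_assoc]
      rw [this, hee]
      simp
    · intro h0
      apply hez
      rw [← h0]
      simp [mul_assoc]
  · rintro _ ⟨k, rfl⟩
    obtain ⟨c, hcB, hcc⟩ := hel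
    refine ⟨k * c * k⁻¹, conj_mem_cj hcB, ?_⟩
    intro h0
    apply hcc
    have := congrArg (fun t => k⁻¹ * t * k) h0
    simpa [mul_assoc] using this

theorem tifam_of_fam {P : Set (Subgroup G)} (h : Fam P)
    (hw : ∀ C ∈ P, ∀ D ∈ P, (∀ c ∈ C, ∀ d ∈ D, c * d = d * c) → C = D) : TIFam P :=
  ⟨h.conj, h.trans, h.comm, h.two, h.ti, h.noncyc, h.nonelem, hw⟩

theorem tifam_of [Finite G] {B : Subgroup G} (hc : ∀ x ∈ B, ∀ y ∈ B, x * y = y * x)
    (h2 : IsPGroup 2 ↥B) (hti : ∀ g : G, cj g B = B ∨ cj g B ⊓ B = ⊥) (hcyc : ¬ IsCyclic ↥B)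
    (hel : ∃ c ∈ B, c * c ≠ 1) (hw : ∀ g : G, (∀ x ∈ B, ∀ y ∈ cj g B, x * y = y * x) → cj g B = B) :
    TIFam (Cls B) := by
  have h := fam_of hc h2 hti hcyc hel
  refine tifam_of_fam h ?_
  rintro _ ⟨k, rfl⟩ _ ⟨l, rfl⟩ hcomm
  have h1 : cj (k⁻¹ * l) B = B := by
    apply hw
    intro x hx y hy
    rw [mem_cj] at hy
    have h3 := hcomm (k * x * k⁻¹) (conj_mem_cj hx) (k * y * k⁻¹) (by
      rw [mem_cj]
      simpa [mul_assoc] using hy)
    have := congrArg (fun t => k⁻¹ * t * k) h3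
    simpa [mul_assoc] using this
  rw [← cj_cj] at h1
  have h2' : cj k (cj k⁻¹ (cj l B)) = cj k B := by rw [h1]
  rw [cj_cj_inv] at h2'
  exact h2'.symm

section

variable {P : Set (Subgroup G)} (h : TIFam P)
include h

/-- A member inside the normaliser of `B` is `B`. -/
theorem eq_of_le_norm {A B : Subgroup G} (hA : A ∈ P) (hB : B ∈ P) (hn : ∀ a ∈ A, cj a B = B) :
    A = B := by
  by_contra hne
  obtain ⟨a, ha, han⟩ := h.not_all_norm hB hA (Ne.symm hne)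
  exact han ⟨ha, hn a ha⟩

/-- If a nontrivial element of `A ≠ B` normalises `B`, then `A` and `B` are collinear. -/
theorem col_of_norm {A B : Subgroup G} (hA : A ∈ P) (hB : B ∈ P) (hne : A ≠ B) {t : G}
    (ht : t ∈ A) (ht1 : t ≠ 1) (htB : cj t B = B) : Col A B := by
  have tt : t * t = 1 := h.stageA hA hB hne ⟨ht, htB⟩
  obtain ⟨v, hv, hv1, hvv, -⟩ := h.noncyc B hB 1
  have hw : t * v * t⁻¹ ∈ B := conj_mem_of_cj htB hv
  by_cases h0 : t * v * t⁻¹ = v
  · exact Geo.col_of_comm hne ht ht1 hv hv1 (eq_comm_iff.2 h0)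
  · refine Geo.col_of_comm hne ht ht1 (B.mul_mem hv hw) ?_ (?_ : t * (v * (t * v * t⁻¹)) = _)
    · intro h3
      apply h0
      exact mul_left_cancel (h3.trans hvv.symm)
    · rw [eq_comm_iff]
      have h3 : t * (v * (t * v * t⁻¹)) * t⁻¹ = (t * v * t⁻¹) * ((t * t) * v * (t * t)⁻¹) := by
        simp [mul_assoc]
      rw [h3, tt]
      simp only [one_mul, inv_one, mul_one]
      exact h.comm B hB _ hw _ hv

/-- No collinear pair: every member is isolated. -/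
theorem isolated {B : Subgroup G} (hB : B ∈ P) (hno : ¬ ∃ A ∈ P, ∃ B ∈ P, Col A B) :
    ∀ g : G, ∀ a ∈ B, a ≠ 1 → g * a * g⁻¹ ∈ Subgroup.normalizer (B : Set G) →
      g ∈ Subgroup.normalizer (B : Set G) := by
  intro g a ha ha1 hn
  rw [mem_normalizer_iff_cj] at hn ⊢
  by_contra hne
  apply hno
  refine ⟨cj g B, h.conj B hB g, B, hB, ?_⟩
  refine col_of_norm h (h.conj B hB g) hB hne (conj_mem_cj ha) ?_ hn
  intro h0
  apply ha1
  have := congrArg (fun t => g⁻¹ * t * g) h0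
  simpa [mul_assoc] using this

end

end Cfsg.Agent.TIAbelian.PairInst
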