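import Cfsg.Agent.TIAbelian.EndDescend
import Cfsg.Agent.TIAbelian.PairInst

/-!
# S1779: the endgame (`B ≅ Z₄ × Z₄`, noncommuting collinear conjugates)
-/

set_option autoImplicit false

namespace Cfsg.Agent.TIAbelian.End

open Subgroup

universe u

variable {G : Type u} [Group G]

/-- `MaxLoc` from the hypotheses of S1779. -/
theorem maxLoc_of [Finite G] {B M : Subgroup G} (hM : Cfsg.IsMaximalTwoLocal M)
    (hMc : Cfsg.IsOfCharacteristicTwo ↥M) (hN : ∀ g : G, g ∈ M ↔ PairBase.cj g B = B) :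
    MaxLoc B ((Cfsg.pCore 2 ↥M).map M.subtype) := by
  have h2 : Fact (Nat.Prime 2) := ⟨Nat.prime_two⟩
  have hQn : (Cfsg.pCore 2 ↥M).Normal := Cfsg.Agent.Lib.Cores.pCore_normal 2
  have hQp : IsPGroup 2 (Cfsg.pCore 2 ↥M) := Cfsg.Agent.Lib.Cores.pCore_isPGroup 2
  have h3 : ∀ g : G, g ∈ M → ∀ x ∈ (Cfsg.pCore 2 ↥M).map M.subtype,
      g * x * g⁻¹ ∈ (Cfsg.pCore 2 ↥M).map M.subtype := by
    rintro g hg _ ⟨x, hx, rfl⟩
    exact ⟨⟨g, hg⟩ * x * ⟨g, hg⟩⁻¹, hQn.conj_mem x hx ⟨g, hg⟩, rfl⟩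
  refine ⟨?_, ?_, ?_, ?_, ?_, ?_⟩
  · exact hQp.map _
  · rintro _ ⟨x, hx, rfl⟩
    exact (hN _).1 x.2
  · intro g hg
    have hgM := (hN g).2 hg
    refine cj_le_of (h3 g hgM) ?_
    intro x hx
    have := h3 g⁻¹ (M.inv_mem hgM) x hx
    rwa [inv_inv] at this
  · intro g hg hc
    have hgM := (hN g).2 hg
    refine ⟨⟨g, hgM⟩, ?_, rfl⟩
    apply hMc
    rw [mem_centralizer_iff]
    intro q hq
    apply Subtype.ext
    exact (hc q ⟨q, hq, rfl⟩).symm
  · intro R hR h1 h3 r hr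
    have hRM : R ≤ M := fun r hr => (hN r).2 (h1 r hr)
    have h4 : (R.subgroupOf M).Normal := by
      refine ⟨fun x hx g => ?_⟩
      rw [Subgroup.mem_subgroupOf] at hx ⊢
      have := PairBase.conj_mem_of_cj (h3 g ((hN _).1 g.2)) hx
      simpa using this
    have h5 : IsPGroup 2 (R.subgroupOf M) := hR.comap_of_injective M.subtype M.subtype_injective
    exact ⟨⟨r, hRM hr⟩, Cfsg.Agent.Lib.Cores.le_pCore h4 h5 (Subgroup.mem_subgroupOf.2 hr), rfl⟩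
  · intro R hR hR1 h1 g hg
    have h3 : M ≤ Subgroup.normalizer (R : Set G) := by
      intro x hx
      rw [PairMain.mem_normalizer_iff_cj]
      exact h1 x ((hN x).1 hx)
    have h4 := hM.2 _ ⟨R, hR, hR1, rfl⟩ h3
    refine (hN g).1 ?_
    rw [← h4, PairMain.mem_normalizer_iff_cj]
    exact hg

/-- `Base` from the pair analysis. -/
theorem base_of [Finite G] {P : Set (Subgroup G)} (hg : PairGeo.Geo P) {B : Subgroup G} (hB : B ∈ P)
    (hcard : Nat.card ↥B = 16) (hom : (PairGeo.Om B).ncard = 4) : Base B where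
  comm := hg.comm B hB
  card := hcard
  exp := hg.exp4 B hB
  om := by
    have h1 : ((Om B : Subgroup G) : Set G) = PairGeo.Om B := by
      ext x
      rw [SetLike.mem_coe, mem_Om (hg.comm B hB), PairGeo.mem_Om]
    rw [← hom, ← h1]
    rfl
  ti := fun g x hx hx1 hgx => hg.norm_of_conj hB hx hx1 hgx
  wc := by
    intro g hg'
    refine PairInst.eq_of_le_norm hg.toTIFam (hg.conj B hB g) hB ?_
    intro a ha
    exact PairMain.mem_normalizer_iff_cj.1 (hg' ha)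

theorem adj_of [Finite G] {P : Set (Subgroup G)} (hg : PairGeo.Geo P) {A B : Subgroup G} (hA : A ∈ P)
    (hB : B ∈ P) (hbase : Base B) (hc : PairBase.Col A B) : Adj B A where
  base := hbase
  mem := by
    obtain ⟨g, hg'⟩ := hg.trans B hB A hA
    exact ⟨g, hg'.symm⟩
  ne := hc.1
  ex := by
    obtain ⟨-, x, hx, y, hy, hx1, hy1, hxy⟩ := hc
    exact ⟨x, hx, hx1, hg.norm_of_comm hB hy hy1 hxy⟩

/-- The endgame of S1779: a pair of collinear conjugates. -/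
theorem endgame [Finite G] {P : Set (Subgroup G)} (h : PairBase.TIFam P)
    (hex : ∃ A ∈ P, ∃ B ∈ P, PairBase.Col A B) {B₀ : Subgroup G} (hB₀ : B₀ ∈ P)
    (hM : Cfsg.IsMaximalTwoLocal (Subgroup.normalizer (B₀ : Set G)))
    (hMc : Cfsg.IsOfCharacteristicTwo ↥(Subgroup.normalizer (B₀ : Set G)))
    (N : Subgroup G) [N.Normal] [IsSimpleGroup ↥N] (hN : Subgroup.centralizer (N : Set G) = ⊥) :
    ∃ (F : Type) (_ : Field F) (_ : Fintype F), Fintype.card F = 4 ∧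
      Nonempty (↥N ≃* Matrix.ProjectiveSpecialLinearGroup (Fin 3) F) := by
  obtain ⟨hg, ⟨A, B, C, T⟩, hcard⟩ := PairMain.main h hex hB₀ hM hMc
  obtain ⟨g, hgB⟩ := h.trans B T.hB B₀ hB₀
  have T' := PairTwo.conj_of hg T g
  rw [hgB] at T'
  have ml := maxLoc_of (B := B₀) hM hMc (fun x => PairMain.mem_normalizer_iff_cj)
  have hbase := base_of hg hB₀ (hcard B₀ hB₀).2.1 (hcard B₀ hB₀).1
  have hA := adj_of hg T'.hA hB₀ hbase T'.AB
  have hC := adj_of hg T'.hC hB₀ hbase T'.CB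
  have hOm : ∀ {X : Subgroup G}, X ∈ P → ∀ {x : G}, x ∈ Om X ↔ x ∈ PairGeo.Om X := by
    intro X hX x
    rw [mem_Om (hg.comm X hX), PairGeo.mem_Om]
  obtain ⟨a, ha, ha1⟩ := hA.baseA.exists_ne
  obtain ⟨c, hc, hc1⟩ := hC.baseA.exists_ne
  obtain ⟨x, hx, hx1⟩ := hC.baseA.exists_ne
  obtain ⟨a, ha, ha1, -, -, -, -, -, hall⟩ := hA.exists_agree hC hx hx1
  have hai := hA.Om_inv ha
  have hxi := hC.Om_inv hx
  have hk : ∀ b ∈ B₀, (a * x) * b = b * (a * x) := by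
    intro b hb
    have h3 := comm_of_br_eq (hall b hb)
    rwa [hai] at h3
  obtain ⟨h1, h2⟩ := T'.br a ((hOm T'.hA).1 ha) x ((hOm T'.hC).1 hx) ha1 hx1
  have h3 : a * x * a⁻¹ * x⁻¹ = (a * x) * (a * x) := by
    rw [hai, hxi]; group
  rw [h3] at h1 h2
  obtain ⟨D, TD⟩ := hA.exists_TL ha ha1 ⟨hx1, _, hC.mem, hx⟩ hk h2 h1.2
  exact TD.psl34 ml N hN

end Cfsg.Agent.TIAbelian.End
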