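/-
helper996: S1779, endgame: the generalized Fitting subgroup is simple (from the Z*-theorem S0215).
-/
import Cfsg.Prelude.Def_CaseTheorems
import Cfsg.Prelude.Def_Local
import Cfsg.Agent.Lib.Cores
import Cfsg.Agent.Lib.GenFitting
import Cfsg.Agent.Lib.MinNormal
import Cfsg.Agent.SignalizersComponents.ComponentNormalize
import Cfsg.Agent.SignalizersComponents.FStarNormal
import Cfsg.Agent.SignalizersComponents.IntrinsicDiag
import Cfsg.Agent.S0215

set_option autoImplicit false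

namespace Cfsg.Agent.TIAbelian.FStar

open Cfsg Subgroup

variable {G : Type*} [Group G]

/-- The hypotheses: `B` is an abelian 2-group with `N_G(B) = M`, weakly closed and TI. -/
structure Hyp (M B : Subgroup G) : Prop where
  hO : pCore 2 G = ⊥
  char : IsOfCharacteristicTwo ↥M
  two : IsPGroup 2 ↥B
  comm : ∀ x ∈ B, ∀ y ∈ B, x * y = y * x
  norm : ∀ g ∈ M, ∀ b ∈ B, g * b * g⁻¹ ∈ B
  ti : ∀ g : G, ∀ x ∈ B, x ≠ 1 → g * x * g⁻¹ ∈ B → g ∈ M
  wc : ∀ g : G, (∀ b ∈ B, g * b * g⁻¹ ∈ M) → g ∈ M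
  four : ∃ x ∈ B, ∃ y ∈ B, x * x = 1 ∧ y * y = 1 ∧ x ≠ 1 ∧ y ≠ 1 ∧ x ≠ y
  pair : ∀ g : G, g ∉ M → ∀ x ∈ B, x * x = 1 → x ≠ 1 → g * x * g⁻¹ ∈ M →
    ∃ k : G, g * x * g⁻¹ * x = k * x * k⁻¹

variable {M B : Subgroup G}

theorem Hyp.cent (h : Hyp M B) {x g : G} (hx : x ∈ B) (hx1 : x ≠ 1) (hg : g * x = x * g) : g ∈ M := by
  apply h.ti g x hx hx1
  rwa [hg, mul_inv_cancel_right]

theorem Hyp.le (h : Hyp M B) : B ≤ M := by
  intro b hb
  obtain ⟨x, hx, -, -, -, -, hx1, -⟩ := h.four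
  exact h.cent hx hx1 (h.comm b hb x hx)

/-- `O₂(M)` as a subgroup of `G`. -/
def QQ (M : Subgroup G) : Subgroup G := (pCore 2 ↥M).map M.subtype

theorem QQ_le : QQ M ≤ M := map_subtype_le _

theorem QQ_two : IsPGroup 2 ↥(QQ M) := (Cfsg.Agent.Lib.Cores.pCore_isPGroup 2).map _

theorem QQ_norm {g q : G} (hg : g ∈ M) (hq : q ∈ QQ M) : g * q * g⁻¹ ∈ QQ M := by
  obtain ⟨q, hq, rfl⟩ := hq
  have : (pCore 2 ↥M).Normal := Cfsg.Agent.Lib.Cores.pCore_normal 2
  exact ⟨⟨g, hg⟩ * q * ⟨g, hg⟩⁻¹, this.conj_mem q hq _, rfl⟩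

theorem Hyp.charM (h : Hyp M B) {g : G} (hg : g ∈ M) (hc : ∀ q ∈ QQ M, g * q = q * g) : g ∈ QQ M := by
  have h1 : (⟨g, hg⟩ : M) ∈ centralizer (pCore 2 ↥M : Set ↥M) := by
    rw [mem_centralizer_iff]
    intro q hq
    apply Subtype.ext
    exact (hc q ⟨q, hq, rfl⟩).symm
  exact ⟨⟨g, hg⟩, h.char h1, rfl⟩

/-- a normal subgroup of `G` contained in `M` is trivial -/
theorem Hyp.eq_bot_of_le (h : Hyp M B) [Finite G] {N : Subgroup G} (hN : N.Normal) (hNM : N ≤ M) : N = ⊥ := by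
  have h1 : N ⊓ QQ M = ⊥ := by
    rw [← le_bot_iff, ← h.hO]
    apply Cfsg.Agent.Lib.GenFitting.le_pCore_of_normal_in_normal hN inf_le_left
    · intro n hn
      rw [mem_normalizer_iff]
      intro q
      constructor
      · rintro ⟨hq1, hq2⟩
        exact ⟨hN.conj_mem q hq1 n, QQ_norm (hNM hn) hq2⟩
      · rintro ⟨hq1, hq2⟩
        have e1 : n⁻¹ * (n * q * n⁻¹) * n⁻¹⁻¹ = q := by simp [mul_assoc]
        have h3 := hN.conj_mem _ hq1 n⁻¹
        have h4 := QQ_norm (M.inv_mem (hNM hn)) hq2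
        rw [e1] at h3 h4
        exact ⟨h3, h4⟩
    · exact QQ_two.to_le inf_le_right
  rw [eq_bot_iff]
  intro n hn
  rw [← h1]
  refine ⟨hn, h.charM (hNM hn) fun q hq => ?_⟩
  have h2 : n * q * n⁻¹ * q⁻¹ ∈ N ⊓ QQ M := by
    refine mem_inf.2 ⟨?_, mul_mem (QQ_norm (hNM hn) hq) (inv_mem hq)⟩
    have : n * (q * n⁻¹ * q⁻¹) ∈ N := mul_mem hn (hN.conj_mem _ (inv_mem hn) q)
    simpa only [mul_assoc] using this
  rw [h1, mem_bot, mul_inv_eq_one, mul_inv_eq_iff_eq_mul] at h2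
  exact h2

theorem eq_one_of_two_of_odd [Finite G] {K Q : Subgroup G} (hK : Odd (Nat.card K)) (hQ : IsPGroup 2 ↥Q) {z : G}
    (hz : z ∈ K) (hzQ : z ∈ Q) : z = 1 := by
  obtain ⟨n, hn⟩ := hQ ⟨z, hzQ⟩
  have hn' : z ^ 2 ^ n = 1 := by
    have := congrArg Subtype.val hn
    simpa using this
  have h1 : orderOf z ∣ 2 ^ n := orderOf_dvd_of_pow_eq_one hn'
  have h2 : orderOf z ∣ Nat.card K := by
    have := orderOf_dvd_natCard (⟨z, hz⟩ : K)
    rwa [Subgroup.orderOf_mk] at this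
  have h3 : Nat.Coprime (2 ^ n) (Nat.card K) := Nat.Coprime.pow_left n (Nat.coprime_two_left.2 hK)
  have h4 : orderOf z ∣ 1 := by
    rw [← h3]
    exact Nat.dvd_gcd h1 h2
  exact orderOf_eq_one_iff.1 (Nat.dvd_one.1 h4)

/-- a fixed point free involution inverts -/
theorem inverts [Finite G] {K : Subgroup G} (hK : K.Normal) {x : G} (hx : x * x = 1)
    (hfix : ∀ k ∈ K, k * x = x * k → k = 1) {k : G} (hk : k ∈ K) : x * k * x⁻¹ = k⁻¹ := by
  let φ : K →* K := ((MulAut.conjNormal x : MulAut K) : K ≃* K).toMonoidHom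
  have hφ : ∀ k : K, ((φ k : K) : G) = x * k * x⁻¹ := fun k => by
    simp [φ]
  have h1 : MonoidHom.FixedPointFree φ := by
    intro k hk
    apply Subtype.ext
    apply hfix k k.2
    have := hφ k
    rw [hk] at this
    have h2 := congrArg (· * x) this
    simpa [mul_assoc] using h2
  have h2 : Function.Involutive φ := by
    intro k
    apply Subtype.ext
    rw [hφ, hφ]
    have hxi : x⁻¹ = x := inv_eq_of_mul_eq_one_left hx
    rw [hxi]
    calc x * (x * (k : G) * x) * x = (x * x) * k * (x * x) := by simp only [mul_assoc]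
      _ = k := by rw [hx]; simp
  have h3 := h1.coe_eq_inv_of_involutive h2
  have h4 := congrFun h3 ⟨k, hk⟩
  have h5 := hφ ⟨k, hk⟩
  rw [h4] at h5
  exact h5.symm

/-- `O(G) = 1` -/
theorem Hyp.eq_bot_of_odd (h : Hyp M B) [Finite G] {K : Subgroup G} (hK : K.Normal) (ho : Odd (Nat.card K)) :
    K = ⊥ := by
  have hKM : ∀ k ∈ K, k ∈ M → k = 1 := by
    intro k hk hkM
    have h1 : k ∈ QQ M := by
      apply h.charM hkM
      intro q hq
      have h2 : k * q * k⁻¹ * q⁻¹ = 1 := by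
        apply eq_one_of_two_of_odd ho (QQ_two (M := M))
        · have : k * (q * k⁻¹ * q⁻¹) ∈ K := mul_mem hk (hK.conj_mem _ (inv_mem hk) q)
          simpa only [mul_assoc] using this
        · exact mul_mem (QQ_norm hkM hq) (inv_mem hq)
      rwa [mul_inv_eq_one, mul_inv_eq_iff_eq_mul] at h2
    exact eq_one_of_two_of_odd ho (QQ_two (M := M)) hk h1
  obtain ⟨x, hx, y, hy, hx2, hy2, hx1, hy1, hxy⟩ := h.four
  have hix : ∀ k ∈ K, x * k * x⁻¹ = k⁻¹ := fun k hk =>
    inverts hK hx2 (fun k hk hkx => hKM k hk (h.cent hx hx1 hkx)) hk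
  have hiy : ∀ k ∈ K, y * k * y⁻¹ = k⁻¹ := fun k hk =>
    inverts hK hy2 (fun k hk hkx => hKM k hk (h.cent hy hy1 hkx)) hk
  rw [eq_bot_iff]
  intro k hk
  rw [mem_bot]
  apply hKM k hk
  apply h.cent (x := x * y) (mul_mem hx hy)
  · intro h1
    apply hxy
    have h2 : x = y⁻¹ := eq_inv_of_mul_eq_one_left h1
    rw [h2]
    exact inv_eq_of_mul_eq_one_left hy2
  · have h1 : x * (y * k * y⁻¹) * x⁻¹ = k := by
      rw [hiy k hk, hix k⁻¹ (inv_mem hk), inv_inv]
    have h2 : x * y * k = k * (x * y) := by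
      have := congrArg (· * (x * y)) h1
      simpa [mul_assoc] using this
    exact h2.symm

/-- every 2-subgroup containing `B` lies in `M` -/
theorem Hyp.two_le (h : Hyp M B) [Finite G] {R : Subgroup G} (hR : IsPGroup 2 ↥R) (hBR : B ≤ R) : R ≤ M := by
  by_contra hRM
  have : Fact (Nat.Prime 2) := ⟨Nat.prime_two⟩
  have hnil : Group.IsNilpotent ↥R := hR.isNilpotent
  have h1 : M.subgroupOf R < ⊤ := by
    rw [lt_top_iff_ne_top]
    intro h2
    exact hRM (subgroupOf_eq_top.1 h2)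
  have h2 := Group.normalizerCondition_of_isNilpotent (G := ↥R) _ h1
  obtain ⟨g, hg, hgM⟩ := Set.exists_of_ssubset h2
  apply hgM
  rw [SetLike.mem_coe, mem_subgroupOf]
  apply h.wc
  intro b hb
  have h3 := (mem_normalizer_iff.1 hg ⟨b, hBR hb⟩).1 (by rw [mem_subgroupOf]; exact h.le hb)
  rw [mem_subgroupOf] at h3
  exact h3

/-- `O(N) = 1` for normal subgroups `N` -/
theorem Hyp.odd_in_normal (h : Hyp M B) [Finite G] {N K : Subgroup G} (hN : N.Normal) (hKN : K ≤ N)
    (hn : N ≤ normalizer (K : Set G)) (ho : Odd (Nat.card K)) : K = ⊥ := by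
  have h2 : Fact (Nat.Prime 2) := ⟨Nat.prime_two⟩
  have h1 : (pPrimeCore 2 ↥N).Characteristic := Cfsg.Agent.Lib.Cores.pPrimeCore_characteristic 2
  have h3 : ((pPrimeCore 2 ↥N).map N.subtype).Normal := inferInstance
  have h4 : Odd (Nat.card ((pPrimeCore 2 ↥N).map N.subtype)) := by
    rw [Nat.card_congr (Subgroup.equivMapOfInjective _ _ N.subtype_injective).symm.toEquiv]
    exact (Nat.coprime_two_right).1 (Cfsg.Agent.Lib.Cores.pPrimeCore_coprime 2)
  have h5 := h.eq_bot_of_odd h3 h4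
  rw [← le_bot_iff, ← h5]
  have h6 : K.subgroupOf N ≤ pPrimeCore 2 ↥N := by
    apply Cfsg.Agent.Lib.Cores.le_pPrimeCore
    · exact normal_subgroupOf_of_le_normalizer hn
    · rw [Nat.card_congr (subgroupOfEquivOfLe hKN).toEquiv]
      exact Nat.coprime_two_right.2 ho
  intro k hk
  exact ⟨⟨k, hKN hk⟩, h6 (mem_subgroupOf.2 hk), rfl⟩

/-- nontrivial normal subgroups meet `B` -/
theorem Hyp.meet (h : Hyp M B) [Finite G] {N : Subgroup G} (hN : N.Normal) (hN1 : N ≠ ⊥) :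
    ∃ b ∈ B, b ∈ N ∧ b ≠ 1 := by
  by_contra hcon
  have hcon : ∀ b ∈ B, b ∈ N → b = 1 := by
    intro b hb hbN
    by_contra h1
    exact hcon ⟨b, hb, hbN, h1⟩
  obtain ⟨x, hx, -, -, hx2, -, hx1, -⟩ := h.four
  have hBL : B ≤ N ⊔ B := le_sup_right
  have hNL : N ≤ N ⊔ B := le_sup_left
  have hB2 : IsPGroup 2 ↥(B.subgroupOf (N ⊔ B)) :=
    h.two.of_injective (subgroupOfEquivOfLe hBL).toMonoidHom (subgroupOfEquivOfLe hBL).injective
  obtain ⟨P, hP⟩ := hB2.exists_le_sylow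
  have hP2 : IsPGroup 2 ↥((P : Subgroup ↥(N ⊔ B)).map (N ⊔ B).subtype) := P.isPGroup'.map _
  have hBP : B ≤ (P : Subgroup ↥(N ⊔ B)).map (N ⊔ B).subtype := fun b hb =>
    ⟨⟨b, hBL hb⟩, hP (mem_subgroupOf.2 hb), rfl⟩
  have hPM := h.two_le hP2 hBP
  have hxP : (⟨x, hBL hx⟩ : ↥(N ⊔ B)) ∈ P := hP (mem_subgroupOf.2 hx)
  have hxo : orderOf (⟨x, hBL hx⟩ : ↥(N ⊔ B)) = 2 := by
    rw [Subgroup.orderOf_mk]
    exact orderOf_eq_prime (by rw [pow_two]; exact hx2) hx1
  obtain ⟨K, hK, hKo, hKc⟩ := Cfsg.Agent.S0215.result P ⟨x, hBL hx⟩ hxo hxP (by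
    rintro ⟨g, hg⟩ hgP
    apply Subtype.ext
    change g * x * g⁻¹ = x
    have hgP' : g * x * g⁻¹ ∈ (P : Subgroup ↥(N ⊔ B)).map (N ⊔ B).subtype := ⟨_, hgP, rfl⟩
    have hnM : g * x * g⁻¹ * x⁻¹ ∈ M := mul_mem (hPM hgP') (inv_mem (h.le hx))
    have hnN : g * x * g⁻¹ * x⁻¹ ∈ N := by
      obtain ⟨n, hn, b, hb, rfl⟩ := mem_sup_of_normal_left.1 hg
      have e1 : n * b * x * (n * b)⁻¹ * x⁻¹ = n * (x * n⁻¹ * x⁻¹) := by
        have h1 := h.comm b hb x hx
        have e2 : n * b * x * (n * b)⁻¹ * x⁻¹ = n * (b * x) * b⁻¹ * n⁻¹ * x⁻¹ := by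
          simp only [mul_inv_rev, mul_assoc]
        rw [e2, h1]
        simp [mul_assoc]
      rw [e1]
      exact mul_mem hn (hN.conj_mem _ (inv_mem hn) x)
    have hnB : ∀ b ∈ B, g * x * g⁻¹ * x⁻¹ * b = b * (g * x * g⁻¹ * x⁻¹) := by
      intro b hb
      have h1 : g * x * g⁻¹ * x⁻¹ * b * (g * x * g⁻¹ * x⁻¹)⁻¹ * b⁻¹ = 1 := by
        apply hcon
        · exact mul_mem (h.norm _ hnM b hb) (inv_mem hb)
        · have : g * x * g⁻¹ * x⁻¹ * (b * (g * x * g⁻¹ * x⁻¹)⁻¹ * b⁻¹) ∈ N :=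
            mul_mem hnN (hN.conj_mem _ (inv_mem hnN) b)
          simpa only [mul_assoc] using this
      rwa [mul_inv_eq_one, mul_inv_eq_iff_eq_mul] at h1
    have hgB : ∀ b ∈ B, g * x * g⁻¹ * b = b * (g * x * g⁻¹) := by
      intro b hb
      have e1 : g * x * g⁻¹ = g * x * g⁻¹ * x⁻¹ * x := by simp
      rw [e1]
      generalize g * x * g⁻¹ * x⁻¹ = n at hnB
      rw [mul_assoc, h.comm x hx b hb, ← mul_assoc, hnB b hb, mul_assoc]
    have hgM : g⁻¹ ∈ M := by
      apply h.wc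
      intro b hb
      apply h.cent hx hx1
      have h1 := congrArg (fun t => g⁻¹ * t * g) (hgB b hb)
      simpa [mul_assoc] using h1.symm
    have hgM : g ∈ M := by simpa using inv_mem hgM
    have h1 := hcon _ (mul_mem (h.norm g hgM x hx) (inv_mem hx)) hnN
    rwa [mul_inv_eq_one] at h1)
  have hKb : K.map (N ⊔ B).subtype ⊓ N = ⊥ := by
    apply h.odd_in_normal hN inf_le_right
    · intro n hn
      rw [mem_normalizer_iff]
      have key : ∀ n ∈ N, ∀ k, k ∈ K.map (N ⊔ B).subtype ⊓ N → n * k * n⁻¹ ∈ K.map (N ⊔ B).subtype ⊓ N := by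
        rintro n hn k ⟨⟨k, hk, rfl⟩, hkN⟩
        refine ⟨⟨⟨n, hNL hn⟩ * k * ⟨n, hNL hn⟩⁻¹, hK.conj_mem k hk _, rfl⟩, hN.conj_mem _ hkN n⟩
      intro k
      refine ⟨key n hn k, fun hk => ?_⟩
      have h3 := key n⁻¹ (inv_mem hn) _ hk
      simpa [mul_assoc] using h3
    · apply Odd.of_dvd_nat hKo
      have h1 : Nat.card ↥(K.map (N ⊔ B).subtype) = Nat.card K :=
        Nat.card_congr (K.equivMapOfInjective _ (N ⊔ B).subtype_injective).symm.toEquiv
      rw [← h1]
      exact card_dvd_of_le inf_le_left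
  apply hN1
  apply h.eq_bot_of_le hN
  intro n hn
  apply h.cent hx hx1
  have h1 : x * n * x⁻¹ * n⁻¹ ∈ K.map (N ⊔ B).subtype ⊓ N := by
    refine mem_inf.2 ⟨⟨_, hKc ⟨n, hNL hn⟩, rfl⟩, mul_mem (hN.conj_mem n hn x) (inv_mem hn)⟩
  rw [hKb, mem_bot, mul_inv_eq_one, mul_inv_eq_iff_eq_mul] at h1
  exact h1.symm

/-- a normal subgroup meets `B` in an involution -/
theorem Hyp.meet_two (h : Hyp M B) [Finite G] {N : Subgroup G} (hN : N.Normal) (hN1 : N ≠ ⊥) :
    ∃ x ∈ B, x ∈ N ∧ x ≠ 1 ∧ x * x = 1 := by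
  obtain ⟨b, hb, hbN, hb1⟩ := h.meet hN hN1
  obtain ⟨n, hn'⟩ := h.two ⟨b, hb⟩
  have hn : b ^ 2 ^ n = 1 := by
    have := congrArg Subtype.val hn'
    simpa using this
  clear hn'
  induction n generalizing b with
  | zero => exact absurd (by simpa using hn) hb1
  | succ n ih =>
    by_cases h1 : b * b = 1
    · exact ⟨b, hb, hbN, hb1, h1⟩
    · apply ih (b * b) (mul_mem hb hb) (mul_mem hbN hbN) h1
      rw [← pow_two, ← pow_mul, ← pow_succ']
      exact hn

/-- two nontrivial normal subgroups meet -/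
theorem Hyp.inf_ne_bot (h : Hyp M B) [Finite G] {N K : Subgroup G} (hN : N.Normal) (hN1 : N ≠ ⊥) (hK : K.Normal)
    (hK1 : K ≠ ⊥) : N ⊓ K ≠ ⊥ := by
  intro h0
  obtain ⟨x, hx, hxN, hx1⟩ := h.meet hN hN1
  apply hK1
  apply h.eq_bot_of_le hK
  intro k hk
  apply h.cent hx hx1
  have h1 : k * x * k⁻¹ * x⁻¹ ∈ N ⊓ K := by
    refine mem_inf.2 ⟨mul_mem (hN.conj_mem x hxN k) (inv_mem hxN), ?_⟩
    have : k * (x * k⁻¹ * x⁻¹) ∈ K := mul_mem hk (hK.conj_mem _ (inv_mem hk) x)
    simpa only [mul_assoc] using this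
  rw [h0, mem_bot, mul_inv_eq_one, mul_inv_eq_iff_eq_mul] at h1
  exact h1

/-- a nonabelian simple group is not a 2-group -/
theorem not_two_group [Finite G] {D : Subgroup G} [IsSimpleGroup ↥D] (hna : ∃ a ∈ D, ∃ b ∈ D, a * b ≠ b * a) :
    ¬ IsPGroup 2 ↥D := by
  intro h2
  have : Fact (Nat.Prime 2) := ⟨Nat.prime_two⟩
  obtain ⟨a, ha, b, hb, hab⟩ := hna
  have h3 := h2.center_nontrivial
  rcases (inferInstance : (center ↥D).Normal).eq_bot_or_eq_top with h4 | h4
  · rw [h4] at h3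
    exact (not_nontrivial _ h3)
  · apply hab
    have h5 : (⟨b, hb⟩ : D) ∈ center ↥D := by rw [h4]; trivial
    have h6 := mem_center_iff.1 h5 ⟨a, ha⟩
    exact congrArg Subtype.val h6

/-- normal subgroups of a simple subgroup -/
theorem simple_cases {D R : Subgroup G} [IsSimpleGroup ↥D] (hRD : R ≤ D) (hn : ∀ d ∈ D, ∀ r ∈ R, d * r * d⁻¹ ∈ R) :
    R = ⊥ ∨ R = D := by
  have h1 : (R.subgroupOf D).Normal := by
    constructor
    intro r hr d
    rw [mem_subgroupOf] at hr ⊢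
    exact hn d d.2 r hr
  rcases h1.eq_bot_or_eq_top with h2 | h2
  · left
    rw [Subgroup.subgroupOf_eq_bot] at h2
    rw [eq_bot_iff]
    intro r hr
    have := h2.le_bot ⟨hr, hRD hr⟩
    exact this
  · right
    exact le_antisymm hRD (subgroupOf_eq_top.1 h2)

/-- simple subnormal subgroups of depth two do not centralise elements of `B` -/
theorem Hyp.not_cent (h : Hyp M B) [Finite G] {N D : Subgroup G} (hN : N.Normal) (hDN : D ≤ N)
    (hn : N ≤ normalizer (D : Set G)) (hs : IsSimpleGroup ↥D) (hna : ∃ a ∈ D, ∃ b ∈ D, a * b ≠ b * a) {b : G}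
    (hb : b ∈ B) (hb1 : b ≠ 1) : ¬ ∀ d ∈ D, d * b = b * d := by
  intro hc
  have hDM : D ≤ M := fun d hd => h.cent hb hb1 (hc d hd)
  have h2 := not_two_group hna
  have hDQ : ∀ x ∈ D, x ∈ QQ M → x = 1 := by
    rcases simple_cases (D := D) (R := D ⊓ QQ M) inf_le_left (by
      rintro d hd r ⟨hr, hrQ⟩
      exact mem_inf.2 ⟨mul_mem (mul_mem hd hr) (inv_mem hd), QQ_norm (hDM hd) hrQ⟩) with h3 | h3
    · intro x hx hxQ
      have : x ∈ D ⊓ QQ M := ⟨hx, hxQ⟩
      rw [h3] at this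
      exact this
    · exfalso
      apply h2
      rw [← h3]
      exact QQ_two.to_le inf_le_right
  -- `D` centralises `N ∩ Q`
  have hNQ : ∀ q ∈ QQ M, q ∈ N → ∀ d ∈ D, d * q = q * d := by
    intro q hq hqN d hd
    have h3 : d * q * d⁻¹ * q⁻¹ = 1 := by
      apply hDQ
      · have h4 := (mem_normalizer_iff.1 (hn hqN) d⁻¹).1 (inv_mem hd)
        have : d * (q * d⁻¹ * q⁻¹) ∈ D := mul_mem hd h4
        simpa only [mul_assoc] using this
      · exact mul_mem (QQ_norm (hDM hd) hq) (inv_mem hq)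
    rwa [mul_inv_eq_one, mul_inv_eq_iff_eq_mul] at h3
  have hQD : ∀ q ∈ QQ M, ∀ d ∈ D, q * d * q⁻¹ * d⁻¹ ∈ QQ M ∧ q * d * q⁻¹ * d⁻¹ ∈ N := by
    intro q hq d hd
    constructor
    · have h4 := QQ_norm (hDM hd) (inv_mem hq)
      have : q * (d * q⁻¹ * d⁻¹) ∈ QQ M := mul_mem hq h4
      simpa only [mul_assoc] using this
    · exact mul_mem (hN.conj_mem d (hDN hd) q) (inv_mem (hDN hd))
  have hall : ∀ q ∈ QQ M, ∀ d ∈ D, q * d * q⁻¹ * d⁻¹ = 1 := by
    intro q hq
    let φ : ↥D →* ↥(QQ M) := MonoidHom.mk' (fun d => ⟨q * d * q⁻¹ * (d : G)⁻¹, (hQD q hq d d.2).1⟩) (by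
      rintro ⟨d, hd⟩ ⟨e, he⟩
      apply Subtype.ext
      change q * (d * e) * q⁻¹ * (d * e)⁻¹ = (q * d * q⁻¹ * d⁻¹) * (q * e * q⁻¹ * e⁻¹)
      obtain ⟨h5, h6⟩ := hQD q hq e he
      have h7 := hNQ _ h5 h6 d hd
      have e1 : q * (d * e) * q⁻¹ * (d * e)⁻¹ = q * d * q⁻¹ * (q * e * q⁻¹ * e⁻¹) * d⁻¹ := by
        simp [mul_assoc]
      rw [e1]
      generalize q * e * q⁻¹ * e⁻¹ = c at h7
      have h8 : c * d⁻¹ = d⁻¹ * c := by
        rw [mul_inv_eq_iff_eq_mul, mul_assoc, ← h7, inv_mul_cancel_left]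
      rw [mul_assoc, h8, ← mul_assoc])
    rcases (inferInstance : φ.ker.Normal).eq_bot_or_eq_top with h5 | h5
    · exfalso
      exact h2 ((QQ_two (M := M)).of_injective φ ((MonoidHom.ker_eq_bot_iff φ).1 h5))
    · intro d hd
      have h6 : (⟨d, hd⟩ : D) ∈ φ.ker := by rw [h5]; trivial
      rw [MonoidHom.mem_ker] at h6
      exact congrArg Subtype.val h6
  obtain ⟨a, ha, c, hc', hac⟩ := hna
  have h9 : ∀ d ∈ D, d = 1 := by
    intro d hd
    apply hDQ d hd
    apply h.charM (hDM hd)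
    intro q hq
    have := hall q hq d hd
    rw [mul_inv_eq_one, mul_inv_eq_iff_eq_mul] at this
    exact this.symm
  apply hac
  rw [h9 a ha, h9 c hc']

/-- an involution without further commuting conjugates is isolated in every 2-subgroup -/
theorem iso_of_comm {H : Type*} [Group H] {t : H} (ht : t * t = 1)
    (hiso : ∀ g : H, g * t * g⁻¹ * t = t * (g * t * g⁻¹) → g * t * g⁻¹ = t) (n : ℕ) :
    ∀ g : H, (g * t * g⁻¹ * t) ^ 2 ^ n = 1 → g * t * g⁻¹ = t := by
  have hti : t⁻¹ = t := inv_eq_of_mul_eq_one_left ht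
  induction n with
  | zero =>
    intro g hg
    rw [pow_zero, pow_one] at hg
    rw [eq_inv_of_mul_eq_one_left hg, hti]
  | succ n ih =>
    intro g hg
    apply hiso
    set u := g * t * g⁻¹ with hu
    have hu2 : u * u = 1 := by
      rw [hu]
      calc g * t * g⁻¹ * (g * t * g⁻¹) = g * (t * t) * g⁻¹ := by simp [mul_assoc]
        _ = 1 := by rw [ht]; simp
    have hui : u⁻¹ = u := inv_eq_of_mul_eq_one_left hu2
    have h1 := ih u (by
      rw [hui, show u * t * u * t = (u * t) ^ 2 by rw [pow_two, mul_assoc, mul_assoc, mul_assoc], ← pow_mul,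
        ← pow_succ']
      exact hg)
    rw [hui] at h1
    calc u * t = u * t * (u * u) := by rw [hu2, mul_one]
      _ = (u * t * u) * u := by simp only [mul_assoc]
      _ = t * u := by rw [h1]

/-- There is a simple nonabelian normal subgroup. -/
theorem Hyp.exists_simple (h : Hyp M B) [Finite G] : ∃ N : Subgroup G, N.Normal ∧ IsSimpleGroup ↥N ∧
    (∃ a ∈ N, ∃ b ∈ N, a * b ≠ b * a) := by
  have : Nontrivial G := by
    obtain ⟨x, hx, -, -, -, -, hx1, -⟩ := h.four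
    exact ⟨x, 1, hx1⟩
  obtain ⟨N, -, hN1, hNn, hNmin⟩ := Cfsg.Agent.Lib.MinNormal.exists_minimal_normal_le (⊤ : Subgroup G) top_ne_bot
  have hN : N.Normal := normalizer_eq_top_iff.1 (top_le_iff.1 hNn)
  have hmin : ∀ K : Subgroup G, K.Normal → K ≤ N → K = ⊥ ∨ K = N := fun K hK hKN =>
    hNmin K hKN (by rw [normalizer_eq_top_iff.2 hK])
  obtain ⟨m, T, hm, hTN, hTs, hTn, hTc, hTcomm, hTinj, -, hTsup⟩ :=
    Cfsg.Agent.Lib.MinNormal.exists_internal_decomposition N hN1 hmin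
  obtain ⟨x, hx, hxN, hx1, hx2⟩ := h.meet_two hN hN1
  -- `Z(N) = 1`
  have hZ : N ⊓ centralizer (N : Set G) = ⊥ := by
    rcases hmin (N ⊓ centralizer (N : Set G)) inferInstance inf_le_left with h1 | h1
    · exact h1
    · exfalso
      apply hN1
      apply h.eq_bot_of_le hN
      intro n hn
      apply h.cent hx hx1
      have h2 : x ∈ N ⊓ centralizer (N : Set G) := by rw [h1]; exact hxN
      exact mem_centralizer_iff.1 h2.2 n hn
  have hTna : ∀ i, ∃ a ∈ T i, ∃ b ∈ T i, a * b ≠ b * a := by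
    intro i
    by_contra hcon
    have hcon : ∀ a ∈ T i, ∀ b ∈ T i, a * b = b * a := by
      intro a ha b hb
      by_contra h1
      exact hcon ⟨a, ha, b, hb, h1⟩
    have h1 : T i ≤ N ⊓ centralizer (N : Set G) := by
      refine le_inf (hTN i) ?_
      rw [le_centralizer_iff, ← hTsup]
      apply iSup_le
      intro j y hy
      rw [mem_centralizer_iff]
      intro a ha
      by_cases hij : i = j
      · rw [← hij] at hy
        exact hcon a ha y hy
      · exact hTcomm i j hij a ha y hy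
    rw [hZ, le_bot_iff] at h1
    have h2 := hTs i
    rw [h1] at h2
    exact not_nontrivial _ h2.toNontrivial
  have hTZ : ∀ i, ∀ a ∈ T i, (∀ b ∈ T i, a * b = b * a) → a = 1 := by
    intro i a ha hab
    have h1 := hTs i
    rcases simple_cases (D := T i) (R := T i ⊓ centralizer (T i : Set G)) inf_le_left (by
      rintro d hd r ⟨hr, hrc⟩
      refine mem_inf.2 ⟨mul_mem (mul_mem hd hr) (inv_mem hd), ?_⟩
      have h2 := mem_centralizer_iff.1 hrc d hd
      rw [h2, mul_inv_cancel_right]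
      exact hrc) with h2 | h2
    · have h3 : a ∈ T i ⊓ centralizer (T i : Set G) :=
        mem_inf.2 ⟨ha, mem_centralizer_iff.2 fun b hb => (hab b hb).symm⟩
      rw [h2] at h3
      exact h3
    · exfalso
      obtain ⟨a, ha, b, hb, hab⟩ := hTna i
      apply hab
      rw [← h2] at hb
      exact mem_centralizer_iff.1 hb.2 a ha
  have hone : ∀ i j : Fin m, i = j := by
    intro i j
    by_contra hij
    have hsi := hTs i
    obtain ⟨t, ht, c, hc, hxtc⟩ : ∃ t ∈ T i, ∃ c, (∀ d ∈ T i, c * d = d * c) ∧ x = t * c := by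
      have hx' : x ∈ ⨆ i, T i := by rw [hTsup]; exact hxN
      refine iSup_induction T (C := fun x => ∃ t ∈ T i, ∃ c, (∀ d ∈ T i, c * d = d * c) ∧ x = t * c) hx'
        ?_ ?_ ?_
      · intro k y hy
        by_cases hki : k = i
        · rw [hki] at hy
          exact ⟨y, hy, 1, fun d _ => by simp, by simp⟩
        · exact ⟨1, one_mem _, y, fun d hd => hTcomm k i hki y hy d hd, by simp⟩
      · exact ⟨1, one_mem _, 1, fun d _ => by simp, by simp⟩
      · rintro _ _ ⟨t, ht, c, hc, rfl⟩ ⟨t', ht', c', hc', rfl⟩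
        refine ⟨t * t', mul_mem ht ht', c * c', fun d hd => ?_, ?_⟩
        · rw [mul_assoc, hc' d hd, ← mul_assoc, hc d hd, mul_assoc]
        · calc t * c * (t' * c') = t * (c * t') * c' := by simp only [mul_assoc]
            _ = t * t' * (c * c') := by rw [hc t' ht']; simp only [mul_assoc]
    have ht1 : t ≠ 1 := by
      rintro rfl
      rw [one_mul] at hxtc
      apply h.not_cent hN (hTN i) (hTn i) hsi (hTna i) hx hx1
      intro d hd
      rw [hxtc]
      exact (hc d hd).symm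
    have hx2' : (t * t) * (c * c) = 1 := by
      rw [← hx2, hxtc]
      calc (t * t) * (c * c) = t * (t * c) * c := by simp only [mul_assoc]
        _ = t * (c * t) * c := by rw [hc t ht]
        _ = t * c * (t * c) := by simp only [mul_assoc]
    have htt : t * t = 1 := by
      apply hTZ i (t * t) (mul_mem ht ht)
      intro b hb
      rw [eq_inv_of_mul_eq_one_left hx2']
      have h1 : (c * c) * b = b * (c * c) := by rw [mul_assoc, hc b hb, ← mul_assoc, hc b hb, mul_assoc]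
      rw [inv_mul_eq_iff_eq_mul, ← mul_assoc, h1, mul_inv_cancel_right]
    have hcc : c * c = 1 := by rwa [htt, one_mul] at hx2'
    have hti : t⁻¹ = t := inv_eq_of_mul_eq_one_left htt
    have hiso : ∀ g ∈ T i, g * t * g⁻¹ * t = t * (g * t * g⁻¹) → g * t * g⁻¹ = t := by
      intro g hg hgt
      by_contra hne
      have hgx : g * x * g⁻¹ = g * t * g⁻¹ * c := by
        rw [hxtc, show g * (t * c) * g⁻¹ = g * t * (c * g⁻¹) by simp only [mul_assoc], hc g⁻¹ (inv_mem hg)]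
        simp only [mul_assoc]
      have hu : g * t * g⁻¹ ∈ T i := mul_mem (mul_mem hg ht) (inv_mem hg)
      have hw : g * x * g⁻¹ * x = g * t * g⁻¹ * t := by
        rw [hgx, hxtc]
        generalize g * t * g⁻¹ = u
        calc u * c * (t * c) = u * (c * t) * c := by simp only [mul_assoc]
          _ = u * t * (c * c) := by rw [hc t ht]; simp only [mul_assoc]
          _ = u * t := by rw [hcc, mul_one]
      have hw' : x * (g * x * g⁻¹) = g * t * g⁻¹ * t := by
        rw [hgt, hgx, hxtc]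
        generalize g * t * g⁻¹ = u at hu
        calc t * c * (u * c) = t * (c * u) * c := by simp only [mul_assoc]
          _ = t * u * (c * c) := by rw [hc u hu]; simp only [mul_assoc]
          _ = t * u := by rw [hcc, mul_one]
      have hgM' : g * x * g⁻¹ ∈ M := h.cent hx hx1 (hw.trans hw'.symm)
      have hwT : g * t * g⁻¹ * t ∈ T i := mul_mem hu ht
      have hw1 : g * t * g⁻¹ * t ≠ 1 := by
        intro h1
        apply hne
        rw [eq_inv_of_mul_eq_one_left h1, hti]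
      have hTj : ∀ d ∈ T j, d * (g * t * g⁻¹ * t) = (g * t * g⁻¹ * t) * d := fun d hd =>
        hTcomm j i (Ne.symm hij) d hd _ hwT
      by_cases hgM : g ∈ M
      · have hwB : g * t * g⁻¹ * t ∈ B := by
          rw [← hw]
          exact mul_mem (h.norm g hgM x hx) hx
        exact h.not_cent hN (hTN j) (hTn j) (hTs j) (hTna j) hwB hw1 hTj
      · obtain ⟨k, hk⟩ := h.pair g hgM x hx hx2 hx1 hgM'
        rw [hw] at hk
        have hsj : IsSimpleGroup ↥((T j).map (MulAut.conj k⁻¹).toMonoidHom) := by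
          have := hTs j
          exact (MulEquiv.isSimpleGroup_congr
            ((T j).equivMapOfInjective (MulAut.conj k⁻¹).toMonoidHom (MulAut.conj k⁻¹).injective)).1 this
        refine h.not_cent (D := (T j).map (MulAut.conj k⁻¹).toMonoidHom) hN ?_
          (Cfsg.Agent.Lib.MinNormal.le_normalizer_map_conj (hTn j) k⁻¹) hsj ?_ hx hx1 ?_
        · rintro _ ⟨d, hd, rfl⟩
          exact hN.conj_mem d (hTN j hd) k⁻¹
        · obtain ⟨a, ha, b, hb, hab⟩ := hTna j
          refine ⟨_, ⟨a, ha, rfl⟩, _, ⟨b, hb, rfl⟩, ?_⟩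
          intro h1
          rw [← map_mul, ← map_mul] at h1
          exact hab ((MulAut.conj k⁻¹).injective h1)
        · rintro _ ⟨d, hd, rfl⟩
          have h1 := hTj d hd
          rw [hk] at h1
          have h2 := congrArg (fun z => k⁻¹ * z * k) h1
          change k⁻¹ * d * k⁻¹⁻¹ * x = x * (k⁻¹ * d * k⁻¹⁻¹)
          simpa [mul_assoc] using h2
    -- the Z*-theorem
    have hzP : IsPGroup 2 ↥(zpowers (⟨t, ht⟩ : ↥(T i))) := by
      refine IsPGroup.of_card_dvd_pow (n := 1) ?_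
      rw [Nat.card_zpowers]
      apply orderOf_dvd_of_pow_eq_one
      apply Subtype.ext
      change t ^ 2 ^ 1 = 1
      rw [pow_one, pow_two, htt]
    obtain ⟨P, hP⟩ := hzP.exists_le_sylow
    have hto : orderOf (⟨t, ht⟩ : ↥(T i)) = 2 := by
      rw [Subgroup.orderOf_mk]
      exact orderOf_eq_prime (by rw [pow_two]; exact htt) ht1
    have htP := hP (mem_zpowers _)
    obtain ⟨K, hK, hKo, hKc⟩ := Cfsg.Agent.S0215.result P ⟨t, ht⟩ hto htP (by
      intro g hgP
      have h1 : (⟨g * ⟨t, ht⟩ * g⁻¹ * ⟨t, ht⟩, mul_mem hgP htP⟩ : ↥(P : Subgroup ↥(T i))) ∈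
        (⊤ : Subgroup ↥(P : Subgroup ↥(T i))) := trivial
      obtain ⟨n, hn⟩ := P.isPGroup' ⟨g * ⟨t, ht⟩ * g⁻¹ * ⟨t, ht⟩, mul_mem hgP htP⟩
      refine iso_of_comm (t := (⟨t, ht⟩ : ↥(T i))) (Subtype.ext htt) ?_ n g (congrArg Subtype.val hn)
      rintro ⟨g, hg⟩ h2
      exact Subtype.ext (hiso g hg (congrArg Subtype.val h2)))
    rcases hK.eq_bot_or_eq_top with h1 | h1
    · apply ht1
      apply hTZ i t ht
      intro b hb
      have h2 := hKc ⟨b, hb⟩
      rw [h1, mem_bot] at h2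
      have h3 : t * b * t⁻¹ * b⁻¹ = 1 := congrArg Subtype.val h2
      rwa [mul_inv_eq_one, mul_inv_eq_iff_eq_mul] at h3
    · have h2 := orderOf_dvd_natCard (⟨t, ht⟩ : ↥(T i))
      rw [hto] at h2
      rw [h1, card_top] at hKo
      exact (Nat.not_odd_iff_even.2 (even_iff_two_dvd.2 h2)) hKo
  have hNT : N = T ⟨0, hm⟩ := by
    rw [← hTsup]
    apply le_antisymm
    · apply iSup_le
      intro i
      rw [hone i ⟨0, hm⟩]
    · exact le_iSup T _
  refine ⟨N, hN, ?_, ?_⟩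
  · rw [hNT]; exact hTs _
  · rw [hNT]; exact hTna _

/-- **Main result**: `F*(G)` is a nonabelian simple group, contained in all nontrivial normal subgroups, with trivial
centralizer, and contains an involution of `B`. -/
theorem Hyp.main (h : Hyp M B) [Finite G] : IsSimpleGroup ↥(generalizedFittingSubgroup G) ∧
    (∃ a ∈ generalizedFittingSubgroup G, ∃ b ∈ generalizedFittingSubgroup G, a * b ≠ b * a) ∧
    centralizer (generalizedFittingSubgroup G : Set G) = ⊥ ∧
    ∃ x ∈ B, x ∈ generalizedFittingSubgroup G ∧ x ≠ 1 ∧ x * x = 1 := by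
  obtain ⟨N, hN, hNs, hna⟩ := h.exists_simple
  have hN1 : N ≠ ⊥ := by
    rintro rfl
    exact not_nontrivial _ hNs.toNontrivial
  have hC : centralizer (N : Set G) = ⊥ := by
    by_contra h1
    apply h.inf_ne_bot hN hN1 inferInstance h1
    rcases simple_cases (D := N) (R := N ⊓ centralizer (N : Set G)) inf_le_left
      (fun d _ r hr => (inferInstance : (N ⊓ centralizer (N : Set G)).Normal).conj_mem r hr d) with h2 | h2
    · exact h2
    · exfalso
      obtain ⟨a, ha, b, hb, hab⟩ := hna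
      apply hab
      rw [← h2] at hb
      exact mem_centralizer_iff.1 hb.2 a ha
  have hNc : IsComponent N := by
    refine ⟨hN.isSubnormal, Cfsg.Agent.SignalizersComponents.IntrinsicDiag.quasisimple_of_simple hNs ?_⟩
    intro hcm
    obtain ⟨a, ha, b, hb, hab⟩ := hna
    exact hab (congrArg Subtype.val (hcm.is_comm.comm (⟨a, ha⟩ : ↥N) ⟨b, hb⟩))
  have hFN : generalizedFittingSubgroup G = N := by
    apply le_antisymm
    · rw [Cfsg.Agent.Lib.GenFitting.genFitting_def]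
      apply sup_le
      · rw [Cfsg.Agent.Lib.GenFitting.layer_def]
        apply sSup_le
        intro K hK
        by_cases hKN : K = N
        · exact hKN.le
        · have h1 := Cfsg.Agent.SignalizersComponents.ComponentNormalize.component_comm_of_ne hK hNc hKN
          rw [commutator_eq_bot_iff_le_centralizer, hC, le_bot_iff] at h1
          rw [h1]
          exact bot_le
      · have h1 := Cfsg.Agent.SignalizersComponents.FStarNormal.component_comm_fitting hNc
        rw [commutator_comm, commutator_eq_bot_iff_le_centralizer, hC, le_bot_iff] at h1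
        rw [h1]
        exact bot_le
    · exact Cfsg.Agent.Lib.GenFitting.component_le_genFitting hNc
  rw [hFN]
  exact ⟨hNs, hna, hC, h.meet_two hN hN1⟩

end Cfsg.Agent.TIAbelian.FStar
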