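/-
helper996: S1779: `F*(G)` is simple when a collinear pair exists (instance of `FStar.Hyp.main`).
-/
import Cfsg.Agent.TIAbelian.FStar
import Cfsg.Agent.TIAbelian.PairInst

set_option autoImplicit false

namespace Cfsg.Agent.TIAbelian.FStarInst

open Cfsg
open Cfsg.Agent.TIAbelian.PairBase Cfsg.Agent.TIAbelian.PairOmega Cfsg.Agent.TIAbelian.PairGeo
open Cfsg.Agent.TIAbelian.PairMain (mem_normalizer_iff_cj)

variable {G : Type*} [Group G]

/-- For a collinear pair and `t ∈ Ω₁(A)#`, commutation with `t` maps `B` onto `Ω₁(B)`. -/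
theorem br_surj [Finite G] {P : Set (Subgroup G)} (h : Geo P) {A B : Subgroup G} (hA : A ∈ P) (hB : B ∈ P)
    (hc : Col A B) (hOm : (Om B).ncard = 4) (hB16 : Nat.card ↥B = 16) {t : G} (ht : t ∈ Om A) (ht1 : t ≠ 1)
    {x : G} (hx : x ∈ Om B) : ∃ b ∈ B, b * t * b⁻¹ * t⁻¹ = x := by
  classical
  have hmem : ∀ b ∈ B, b * t * b⁻¹ * t⁻¹ ∈ Om B := fun b hb => h.brak A hA B hB hc t ht b hb
  let φ : ↥B →* ↥B := MonoidHom.mk' (fun b => ⟨(b : G) * t * (b : G)⁻¹ * t⁻¹, (hmem b b.2).1⟩) (by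
    rintro ⟨b, hb⟩ ⟨c, hc'⟩
    apply Subtype.ext
    change b * c * t * (b * c)⁻¹ * t⁻¹ = (b * t * b⁻¹ * t⁻¹) * (c * t * c⁻¹ * t⁻¹)
    have e1 : b * c * t * (b * c)⁻¹ * t⁻¹ = b * (c * t * c⁻¹ * t⁻¹) * t * b⁻¹ * t⁻¹ := by simp [mul_assoc]
    have h1 := h.comm B hB b hb _ (hmem c hc').1
    have h2 := h.comm B hB _ (hmem b hb).1 _ (hmem c hc').1
    rw [e1, h1, h2]
    simp only [mul_assoc])
  have hφ : ∀ b : ↥B, ((φ b : ↥B) : G) = (b : G) * t * (b : G)⁻¹ * t⁻¹ := fun b => rfl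
  have hker : (fun b : ↥B => (b : G)) '' (φ.ker : Set ↥B) = Om B := by
    ext y
    constructor
    · rintro ⟨b, hb, rfl⟩
      have h1 : (b : G) * t * (b : G)⁻¹ * t⁻¹ = 1 := congrArg Subtype.val (MonoidHom.mem_ker.1 hb)
      rw [mul_inv_eq_one, mul_inv_eq_iff_eq_mul] at h1
      refine ⟨b.2, (h.norm_iff A hA B hB hc b b.2).1 ?_⟩
      exact h.norm_of_comm hA ht.1 ht1 h1
    · intro hy
      refine ⟨⟨y, hy.1⟩, ?_, rfl⟩
      rw [SetLike.mem_coe, MonoidHom.mem_ker]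
      apply Subtype.ext
      change y * t * y⁻¹ * t⁻¹ = 1
      rw [← h.comm_om A hA B hB hc t ht y hy]
      simp
  have hkc : Nat.card φ.ker = 4 := by
    rw [← hOm, ← hker, Set.ncard_image_of_injective _ Subtype.val_injective]
    rfl
  have hrc : Nat.card φ.range = 4 := by
    have h1 := Subgroup.card_mul_index φ.ker
    rw [Subgroup.index_ker, hkc, hB16] at h1
    omega
  have hrg : (fun b : ↥B => (b : G)) '' (φ.range : Set ↥B) = Om B := by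
    apply Set.eq_of_subset_of_ncard_le
    · rintro _ ⟨_, ⟨b, rfl⟩, rfl⟩
      exact hmem b b.2
    · rw [hOm, Set.ncard_image_of_injective _ Subtype.val_injective]
      exact hrc.ge
    · exact Set.toFinite _
  rw [← hrg] at hx
  obtain ⟨_, ⟨b, rfl⟩, rfl⟩ := hx
  exact ⟨b, b.2, rfl⟩

theorem hyp [Finite G] (hO : pCore 2 G = ⊥) {P : Set (Subgroup G)} (h : TIFam P)
    (hex : ∃ A ∈ P, ∃ B ∈ P, Col A B) {B₀ : Subgroup G} (hB₀ : B₀ ∈ P)
    (hM : IsMaximalTwoLocal (Subgroup.normalizer (B₀ : Set G)))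
    (hMc : IsOfCharacteristicTwo ↥(Subgroup.normalizer (B₀ : Set G))) :
    FStar.Hyp (Subgroup.normalizer (B₀ : Set G)) B₀ := by
  obtain ⟨hg, -, hcard⟩ := PairMain.main h hex hB₀ hM hMc
  refine ⟨hO, hMc, ?_, h.comm B₀ hB₀, ?_, ?_, ?_, ?_, ?_⟩
  · rintro ⟨x, hx⟩
    obtain ⟨n, hn⟩ := h.two B₀ hB₀ x hx
    exact ⟨n, Subtype.ext hn⟩
  · intro g hg b hb
    exact (Subgroup.mem_normalizer_iff.1 hg b).1 hb
  · intro g x hx hx1 hgx
    rw [mem_normalizer_iff_cj]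
    refine h.ti _ (h.conj B₀ hB₀ g) B₀ hB₀ _ (conj_mem_cj hx) hgx ?_
    intro h0
    apply hx1
    have := congrArg (fun t => g⁻¹ * t * g) h0
    simpa [mul_assoc] using this
  · intro g hgb
    rw [mem_normalizer_iff_cj]
    apply PairInst.eq_of_le_norm h (h.conj B₀ hB₀ g) hB₀
    intro a ha
    rw [mem_cj] at ha
    have h1 := hgb _ ha
    rw [← mem_normalizer_iff_cj]
    simpa [mul_assoc] using h1
  · obtain ⟨x, hx, hx1, hxx, -⟩ := h.noncyc B₀ hB₀ 1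
    obtain ⟨y, hy, hy1, hyy, hyx⟩ := h.noncyc B₀ hB₀ x
    exact ⟨x, hx, y, hy, hxx, hyy, hx1, hy1, Ne.symm hyx⟩
  · intro g hgM x hx hxx hx1 hgx
    rw [mem_normalizer_iff_cj] at hgM hgx
    have hA := h.conj B₀ hB₀ g
    have ht1 : g * x * g⁻¹ ≠ 1 := by
      intro h0
      apply hx1
      have := congrArg (fun t => g⁻¹ * t * g) h0
      simpa [mul_assoc] using this
    have hc : Col (cj g B₀) B₀ := PairInst.col_of_norm h hA hB₀ hgM (conj_mem_cj hx) ht1 hgx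
    have ht : g * x * g⁻¹ ∈ Om (cj g B₀) := conj_mem_Om_cj ⟨hx, hxx⟩
    obtain ⟨b, hb, hbt⟩ := br_surj hg hA hB₀ hc (hcard B₀ hB₀).1 (hcard B₀ hB₀).2.1 ht ht1 ⟨hx, hxx⟩
    refine ⟨b * g, ?_⟩
    have h1 := hg.comm_om _ hA B₀ hB₀ hc _ ht x ⟨hx, hxx⟩
    rw [h1]
    calc x * (g * x * g⁻¹) = b * (g * x * g⁻¹) * b⁻¹ * (g * x * g⁻¹)⁻¹ * (g * x * g⁻¹) := by rw [hbt]
      _ = b * g * x * (b * g)⁻¹ := by simp [mul_assoc]

/-- **`F*(G)` is simple** (with trivial centralizer). -/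
theorem fstar [Finite G] (hO : pCore 2 G = ⊥) {P : Set (Subgroup G)} (h : TIFam P)
    (hex : ∃ A ∈ P, ∃ B ∈ P, Col A B) {B₀ : Subgroup G} (hB₀ : B₀ ∈ P)
    (hM : IsMaximalTwoLocal (Subgroup.normalizer (B₀ : Set G)))
    (hMc : IsOfCharacteristicTwo ↥(Subgroup.normalizer (B₀ : Set G))) :
    (generalizedFittingSubgroup G).Normal ∧ IsSimpleGroup ↥(generalizedFittingSubgroup G) ∧
      Subgroup.centralizer (generalizedFittingSubgroup G : Set G) = ⊥ := by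
  obtain ⟨h1, -, h2, -⟩ := (hyp hO h hex hB₀ hM hMc).main
  exact ⟨Cfsg.Agent.Lib.GenFitting.genFitting_normal, h1, h2⟩

end Cfsg.Agent.TIAbelian.FStarInst
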