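/-
helper806: S1779, case b: the local data `Loc` from the hypotheses of S1779.
-/
import Cfsg.Agent.TIAbelian.CaseB2
import Cfsg.Agent.S1783
import Cfsg.Agent.Involutions.BaerSuzuki
import Cfsg.Agent.SignalizersComponents.FStarPCore

set_option autoImplicit false

namespace Cfsg.Agent.TIAbelian.CaseBInst

open Cfsg
open Cfsg.Agent.TIAbelian.PairBase hiding TIFam
open Cfsg.Agent.TIAbelian.CaseBBase
open Cfsg.Agent.TIAbelian.CaseBGeo
open Cfsg.Agent.TIAbelian.CaseBLoc (Loc)
open Cfsg.Agent.TIAbelian.CaseB2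

variable {G : Type*} [Group G]

/-- `cj x (cj y C) = cj y C ↔ cj (y⁻¹ x y) C = C`. -/
theorem cj_move (y x : G) (C : Subgroup G) : cj x (cj y C) = cj y C ↔ cj (y⁻¹ * x * y) C = C := by
  constructor
  · intro h1
    apply cj_inj (g := y)
    rw [cj_cj]
    have : y * (y⁻¹ * x * y) = x * y := by simp [mul_assoc]
    rw [this, ← cj_cj, h1]
  · intro h1
    rw [cj_cj]
    have : x * y = y * (y⁻¹ * x * y) := by simp [mul_assoc]
    rw [this, ← cj_cj, h1]

theorem isPGroup_cj {H : Subgroup G} (hH : IsPGroup 2 ↥H) (g : G) : IsPGroup 2 ↥(cj g H) :=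
  hH.map _

theorem cj_ne_bot {H : Subgroup G} (hH : H ≠ ⊥) (g : G) : cj g H ≠ ⊥ := by
  intro h0
  apply hH
  rw [Subgroup.eq_bot_iff_forall] at h0 ⊢
  intro x hx
  have := h0 _ (conj_mem_cj (g := g) hx)
  have h1 := congrArg (fun t => g⁻¹ * t * g) this
  simpa [mul_assoc] using h1

/-- Transport of the local data by conjugation. -/
theorem loc_cj {P : Set (Subgroup G)} (h : Fam P) {A Q : Subgroup G} (hl : Loc P A Q) (g : G) :
    Loc P (cj g A) (cj g Q) where
  le := by
    intro q hq
    rw [mem_cj] at hq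
    rw [cj_move]
    exact hl.le _ hq
  two := isPGroup_cj hl.two g
  norm := by
    intro x hx
    rw [cj_move] at hx ⊢
    exact hl.norm _ hx
  max2 := by
    intro R hR h1 h2 r hr
    rw [mem_cj]
    have h3 := hl.max2 (cj g⁻¹ R) (isPGroup_cj hR _) ?_ ?_
    · apply h3
      have := conj_mem_cj (g := g⁻¹) hr
      simpa using this
    · intro s hs
      rw [mem_cj] at hs
      have := h1 _ hs
      rw [cj_move] at this
      simpa [mul_assoc] using this
    · intro x hx
      rw [cj_move]
      apply h2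
      rw [cj_move]
      simpa [mul_assoc] using hx
  sq := by
    intro B hB h1 b hb
    rw [mem_cj]
    have h2 := hl.sq (cj g⁻¹ B) (h.conj B hB _) ?_ (g⁻¹ * b * g) ?_
    · have : g⁻¹ * (b * b) * g = g⁻¹ * b * g * (g⁻¹ * b * g) := by simp [mul_assoc]
      rwa [this]
    · intro s hs
      rw [mem_cj] at hs
      have := h1 _ hs
      rw [cj_move] at this
      simpa [mul_assoc] using this
    · have := conj_mem_cj (g := g⁻¹) hb
      simpa using this
  bs := by
    intro e he hee heQ
    rw [cj_move] at he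
    obtain ⟨x, hx, hx1, hxo, hxe⟩ := hl.bs (g⁻¹ * e * g) he (by
      have : g⁻¹ * e * g * (g⁻¹ * e * g) = g⁻¹ * (e * e) * g := by simp [mul_assoc]
      rw [this, hee]
      simp) (fun h0 => heQ (mem_cj.2 h0))
    refine ⟨g * x * g⁻¹, ?_, ?_, ?_, ?_⟩
    · rw [cj_move]
      simpa [mul_assoc] using hx
    · intro h0
      apply hx1
      have h1 := congrArg (fun t => g⁻¹ * t * g) h0
      simpa [mul_assoc] using h1
    · have : orderOf (g * x * g⁻¹) = orderOf x := by
        have := orderOf_injective (MulAut.conj g).toMonoidHom (MulAut.conj g).injective x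
        simpa using this
      rwa [this]
    · have h1 := congrArg (fun t => g * t * g⁻¹) hxe
      simpa [mul_assoc] using h1
  max := by
    intro R hR hR1 h1 x hx
    rw [cj_move]
    apply hl.max (cj g⁻¹ R) (isPGroup_cj hR _) (cj_ne_bot hR1 _)
    · intro y hy
      rw [cj_move]
      apply h1
      rw [cj_move]
      simpa [mul_assoc] using hy
    · rw [cj_move]
      simpa [mul_assoc] using hx

/-- The local data at `A`. -/
theorem loc_self [Finite G] {P : Set (Subgroup G)} (h : Fam P) {M A : Subgroup G}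
    (hM : IsMaximalTwoLocal M) (hMc : IsOfCharacteristicTwo ↥M)
    (hN : ∀ g : G, g ∈ M ↔ cj g A = A) :
    Loc P A ((pCore 2 ↥M).map M.subtype) := by
  have h2 : Fact (Nat.Prime 2) := ⟨Nat.prime_two⟩
  have hQn : (pCore 2 ↥M).Normal := Cfsg.Agent.Lib.Cores.pCore_normal 2
  have hQp : IsPGroup 2 (pCore 2 ↥M) := Cfsg.Agent.Lib.Cores.pCore_isPGroup 2
  have hcj : ∀ g : G, g ∈ M → cj g ((pCore 2 ↥M).map M.subtype) = (pCore 2 ↥M).map M.subtype := by
    have h3 : ∀ g : G, g ∈ M → ∀ x ∈ (pCore 2 ↥M).map M.subtype,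
        g * x * g⁻¹ ∈ (pCore 2 ↥M).map M.subtype := by
      rintro g hg _ ⟨x, hx, rfl⟩
      exact ⟨⟨g, hg⟩ * x * ⟨g, hg⟩⁻¹, hQn.conj_mem x hx ⟨g, hg⟩, rfl⟩
    intro g hg
    ext x
    rw [mem_cj]
    constructor
    · intro hx
      have := h3 g hg _ hx
      simpa [mul_assoc] using this
    · intro hx
      have := h3 g⁻¹ (M.inv_mem hg) _ hx
      simpa using this
  refine ⟨?_, ?_, ?_, ?_, ?_, ?_, ?_⟩
  · rintro _ ⟨x, hx, rfl⟩
    exact (hN _).1 x.2
  · exact hQp.map _
  · intro g hg
    exact hcj g ((hN g).2 hg)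
  · intro R hR h1 h3 r hr
    have hRM : R ≤ M := fun r hr => (hN r).2 (h1 r hr)
    have h4 : (R.subgroupOf M).Normal := by
      refine ⟨fun x hx g => ?_⟩
      rw [Subgroup.mem_subgroupOf] at hx ⊢
      have := conj_mem_of_cj (h3 g ((hN _).1 g.2)) hx
      simpa using this
    have h5 : IsPGroup 2 (R.subgroupOf M) := hR.comap_of_injective M.subtype M.subtype_injective
    exact ⟨⟨r, hRM hr⟩, Cfsg.Agent.Lib.Cores.le_pCore h4 h5 (Subgroup.mem_subgroupOf.2 hr), rfl⟩
  · intro B hB h1 b hb
    have hBM : B ≤ M := fun b hb => (hN b).2 (h1 b hb)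
    have h3 := (Cfsg.Agent.S1783.result (X := ↥M)
      (Cfsg.Agent.SignalizersComponents.FStarPCore.generalizedFitting_eq_pCore_of_centralizer_le
        hQn hQp hMc) (B.subgroupOf M) ?_ ?_ ?_).1
    · refine ⟨⟨b * b, B.mul_mem hb hb |> fun h => hBM h⟩, ?_, rfl⟩
      apply h3
      apply Subgroup.subset_closure
      refine ⟨⟨b, hBM hb⟩, Subgroup.mem_subgroupOf.2 hb, ?_⟩
      apply Subtype.ext
      simp [pow_two]
    · have hB2 : IsPGroup 2 ↥B := by
        intro x
        obtain ⟨n, hn⟩ := h.two B hB x x.2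
        exact ⟨n, Subtype.ext (by simpa using hn)⟩
      exact hB2.comap_of_injective M.subtype M.subtype_injective
    · refine ⟨⟨?_⟩⟩
      rintro ⟨x, hx⟩ ⟨y, hy⟩
      rw [Subgroup.mem_subgroupOf] at hx hy
      apply Subtype.ext
      apply Subtype.ext
      exact h.comm B hB _ hx _ hy
    · intro m
      by_cases h4 : (B.subgroupOf M).map (MulAut.conj m).toMonoidHom ⊓ B.subgroupOf M = ⊥
      · exact Or.inr h4
      · left
        obtain ⟨x, hx0⟩ := Subgroup.ne_bot_iff_exists_ne_one.1 h4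
        have hx1 : (x : ↥M) ≠ 1 := fun h0 => hx0 (Subtype.ext h0)
        obtain ⟨⟨y, hy, hyx⟩, hxB⟩ := x.2
        have h5 : cj (m : G) B = B := by
          refine h.norm_of_conj hB (Subgroup.mem_subgroupOf.1 hy) ?_ ?_
          · intro h0
            apply hx1
            rw [← hyx]
            have : y = 1 := Subtype.ext h0
            rw [this]
            simp
          · have h6 := Subgroup.mem_subgroupOf.1 hxB
            rw [← hyx] at h6
            simpa using h6
        ext z
        constructor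
        · rintro ⟨w, hw, rfl⟩
          rw [Subgroup.mem_subgroupOf]
          have := conj_mem_of_cj h5 (Subgroup.mem_subgroupOf.1 hw)
          simpa using this
        · intro hz
          have := conj_mem_of_cj' h5 (Subgroup.mem_subgroupOf.1 hz)
          refine ⟨m⁻¹ * z * m, ?_, by simp [mul_assoc]⟩
          show m⁻¹ * z * m ∈ B.subgroupOf M
          rw [Subgroup.mem_subgroupOf]
          simpa using this
  · intro e he hee heQ
    have heM := (hN e).2 he
    obtain ⟨x, hx1, hxo, hxe⟩ := Cfsg.Agent.Involutions.BaerSuzuki.exists_odd_inverted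
      (⟨e, heM⟩ : ↥M) (Subtype.ext hee) (by
        intro h0
        apply heQ
        exact ⟨⟨e, heM⟩, Cfsg.Agent.Lib.Cores.le_pCore inferInstance h0
          (Subgroup.subset_normalClosure rfl), rfl⟩)
    refine ⟨x, (hN _).1 x.2, fun h0 => hx1 (Subtype.ext h0), ?_, ?_⟩
    · have : orderOf (x : G) = orderOf x := orderOf_injective M.subtype M.subtype_injective x
      rwa [this]
    · exact congrArg Subtype.val hxe
  · intro R hR hR1 h1 g hg
    rw [← hN]
    have h3 : M ≤ Subgroup.normalizer (R : Set G) := by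
      intro x hx
      rw [mem_normalizer_iff_cj]
      exact h1 x ((hN x).1 hx)
    have h4 := hM.2 _ ⟨R, hR, hR1, rfl⟩ h3
    rwa [← h4, mem_normalizer_iff_cj]

/-- The local data at every member. -/
theorem exists_loc [Finite G] {P : Set (Subgroup G)} (h : Fam P) {M A : Subgroup G} (hA : A ∈ P)
    (hM : IsMaximalTwoLocal M) (hMc : IsOfCharacteristicTwo ↥M)
    (hN : ∀ g : G, g ∈ M ↔ cj g A = A) : ∀ C ∈ P, ∃ Q, Loc P C Q := by
  intro C hC
  obtain ⟨g, rfl⟩ := h.trans A hA C hC
  exact ⟨_, loc_cj h (loc_self h hM hMc hN) g⟩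

end Cfsg.Agent.TIAbelian.CaseBInst
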