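import Mathlib

/-!
# `PSL₂(F)` in characteristic 2 has no element of order 4
-/

set_option autoImplicit false

namespace Cfsg.Agent.TIAbelian.IsolatedPSL

open Matrix

variable {F : Type*} [Field F] [CharP F 2]

theorem sq_eq_one_of_pow_four (x : SpecialLinearGroup (Fin 2) F) (hx : x ^ 4 = 1) : x ^ 2 = 1 := by
  have h2 : (2 : F) = 0 := by exact_mod_cast CharP.cast_eq_zero F 2
  set a := x.1 0 0 with ha
  set b := x.1 0 1 with hb
  set c := x.1 1 0 with hc
  set d := x.1 1 1 with hd
  have hdet : a * d - b * c = 1 := by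
    have := x.2
    rw [Matrix.det_fin_two] at this
    exact this
  have hX : x.1 = !![a, b; c, d] := Matrix.eta_fin_two x.1
  have hX2 : x.1 * x.1 = !![(a + d) * a + 1, (a + d) * b; (a + d) * c, (a + d) * d + 1] := by
    rw [hX, Matrix.mul_fin_two]
    congr! 1
    ext i j
    fin_cases i <;> fin_cases j <;> simp
    · linear_combination (-1) * hdet - h2
    · ring
    · ring
    · linear_combination (-1) * hdet - h2
  have hX4 : x.1 * x.1 * (x.1 * x.1) = 1 := by
    have h3 : x ^ 4 = x * x * (x * x) := by rw [← pow_two, ← pow_two, ← pow_mul]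
    rw [h3] at hx
    have := congrArg Subtype.val hx
    exact this
  rw [hX2, Matrix.mul_fin_two] at hX4
  have h00 := congrFun (congrFun hX4 0) 0
  have h11 := congrFun (congrFun hX4 1) 1
  simp at h00 h11
  have hτ : (a + d) ^ 4 = 0 := by
    linear_combination h00 + h11 + 2 * (a + d) ^ 2 * hdet
  have hτ0 : a + d = 0 := pow_eq_zero_iff (by norm_num) |>.mp hτ
  apply Subtype.ext
  show (x ^ 2).1 = (1 : Matrix (Fin 2) (Fin 2) F)
  rw [pow_two]
  show x.1 * x.1 = 1
  rw [hX2, hτ0]
  ext i j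
  fin_cases i <;> fin_cases j <;> simp

theorem orderOf_ne_four (g : ProjectiveSpecialLinearGroup (Fin 2) F) : orderOf g ≠ 4 := by
  intro hg
  have h2 : (2 : F) = 0 := by exact_mod_cast CharP.cast_eq_zero F 2
  obtain ⟨x, rfl⟩ := QuotientGroup.mk_surjective g
  have h4 := pow_orderOf_eq_one (x : ProjectiveSpecialLinearGroup (Fin 2) F)
  rw [hg, ← QuotientGroup.mk_pow, QuotientGroup.eq_one_iff,
    Matrix.SpecialLinearGroup.mem_center_iff] at h4
  obtain ⟨r, hr, hrx⟩ := h4
  have hr1 : r = 1 := by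
    rw [Fintype.card_fin] at hr
    have h5 : (r - 1) ^ 2 = 0 := by linear_combination hr + (1 - r) * h2
    have := pow_eq_zero_iff (by norm_num) |>.mp h5
    linear_combination this
  have hx4 : x ^ 4 = 1 := by
    apply Subtype.ext
    show (x ^ 4).1 = (1 : Matrix (Fin 2) (Fin 2) F)
    rw [← hrx, hr1, map_one]
  have hx2 := sq_eq_one_of_pow_four x hx4
  have h6 : (x : ProjectiveSpecialLinearGroup (Fin 2) F) ^ 2 = 1 := by
    rw [← QuotientGroup.mk_pow, hx2, QuotientGroup.mk_one]
  have h7 := orderOf_dvd_of_pow_eq_one h6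
  rw [hg] at h7
  norm_num at h7

end Cfsg.Agent.TIAbelian.IsolatedPSL
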