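import Mathlib
import Cfsg.Agent.TwoFusion.StronglyEmbeddedBasic

/-!
# Isolated abelian 2-subgroups

`Iso A`: `A` is a commutative 2-subgroup with at least two involutions and an element of order 4 such
that a conjugate `g A g⁻¹` meets `M = N_G(A)` nontrivially only if `g ∈ M`. Basic facts, and the
reduction to the case that `G` is simple.
-/

set_option autoImplicit false

namespace Cfsg.Agent.TIAbelian.IsolatedBasic

open Subgroup
open scoped commutatorElement
open Cfsg.Agent.TwoFusion.StronglyEmbeddedBasic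

universe u

/-- an isolated abelian 2-subgroup which is neither cyclic nor elementary abelian -/
structure Iso {G : Type*} [Group G] (A : Subgroup G) : Prop where
  comm : ∀ a ∈ A, ∀ b ∈ A, a * b = b * a
  two : IsPGroup 2 A
  iso : ∀ g : G, ∀ a ∈ A, a ≠ 1 → g * a * g⁻¹ ∈ normalizer (A : Set G) → g ∈ normalizer (A : Set G)
  invs : ∃ z ∈ A, ∃ w ∈ A, orderOf z = 2 ∧ orderOf w = 2 ∧ z ≠ w
  four : ∃ a ∈ A, orderOf a = 4

section Dihedral

variable {G : Type*} [Group G]

/-- If the product of two involutions has even order, there is an involution `v` commuting with both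
such that `a * v` is conjugate to `a` or to `b`. -/
theorem exists_commuting_conj {a b : G} (ha : orderOf a = 2) (hb : orderOf b = 2)
    (hpos : 0 < orderOf (a * b)) (hab : ¬ Odd (orderOf (a * b))) :
    ∃ v : G, orderOf v = 2 ∧ Commute v a ∧ Commute v b ∧
      ∃ h : G, h * a * h⁻¹ = a * v ∨ h * b * h⁻¹ = a * v := by
  rw [Nat.not_odd_iff_even] at hab
  obtain ⟨k, hk⟩ := hab
  have ha2 := mul_self_of_orderOf ha
  have hb2 := mul_self_of_orderOf hb
  have hai := inv_eq_self_of_orderOf ha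
  have hbi := inv_eq_self_of_orderOf hb
  set w := a * b with hw
  have hwi : w⁻¹ = b * a := by rw [hw, mul_inv_rev, hai, hbi]
  have hkpos : 0 < k := by omega
  have hzz : w ^ k * w ^ k = 1 := by rw [← pow_add, ← hk]; exact pow_orderOf_eq_one w
  have hz1 : w ^ k ≠ 1 := by
    intro h
    have := orderOf_dvd_of_pow_eq_one h
    have := Nat.le_of_dvd hkpos this
    omega
  have hzi : (w ^ k)⁻¹ = w ^ k := inv_eq_of_mul_eq_one_right hzz
  have hsa : SemiconjBy a w w⁻¹ := by
    show a * w = w⁻¹ * a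
    rw [hwi, hw, ← mul_assoc, ha2, mul_assoc, ha2]; simp
  have hsb : SemiconjBy b w w⁻¹ := by
    show b * w = w⁻¹ * b
    rw [hwi, hw, mul_assoc]
  refine ⟨w ^ k, orderOf_eq_two_of_mul_self hzz hz1, ?_, ?_, ?_⟩
  · have := (hsa.pow_right k).eq
    rw [inv_pow, hzi] at this
    exact this.symm
  · have := (hsb.pow_right k).eq
    rw [inv_pow, hzi] at this
    exact this.symm
  · have hj : ∀ j : ℕ, a * w ^ j = (w ^ j)⁻¹ * a := by
      intro j
      have := (hsa.pow_right j).eq
      rwa [inv_pow] at this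
    have hawb : a * w = b := by rw [hw, ← mul_assoc, ha2, one_mul]
    rcases Nat.even_or_odd k with ⟨j, hj2⟩ | ⟨j, hj2⟩
    · refine ⟨(w ^ j)⁻¹, Or.inl ?_⟩
      rw [inv_inv, ← hj j, mul_assoc, ← pow_add, hj2]
    · refine ⟨(w ^ j)⁻¹, Or.inr ?_⟩
      rw [inv_inv, ← hawb]
      calc (w ^ j)⁻¹ * (a * w) * w ^ j = ((w ^ j)⁻¹ * a) * (w * w ^ j) := by group
        _ = (a * w ^ j) * (w * w ^ j) := by rw [hj]
        _ = a * w ^ k := by rw [hj2, mul_assoc, ← pow_succ', ← pow_add]; congr 2; ring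

end Dihedral

section

variable {G : Type*} [Group G] {A : Subgroup G}

theorem conj_mem {x a : G} (hx : x ∈ normalizer (A : Set G)) (ha : a ∈ A) : x * a * x⁻¹ ∈ A :=
  (mem_normalizer_iff.mp hx a).mp ha

theorem Iso.le (_ : Iso A) : A ≤ normalizer (A : Set G) := le_normalizer

theorem Iso.mem_of_commute (h : Iso A) {a c : G} (ha : a ∈ A) (h1 : a ≠ 1) (hc : c * a = a * c) :
    c ∈ normalizer (A : Set G) := by
  refine h.iso c a ha h1 ?_
  rw [hc, mul_inv_cancel_right]
  exact le_normalizer ha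

theorem ne_one_of_orderOf {a : G} (ha : orderOf a = 2) : a ≠ 1 := by
  rintro rfl; simp at ha

theorem ne_one_of_orderOf_four {a : G} (ha : orderOf a = 4) : a ≠ 1 := by
  rintro rfl; simp at ha

/-- Conjugates of isolated subgroups are isolated. -/
theorem mem_normalizer_conj {g x : G} :
    x ∈ normalizer ((A.map (MulAut.conj g).toMonoidHom : Subgroup G) : Set G) ↔
      g⁻¹ * x * g ∈ normalizer (A : Set G) := by
  have hmem : ∀ y : G, y ∈ A.map (MulAut.conj g).toMonoidHom ↔ g⁻¹ * y * g ∈ A := by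
    intro y
    constructor
    · rintro ⟨a, ha, rfl⟩
      have : g⁻¹ * ((MulAut.conj g).toMonoidHom a) * g = a := by
        show g⁻¹ * (g * a * g⁻¹) * g = a
        group
      rw [this]; exact ha
    · intro hy
      refine ⟨_, hy, ?_⟩
      show g * (g⁻¹ * y * g) * g⁻¹ = y
      group
  rw [mem_normalizer_iff, mem_normalizer_iff]
  constructor
  · intro h y
    have h1 := h (g * y * g⁻¹)
    rw [hmem, hmem] at h1
    have e1 : g⁻¹ * (g * y * g⁻¹) * g = y := by group
    have e2 : g⁻¹ * (x * (g * y * g⁻¹) * x⁻¹) * g = g⁻¹ * x * g * y * (g⁻¹ * x * g)⁻¹ := by group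
    rw [e1, e2] at h1
    exact h1
  · intro h y
    have h1 := h (g⁻¹ * y * g)
    rw [hmem, hmem]
    have e2 : g⁻¹ * x * g * (g⁻¹ * y * g) * (g⁻¹ * x * g)⁻¹ = g⁻¹ * (x * y * x⁻¹) * g := by group
    rw [e2] at h1
    exact h1

theorem Iso.conj (h : Iso A) (g : G) : Iso (A.map (MulAut.conj g).toMonoidHom) where
  comm := by
    rintro _ ⟨a, ha, rfl⟩ _ ⟨b, hb, rfl⟩
    rw [← map_mul, h.comm a ha b hb, map_mul]
  two := h.two.map _
  iso := by
    rintro x _ ⟨a, ha, rfl⟩ ha1 hx
    rw [mem_normalizer_conj] at hx ⊢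
    refine h.iso (g⁻¹ * x * g) a ha ?_ ?_
    · rintro rfl; exact ha1 (map_one _)
    · have : g⁻¹ * (x * (MulAut.conj g).toMonoidHom a * x⁻¹) * g =
          g⁻¹ * x * g * a * (g⁻¹ * x * g)⁻¹ := by
        show g⁻¹ * (x * (g * a * g⁻¹) * x⁻¹) * g = _
        group
      rwa [this] at hx
  invs := by
    obtain ⟨z, hz, w, hw, hz2, hw2, hzw⟩ := h.invs
    exact ⟨_, ⟨z, hz, rfl⟩, _, ⟨w, hw, rfl⟩, (orderOf_conj g z).trans hz2,
      (orderOf_conj g w).trans hw2, fun e => hzw ((MulAut.conj g).injective e)⟩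
  four := by
    obtain ⟨a, ha, ha4⟩ := h.four
    exact ⟨_, ⟨a, ha, rfl⟩, (orderOf_conj g a).trans ha4⟩

theorem Iso.odd_mul [Finite G] (h : Iso A) {z v g : G} (hz : z ∈ A) (hz2 : orderOf z = 2)
    (hv : v ∈ A) (hv2 : orderOf v = 2) (hg : g ∉ normalizer (A : Set G)) :
    Odd (orderOf (z * (g * v * g⁻¹))) := by
  by_contra hodd
  have hw2 : orderOf (g * v * g⁻¹) = 2 := (orderOf_conj g v).trans hv2
  obtain ⟨u, hu2, huz, huw, k, hk⟩ := exists_commuting_conj hz2 hw2 (orderOf_pos _) hodd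
  have hz1 := ne_one_of_orderOf hz2
  have hv1 := ne_one_of_orderOf hv2
  have hu1 := ne_one_of_orderOf hu2
  have huM : u ∈ normalizer (A : Set G) := h.mem_of_commute hz hz1 huz.eq
  have hzuM : z * u ∈ normalizer (A : Set G) := mul_mem (le_normalizer hz) huM
  have hzuA : z * u ∈ A := by
    rcases hk with hk | hk
    · have hkM : k ∈ normalizer (A : Set G) := h.iso k z hz hz1 (by rw [hk]; exact hzuM)
      rw [← hk]; exact conj_mem hkM hz
    · have e : k * g * v * (k * g)⁻¹ = z * u := by rw [← hk]; group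
      have hkM : k * g ∈ normalizer (A : Set G) := h.iso (k * g) v hv hv1 (by rw [e]; exact hzuM)
      rw [← e]; exact conj_mem hkM hv
  have huA : u ∈ A := by
    have := mul_mem (inv_mem hz) hzuA
    rwa [inv_mul_cancel_left] at this
  -- `u` commutes with `g v g⁻¹`
  have h1 : (g⁻¹ * u * g) * v = v * (g⁻¹ * u * g) := by
    have := huw.eq
    calc (g⁻¹ * u * g) * v = g⁻¹ * (u * (g * v * g⁻¹)) * g := by group
      _ = g⁻¹ * ((g * v * g⁻¹) * u) * g := by rw [this]
      _ = v * (g⁻¹ * u * g) := by group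
  have h2 : g⁻¹ * u * g⁻¹⁻¹ ∈ normalizer (A : Set G) := by
    rw [inv_inv]
    exact h.mem_of_commute hv hv1 h1
  have h3 := h.iso g⁻¹ u huA hu1 h2
  exact hg (by simpa using inv_mem h3)

/-- The normalizer is transitive on the involutions of `A`. -/
theorem Iso.exists_conj [Finite G] (h : Iso A) (hM : normalizer (A : Set G) ≠ ⊤) {z w : G}
    (hz : z ∈ A) (hz2 : orderOf z = 2) (hw : w ∈ A) (hw2 : orderOf w = 2) :
    ∃ m ∈ normalizer (A : Set G), m * z * m⁻¹ = w := by
  obtain ⟨g, hg⟩ : ∃ g, g ∉ normalizer (A : Set G) := by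
    by_contra hcon
    push Not at hcon
    exact hM ((Subgroup.eq_top_iff' _).mpr hcon)
  have hv2 : orderOf (g * z * g⁻¹) = 2 := (orderOf_conj g z).trans hz2
  obtain ⟨j, -, -, hj, -⟩ := exists_swap z (g * z * g⁻¹) hz2 hv2 (h.odd_mul hz hz2 hz hz2 hg)
  obtain ⟨k, -, -, hk, -⟩ := exists_swap w (g * z * g⁻¹) hw2 hv2 (h.odd_mul hw hw2 hz hz2 hg)
  have e : (k⁻¹ * j) * z * (k⁻¹ * j)⁻¹ = w := by
    calc (k⁻¹ * j) * z * (k⁻¹ * j)⁻¹ = k⁻¹ * (j * z * j⁻¹) * k := by group
      _ = k⁻¹ * (k * w * k⁻¹) * k := by rw [hj, hk]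
      _ = w := by group
  exact ⟨k⁻¹ * j, h.iso _ z hz (ne_one_of_orderOf hz2) (by rw [e]; exact le_normalizer hw), e⟩

/-- Every involution of `A` lies in the commutator subgroup. -/
theorem Iso.mem_commutator [Finite G] (h : Iso A) (hM : normalizer (A : Set G) ≠ ⊤) {e : G}
    (he : e ∈ A) (he2 : orderOf e = 2) : e ∈ commutator G := by
  obtain ⟨z, hz, w, hw, hz2, hw2, hzw⟩ := h.invs
  obtain ⟨y, hy, hy2, hye⟩ : ∃ y ∈ A, orderOf y = 2 ∧ y ≠ e := by
    rcases eq_or_ne z e with rfl | hne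
    · exact ⟨w, hw, hw2, hzw.symm⟩
    · exact ⟨z, hz, hz2, hne⟩
  have hyy := mul_self_of_orderOf hy2
  have hee := mul_self_of_orderOf he2
  have hx2 : orderOf (y * e) = 2 := by
    refine orderOf_eq_two_of_mul_self ?_ ?_
    · calc y * e * (y * e) = y * (e * y) * e := by group
        _ = y * (y * e) * e := by rw [h.comm e he y hy]
        _ = (y * y) * (e * e) := by group
        _ = 1 := by rw [hyy, hee, one_mul]
    · intro h1
      apply hye
      have : y = e⁻¹ := eq_inv_of_mul_eq_one_left h1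
      rw [this, inv_eq_self_of_orderOf he2]
  obtain ⟨m, -, hm⟩ := h.exists_conj hM hy hy2 (mul_mem hy he) hx2
  have : e = y⁻¹ * (m * y * m⁻¹) := by rw [hm, inv_mul_cancel_left]
  rw [this]
  have h2 : y⁻¹ * (m * y * m⁻¹) = ⁅y⁻¹, m⁆ := by
    rw [commutatorElement_def, inv_inv]; group
  rw [h2, _root_.commutator_def]
  exact commutator_mem_commutator (mem_top _) (mem_top _)

/-- If `m ∈ M` centralizes `A` modulo elements of order 2 then it centralizes the involutions. -/
theorem Iso.commute_of_sq [Finite G] (h : Iso A) (hM : normalizer (A : Set G) ≠ ⊤) {x : G}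
    (hx : ∀ a ∈ A, (x * a * x⁻¹ * a⁻¹) * (x * a * x⁻¹ * a⁻¹) = 1)
    (hxM : x ∈ normalizer (A : Set G)) {e : G} (he : e ∈ A) (he2 : orderOf e = 2) :
    x * e * x⁻¹ = e := by
  obtain ⟨a, ha, ha4⟩ := h.four
  have hsq : orderOf (a * a) = 2 := by
    have := orderOf_pow_of_dvd (x := a) (n := 2) (by norm_num) (by rw [ha4]; norm_num)
    rw [ha4, pow_two] at this
    exact this
  obtain ⟨m, hm, hme⟩ := h.exists_conj hM (mul_mem ha ha) hsq he he2
  set b := m * a * m⁻¹ with hb
  have hbA : b ∈ A := conj_mem hm ha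
  have hbe : b * b = e := by rw [← hme, hb]; group
  have h1 := hx b hbA
  set c := x * b * x⁻¹ * b⁻¹ with hc
  have hcA : c ∈ A := mul_mem (conj_mem hxM hbA) (inv_mem hbA)
  have h2 : x * b * x⁻¹ = c * b := by rw [hc]; group
  calc x * e * x⁻¹ = (x * b * x⁻¹) * (x * b * x⁻¹) := by rw [← hbe]; group
    _ = c * (b * c) * b := by rw [h2]; group
    _ = c * (c * b) * b := by rw [h.comm b hbA c hcA]
    _ = (c * c) * (b * b) := by group
    _ = e := by rw [h1, one_mul, hbe]

/-- The hypothesis coming from a minimal counterexample. -/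
def Prop' (A : Subgroup G) : Prop :=
  ∀ X : Subgroup G, X ≠ ⊤ → (∃ z ∈ A, ∃ w ∈ A, orderOf z = 2 ∧ orderOf w = 2 ∧ z ≠ w ∧ z ∈ X ∧ w ∈ X) →
    (∃ a ∈ A, orderOf a = 4 ∧ a ∈ X) → X ≤ normalizer (A : Set G)

theorem Prop'.le (hP : Prop' A) (h : Iso A) {X : Subgroup G} (hX : X ≠ ⊤) (hAX : A ≤ X) :
    X ≤ normalizer (A : Set G) := by
  obtain ⟨z, hz, w, hw, hz2, hw2, hzw⟩ := h.invs
  obtain ⟨a, ha, ha4⟩ := h.four
  exact hP X hX ⟨z, hz, w, hw, hz2, hw2, hzw, hAX hz, hAX hw⟩ ⟨a, ha, ha4, hAX ha⟩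

/-- Proper normal subgroups lie in the normalizer of `A`. -/
theorem Iso.normal_le [Finite G] (h : Iso A) (hM : normalizer (A : Set G) ≠ ⊤) (hP : Prop' A)
    (N : Subgroup G) [hN : N.Normal] (hNtop : N ≠ ⊤) : N ≤ normalizer (A : Set G) := by
  by_cases hNA : N ⊔ A = ⊤
  · -- the commutator subgroup lies in `N`
    have hcomm : commutator G ≤ N := by
      rw [_root_.commutator_def, commutator_le]
      intro x _ y _
      obtain ⟨n, hn, a, ha, rfl⟩ := mem_sup_of_normal_left.mp
        (show x ∈ N ⊔ A by rw [hNA]; exact mem_top _)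
      obtain ⟨n', hn', a', ha', rfl⟩ := mem_sup_of_normal_left.mp
        (show y ∈ N ⊔ A by rw [hNA]; exact mem_top _)
      rw [← QuotientGroup.eq_one_iff, ← QuotientGroup.mk'_apply N, map_commutatorElement, map_mul, map_mul]
      have e1 : (QuotientGroup.mk' N) n = 1 := by
        rw [QuotientGroup.mk'_apply]; exact (QuotientGroup.eq_one_iff n).mpr hn
      have e2 : (QuotientGroup.mk' N) n' = 1 := by
        rw [QuotientGroup.mk'_apply]; exact (QuotientGroup.eq_one_iff n').mpr hn'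
      rw [e1, e2, one_mul, one_mul, ← map_commutatorElement, commutatorElement_def, h.comm a ha a' ha']
      simp
    have hinv : ∀ e ∈ A, orderOf e = 2 → e ∈ N := fun e he he2 => hcomm (h.mem_commutator hM he he2)
    obtain ⟨z, hz, w, hw, hz2, hw2, hzw⟩ := h.invs
    refine hP N hNtop ⟨z, hz, w, hw, hz2, hw2, hzw, hinv z hz hz2, hinv w hw hw2⟩ ?_
    by_contra hno
    push Not at hno
    -- all elements of `N ∩ A` have order dividing 2
    have hex : ∀ b ∈ A, b ∈ N → b * b = 1 := by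
      intro b hb hbN
      by_contra hbb
      obtain ⟨k, hk⟩ := h.two ⟨b, hb⟩
      have hk' : b ^ 2 ^ k = 1 := congrArg Subtype.val hk
      obtain ⟨j, hj⟩ := (Nat.dvd_prime_pow Nat.prime_two).mp (orderOf_dvd_of_pow_eq_one hk')
      have hj2 : 2 ≤ j := by
        by_contra hlt
        apply hbb
        have : orderOf b ∣ 2 := by
          rw [hj.2]
          calc 2 ^ j ∣ 2 ^ 1 := pow_dvd_pow 2 (by omega)
            _ = 2 := by norm_num
        have h3 := orderOf_dvd_iff_pow_eq_one.mp this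
        rwa [pow_two] at h3
      have h4 : orderOf (b ^ 2 ^ (j - 2)) = 4 := by
        rw [orderOf_pow_of_dvd (by positivity) (by rw [hj.2]; exact pow_dvd_pow 2 (by omega)), hj.2,
          Nat.pow_div (by omega) (by norm_num)]
        have : j - (j - 2) = 2 := by omega
        rw [this]
      exact hno _ (pow_mem hb _) h4 (pow_mem hbN _)
    obtain ⟨m, hm, hmz⟩ := h.exists_conj hM hz hz2 hw hw2
    have h1 := h.commute_of_sq hM (x := m) (fun a ha => by
      refine hex _ (mul_mem (conj_mem hm ha) (inv_mem ha)) (hcomm ?_)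
      have : m * a * m⁻¹ * a⁻¹ = ⁅m, a⁆ := by rw [commutatorElement_def]
      rw [this, _root_.commutator_def]
      exact commutator_mem_commutator (mem_top _) (mem_top _)) hm hz hz2
    exact hzw (by rw [← h1, hmz])
  · exact le_sup_left.trans (hP.le h hNA le_sup_right)

theorem Iso.normal_inf [Finite G] (h : Iso A) (hM : normalizer (A : Set G) ≠ ⊤) (hP : Prop' A)
    (N : Subgroup G) [hN : N.Normal] (hNtop : N ≠ ⊤) {a : G} (ha : a ∈ A) (haN : a ∈ N) : a = 1 := by
  by_contra ha1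
  apply hM
  rw [Subgroup.eq_top_iff']
  intro g
  exact h.iso g a ha ha1 (h.normal_le hM hP N hNtop (hN.conj_mem a haN g))

/-- Proper normal subgroups are central. -/
theorem Iso.normal_le_center [Finite G] (h : Iso A) (hM : normalizer (A : Set G) ≠ ⊤) (hP : Prop' A)
    (N : Subgroup G) [hN : N.Normal] (hNtop : N ≠ ⊤) : N ≤ center G := by
  have hNM := h.normal_le hM hP N hNtop
  have hAC : A ≤ centralizer (N : Set G) := by
    intro a ha
    rw [mem_centralizer_iff]
    intro n hn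
    have h1 : n * a * n⁻¹ * a⁻¹ ∈ A := mul_mem (conj_mem (hNM hn) ha) (inv_mem ha)
    have h2 : n * a * n⁻¹ * a⁻¹ ∈ N := by
      have : n * a * n⁻¹ * a⁻¹ = n * (a * n⁻¹ * a⁻¹) := by group
      rw [this]
      exact mul_mem hn (hN.conj_mem _ (inv_mem hn) a)
    have h3 := h.normal_inf hM hP N hNtop h1 h2
    have h4 : n * a * n⁻¹ = a := by rwa [mul_inv_eq_one] at h3
    rw [mul_inv_eq_iff_eq_mul] at h4
    exact h4
  have hCtop : centralizer (N : Set G) = ⊤ := by
    by_contra hC
    obtain ⟨z, hz, -, -, hz2, -, -⟩ := h.invs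
    exact ne_one_of_orderOf hz2 (h.normal_inf hM hP (centralizer (N : Set G)) hC hz (hAC hz))
  intro n hn
  rw [mem_center_iff]
  intro g
  have : g ∈ centralizer (N : Set G) := by rw [hCtop]; exact mem_top _
  exact (mem_centralizer_iff.mp this n hn).symm

theorem Iso.inf_center (h : Iso A) (hM : normalizer (A : Set G) ≠ ⊤) {a : G} (ha : a ∈ A)
    (haZ : a ∈ center G) : a = 1 := by
  by_contra ha1
  apply hM
  rw [Subgroup.eq_top_iff']
  intro g
  exact h.mem_of_commute ha ha1 (mem_center_iff.mp haZ g)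

/-- Passing to `G / Z(G)`. -/
theorem Iso.map_center (h : Iso A) (hM : normalizer (A : Set G) ≠ ⊤) :
    Iso (A.map (QuotientGroup.mk' (center G))) ∧
      ∀ x : G, QuotientGroup.mk' (center G) x ∈
        normalizer ((A.map (QuotientGroup.mk' (center G)) : Subgroup (G ⧸ center G)) : Set (G ⧸ center G)) ↔
        x ∈ normalizer (A : Set G) := by
  set π := QuotientGroup.mk' (center G) with hπ
  have hinj : ∀ a ∈ A, ∀ b ∈ A, π a = π b → a = b := by
    intro a ha b hb hab
    have h1 : a⁻¹ * b ∈ center G := QuotientGroup.eq.mp hab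
    have h2 := h.inf_center hM (mul_mem (inv_mem ha) hb) h1
    exact inv_mul_eq_one.mp h2
  have hZM : center G ≤ normalizer (A : Set G) := by
    obtain ⟨z, hz, -, -, hz2, -, -⟩ := h.invs
    intro c hc
    exact h.mem_of_commute hz (ne_one_of_orderOf hz2) (mem_center_iff.mp hc z).symm
  have hnorm : ∀ x : G, π x ∈ normalizer ((A.map π : Subgroup (G ⧸ center G)) : Set (G ⧸ center G)) ↔
      x ∈ normalizer (A : Set G) := by
    intro x
    constructor
    · intro hx
      obtain ⟨z, hz, -, -, hz2, -, -⟩ := h.invs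
      have h1 := (mem_normalizer_iff.mp hx (π z)).mp ⟨z, hz, rfl⟩
      obtain ⟨a, ha, haz⟩ := h1
      rw [← map_mul, ← map_inv, ← map_mul] at haz
      have h2 : a⁻¹ * (x * z * x⁻¹) ∈ center G := QuotientGroup.eq.mp haz
      refine h.iso x z hz (ne_one_of_orderOf hz2) ?_
      have h3 := mul_mem (le_normalizer ha : a ∈ normalizer (A : Set G)) (hZM h2)
      rwa [mul_inv_cancel_left] at h3
    · intro hx
      rw [mem_normalizer_iff]
      intro y
      constructor
      · rintro ⟨a, ha, rfl⟩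
        exact ⟨x * a * x⁻¹, conj_mem hx ha, by simp⟩
      · intro hy
        obtain ⟨a, ha, hay⟩ := hy
        refine ⟨x⁻¹ * a * x, ?_, ?_⟩
        · have := conj_mem (inv_mem hx) ha
          rwa [inv_inv] at this
        · rw [map_mul, map_mul, hay, map_inv]; group
  have hord : ∀ a ∈ A, orderOf (π a) = orderOf a := by
    intro a ha
    apply Nat.dvd_antisymm (orderOf_map_dvd π a)
    apply orderOf_dvd_of_pow_eq_one
    apply hinj _ (pow_mem ha _) _ (one_mem _)
    rw [map_pow, map_one, pow_orderOf_eq_one]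
  refine ⟨⟨?_, h.two.map _, ?_, ?_, ?_⟩, hnorm⟩
  · rintro _ ⟨a, ha, rfl⟩ _ ⟨b, hb, rfl⟩
    rw [← map_mul, h.comm a ha b hb, map_mul]
  · rintro g _ ⟨a, ha, rfl⟩ ha1 hg
    obtain ⟨x, rfl⟩ := QuotientGroup.mk'_surjective (center G) g
    rw [← map_inv, ← map_mul, ← map_mul, hnorm] at hg
    rw [hnorm]
    refine h.iso x a ha ?_ hg
    rintro rfl; exact ha1 (map_one _)
  · obtain ⟨z, hz, w, hw, hz2, hw2, hzw⟩ := h.invs
    exact ⟨_, ⟨z, hz, rfl⟩, _, ⟨w, hw, rfl⟩, (hord z hz).trans hz2, (hord w hw).trans hw2,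
      fun e => hzw (hinj z hz w hw e)⟩
  · obtain ⟨a, ha, ha4⟩ := h.four
    exact ⟨_, ⟨a, ha, rfl⟩, (hord a ha).trans ha4⟩

/-- The intersection of `A` with a subgroup is isolated there. -/
theorem Iso.subgroupOf (h : Iso A) (X : Subgroup G)
    (h2 : ∃ z ∈ A, ∃ w ∈ A, orderOf z = 2 ∧ orderOf w = 2 ∧ z ≠ w ∧ z ∈ X ∧ w ∈ X)
    (h4 : ∃ a ∈ A, orderOf a = 4 ∧ a ∈ X) :
    Iso (A.subgroupOf X) ∧
      ∀ x : X, x ∈ normalizer ((A.subgroupOf X : Subgroup X) : Set X) ↔
        (x : G) ∈ normalizer (A : Set G) := by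
  have hnorm : ∀ x : X, x ∈ normalizer ((A.subgroupOf X : Subgroup X) : Set X) ↔
        (x : G) ∈ normalizer (A : Set G) := by
    intro x
    constructor
    · intro hx
      obtain ⟨z, hz, -, -, hz2, -, -, hzX, -⟩ := h2
      have h1 := (mem_normalizer_iff.mp hx ⟨z, hzX⟩).mp (mem_subgroupOf.mpr hz)
      have h3 := mem_subgroupOf.mp h1
      exact h.iso x z hz (ne_one_of_orderOf hz2) (le_normalizer h3)
    · intro hx
      rw [mem_normalizer_iff]
      intro y
      exact mem_normalizer_iff.mp hx (y : G)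
  refine ⟨⟨?_, ?_, ?_, ?_, ?_⟩, hnorm⟩
  · intro a ha b hb
    exact Subtype.ext (h.comm a (mem_subgroupOf.mp ha) b (mem_subgroupOf.mp hb))
  · intro a
    obtain ⟨k, hk⟩ := h.two ⟨_, mem_subgroupOf.mp a.2⟩
    refine ⟨k, ?_⟩
    apply Subtype.ext
    apply Subtype.ext
    show (((a : X) : G)) ^ 2 ^ k = 1
    exact congrArg Subtype.val hk
  · intro g a ha ha1 hg
    rw [hnorm] at hg ⊢
    exact h.iso g a (mem_subgroupOf.mp ha) (fun e => ha1 (Subtype.ext e)) hg
  · obtain ⟨z, hz, w, hw, hz2, hw2, hzw, hzX, hwX⟩ := h2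
    exact ⟨⟨z, hzX⟩, mem_subgroupOf.mpr hz, ⟨w, hwX⟩, mem_subgroupOf.mpr hw, by rwa [orderOf_mk],
      by rwa [orderOf_mk], fun e => hzw (congrArg Subtype.val e)⟩
  · obtain ⟨a, ha, ha4, haX⟩ := h4
    exact ⟨⟨a, haX⟩, mem_subgroupOf.mpr ha, by rwa [orderOf_mk]⟩

end

/-- Reduction of the theorem on isolated subgroups to simple groups. -/
theorem main_of_simple
    (hsimple : ∀ (G : Type u) [Group G] [Finite G] [IsSimpleGroup G] (A : Subgroup G), Iso A →
      normalizer (A : Set G) ≠ ⊤ → Prop' A → False)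
    (n : ℕ) : ∀ (G : Type u) [Group G] [Finite G] (A : Subgroup G), Nat.card G = n → Iso A →
      normalizer (A : Set G) = ⊤ := by
  induction n using Nat.strong_induction_on with
  | _ n ih =>
    intro G _ _ A hn h
    by_contra hM
    have hP : Prop' A := by
      intro X hX h2 h4
      obtain ⟨hB, hnorm⟩ := h.subgroupOf X h2 h4
      have hlt : Nat.card X < n := by
        rw [← hn]
        exact lt_of_le_of_ne (Nat.le_of_dvd Nat.card_pos X.card_subgroup_dvd_card)
          (fun e => hX (eq_top_of_card_eq X e))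
      have h1 := ih _ hlt X (A.subgroupOf X) rfl hB
      intro x hx
      have : (⟨x, hx⟩ : X) ∈ normalizer ((A.subgroupOf X : Subgroup X) : Set X) := by
        rw [h1]; exact mem_top _
      exact (hnorm ⟨x, hx⟩).mp this
    by_cases hZ : center G = ⊥
    · have : IsSimpleGroup G := by
        refine { exists_pair_ne := ?_, eq_bot_or_eq_top_of_normal := ?_ }
        · obtain ⟨z, -, w, -, -, -, hzw⟩ := h.invs
          exact ⟨z, w, hzw⟩
        · intro N hN
          by_cases hN' : N = ⊤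
          · exact Or.inr hN'
          · left
            rw [eq_bot_iff, ← hZ]
            exact h.normal_le_center hM hP N hN'
      exact hsimple G A h hM hP
    · obtain ⟨hB, hnorm⟩ := h.map_center hM
      have hlt : Nat.card (G ⧸ center G) < n := by
        rw [← hn, (center G).card_eq_card_quotient_mul_card_subgroup]
        have h1 : 1 < Nat.card (center G) := by
          rw [Finite.one_lt_card_iff_nontrivial]
          exact (Subgroup.nontrivial_iff_ne_bot _).mpr hZ
        have h2 : 0 < Nat.card (G ⧸ center G) := Nat.card_pos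
        nlinarith
      have h1 := ih _ hlt _ _ rfl hB
      apply hM
      rw [Subgroup.eq_top_iff']
      intro x
      rw [← hnorm x, h1]
      exact mem_top _

end Cfsg.Agent.TIAbelian.IsolatedBasic
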