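import Mathlib
import Cfsg.Agent.OddOrderCharacters.ClassSum
import Cfsg.Agent.Involutions.NormalFour
import Cfsg.Agent.TIAbelian.IsolatedBasic

/-!
# Isolated abelian 2-subgroups: counting

Squares, the number of involutions, action of elements of odd order, and the number of points.
-/

set_option autoImplicit false

namespace Cfsg.Agent.TIAbelian.IsolatedCount

open Subgroup Cfsg
open Cfsg.Agent.TwoFusion.StronglyEmbeddedBasic
open Cfsg.Agent.TIAbelian.IsolatedBasic

section

variable {G : Type*} [Group G] {A : Subgroup G}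

theorem ne_one_of_two {a : G} (h : orderOf a = 2) : a ≠ 1 := by
  rintro rfl
  simp at h

/-- The subgroup of elements of order at most 2 of `A`. -/
def invSub (h : Iso A) : Subgroup G where
  carrier := {a | a ∈ A ∧ a * a = 1}
  mul_mem' := by
    rintro a b ⟨ha, ha2⟩ ⟨hb, hb2⟩
    refine ⟨mul_mem ha hb, ?_⟩
    calc a * b * (a * b) = a * (b * a) * b := by group
      _ = a * (a * b) * b := by rw [h.comm b hb a ha]
      _ = (a * a) * (b * b) := by group
      _ = 1 := by rw [ha2, hb2, one_mul]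
  one_mem' := ⟨one_mem _, one_mul 1⟩
  inv_mem' := by
    rintro a ⟨ha, ha2⟩
    exact ⟨inv_mem ha, by rw [← mul_inv_rev, ha2, inv_one]⟩

theorem mem_invSub {h : Iso A} {a : G} : a ∈ invSub h ↔ a ∈ A ∧ a * a = 1 := Iff.rfl

theorem invSub_le (h : Iso A) : invSub h ≤ A := fun _ ha => ha.1

/-- Every involution of `A` is a square. -/
theorem exists_sq [Finite G] (h : Iso A) (hM : normalizer (A : Set G) ≠ ⊤) {e : G}
    (he : e ∈ A) (he2 : e * e = 1) : ∃ b ∈ A, b * b = e := by
  by_cases he1 : e = 1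
  · exact ⟨1, one_mem _, by rw [he1, one_mul]⟩
  have he2' := orderOf_eq_two_of_mul_self he2 he1
  obtain ⟨a, ha, ha4⟩ := h.four
  have hsq : orderOf (a * a) = 2 := by
    have := orderOf_pow_of_dvd (x := a) (n := 2) (by norm_num) (by rw [ha4]; norm_num)
    rw [ha4, pow_two] at this
    exact this
  obtain ⟨m, hm, hme⟩ := h.exists_conj hM (mul_mem ha ha) hsq he he2'
  exact ⟨m * a * m⁻¹, conj_mem hm ha, by rw [← hme]; group⟩

theorem card_invSub_sq_dvd [Finite G] (h : Iso A) (hM : normalizer (A : Set G) ≠ ⊤) :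
    Nat.card (invSub h) * Nat.card (invSub h) ∣ Nat.card A := by
  let f : A →* A :=
    { toFun := fun a => a * a
      map_one' := by simp
      map_mul' := by
        intro a b
        apply Subtype.ext
        show (a : G) * b * (a * b) = a * a * (b * b)
        calc (a : G) * b * (a * b) = a * (b * a) * b := by group
          _ = a * (a * b) * b := by rw [h.comm b b.2 a a.2]
          _ = a * a * (b * b) := by group }
  have hker : Nat.card f.ker = Nat.card (invSub h) := by
    have h1 : f.ker.map A.subtype = invSub h := by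
      ext x
      constructor
      · rintro ⟨a, ha, rfl⟩
        exact ⟨a.2, congrArg Subtype.val (MonoidHom.mem_ker.mp ha)⟩
      · rintro ⟨hx, hx2⟩
        exact ⟨⟨x, hx⟩, MonoidHom.mem_ker.mpr (Subtype.ext hx2), rfl⟩
    rw [← h1, Subgroup.card_map_of_injective A.subtype_injective]
  have hle : f.ker ≤ f.range := by
    intro a ha
    have h1 : (a : G) * a = 1 := congrArg Subtype.val (MonoidHom.mem_ker.mp ha)
    obtain ⟨b, hb, hbb⟩ := exists_sq h hM a.2 h1
    exact ⟨⟨b, hb⟩, Subtype.ext hbb⟩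
  have h2 := card_mul_index f.ker
  rw [index_ker] at h2
  rw [← h2, hker]
  apply Nat.mul_dvd_mul_left
  rw [← hker]
  exact card_dvd_of_le hle

theorem card_invSub [Finite G] (h : Iso A) : ∃ r, 2 ≤ r ∧ Nat.card (invSub h) = 2 ^ r := by
  have h2 : IsPGroup 2 (invSub h) := h.two.to_le (invSub_le h)
  obtain ⟨r, hr⟩ := IsPGroup.iff_card.mp h2
  refine ⟨r, ?_, hr⟩
  by_contra hlt
  push Not at hlt
  obtain ⟨z, hz, w, hw, hz2, hw2, hzw⟩ := h.invs
  have hz1 := ne_one_of_two hz2
  have hw1 := ne_one_of_two hw2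
  classical
  have : Fintype (invSub h) := Fintype.ofFinite _
  have hcard : Nat.card (invSub h) ≤ 2 := by
    rw [hr]
    calc 2 ^ r ≤ 2 ^ 1 := Nat.pow_le_pow_right (by norm_num) (by omega)
      _ = 2 := by norm_num
  rw [Nat.card_eq_fintype_card] at hcard
  have h3 : ({1, ⟨z, hz, mul_self_of_orderOf hz2⟩, ⟨w, hw, mul_self_of_orderOf hw2⟩} :
      Finset (invSub h)).card = 3 := by
    rw [Finset.card_eq_three]
    refine ⟨_, _, _, ?_, ?_, ?_, rfl⟩
    · intro e; exact hz1 (congrArg Subtype.val e).symm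
    · intro e; exact hw1 (congrArg Subtype.val e).symm
    · intro e; exact hzw (congrArg Subtype.val e)
  have h4 := Finset.card_le_univ ({1, ⟨z, hz, mul_self_of_orderOf hz2⟩,
    ⟨w, hw, mul_self_of_orderOf hw2⟩} : Finset (invSub h))
  omega

theorem card_invSub_sub_one_dvd [Finite G] (h : Iso A) (hM : normalizer (A : Set G) ≠ ⊤) :
    Nat.card (invSub h) - 1 ∣ Nat.card (normalizer (A : Set G)) := by
  obtain ⟨z, hz, -, -, hz2, -, -⟩ := h.invs
  letI : MulAction (normalizer (A : Set G)) G :=
    MulAction.compHom G ((MulAut.conj (G := G)).comp (normalizer (A : Set G)).subtype)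
  have hsmul : ∀ (m : normalizer (A : Set G)) (x : G), m • x = (m : G) * x * (m : G)⁻¹ :=
    fun _ _ => rfl
  have horb : MulAction.orbit (normalizer (A : Set G)) z = (invSub h : Set G) \ {1} := by
    ext x
    constructor
    · rintro ⟨m, rfl⟩
      have h1 : (m : G) * z * (m : G)⁻¹ ∈ A := conj_mem m.2 hz
      have h2 : orderOf ((m : G) * z * (m : G)⁻¹) = 2 := (orderOf_conj _ _).trans hz2
      exact ⟨⟨h1, mul_self_of_orderOf h2⟩, ne_one_of_two h2⟩
    · rintro ⟨⟨hx, hx2⟩, hx1⟩
      obtain ⟨m, hm, hmz⟩ := h.exists_conj hM hz hz2 hx (orderOf_eq_two_of_mul_self hx2 hx1)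
      exact ⟨⟨m, hm⟩, hmz⟩
  have h1 := MulAction.index_stabilizer (normalizer (A : Set G)) z
  rw [horb, Set.ncard_sdiff_singleton_of_mem (one_mem (invSub h))] at h1
  have h2 : (invSub h : Set G).ncard = Nat.card (invSub h) := rfl
  rw [← h2, ← h1]
  exact index_dvd_card _

/-- An element of odd order of `N(A)` centralizing the involutions of `A` centralizes `A`. -/
theorem commute_of_odd [Finite G] (h : Iso A) {x : G} (hxM : x ∈ normalizer (A : Set G))
    (hodd : Odd (orderOf x)) (hx : ∀ e ∈ A, e * e = 1 → x * e * x⁻¹ = e) :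
    ∀ a ∈ A, x * a * x⁻¹ = a := by
  have key : ∀ n : ℕ, ∀ a ∈ A, a ^ 2 ^ n = 1 → x * a * x⁻¹ = a := by
    intro n
    induction n with
    | zero =>
      intro a ha h1
      rw [pow_zero, pow_one] at h1
      rw [h1]; simp
    | succ n ih =>
      intro a ha h1
      have h2 : x * (a * a) * x⁻¹ = a * a := by
        refine ih _ (mul_mem ha ha) ?_
        rw [← pow_two, ← pow_mul, ← h1, pow_succ']
      set b := x * a * x⁻¹ * a⁻¹ with hb
      have hbA : b ∈ A := mul_mem (conj_mem hxM ha) (inv_mem ha)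
      have hxa : x * a * x⁻¹ = b * a := by rw [hb]; group
      have hbb : b * b = 1 := by
        have h3 : (b * a) * (b * a) = a * a := by
          rw [← hxa]
          calc x * a * x⁻¹ * (x * a * x⁻¹) = x * (a * a) * x⁻¹ := by group
            _ = a * a := h2
        have h4 : (b * b) * (a * a) = a * a := by
          calc (b * b) * (a * a) = b * (b * a) * a := by group
            _ = b * (a * b) * a := by rw [h.comm b hbA a ha]
            _ = (b * a) * (b * a) := by group
            _ = a * a := h3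
        exact mul_eq_right.mp h4
      have hxb : x * b * x⁻¹ = b := hx b hbA hbb
      have hk : ∀ k : ℕ, x ^ k * a * (x ^ k)⁻¹ = b ^ k * a := by
        intro k
        induction k with
        | zero => simp
        | succ k ihk =>
          have h5 : ∀ j : ℕ, x * b ^ j * x⁻¹ = b ^ j := by
            intro j
            rw [← conj_pow, hxb]
          calc x ^ (k + 1) * a * (x ^ (k + 1))⁻¹ = x * (x ^ k * a * (x ^ k)⁻¹) * x⁻¹ := by
                rw [pow_succ']; group
            _ = x * (b ^ k * a) * x⁻¹ := by rw [ihk]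
            _ = (x * b ^ k * x⁻¹) * (x * a * x⁻¹) := by group
            _ = b ^ k * (b * a) := by rw [h5, hxa]
            _ = b ^ (k + 1) * a := by rw [pow_succ]; group
      have h6 := hk (orderOf x)
      rw [pow_orderOf_eq_one] at h6
      have h7 : b ^ orderOf x = 1 := by
        have h8 : b ^ orderOf x * a = a := by rw [← h6]; group
        exact mul_eq_right.mp h8
      obtain ⟨k, hk'⟩ := hodd
      have h8 : b = 1 := by
        rw [hk', pow_succ, pow_mul, pow_two, hbb, one_pow, one_mul] at h7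
        exact h7
      rw [hxa, h8, one_mul]
  intro a ha
  obtain ⟨k, hk⟩ := h.two ⟨a, ha⟩
  exact key k a ha (congrArg Subtype.val hk)

/-- The action on `E = Ω₁(A)` of an element of prime order `p` of `N(A)`, where `p` does not divide
`2 ^ j - 1` for `0 < j ≤ r`. -/
theorem centralizes_of_prime [Finite G] (h : Iso A) {r p : ℕ} (hr : Nat.card (invSub h) = 2 ^ r)
    (hp : p.Prime) (hp2 : p ≠ 2) (hpj : ∀ j, 0 < j → j ≤ r → ¬ p ∣ 2 ^ j - 1)
    {x : G} (hxM : x ∈ normalizer (A : Set G)) (hx : orderOf x = p) :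
    ∀ e ∈ A, e * e = 1 → x * e * x⁻¹ = e := by
  classical
  have : Fintype G := Fintype.ofFinite G
  letI : MulAction (zpowers x) G :=
    MulAction.compHom G ((MulAut.conj (G := G)).comp (zpowers x).subtype)
  have hsmul : ∀ (m : zpowers x) (y : G), m • y = (m : G) * y * (m : G)⁻¹ := fun _ _ => rfl
  have hle : zpowers x ≤ normalizer (A : Set G) := by rwa [zpowers_le]
  set E := invSub h with hE
  set C : Subgroup G := E ⊓ centralizer {x} with hC
  have hCE : C ≤ E := inf_le_left
  have hmemC : ∀ y : G, y ∈ C ↔ y ∈ E ∧ y * x = x * y := by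
    intro y
    rw [hC, mem_inf, mem_centralizer_singleton_iff]
  have h2 : IsPGroup 2 C := h.two.to_le (hCE.trans (invSub_le h))
  obtain ⟨f, hf⟩ := IsPGroup.iff_card.mp h2
  have hfr : f ≤ r := by
    have h3 := card_dvd_of_le hCE
    rw [hr, hf] at h3
    exact (Nat.pow_dvd_pow_iff_le_right (by norm_num)).mp h3
  have hdvd := OddOrderCharacters.ClassSum.card_dvd_of_free (H := zpowers x) (X := G)
    ((Finset.univ.filter (· ∈ E)) \ (Finset.univ.filter (· ∈ C))) (by
      intro m y hy
      rw [Finset.mem_sdiff, Finset.mem_filter, Finset.mem_filter] at hy ⊢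
      refine ⟨⟨Finset.mem_univ _, ?_⟩, ?_⟩
      · rw [hsmul]
        have hyE := hy.1.2
        refine ⟨conj_mem (hle m.2) hyE.1, ?_⟩
        calc (m : G) * y * (m : G)⁻¹ * ((m : G) * y * (m : G)⁻¹) = m * (y * y) * (m : G)⁻¹ := by
              group
          _ = 1 := by rw [hyE.2]; group
      · rintro ⟨-, hmC⟩
        apply hy.2
        refine ⟨Finset.mem_univ _, (hmemC y).mpr ⟨hy.1.2, ?_⟩⟩
        have h5 := ((hmemC _).mp hmC).2
        rw [hsmul] at h5
        -- `m` is a power of `x`
        have hcm : (m : G) * x = x * m := by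
          obtain ⟨k, hk⟩ := mem_zpowers_iff.mp m.2
          rw [← hk]
          exact ((Commute.refl x).zpow_left k).eq
        have h6 : (m : G)⁻¹ * x = x * (m : G)⁻¹ := by
          rw [inv_mul_eq_iff_eq_mul, ← mul_assoc, hcm, mul_assoc, mul_inv_cancel, mul_one]
        calc y * x = (m : G)⁻¹ * ((m : G) * y * (m : G)⁻¹ * m) * x := by group
          _ = (m : G)⁻¹ * ((m : G) * y * (m : G)⁻¹ * (m * x)) := by group
          _ = (m : G)⁻¹ * ((m : G) * y * (m : G)⁻¹ * (x * m)) := by rw [hcm]
          _ = (m : G)⁻¹ * (((m : G) * y * (m : G)⁻¹ * x) * m) := by group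
          _ = (m : G)⁻¹ * ((x * ((m : G) * y * (m : G)⁻¹)) * m) := by rw [h5]
          _ = ((m : G)⁻¹ * x) * (m * y) := by group
          _ = (x * (m : G)⁻¹) * (m * y) := by rw [h6]
          _ = x * y := by group) (by
      intro m y hy hmy
      rw [Finset.mem_sdiff, Finset.mem_filter, Finset.mem_filter] at hy
      by_contra hm
      apply hy.2
      refine ⟨Finset.mem_univ _, (hmemC y).mpr ⟨hy.1.2, ?_⟩⟩
      rw [hsmul] at hmy
      -- `m` generates `zpowers x`
      have hm1 : (m : G) ≠ 1 := fun e => hm (Subtype.ext e)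
      have hmx : zpowers (m : G) = zpowers x := by
        apply Subgroup.eq_of_le_of_card_ge
        · rw [zpowers_le]; exact m.2
        · rw [Nat.card_zpowers, Nat.card_zpowers, hx]
          have h7 : orderOf (m : G) ∣ p := by
            have := orderOf_dvd_natCard m
            rw [Nat.card_zpowers, hx] at this
            rwa [← Subgroup.orderOf_coe] at this
          rcases (Nat.dvd_prime hp).mp h7 with h8 | h8
          · exact absurd (orderOf_eq_one_iff.mp h8) hm1
          · exact h8.ge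
      have hxm : x ∈ zpowers (m : G) := by rw [hmx]; exact mem_zpowers x
      have hmC : (m : G) ∈ centralizer {y} := by
        rw [mem_centralizer_singleton_iff]
        exact mul_inv_eq_iff_eq_mul.mp hmy
      have hxC : x ∈ centralizer {y} := (zpowers_le.mpr hmC) hxm
      rw [mem_centralizer_singleton_iff] at hxC
      exact hxC.symm)
  rw [Finset.card_sdiff_of_subset (fun y hy => by
    rw [Finset.mem_filter] at hy ⊢
    exact ⟨hy.1, hCE hy.2⟩)] at hdvd
  have hcE : (Finset.univ.filter (· ∈ E)).card = 2 ^ r := by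
    rw [← hr, Nat.card_eq_fintype_card, Fintype.card_subtype]
  have hcC : (Finset.univ.filter (· ∈ C)).card = 2 ^ f := by
    rw [← hf, Nat.card_eq_fintype_card, Fintype.card_subtype]
  rw [hcE, hcC, Nat.card_zpowers, hx] at hdvd
  have hrf : r = f := by
    by_contra hne
    have hlt : f < r := by omega
    have h8 : 2 ^ r - 2 ^ f = 2 ^ f * (2 ^ (r - f) - 1) := by
      rw [Nat.mul_sub, mul_one, ← pow_add]
      congr 2
      omega
    rw [h8, hp.dvd_mul] at hdvd
    rcases hdvd with h9 | h9
    · exact hp2 ((Nat.prime_dvd_prime_iff_eq hp Nat.prime_two).mp (hp.dvd_of_dvd_pow h9))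
    · exact hpj (r - f) (by omega) (by omega) h9
  have hEC : C = E := by
    apply Subgroup.eq_of_le_of_card_ge hCE
    rw [hr, hf, hrf]
  intro e he he2
  have h9 : e ∈ C := by rw [hEC]; exact ⟨he, he2⟩
  have h10 := ((hmemC e).mp h9).2
  rw [← h10]; group

end

section Arith

/-- Arithmetic: the number of points. -/
theorem arith {s n k d l : ℕ} (hl : l < s) (hl0 : 0 < l) (hn : 1 < n) (hdvd : s ∣ n - 1)
    (h : n * k * d = (s + 1) * l) : n = s + 1 ∧ k * d = l := by
  obtain ⟨c, hc⟩ := hdvd
  have hn' : n = s * c + 1 := by omega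
  have hc0 : 0 < c := by
    rcases Nat.eq_zero_or_pos c with h0 | h0
    · subst h0
      rw [mul_zero] at hn'
      omega
    · exact h0
  have hkd : k * d ≤ l := by
    have h1 : (s + 1) * (k * d) ≤ (s + 1) * l := by
      rw [← h, mul_assoc, hn']
      apply Nat.mul_le_mul_right
      nlinarith
    exact Nat.le_of_mul_le_mul_left h1 (by omega)
  have h2 : l = k * d := by
    -- modulo `s`
    have h3 : (s * c + 1) * (k * d) = (s + 1) * l := by rw [← hn', ← mul_assoc, h]
    have h4 : s ∣ l - k * d := by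
      have h5 : s * c * (k * d) = s * l + (l - k * d) := by
        have : (s * c + 1) * (k * d) = s * c * (k * d) + k * d := by ring
        have h6 : (s + 1) * l = s * l + l := by ring
        omega
      have h6 : s ∣ s * l + (l - k * d) := by rw [← h5, mul_assoc]; exact dvd_mul_right _ _
      exact (Nat.dvd_add_right (dvd_mul_right s l)).mp h6
    rcases Nat.eq_zero_or_pos (l - k * d) with h0 | h0
    · omega
    · have := Nat.le_of_dvd h0 h4
      omega
  refine ⟨?_, h2.symm⟩
  rw [mul_assoc, ← h2] at h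
  exact Nat.eq_of_mul_eq_mul_right hl0 h

theorem eq_of_two_pow_mul {a b m m' : ℕ} (hm : Odd m) (hm' : Odd m')
    (h : 2 ^ a * m = 2 ^ b * m') : 2 ^ a = 2 ^ b := by
  apply Nat.dvd_antisymm
  · have h1 : 2 ^ a ∣ 2 ^ b * m' := by rw [← h]; exact dvd_mul_right _ _
    exact (Nat.Coprime.pow_left a (Nat.coprime_two_left.mpr hm')).dvd_of_dvd_mul_right h1
  · have h1 : 2 ^ b ∣ 2 ^ a * m := by rw [h]; exact dvd_mul_right _ _
    exact (Nat.Coprime.pow_left b (Nat.coprime_two_left.mpr hm)).dvd_of_dvd_mul_right h1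

/-- The order of a Sylow 2-subgroup. -/
theorem card_sylow {G : Type*} [Group G] [Finite G] (S : Sylow 2 G) {a d m : ℕ} (hd : Odd d)
    (hm : Odd m) (h : Nat.card G * d = 2 ^ a * m) : Nat.card (S : Subgroup G) = 2 ^ a := by
  obtain ⟨b, hb⟩ := IsPGroup.iff_card.mp S.isPGroup'
  have h1 := (S : Subgroup G).card_mul_index
  have h2 : Odd ((S : Subgroup G).index) := by
    rw [← Nat.not_even_iff_odd, even_iff_two_dvd]
    exact S.not_dvd_index
  rw [hb]
  apply eq_of_two_pow_mul (h2.mul hd) hm
  rw [← h, ← h1, hb]; ring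

theorem dvd_of_two_pow_sub_one_dvd {r s : ℕ} (hs : 0 < s) (h : 2 ^ r - 1 ∣ 2 ^ s - 1) : r ∣ s := by
  have h1 := Nat.pow_sub_one_gcd_pow_sub_one 2 r s
  rw [Nat.gcd_eq_left h] at h1
  have h2 : 2 ^ r = 2 ^ Nat.gcd r s := by
    have h3 : 0 < 2 ^ r := by positivity
    have h4 : 0 < 2 ^ Nat.gcd r s := by positivity
    omega
  have h3 := Nat.pow_right_injective (le_refl 2) h2
  rw [h3]
  exact Nat.gcd_dvd_right r s

end Arith

section Points

variable {G : Type*} [Group G] [Finite G] {M : Subgroup G}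

/-- Elements of `S` fix only the base point. -/
theorem eq_one_of_smul_eq (hM : IsStronglyEmbedded M) {S : Sylow 2 G}
    (hSM : (S : Subgroup G) ≤ M) {s g : G}
    (hs : s ∈ (S : Subgroup G)) (hg : g ∉ M) (h : s • (g : G ⧸ M) = (g : G ⧸ M)) : s = 1 := by
  by_contra hs1
  have h1 : g⁻¹ * s * g ∈ M := by
    have h2 : ((s * g : G) : G ⧸ M) = (g : G ⧸ M) := h
    have h3 := QuotientGroup.eq.mp h2.symm
    rwa [← mul_assoc] at h3
  -- `s ∈ M ∩ gMg⁻¹`
  have h2 : s ∈ M ⊓ M.map (MulAut.conj g).toMonoidHom :=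
    ⟨hSM hs, ⟨g⁻¹ * s * g, h1, by show g * (g⁻¹ * s * g) * g⁻¹ = s; group⟩⟩
  have h3 := hM.2.2 g hg
  have h4 : orderOf s ∣ Nat.card ↥(M ⊓ M.map (MulAut.conj g).toMonoidHom) := by
    have := orderOf_dvd_natCard (⟨s, h2⟩ : ↥(M ⊓ M.map (MulAut.conj g).toMonoidHom))
    rwa [Subgroup.orderOf_mk] at this
  have h5 : 2 ∣ orderOf s := by
    have := S.isPGroup'.dvd_orderOf (g := ⟨s, hs⟩) (fun h => hs1 (congrArg Subtype.val h))
    rwa [Subgroup.orderOf_mk] at this
  rw [← Nat.not_even_iff_odd, even_iff_two_dvd] at h3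
  exact h3 (h5.trans h4)

theorem smul_ne_one {M : Subgroup G} {s : G} (hs : s ∈ M) {z : G ⧸ M}
    (hz : z ≠ ((1 : G) : G ⧸ M)) : s • z ≠ ((1 : G) : G ⧸ M) := by
  intro h1
  apply hz
  have h2 : z = s⁻¹ • ((1 : G) : G ⧸ M) := by
    rw [eq_inv_smul_iff]
    exact h1
  rw [h2]
  show ((s⁻¹ * 1 : G) : G ⧸ M) = ((1 : G) : G ⧸ M)
  rw [QuotientGroup.eq, mul_one, mul_one, inv_inv]
  exact hs

/-- A subgroup of `M` acting freely on the other points has order dividing their number. -/
theorem card_dvd_of_free (K : Subgroup G) (hK : K ≤ M)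
    (hfree : ∀ k ∈ K, ∀ g : G, g ∉ M → k • (g : G ⧸ M) = (g : G ⧸ M) → k = 1) :
    Nat.card K ∣ M.index - 1 := by
  classical
  have := Fintype.ofFinite (G ⧸ M)
  have h := OddOrderCharacters.ClassSum.card_dvd_of_free (H := K) (X := G ⧸ M)
    (Finset.univ.erase ((1 : G) : G ⧸ M)) (by
      intro h x hx
      rw [Finset.mem_erase] at hx ⊢
      exact ⟨smul_ne_one (hK h.2) hx.1, Finset.mem_univ _⟩) (by
      intro h x hx h1
      rw [Finset.mem_erase] at hx
      obtain ⟨g, rfl⟩ := QuotientGroup.mk_surjective x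
      have hg : g ∉ M := by
        intro hg
        apply hx.1
        rw [QuotientGroup.eq, mul_one]
        exact inv_mem hg
      exact Subtype.ext (hfree h h.2 g hg h1))
  rw [Finset.card_erase_of_mem (Finset.mem_univ _), Finset.card_univ, ← Nat.card_eq_fintype_card]
    at h
  exact h

/-- The order of `S` divides the number of points other than the base point. -/
theorem card_dvd_index_sub_one (hM : IsStronglyEmbedded M) {S : Sylow 2 G}
    (hSM : (S : Subgroup G) ≤ M) : Nat.card (S : Subgroup G) ∣ M.index - 1 :=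
  card_dvd_of_free (S : Subgroup G) hSM fun _ hk _ hg h => eq_one_of_smul_eq hM hSM hk hg h

/-- If the number of points is `|S| + 1`, then `S` is transitive on the points other than the base
point. -/
theorem exists_smul_eq (hM : IsStronglyEmbedded M) {S : Sylow 2 G} (hSM : (S : Subgroup G) ≤ M)
    (hidx : M.index = Nat.card (S : Subgroup G) + 1) {x y : G ⧸ M}
    (hx : x ≠ ((1 : G) : G ⧸ M)) (hy : y ≠ ((1 : G) : G ⧸ M)) :
    ∃ s ∈ (S : Subgroup G), s • x = y := by
  classical
  have := Fintype.ofFinite (G ⧸ M)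
  have := Fintype.ofFinite (S : Subgroup G)
  have hne : ∀ s ∈ (S : Subgroup G), ∀ z : G ⧸ M, z ≠ ((1 : G) : G ⧸ M) →
      s • z ≠ ((1 : G) : G ⧸ M) := fun s hs z hz => smul_ne_one (hSM hs) hz
  have hinj : Function.Injective
      (fun s : (S : Subgroup G) => (⟨(s : G) • x, hne s s.2 x hx⟩ :
        {z : G ⧸ M // z ≠ ((1 : G) : G ⧸ M)})) := by
    intro s s' h
    have h1 : (s : G) • x = (s' : G) • x := congrArg Subtype.val h
    obtain ⟨g, rfl⟩ := QuotientGroup.mk_surjective x
    have hg : g ∉ M := by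
      intro hg
      apply hx
      rw [QuotientGroup.eq, mul_one]
      exact inv_mem hg
    have h2 : ((s' : G)⁻¹ * (s : G)) • (g : G ⧸ M) = (g : G ⧸ M) := by
      rw [mul_smul, h1, inv_smul_smul]
    have h3 := eq_one_of_smul_eq hM hSM (mul_mem (inv_mem s'.2) s.2) hg h2
    rw [inv_mul_eq_one] at h3
    exact Subtype.ext h3.symm
  have hcard : Fintype.card (S : Subgroup G) =
      Fintype.card {z : G ⧸ M // z ≠ ((1 : G) : G ⧸ M)} := by
    rw [Fintype.card_subtype_compl, Fintype.card_subtype_eq, ← Nat.card_eq_fintype_card,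
      ← Nat.card_eq_fintype_card]
    have h1 : Nat.card (G ⧸ M) = Nat.card (S : Subgroup G) + 1 := hidx
    omega
  have hbij := (Fintype.bijective_iff_injective_and_card _).mpr ⟨hinj, hcard⟩
  obtain ⟨s, hs⟩ := hbij.2 ⟨y, hy⟩
  exact ⟨s, s.2, congrArg Subtype.val hs⟩

/-- An element of prime order `p` of `M`, where `p` divides `|G : M| - 2`, is in another conjugate. -/
theorem exists_conj_mem {p : ℕ} (hp : p.Prime) {x : G} (hxM : x ∈ M) (hx : orderOf x = p)
    (hdvd : ¬ p ∣ M.index - 1) : ∃ g : G, g ∉ M ∧ g⁻¹ * x * g ∈ M := by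
  by_contra hcon
  push Not at hcon
  apply hdvd
  have h := card_dvd_of_free (M := M) (zpowers x) (by rwa [zpowers_le]) (by
    intro k hk g hg hkg
    by_contra hk1
    apply hcon g hg
    have h1 : g⁻¹ * k * g ∈ M := by
      have h2 : ((k * g : G) : G ⧸ M) = (g : G ⧸ M) := hkg
      have h3 := QuotientGroup.eq.mp h2.symm
      rwa [← mul_assoc] at h3
    have hkx : zpowers k = zpowers x := by
      apply Subgroup.eq_of_le_of_card_ge
      · rw [zpowers_le]; exact hk
      · rw [Nat.card_zpowers, Nat.card_zpowers, hx]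
        have h7 : orderOf k ∣ p := by
          have := orderOf_dvd_natCard (⟨k, hk⟩ : zpowers x)
          rw [Nat.card_zpowers, hx] at this
          rwa [Subgroup.orderOf_mk] at this
        rcases (Nat.dvd_prime hp).mp h7 with h8 | h8
        · exact absurd (orderOf_eq_one_iff.mp h8) hk1
        · exact h8.ge
    have hxk : x ∈ zpowers k := by rw [hkx]; exact mem_zpowers x
    obtain ⟨j, hj⟩ := mem_zpowers_iff.mp hxk
    rw [← hj]
    have h9 : g⁻¹ * k ^ j * g = (g⁻¹ * k * g) ^ j := by
      have := conj_zpow (i := j) (a := g⁻¹) (b := k)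
      rw [inv_inv] at this
      exact this.symm
    rw [h9]
    exact zpow_mem h1 j)
  rwa [Nat.card_zpowers, hx] at h

end Points

end Cfsg.Agent.TIAbelian.IsolatedCount
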