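import Mathlib
import Cfsg.Agent.S1175
import Cfsg.Agent.TIAbelian.IsolatedCount

/-!
# Isolated abelian 2-subgroups of simple groups: the normalizer is strongly embedded

Conditional on S1175.
-/

set_option autoImplicit false

namespace Cfsg.Agent.TIAbelian.IsolatedEmbedded

open Subgroup Cfsg
open Cfsg.Agent.TwoFusion.StronglyEmbeddedBasic
open Cfsg.Agent.TIAbelian.IsolatedBasic
open Cfsg.Agent.TIAbelian.IsolatedCount

variable {G : Type*} [Group G] {A : Subgroup G}

/-- A 2-subgroup containing `A` normalizes it. -/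
theorem le_normalizer_of_le [Finite G] (h : Iso A) {T : Subgroup G} (hT : IsPGroup 2 T)
    (hAT : A ≤ T) : T ≤ normalizer (A : Set G) := by
  intro t ht
  by_contra hM
  obtain ⟨z, hz, -, -, hz2, -, -⟩ := h.invs
  have h1 := h.odd_mul hz hz2 hz hz2 hM
  have hmem : z * (t * z * t⁻¹) ∈ T :=
    mul_mem (hAT hz) (mul_mem (mul_mem ht (hAT hz)) (inv_mem ht))
  obtain ⟨k, hk⟩ := hT ⟨_, hmem⟩
  have hk' : (z * (t * z * t⁻¹)) ^ 2 ^ k = 1 := congrArg Subtype.val hk
  have h2 : orderOf (z * (t * z * t⁻¹)) = 1 := by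
    obtain ⟨j, -, hj⟩ := (Nat.dvd_prime_pow Nat.prime_two).mp (orderOf_dvd_of_pow_eq_one hk')
    rcases Nat.eq_zero_or_pos j with h0 | h0
    · rw [hj, h0, pow_zero]
    · exfalso
      rw [hj, Nat.odd_pow_iff (by omega)] at h1
      exact absurd h1 (by decide)
  have h3 := orderOf_eq_one_iff.mp h2
  apply hM
  refine h.iso t z hz (ne_one_of_two hz2) ?_
  rw [(eq_inv_of_mul_eq_one_right h3 : t * z * t⁻¹ = z⁻¹)]
  exact inv_mem (le_normalizer hz)

/-- There is a Sylow 2-subgroup containing `A`; it normalizes `A`. -/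
theorem exists_sylow [Finite G] (h : Iso A) :
    ∃ S : Sylow 2 G, A ≤ S ∧ (S : Subgroup G) ≤ normalizer (A : Set G) := by
  obtain ⟨S, hS⟩ := h.two.exists_le_sylow
  exact ⟨S, hS, le_normalizer_of_le h S.isPGroup' hS⟩

/-- An involution of `A` central in a Sylow 2-subgroup. -/
theorem exists_central [Finite G] (h : Iso A) :
    ∃ z ∈ A, orderOf z = 2 ∧ ∃ S : Sylow 2 G, z ∈ S ∧ ∀ s ∈ S, Commute s z := by
  obtain ⟨S, hAS, hSM⟩ := exists_sylow h
  have hn : (A.subgroupOf (S : Subgroup G)).Normal := by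
    constructor
    intro a ha s
    rw [mem_subgroupOf] at ha ⊢
    exact conj_mem (hSM s.2) ha
  have hne : A.subgroupOf (S : Subgroup G) ≠ ⊥ := by
    obtain ⟨z, hz, -, -, hz2, -, -⟩ := h.invs
    intro e
    have h1 : (⟨z, hAS hz⟩ : (S : Subgroup G)) ∈ A.subgroupOf (S : Subgroup G) :=
      mem_subgroupOf.mpr hz
    rw [e, mem_bot] at h1
    exact ne_one_of_two hz2 (congrArg Subtype.val h1)
  obtain ⟨z, hz, hzc, hz2⟩ := Involutions.NormalFour.exists_mem_center_of_normal S.isPGroup'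
    (A.subgroupOf (S : Subgroup G)) hne
  refine ⟨z, mem_subgroupOf.mp hz, by rwa [← Subgroup.orderOf_coe] at hz2, S, z.2, ?_⟩
  intro s hs
  exact congrArg Subtype.val (mem_center_iff.mp hzc ⟨s, hs⟩)

/-- Existence of a strongly embedded subgroup (S1175). -/
theorem exists_stronglyEmbedded [Finite G] [IsSimpleGroup G] (h : Iso A)
    (hM : normalizer (A : Set G) ≠ ⊤) : ∃ H : Subgroup G, IsStronglyEmbedded H := by
  obtain ⟨z, hz, hz2, S, hzS, hSz⟩ := exists_central h
  have hz1 := ne_one_of_two hz2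
  refine Cfsg.Agent.S1175.result (normalizer (A : Set G)) hM z hz2 (le_normalizer hz)
    ⟨S, hzS, hSz⟩ (fun g hg => h.iso g z hz hz1 hg) ?_
  intro g hg hne
  have h1 : g * z * g⁻¹ ∈ normalizer (A : Set G) := h.mem_of_commute hz hz1 hg.eq.symm
  have h2 := h.iso g z hz hz1 h1
  have h3 : g * z * g⁻¹ ∈ A := conj_mem h2 hz
  have h4 : z * (g * z * g⁻¹) ≠ 1 := by
    intro e
    apply hne
    rw [(eq_inv_of_mul_eq_one_right e : g * z * g⁻¹ = z⁻¹), inv_eq_self_of_orderOf hz2]
  intro x hx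
  rw [mem_centralizer_singleton_iff] at hx
  exact h.mem_of_commute (mul_mem hz h3) h4 hx

/-- All involutions of `N(A)` lie in `A`. -/
theorem mem_of_involution [Finite G] (h : Iso A) {H : Subgroup G} (hH : IsStronglyEmbedded H)
    {t : G} (ht : t ∈ normalizer (A : Set G)) (ht2 : orderOf t = 2) : t ∈ A := by
  obtain ⟨z, hz, -, -, hz2, -, -⟩ := h.invs
  obtain ⟨g, hg⟩ := isConj_iff.mp (isConj_of_involutions hH z t hz2 ht2)
  have h1 := h.iso g z hz (ne_one_of_two hz2) (by rw [hg]; exact ht)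
  rw [← hg]
  exact conj_mem h1 hz

theorem stronglyEmbedded [Finite G] (h : Iso A) (hM : normalizer (A : Set G) ≠ ⊤)
    (hinv : ∀ t ∈ normalizer (A : Set G), orderOf t = 2 → t ∈ A) :
    IsStronglyEmbedded (normalizer (A : Set G)) := by
  refine ⟨hM, ?_, ?_⟩
  · obtain ⟨z, hz, -, -, hz2, -, -⟩ := h.invs
    rw [even_iff_two_dvd, ← hz2]
    have := orderOf_dvd_natCard (⟨z, le_normalizer hz⟩ : normalizer (A : Set G))
    rwa [Subgroup.orderOf_mk] at this
  · intro g hg
    by_contra hodd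
    rw [Nat.not_odd_iff_even, even_iff_two_dvd] at hodd
    obtain ⟨⟨t, htmem⟩, ht⟩ := exists_prime_orderOf_dvd_card' 2 hodd
    rw [Subgroup.orderOf_mk] at ht
    have htA := hinv t htmem.1 ht
    obtain ⟨u, huM, hut⟩ := htmem.2
    have hut' : g * u * g⁻¹ = t := hut
    have h1 : g⁻¹ * t * g⁻¹⁻¹ ∈ normalizer (A : Set G) := by
      have : g⁻¹ * t * g⁻¹⁻¹ = u := by rw [← hut']; group
      rw [this]; exact huM
    have h2 := h.iso g⁻¹ t htA (ne_one_of_two ht) h1
    exact hg (by simpa using inv_mem h2)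

/-- The group is not abelian. -/
theorem not_comm (hM : normalizer (A : Set G) ≠ ⊤) : ∃ a b : G, a * b ≠ b * a := by
  by_contra hcon
  push Not at hcon
  apply hM
  rw [Subgroup.eq_top_iff']
  intro g
  rw [mem_normalizer_iff]
  intro a
  rw [hcon g a, mul_inv_cancel_right]

end Cfsg.Agent.TIAbelian.IsolatedEmbedded
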