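import Mathlib
import Cfsg.Prelude.Def_Classical
import Cfsg.Agent.LieClassical.SUBasic
import Cfsg.Agent.LieClassical.HermBasic
import Cfsg.Agent.LieExceptional.PSUThreeWitness

/-!
# A configuration in `PSU₃(q)`, `q ≥ 4` even

An elementary abelian subgroup `E₀` of order `q`, an element `w ≠ 1` of odd order centralizing it, and an
involution `t` commuting with `w` but not with `E₀`.
-/

set_option autoImplicit false

namespace Cfsg.Agent.TIAbelian.IsolatedPSU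

open Matrix
open Cfsg.Agent.LieClassical.SUBasic

variable {F : Type*} [Field F]

def blkMat (a b c d : F) : Matrix (Fin 3) (Fin 3) F := !![a, b, 0; c, d, 0; 0, 0, 1]

theorem det_blkMat (a b c d : F) : (blkMat a b c d).det = a * d - b * c := by
  simp [blkMat, Matrix.det_fin_three]

theorem blkMat_mul (a b c d a' b' c' d' : F) : blkMat a b c d * blkMat a' b' c' d' =
    blkMat (a * a' + b * c') (a * b' + b * d') (c * a' + d * c') (c * b' + d * d') := by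
  ext i j
  fin_cases i <;> fin_cases j <;> simp [blkMat, Matrix.mul_apply, Fin.sum_univ_three]

theorem blkMat_one : blkMat (1 : F) 0 0 1 = 1 := by
  ext i j
  fin_cases i <;> fin_cases j <;> simp [blkMat]

theorem diagonal_mul_blkMat (l m a b c d : F) :
    Matrix.diagonal ![l, l, m] * blkMat a b c d = blkMat a b c d * Matrix.diagonal ![l, l, m] := by
  ext i j
  rw [Matrix.mul_diagonal, Matrix.diagonal_mul]
  fin_cases i <;> fin_cases j <;> simp [blkMat, mul_comm]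

theorem blk_mem [Fintype F] {q : ℕ} (hF : Fintype.card F = q ^ 2) {a b c d : F}
    (hdet : (blkMat a b c d).det = 1) (h1 : a * a ^ q + c * c ^ q = 1)
    (h2 : b * b ^ q + d * d ^ q = 1) (h3 : a * b ^ q + c * d ^ q = 0)
    (h4 : b * a ^ q + d * c ^ q = 0) :
    (⟨blkMat a b c d, hdet⟩ : SpecialLinearGroup (Fin 3) F) ∈ Cfsg.SU 3 F q := by
  refine (mem_SU_iff _).2 ?_
  intro u v
  rw [hermForm_apply, hermForm_apply, Fin.sum_univ_three, Fin.sum_univ_three]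
  have e0 : ∀ u : Fin 3 → F, (blkMat a b c d *ᵥ u) 0 = a * u 0 + b * u 1 := by
    intro u; simp [blkMat, Matrix.mulVec, dotProduct, Fin.sum_univ_three]
  have e1 : ∀ u : Fin 3 → F, (blkMat a b c d *ᵥ u) 1 = c * u 0 + d * u 1 := by
    intro u; simp [blkMat, Matrix.mulVec, dotProduct, Fin.sum_univ_three]
  have e2 : ∀ u : Fin 3 → F, (blkMat a b c d *ᵥ u) 2 = u 2 := by
    intro u; simp [blkMat, Matrix.mulVec, dotProduct, Fin.sum_univ_three]
  show (blkMat a b c d *ᵥ u) 0 * (blkMat a b c d *ᵥ v) 0 ^ q +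
    (blkMat a b c d *ᵥ u) 1 * (blkMat a b c d *ᵥ v) 1 ^ q +
    (blkMat a b c d *ᵥ u) 2 * (blkMat a b c d *ᵥ v) 2 ^ q = _
  rw [e0, e0, e1, e1, e2, e2, Cfsg.Agent.LieClassical.HermBasic.add_pow_q hF,
    Cfsg.Agent.LieClassical.HermBasic.add_pow_q hF, mul_pow, mul_pow, mul_pow, mul_pow]
  linear_combination (u 0 * v 0 ^ q) * h1 + (u 1 * v 1 ^ q) * h2 + (u 0 * v 1 ^ q) * h3 +
    (u 1 * v 0 ^ q) * h4

/-- The fixed field of `x ↦ x ^ q` as additive subgroup. -/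
def fixAdd [Fintype F] {q : ℕ} (hF : Fintype.card F = q ^ 2) : AddSubgroup F where
  carrier := {x | x ^ q = x}
  add_mem' := by
    intro a b ha hb
    show (a + b) ^ q = a + b
    rw [Cfsg.Agent.LieClassical.HermBasic.add_pow_q hF, show a ^ q = a from ha,
      show b ^ q = b from hb]
  zero_mem' := Cfsg.Agent.LieClassical.HermBasic.zero_pow_q hF
  neg_mem' := by
    intro a ha
    show (-a) ^ q = -a
    rw [Cfsg.Agent.LieClassical.HermBasic.neg_pow_q hF, show a ^ q = a from ha]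

theorem card_fixAdd [Fintype F] {q : ℕ} (hF : Fintype.card F = q ^ 2) :
    Nat.card (fixAdd hF) = q := by
  have h6 : Nat.card (fixAdd hF) = Nat.card {x : F // x ^ q = x} := rfl
  rw [h6]
  exact Cfsg.Agent.LieClassical.HermBasic.card_fixed hF

/-- The elements of `E`. -/
def eSU [Fintype F] {q : ℕ} (hF : Fintype.card F = q ^ 2) (h2 : (2 : F) = 0) :
    Multiplicative (fixAdd hF) →* Cfsg.SU 3 F q where
  toFun b := ⟨⟨blkMat (1 + (b.toAdd : F)) b.toAdd b.toAdd (1 + b.toAdd), by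
      rw [det_blkMat]
      linear_combination (b.toAdd : F) * h2⟩, by
    have hb : (b.toAdd : F) ^ q = b.toAdd := b.toAdd.2
    have hb1 : (1 + (b.toAdd : F)) ^ q = 1 + b.toAdd := by
      rw [Cfsg.Agent.LieClassical.HermBasic.add_pow_q hF, one_pow, hb]
    apply blk_mem hF
    · rw [hb, hb1]; linear_combination (b.toAdd + (b.toAdd : F) ^ 2) * h2
    · rw [hb, hb1]; linear_combination (b.toAdd + (b.toAdd : F) ^ 2) * h2
    · rw [hb, hb1]; linear_combination (b.toAdd + (b.toAdd : F) ^ 2) * h2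
    · rw [hb, hb1]; linear_combination (b.toAdd + (b.toAdd : F) ^ 2) * h2⟩
  map_one' := by
    apply Subtype.ext
    apply Subtype.ext
    show blkMat (1 + 0) 0 0 (1 + 0) = 1
    rw [add_zero, blkMat_one]
  map_mul' := by
    intro b c
    apply Subtype.ext
    apply Subtype.ext
    show blkMat (1 + ((b.toAdd : F) + c.toAdd)) (b.toAdd + c.toAdd) (b.toAdd + c.toAdd)
      (1 + (b.toAdd + c.toAdd)) = blkMat (1 + (b.toAdd : F)) b.toAdd b.toAdd (1 + b.toAdd) *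
      blkMat (1 + (c.toAdd : F)) c.toAdd c.toAdd (1 + c.toAdd)
    rw [blkMat_mul]
    congr 1
    · linear_combination (-(b.toAdd : F) * c.toAdd) * h2
    · linear_combination (-(b.toAdd : F) * c.toAdd) * h2
    · linear_combination (-(b.toAdd : F) * c.toAdd) * h2
    · linear_combination (-(b.toAdd : F) * c.toAdd) * h2

theorem eSU_val [Fintype F] {q : ℕ} (hF : Fintype.card F = q ^ 2) (h2 : (2 : F) = 0)
    (b : Multiplicative (fixAdd hF)) :
    (eSU hF h2 b).1.1 = blkMat (1 + (b.toAdd : F)) b.toAdd b.toAdd (1 + b.toAdd) := rfl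

/-- The element `w`. -/
def wSU (q : ℕ) (l : F) (hl0 : l ≠ 0) (hl1 : l ^ (q + 1) = 1) : Cfsg.SU 3 F q :=
  suDiag q ![l, l, (l ^ 2)⁻¹]
    (by
      rw [Fin.prod_univ_three]
      simp
      field_simp)
    (by
      intro i
      fin_cases i
      · exact hl1
      · exact hl1
      · show ((l ^ 2)⁻¹) ^ (q + 1) = 1
        rw [inv_pow, ← pow_mul, mul_comm, pow_mul, hl1, one_pow, inv_one])

theorem wSU_val (q : ℕ) (l : F) (hl0 : l ≠ 0) (hl1 : l ^ (q + 1) = 1) :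
    (wSU q l hl0 hl1).1.1 = Matrix.diagonal ![l, l, (l ^ 2)⁻¹] := rfl

theorem wSU_pow (q : ℕ) (l : F) (hl0 : l ≠ 0) (hl1 : l ^ (q + 1) = 1) :
    (wSU q l hl0 hl1) ^ (q + 1) = 1 := by
  apply Subtype.ext
  apply Subtype.ext
  show (Matrix.diagonal ![l, l, (l ^ 2)⁻¹]) ^ (q + 1) = 1
  rw [Matrix.diagonal_pow]
  have h6 : ((l ^ 2)⁻¹) ^ (q + 1) = 1 := by
    rw [inv_pow, ← pow_mul, mul_comm, pow_mul, hl1, one_pow, inv_one]
  have h7 : (![l, l, (l ^ 2)⁻¹] : Fin 3 → F) ^ (q + 1) = fun _ => 1 := by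
    funext i
    fin_cases i
    · exact hl1
    · exact hl1
    · exact h6
  rw [h7]
  exact Matrix.diagonal_one

/-- The involution `t`. -/
def tSU [Fintype F] {q : ℕ} (hF : Fintype.card F = q ^ 2) (hq0 : q ≠ 0) (h2 : (2 : F) = 0)
    (l : F) (hl0 : l ≠ 0) (hl1 : l ^ (q + 1) = 1) : Cfsg.SU 3 F q :=
  ⟨⟨blkMat 0 l l⁻¹ 0, by
    rw [det_blkMat, mul_inv_cancel₀ hl0]
    linear_combination -h2⟩, by
    have hll : l * l ^ q = 1 := by rw [← pow_succ', hl1]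
    have hliq : l⁻¹ * l⁻¹ ^ q = 1 := by rw [inv_pow, ← mul_inv, hll, inv_one]
    apply blk_mem hF
    · rw [hliq]; ring
    · rw [hll]; ring
    · rw [zero_pow hq0]; ring
    · rw [zero_pow hq0]; ring⟩

theorem tSU_val [Fintype F] {q : ℕ} (hF : Fintype.card F = q ^ 2) (hq0 : q ≠ 0) (h2 : (2 : F) = 0)
    (l : F) (hl0 : l ≠ 0) (hl1 : l ^ (q + 1) = 1) :
    (tSU hF hq0 h2 l hl0 hl1).1.1 = blkMat 0 l l⁻¹ 0 := rfl

theorem tSU_mul_self [Fintype F] {q : ℕ} (hF : Fintype.card F = q ^ 2) (hq0 : q ≠ 0)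
    (h2 : (2 : F) = 0) (l : F) (hl0 : l ≠ 0) (hl1 : l ^ (q + 1) = 1) :
    tSU hF hq0 h2 l hl0 hl1 * tSU hF hq0 h2 l hl0 hl1 = 1 := by
  apply Subtype.ext
  apply Subtype.ext
  show blkMat 0 l l⁻¹ 0 * blkMat 0 l l⁻¹ 0 = 1
  rw [blkMat_mul, ← blkMat_one]
  congr 1 <;> simp [hl0]

theorem wSU_mul_eSU [Fintype F] {q : ℕ} (hF : Fintype.card F = q ^ 2) (h2 : (2 : F) = 0)
    (l : F) (hl0 : l ≠ 0) (hl1 : l ^ (q + 1) = 1) (b : Multiplicative (fixAdd hF)) :
    wSU q l hl0 hl1 * eSU hF h2 b = eSU hF h2 b * wSU q l hl0 hl1 := by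
  apply Subtype.ext
  apply Subtype.ext
  exact diagonal_mul_blkMat _ _ _ _ _ _

theorem wSU_mul_tSU [Fintype F] {q : ℕ} (hF : Fintype.card F = q ^ 2) (hq0 : q ≠ 0)
    (h2 : (2 : F) = 0) (l : F) (hl0 : l ≠ 0) (hl1 : l ^ (q + 1) = 1) :
    wSU q l hl0 hl1 * tSU hF hq0 h2 l hl0 hl1 = tSU hF hq0 h2 l hl0 hl1 * wSU q l hl0 hl1 := by
  apply Subtype.ext
  apply Subtype.ext
  exact diagonal_mul_blkMat _ _ _ _ _ _

/-- The projection. -/
def pr (F : Type*) [Field F] (q : ℕ) : Cfsg.SU 3 F q →* Cfsg.PSU 3 F q :=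
  QuotientGroup.mk' (Subgroup.center (Cfsg.SU 3 F q))

theorem pr_eq_one [Fintype F] {q : ℕ} (hF : Fintype.card F = q ^ 2) {x : Cfsg.SU 3 F q}
    (hx : pr F q x = 1) : ∃ c : F, x.1.1 = Matrix.diagonal (fun _ => c) := by
  have h1 : x ∈ Subgroup.center (Cfsg.SU 3 F q) := (QuotientGroup.eq_one_iff x).mp hx
  obtain ⟨c, hcn, hcq, hc⟩ := (mem_center_SU_iff hF le_rfl x).mp h1
  exact ⟨c, by rw [hc]; rfl⟩

theorem pr_eSU_injective [Fintype F] {q : ℕ} (hF : Fintype.card F = q ^ 2) (h2 : (2 : F) = 0) :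
    Function.Injective ((pr F q).comp (eSU hF h2)) := by
  rw [injective_iff_map_eq_one]
  intro b hb
  obtain ⟨c, hc⟩ := pr_eq_one hF hb
  rw [eSU_val] at hc
  have h01 := congrFun (congrFun hc 0) 1
  have h5 : (b.toAdd : F) = 0 := by simpa [blkMat] using h01
  have h6 : b.toAdd = 0 := Subtype.ext h5
  exact h6

theorem pr_wSU_ne [Fintype F] {q : ℕ} (hF : Fintype.card F = q ^ 2) (l : F) (hl0 : l ≠ 0)
    (hl1 : l ^ (q + 1) = 1) (hl3 : l ^ 3 ≠ 1) : pr F q (wSU q l hl0 hl1) ≠ 1 := by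
  intro h5
  obtain ⟨c, hc⟩ := pr_eq_one hF h5
  rw [wSU_val] at hc
  have h00 := congrFun (congrFun hc 0) 0
  have h22 := congrFun (congrFun hc 2) 2
  simp only [Matrix.diagonal_apply_eq] at h00 h22
  apply hl3
  have h6 : l = (l ^ 2)⁻¹ := h00.trans h22.symm
  calc l ^ 3 = l ^ 2 * l := by ring
    _ = l ^ 2 * (l ^ 2)⁻¹ := by rw [← h6]
    _ = 1 := mul_inv_cancel₀ (pow_ne_zero 2 hl0)

theorem not_comm [Fintype F] {q : ℕ} (hF : Fintype.card F = q ^ 2) (hq0 : q ≠ 0)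
    (h2 : (2 : F) = 0) (l : F) (hl0 : l ≠ 0) (hl1 : l ^ (q + 1) = 1) (hl3 : l ^ 3 ≠ 1)
    {e1 : Cfsg.SU 3 F q} (he1 : e1.1.1 = blkMat (1 + 1) 1 1 (1 + 1)) :
    pr F q e1 * pr F q (tSU hF hq0 h2 l hl0 hl1) ≠ pr F q (tSU hF hq0 h2 l hl0 hl1) * pr F q e1 := by
  intro h5
  rw [← map_mul, ← map_mul] at h5
  have h6 : pr F q ((tSU hF hq0 h2 l hl0 hl1 * e1)⁻¹ * (e1 * tSU hF hq0 h2 l hl0 hl1)) = 1 := by
    rw [map_mul, h5, ← map_mul, inv_mul_cancel, map_one]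
  obtain ⟨c, hc⟩ := pr_eq_one hF h6
  have h7 : e1.1.1 * (tSU hF hq0 h2 l hl0 hl1).1.1 =
      (tSU hF hq0 h2 l hl0 hl1).1.1 * e1.1.1 * Matrix.diagonal (fun _ => c) := by
    rw [← hc]
    have h8 : e1 * tSU hF hq0 h2 l hl0 hl1 = (tSU hF hq0 h2 l hl0 hl1 * e1) *
      ((tSU hF hq0 h2 l hl0 hl1 * e1)⁻¹ * (e1 * tSU hF hq0 h2 l hl0 hl1)) := by group
    exact congrArg (fun x : Cfsg.SU 3 F q => x.1.1) h8
  rw [he1, tSU_val, blkMat_mul, blkMat_mul] at h7
  have h22 := congrFun (congrFun h7 2) 2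
  have h00 := congrFun (congrFun h7 0) 0
  rw [Matrix.mul_diagonal] at h22 h00
  have hc1 : c = 1 := by simpa [blkMat, eq_comm] using h22
  have h8 : l⁻¹ = l := by
    simpa [blkMat, hc1] using h00
  have h9 : l ^ 2 = 1 := by
    rw [pow_two]
    nth_rewrite 1 [← h8]
    exact inv_mul_cancel₀ hl0
  have h10 : (l - 1) ^ 2 = 0 := by linear_combination h9 + (1 - l) * h2
  have h11 : l = 1 := by
    have := pow_eq_zero_iff (by norm_num) |>.mp h10
    linear_combination this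
  apply hl3
  rw [h11, one_pow]

theorem exists_config (F : Type*) [Field F] [Fintype F] {q : ℕ} (hF : Fintype.card F = q ^ 2)
    (hq : Even q) (h4 : 4 ≤ q) :
    ∃ (E : Subgroup (Cfsg.PSU 3 F q)) (w t : Cfsg.PSU 3 F q), Nat.card E = q ∧
      (∀ x ∈ E, x * x = 1) ∧ w ≠ 1 ∧ w ^ (q + 1) = 1 ∧ (∀ x ∈ E, w * x = x * w) ∧ t * t = 1 ∧
      w * t = t * w ∧ ∃ x ∈ E, x * t ≠ t * x := by
  obtain ⟨n, hn, hqn⟩ := Cfsg.Agent.LieExceptional.PSUThreeWitness.exists_pow_two hF hq h4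
  obtain ⟨l, hl1, hl3⟩ := Cfsg.Agent.LieExceptional.PSUThreeWitness.exists_lam hF h4
  have hF' : Nat.card F = (2 ^ n) ^ 2 := by rw [Nat.card_eq_fintype_card, hF, hqn]
  have hch : CharP F 2 := Cfsg.Agent.LieRecognition.PSUThreeSylow.charP_two_of_card hF'
  have h2 : (2 : F) = 0 := by exact_mod_cast CharP.cast_eq_zero F 2
  have hl0 : l ≠ 0 := by
    rintro rfl
    simp at hl1
  have hq0 : q ≠ 0 := by omega
  have hone : (1 : F) ∈ fixAdd hF := one_pow q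
  refine ⟨((pr F q).comp (eSU hF h2)).range, pr F q (wSU q l hl0 hl1),
    pr F q (tSU hF hq0 h2 l hl0 hl1), ?_, ?_, pr_wSU_ne hF l hl0 hl1 hl3, ?_, ?_, ?_, ?_, ?_⟩
  · have h5 : Nat.card ((pr F q).comp (eSU hF h2)).range = Nat.card (Multiplicative (fixAdd hF)) :=
      (Nat.card_congr (MonoidHom.ofInjective (pr_eSU_injective hF h2)).toEquiv).symm
    rw [h5]
    exact card_fixAdd hF
  · rintro _ ⟨b, rfl⟩
    rw [← map_mul]
    have h5 : b * b = 1 := by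
      have h6 : b.toAdd + b.toAdd = 0 := by
        apply Subtype.ext
        show (b.toAdd : F) + b.toAdd = 0
        linear_combination (b.toAdd : F) * h2
      exact h6
    rw [h5, map_one]
  · rw [← map_pow, wSU_pow, map_one]
  · rintro _ ⟨b, rfl⟩
    rw [MonoidHom.comp_apply, ← map_mul, ← map_mul, wSU_mul_eSU]
  · rw [← map_mul, tSU_mul_self, map_one]
  · rw [← map_mul, ← map_mul, wSU_mul_tSU]
  · exact ⟨pr F q (eSU hF h2 (Multiplicative.ofAdd ⟨1, hone⟩)), ⟨_, rfl⟩,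
      not_comm hF hq0 h2 l hl0 hl1 hl3 (eSU_val hF h2 _)⟩

end Cfsg.Agent.TIAbelian.IsolatedPSU
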