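import Mathlib
import Cfsg.Agent.S1225
import Cfsg.Agent.S1167
import Cfsg.Agent.TIAbelian.IsolatedCount

/-!
# Isolated abelian 2-subgroups: the Zassenhaus case
-/

set_option autoImplicit false

namespace Cfsg.Agent.TIAbelian.IsolatedZassenhaus

open Subgroup Cfsg
open Cfsg.Agent.TwoFusion.StronglyEmbeddedBasic
open Cfsg.Agent.TIAbelian.IsolatedBasic
open Cfsg.Agent.TIAbelian.IsolatedCount

variable {G : Type*} [Group G] [Finite G] {A : Subgroup G}

local notation "𝓜" => normalizer (A : Set G)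

/-- Hypotheses: `A` is a Sylow 2-subgroup, the number of points is `|A| + 1`, and
`|N(A)| = |A| (|Ω₁(A)| - 1)`. -/
structure Hyp (A : Subgroup G) (h : Iso A) (S : Sylow 2 G) : Prop where
  ne : normalizer (A : Set G) ≠ ⊤
  se : IsStronglyEmbedded (normalizer (A : Set G))
  inv : ∀ t ∈ normalizer (A : Set G), orderOf t = 2 → t ∈ A
  syl : (S : Subgroup G) = A
  idx : (normalizer (A : Set G)).index = Nat.card (S : Subgroup G) + 1
  card : Nat.card (normalizer (A : Set G)) = Nat.card (S : Subgroup G) * (Nat.card (invSub h) - 1)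

variable {h : Iso A} {S : Sylow 2 G}

theorem Hyp.le (H : Hyp A h S) : (S : Subgroup G) ≤ normalizer (A : Set G) := by
  rw [H.syl]; exact le_normalizer

theorem Hyp.pretransitive (H : Hyp A h S) {a b c d : G ⧸ normalizer (A : Set G)} (hab : a ≠ b)
    (hcd : c ≠ d) : ∃ g : G, g • a = c ∧ g • b = d := by
  obtain ⟨g1, h1⟩ := MulAction.exists_smul_eq G a ((1 : G) : G ⧸ normalizer (A : Set G))
  obtain ⟨g2, h2⟩ := MulAction.exists_smul_eq G c ((1 : G) : G ⧸ normalizer (A : Set G))
  have hb : g1 • b ≠ ((1 : G) : G ⧸ normalizer (A : Set G)) := by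
    rw [← h1]
    intro h
    exact hab (smul_left_cancel g1 h).symm
  have hd : g2 • d ≠ ((1 : G) : G ⧸ normalizer (A : Set G)) := by
    rw [← h2]
    intro h
    exact hcd (smul_left_cancel g2 h).symm
  obtain ⟨s, hs, hsb⟩ := IsolatedCount.exists_smul_eq H.se H.le H.idx hb hd
  refine ⟨g2⁻¹ * s * g1, ?_, ?_⟩
  · rw [mul_smul, mul_smul, h1, inv_smul_eq_iff, h2]
    exact (smul_one_eq_iff s).mpr (H.le hs)
  · rw [mul_smul, mul_smul, hsb, inv_smul_smul]

/-- An element of `N(A)` fixing a second point and commuting with an involution of `A` is trivial. -/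
theorem Hyp.eq_one (H : Hyp A h S) {u : G} (hu : orderOf u = 2)
    (huM : u ∉ normalizer (A : Set G)) {g : G} (hg : g ∈ normalizer (A : Set G))
    (hgu : g • ((u : G) : G ⧸ normalizer (A : Set G)) = ((u : G) : G ⧸ normalizer (A : Set G)))
    {e : G} (he : e ∈ A) (he2 : orderOf e = 2) (hge : g * e * g⁻¹ = e) : g = 1 := by
  set M := normalizer (A : Set G) with hMdef
  set x : G ⧸ M := ((u : G) : G ⧸ M) with hx
  have hx1 : x ≠ ((1 : G) : G ⧸ M) := by
    intro e1
    apply huM
    have := QuotientGroup.eq.mp e1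
    rw [mul_one] at this
    simpa using inv_mem this
  -- the two-point stabilizer
  set D : Subgroup M := MulAction.stabilizer M x with hD
  have horb : MulAction.orbit M x = ({((1 : G) : G ⧸ M)} : Set (G ⧸ M))ᶜ := by
    ext y
    constructor
    · rintro ⟨m, rfl⟩
      exact smul_ne_one m.2 hx1
    · intro hy
      obtain ⟨s, hs, hsy⟩ := IsolatedCount.exists_smul_eq H.se H.le H.idx hx1 hy
      exact ⟨⟨s, H.le hs⟩, hsy⟩
  have hDidx : D.index = Nat.card (S : Subgroup G) := by
    have h1 := MulAction.index_stabilizer M x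
    rw [horb, Set.ncard_compl, Set.ncard_singleton] at h1
    rw [hD, h1]
    have h2 : Nat.card (G ⧸ M) = Nat.card (S : Subgroup G) + 1 := H.idx
    omega
  have hDcard : Nat.card D = Nat.card (invSub h) - 1 := by
    have h1 := D.card_mul_index
    rw [hDidx, H.card, mul_comm] at h1
    exact Nat.eq_of_mul_eq_mul_left Nat.card_pos h1
  -- the action of `D` by conjugation
  let instD : MulAction D G :=
    MulAction.compHom G (((MulAut.conj (G := G)).comp M.subtype).comp D.subtype)
  have hsmul : ∀ (m : D) (y : G), m • y = (m : G) * y * (m : G)⁻¹ := fun _ _ => rfl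
  have horb2 : MulAction.orbit D e = (invSub h : Set G) \ {1} := by
    ext y
    constructor
    · rintro ⟨m, rfl⟩
      have h1 : (m : G) * e * (m : G)⁻¹ ∈ A := conj_mem (m : M).2 he
      have h2 : orderOf ((m : G) * e * (m : G)⁻¹) = 2 := (orderOf_conj _ _).trans he2
      exact ⟨⟨h1, mul_self_of_orderOf h2⟩, ne_one_of_two h2⟩
    · rintro ⟨⟨hy, hy2⟩, hy1⟩
      have hy2' := orderOf_eq_two_of_mul_self hy2 hy1
      obtain ⟨⟨d, hd, hdy⟩, -⟩ := Cfsg.Agent.S1225.result M H.se u hu huM e y he2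
        (le_normalizer he) hy2' (le_normalizer hy)
      obtain ⟨k, hk, hkd⟩ := hd.2
      have hkd' : u * k * u⁻¹ = d := hkd
      have hdx : d • x = x := by
        show ((d * u : G) : G ⧸ M) = ((u : G) : G ⧸ M)
        rw [eq_comm, QuotientGroup.eq]
        have : u⁻¹ * (d * u) = k := by rw [← hkd']; group
        rw [this]; exact hk
      exact ⟨⟨⟨d, hd.1⟩, hdx⟩, hdy⟩
  have h1 := MulAction.index_stabilizer D e
  rw [horb2, Set.ncard_sdiff_singleton_of_mem (one_mem (invSub h))] at h1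
  have h2 : (invSub h : Set G).ncard = Nat.card (invSub h) := rfl
  rw [h2, ← hDcard] at h1
  have h3 := (MulAction.stabilizer D e).card_mul_index
  rw [h1] at h3
  have h4 : Nat.card (MulAction.stabilizer D e) = 1 := by
    have : 0 < Nat.card D := Nat.card_pos
    nlinarith
  rw [Subgroup.card_eq_one] at h4
  have h5 : (⟨⟨g, hg⟩, hgu⟩ : D) ∈ MulAction.stabilizer D e := hge
  rw [h4, mem_bot] at h5
  exact congrArg (fun y : D => ((y : M) : G)) h5

theorem Hyp.three (H : Hyp A h S) (g : G) (a b c : G ⧸ normalizer (A : Set G)) (hab : a ≠ b)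
    (hbc : b ≠ c) (hac : a ≠ c) (ha : g • a = a) (hb : g • b = b) (hc : g • c = c) : g = 1 := by
  obtain ⟨u, huM, hu⟩ := exists_involution_notMem H.se
  have hx1 : ((u : G) : G ⧸ 𝓜) ≠ ((1 : G) : G ⧸ 𝓜) := by
    intro e1
    apply huM
    have := QuotientGroup.eq.mp e1
    rw [mul_one] at this
    simpa using inv_mem this
  obtain ⟨g1, h1a, h1b⟩ := H.pretransitive hab hx1.symm
  set y := g1 * g * g1⁻¹ with hy
  have hy1 : y • ((1 : G) : G ⧸ 𝓜) = ((1 : G) : G ⧸ 𝓜) := by
    rw [hy, mul_smul, mul_smul, ← h1a, inv_smul_smul, ha]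
  have hyu : y • ((u : G) : G ⧸ 𝓜) = ((u : G) : G ⧸ 𝓜) := by
    rw [hy, mul_smul, mul_smul, ← h1b, inv_smul_smul, hb]
  set z := g1 • c with hz
  have hyz : y • z = z := by
    rw [hy, hz, mul_smul, mul_smul, inv_smul_smul, hc]
  have hz1 : z ≠ ((1 : G) : G ⧸ 𝓜) := by
    rw [hz, ← h1a]
    intro e
    exact hac (smul_left_cancel g1 e).symm
  have hzu : z ≠ ((u : G) : G ⧸ 𝓜) := by
    rw [hz, ← h1b]
    intro e
    exact hbc (smul_left_cancel g1 e).symm
  have hyM : y ∈ 𝓜 := (smul_one_eq_iff y).mp hy1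
  obtain ⟨s, hs, hsz⟩ := IsolatedCount.exists_smul_eq H.se H.le H.idx hx1 hz1
  have hsA : s ∈ A := by rw [← H.syl]; exact hs
  have hs1 : s ≠ 1 := by
    rintro rfl
    rw [one_smul] at hsz
    exact hzu hsz.symm
  have hcA : s⁻¹ * (y * s * y⁻¹) ∈ A := mul_mem (inv_mem hsA) (conj_mem hyM hsA)
  have hcx : (s⁻¹ * (y * s * y⁻¹)) • ((u : G) : G ⧸ 𝓜) = ((u : G) : G ⧸ 𝓜) := by
    have h2 : y⁻¹ • ((u : G) : G ⧸ 𝓜) = ((u : G) : G ⧸ 𝓜) := by
      rw [inv_smul_eq_iff, hyu]
    rw [mul_smul, mul_smul, mul_smul, h2, hsz, hyz, ← hsz, inv_smul_smul]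
  have hc1 := eq_one_of_smul_eq H.se H.le (show s⁻¹ * (y * s * y⁻¹) ∈ (S : Subgroup G) by
    rw [H.syl]; exact hcA) huM hcx
  have hys : y * s * y⁻¹ = s := by
    rw [inv_mul_eq_one] at hc1
    exact hc1.symm
  -- an involution which is a power of `s`
  have h2s : 2 ∣ orderOf s := by
    have := S.isPGroup'.dvd_orderOf (g := ⟨s, hs⟩) (fun h => hs1 (congrArg Subtype.val h))
    rwa [Subgroup.orderOf_mk] at this
  obtain ⟨k, hk⟩ := h2s
  have hk0 : 0 < k := by
    have := orderOf_pos s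
    omega
  have he2 : orderOf (s ^ k) = 2 := by
    rw [orderOf_pow_of_dvd (by omega) (by rw [hk]; exact dvd_mul_left _ _), hk]
    exact Nat.mul_div_cancel _ hk0
  have hye : y * s ^ k * y⁻¹ = s ^ k := by
    rw [← conj_pow, hys]
  have hy1' := H.eq_one hu huM hyM hyu (pow_mem hsA k) he2 hye
  have : g = g1⁻¹ * y * g1 := by rw [hy]; group
  rw [this, hy1']; group

theorem Hyp.zassenhaus [IsSimpleGroup G] (H : Hyp A h S) :
    IsZassenhausGroup G (G ⧸ normalizer (A : Set G)) := by
  obtain ⟨u, huM, hu⟩ := exists_involution_notMem H.se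
  have hx1 : ((u : G) : G ⧸ 𝓜) ≠ ((1 : G) : G ⧸ 𝓜) := by
    intro e1
    apply huM
    have := QuotientGroup.eq.mp e1
    rw [mul_one] at this
    simpa using inv_mem this
  refine ⟨?_, ?_, ?_, ?_, ?_⟩
  · -- faithful
    have hker : (MulAction.toPermHom G (G ⧸ 𝓜)).ker = ⊥ := by
      rcases IsSimpleGroup.eq_bot_or_eq_top_of_normal (MulAction.toPermHom G (G ⧸ 𝓜)).ker
        inferInstance with h1 | h1
      · exact h1
      · exfalso
        apply H.ne
        rw [Subgroup.eq_top_iff']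
        intro g
        have h2 : g ∈ (MulAction.toPermHom G (G ⧸ 𝓜)).ker := by rw [h1]; exact mem_top g
        have h3 := congrArg (fun f : Equiv.Perm (G ⧸ 𝓜) => f ((1 : G) : G ⧸ 𝓜))
          (MonoidHom.mem_ker.mp h2)
        exact (smul_one_eq_iff g).mp h3
    constructor
    intro g1 g2 hg
    have h1 : g2⁻¹ * g1 ∈ (MulAction.toPermHom G (G ⧸ 𝓜)).ker := by
      rw [MonoidHom.mem_ker]
      ext x
      show (g2⁻¹ * g1) • x = x
      rw [mul_smul, hg x, inv_smul_smul]
    rw [hker, mem_bot, inv_mul_eq_one] at h1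
    exact h1.symm
  · rw [MulAction.is_two_pretransitive_iff]
    intro a b c d hab hcd
    exact H.pretransitive hab hcd
  · intro g a b c hab hbc hac ha hb hc
    exact H.three g a b c hab hbc hac ha hb hc
  · -- a nontrivial element fixing two points
    have hlt : Nat.card (S : Subgroup G) < Nat.card 𝓜 := by
      rw [H.card]
      obtain ⟨r, hr, hr'⟩ := card_invSub h
      have h3 : 2 ^ 2 ≤ 2 ^ r := Nat.pow_le_pow_right (by norm_num) hr
      have h4 : 0 < Nat.card (S : Subgroup G) := Nat.card_pos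
      rw [hr']
      have h5 : 3 ≤ 2 ^ r - 1 := by omega
      nlinarith
    obtain ⟨m, hm, hmS⟩ : ∃ m ∈ 𝓜, m ∉ (S : Subgroup G) := by
      by_contra hcon
      push Not at hcon
      have : Nat.card 𝓜 ≤ Nat.card (S : Subgroup G) :=
        Nat.le_of_dvd Nat.card_pos (card_dvd_of_le hcon)
      omega
    obtain ⟨s, hs, hsx⟩ := IsolatedCount.exists_smul_eq H.se H.le H.idx hx1 (smul_ne_one hm hx1)
    refine ⟨s⁻¹ * m, ?_, ((1 : G) : G ⧸ 𝓜), ((u : G) : G ⧸ 𝓜), hx1.symm, ?_, ?_⟩
    · intro e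
      apply hmS
      rw [inv_mul_eq_one] at e
      rw [← e]; exact hs
    · exact (smul_one_eq_iff _).mpr (mul_mem (inv_mem (H.le hs)) hm)
    · rw [mul_smul, ← hsx, inv_smul_smul]
  · intro N hN hNt
    have hNtop : N = ⊤ := by
      rcases IsSimpleGroup.eq_bot_or_eq_top_of_normal N hN with h1 | h1
      · exfalso
        obtain ⟨n, hn⟩ := hNt.exists_smul_eq ((1 : G) : G ⧸ 𝓜) ((u : G) : G ⧸ 𝓜)
        have h2 : (n : G) = 1 := mem_bot.mp (h1 ▸ n.2 : (n : G) ∈ (⊥ : Subgroup G))
        have h3 : (n : G) • ((1 : G) : G ⧸ 𝓜) = ((u : G) : G ⧸ 𝓜) := hn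
        rw [h2, one_smul] at h3
        exact hx1 h3.symm
      · exact h1
    refine ⟨((1 : G) : G ⧸ 𝓜), ?_⟩
    intro hbot
    obtain ⟨z, hz, -, -, hz2, -, -⟩ := h.invs
    have hzN : z ∈ N := by rw [hNtop]; exact mem_top z
    have h1 : (⟨z, hzN⟩ : N) ∈ MulAction.stabilizer N ((1 : G) : G ⧸ 𝓜) := by
      show z • ((1 : G) : G ⧸ 𝓜) = ((1 : G) : G ⧸ 𝓜)
      exact (smul_one_eq_iff z).mpr (le_normalizer hz)
    have h2 : (⟨z, hzN⟩ : N) = 1 := by
      have h3 := hbot ▸ h1
      exact mem_bot.mp h3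
    exact ne_one_of_two hz2 (congrArg Subtype.val h2)

/-- The case of a Zassenhaus group of order prime to 3 is impossible. -/
theorem Hyp.false [IsSimpleGroup G] (H : Hyp A h S) (h3 : ¬ 3 ∣ Nat.card G) : False := by
  obtain ⟨v, hvM, hv⟩ := exists_involution_notMem H.se
  have hvv := mul_self_of_orderOf hv
  have hvi := inv_eq_self_of_orderOf hv
  have hst : MulAction.stabilizer G ((1 : G) : G ⧸ normalizer (A : Set G)) =
      normalizer (A : Set G) := MulAction.stabilizer_quotient _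
  obtain ⟨u, ⟨huA, hu1, hvu⟩, -⟩ := Cfsg.Agent.S1167.result
    (Ω := G ⧸ normalizer (A : Set G)) H.zassenhaus
    (a := ((1 : G) : G ⧸ normalizer (A : Set G))) A (by rw [hst]; exact le_normalizer)
    (by rw [hst]; exact fun g hg a ha => conj_mem hg ha)
    (by
      intro c d hc hd
      obtain ⟨s, hs, hsd⟩ := IsolatedCount.exists_smul_eq H.se H.le H.idx hc hd
      refine ⟨⟨s, by rw [← H.syl]; exact hs⟩, hsd, ?_⟩
      rintro ⟨t, ht⟩ htd
      apply Subtype.ext
      show t = s
      have htd' : t • c = d := htd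
      obtain ⟨g, rfl⟩ := QuotientGroup.mk_surjective c
      have hg : g ∉ normalizer (A : Set G) := by
        intro hg
        apply hc
        rw [QuotientGroup.eq, mul_one]
        exact inv_mem hg
      have h5 : (s⁻¹ * t) • (g : G ⧸ normalizer (A : Set G)) =
          (g : G ⧸ normalizer (A : Set G)) := by
        rw [mul_smul, htd', ← hsd, inv_smul_smul]
      have h6 := eq_one_of_smul_eq H.se H.le (mul_mem (inv_mem hs)
        (show t ∈ (S : Subgroup G) by rw [H.syl]; exact ht)) hg h5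
      rw [inv_mul_eq_one] at h6
      exact h6.symm)
    h.two (fun a ha b hb => h.comm a ha b hb) v (ne_one_of_two hv) hvv
    (by
      intro e
      exact hvM ((smul_one_eq_iff v).mp e))
  -- `(v u)³ = v u² v`
  set w := v * u with hw
  have hw3 : w ^ 3 = v * (u * u) * v := by
    calc w ^ 3 = (v * u * v) * (u * v * u) := by rw [hw, pow_succ, pow_two]; group
      _ = (v * u * v) * (v * u * v) := by rw [hvu]
      _ = v * u * (v * v) * u * v := by group
      _ = v * (u * u) * v := by rw [hvv]; group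
  -- `w` is a power of `w³`
  have hcop : Nat.Coprime 3 (orderOf w) := by
    rw [Nat.coprime_comm]
    apply Nat.Coprime.coprime_dvd_left (orderOf_dvd_natCard w)
    rw [Nat.coprime_comm]
    exact (Nat.Prime.coprime_iff_not_dvd Nat.prime_three).mpr h3
  obtain ⟨k, hk⟩ := exists_pow_eq_self_of_coprime hcop
  have h4 : ∀ j : ℕ, (v * (u * u) * v) ^ j = v * (u * u) ^ j * v := by
    intro j
    have h5 := conj_pow (i := j) (a := v) (b := u * u)
    rw [hvi] at h5
    exact h5
  rw [hw3, h4] at hk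
  -- hence `v ∈ A`
  have hvA : v ∈ A := by
    have h5 : u = (u * u) ^ k * v := by
      have h6 : v * (v * (u * u) ^ k * v) = v * (v * u) := by rw [hk, hw]
      calc u = v * v * u := by rw [hvv, one_mul]
        _ = v * (v * u) := by group
        _ = v * (v * (u * u) ^ k * v) := h6.symm
        _ = (v * v) * (u * u) ^ k * v := by group
        _ = (u * u) ^ k * v := by rw [hvv, one_mul]
    have h6 : v = ((u * u) ^ k)⁻¹ * u := eq_inv_mul_of_mul_eq h5.symm
    rw [h6]
    exact mul_mem (inv_mem (pow_mem (mul_mem huA huA) k)) huA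
  exact hvM (le_normalizer hvA)

end Cfsg.Agent.TIAbelian.IsolatedZassenhaus
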