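import Mathlib
import Cfsg.Agent.Lib.Zsigmondy
import Cfsg.Prelude.Def_Exceptional
import Cfsg.Agent.TIAbelian.IsolatedZassenhaus

/-!
# Isolated abelian 2-subgroups: groups of Suzuki order
-/

set_option autoImplicit false

namespace Cfsg.Agent.TIAbelian.IsolatedSuzuki

open Subgroup Cfsg
open Cfsg.Agent.TwoFusion.StronglyEmbeddedBasic
open Cfsg.Agent.TIAbelian.IsolatedBasic
open Cfsg.Agent.TIAbelian.IsolatedCount

variable {G : Type*} [Group G] {A : Subgroup G}

/-- In a simple group the centralizer of a nontrivial element is proper. -/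
theorem centralizer_ne_top [IsSimpleGroup G] (hM : normalizer (A : Set G) ≠ ⊤) {x : G}
    (hx : x ≠ 1) : centralizer ({x} : Set G) ≠ ⊤ := by
  intro h
  have h1 : x ∈ center G := by
    rw [mem_center_iff]
    intro g
    have h2 : g ∈ centralizer ({x} : Set G) := by rw [h]; exact mem_top g
    exact mem_centralizer_singleton_iff.mp h2
  rcases IsSimpleGroup.eq_bot_or_eq_top_of_normal (center G) inferInstance with h2 | h2
  · rw [h2, mem_bot] at h1
    exact hx h1
  · apply hM
    rw [Subgroup.eq_top_iff']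
    intro g
    rw [mem_normalizer_iff]
    intro a
    have h3 : g ∈ center G := by rw [h2]; exact mem_top g
    rw [← mem_center_iff.mp h3 a, mul_inv_cancel_right]

/-- `x` and `y = g⁻¹ x g` do not both centralize `A` if `g ∉ N(A)`. -/
theorem no_common [Finite G] [IsSimpleGroup G] (h : Iso A) (hM : normalizer (A : Set G) ≠ ⊤)
    (hP : Prop' A) {x g : G} (hx1 : x ≠ 1) (hx : ∀ a ∈ A, x * a * x⁻¹ = a)
    (hg : g ∉ normalizer (A : Set G))
    (hxg : ∀ a ∈ A, (g⁻¹ * x * g) * a * (g⁻¹ * x * g)⁻¹ = a) : False := by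
  have h1 := hP.le h (centralizer_ne_top (A := A) hM hx1) (by
    intro a ha
    rw [mem_centralizer_singleton_iff]
    exact (mul_inv_eq_iff_eq_mul.mp (hx a ha)).symm)
  obtain ⟨z, hz, -, -, hz2, -, -⟩ := h.invs
  apply hg
  refine h.iso g z hz (ne_one_of_two hz2) (h1 ?_)
  rw [mem_centralizer_singleton_iff]
  have h2 := mul_inv_eq_iff_eq_mul.mp (hxg z hz)
  calc g * z * g⁻¹ * x = g * (z * (g⁻¹ * x * g)) * g⁻¹ := by group
    _ = g * ((g⁻¹ * x * g) * z) * g⁻¹ := by rw [h2]
    _ = x * (g * z * g⁻¹) := by group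

theorem coprime_two_pow_sub_one {r : ℕ} (hr : 1 ≤ r) (j : ℕ) :
    Nat.Coprime (2 ^ r - 1) (2 ^ j) := by
  apply Nat.Coprime.pow_right
  rw [Nat.coprime_two_right]
  have h1 : Even (2 ^ r) := by rw [Nat.even_pow]; exact ⟨even_two, by omega⟩
  exact Nat.Even.sub_odd Nat.one_le_two_pow h1 odd_one

theorem suzuki_false [Finite G] [IsSimpleGroup G] (h : Iso A) (hM : normalizer (A : Set G) ≠ ⊤)
    (hP : Prop' A) (hSE : IsStronglyEmbedded (normalizer (A : Set G)))
    (hinv : ∀ t ∈ normalizer (A : Set G), orderOf t = 2 → t ∈ A)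
    {S : Sylow 2 G} (hAS : A ≤ S) (hSM : (S : Subgroup G) ≤ normalizer (A : Set G))
    (hSz : IsSuzuki G) : False := by
  obtain ⟨-, m, hm, hcard⟩ := hSz
  obtain ⟨s, hs⟩ : ∃ s, s = 2 * m + 1 := ⟨_, rfl⟩
  rw [← hs] at hcard
  obtain ⟨q, hq⟩ : ∃ q, q = 2 ^ s := ⟨_, rfl⟩
  rw [← hq] at hcard
  have hq8 : 8 ≤ q := by
    rw [hq]
    calc 8 = 2 ^ 3 := by norm_num
      _ ≤ 2 ^ s := Nat.pow_le_pow_right (by norm_num) (by omega)
  have hq2 : q ^ 2 = 2 ^ (2 * s) := by rw [hq, ← pow_mul, mul_comm]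
  have hqe : Even q := by rw [hq, Nat.even_pow]; exact ⟨even_two, by omega⟩
  have hq1 : Odd (q - 1) := Nat.Even.sub_odd (by omega) hqe odd_one
  have hq2o : Odd (q ^ 2 + 1) := (hqe.pow_of_ne_zero (by norm_num)).add_one
  have hScard : Nat.card (S : Subgroup G) = q ^ 2 := by
    have := card_sylow S (a := 2 * s) (d := 1) (m := (q ^ 2 + 1) * (q - 1)) odd_one
      (hq2o.mul hq1) (by rw [hcard, mul_one, ← hq2]; ring)
    rw [this, ← hq2]
  obtain ⟨k, hk⟩ := card_dvd_of_le hSM
  have hmul := (normalizer (A : Set G)).card_mul_index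
  have hidx1 : 1 < (normalizer (A : Set G)).index := Subgroup.one_lt_index_of_ne_top hM
  have hdvd := card_dvd_index_sub_one hSE hSM
  rw [hScard] at hdvd hk
  obtain ⟨hn, hkq⟩ := arith (s := q ^ 2) (n := (normalizer (A : Set G)).index) (k := k) (d := 1)
    (l := q - 1) (by nlinarith [Nat.sub_le q 1]) (by omega) hidx1 hdvd (by
      rw [hk, hcard] at hmul
      have h1 : q ^ 2 * ((normalizer (A : Set G)).index * k) = q ^ 2 * ((q ^ 2 + 1) * (q - 1)) := by
        rw [← mul_assoc (q ^ 2) (q ^ 2 + 1), ← hmul]; ring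
      rw [mul_one]
      exact Nat.eq_of_mul_eq_mul_left (by positivity) h1)
  rw [mul_one] at hkq
  obtain ⟨r, hr2, hr⟩ := card_invSub h
  have hdvd1 := card_invSub_sub_one_dvd h hM
  rw [hr, hk, hkq] at hdvd1
  have hdvd2 : 2 ^ r - 1 ∣ 2 ^ s - 1 := by
    rw [← hq]
    rw [hq2] at hdvd1
    exact (coprime_two_pow_sub_one (by omega) _).dvd_of_dvd_mul_left hdvd1
  have hrs : r ∣ s := dvd_of_two_pow_sub_one_dvd (by omega) hdvd2
  have hrle : r ≤ s := Nat.le_of_dvd (by omega) hrs
  rcases hrle.lt_or_eq with hlt | heq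
  · -- a primitive prime divisor
    obtain ⟨p, hp, hp1, -, hp2⟩ := Cfsg.Agent.Lib.Zsigmondy.exists_primitive (a := 2) (n := s)
      le_rfl (by omega) (by omega) (by omega)
    have hpne2 : p ≠ 2 := by rintro rfl; exact hp2 dvd_rfl
    have hpq : p ∣ q - 1 := by rw [hq]; exact (hp1 s).mpr dvd_rfl
    have hpM : p ∣ Nat.card (normalizer (A : Set G)) := by
      rw [hk, hkq]; exact hpq.mul_left _
    have := Fact.mk hp
    obtain ⟨⟨x, hxM⟩, hx⟩ := exists_prime_orderOf_dvd_card' p hpM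
    rw [Subgroup.orderOf_mk] at hx
    have hodd : Odd p := hp.odd_of_ne_two hpne2
    have hcent : ∀ y ∈ normalizer (A : Set G), orderOf y = p → ∀ a ∈ A, y * a * y⁻¹ = a := by
      intro y hyM hy
      refine commute_of_odd h hyM (by rw [hy]; exact hodd) ?_
      refine centralizes_of_prime h hr hp hpne2 ?_ hyM hy
      intro j hj hjr hpj
      have := Nat.le_of_dvd hj ((hp1 j).mp hpj)
      omega
    obtain ⟨g, hg, hgx⟩ := exists_conj_mem hp hxM hx (by
      rw [hn, Nat.add_sub_cancel]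
      intro h1
      have h2 := hp.dvd_of_dvd_pow h1
      have h3 : p ∣ 1 := by
        have h4 := (Nat.dvd_sub_iff_right (by omega) h2).mpr hpq
        have : q - (q - 1) = 1 := by omega
        rwa [this] at h4
      exact hp.one_lt.ne' (Nat.dvd_one.mp h3))
    have hx1 : x ≠ 1 := by
      rintro rfl
      rw [orderOf_one] at hx
      exact hp.one_lt.ne hx
    refine no_common h hM hP hx1 (hcent x hxM hx) hg (hcent _ hgx ?_)
    have := orderOf_conj g⁻¹ x
    rw [inv_inv] at this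
    rw [this, hx]
  · -- Zassenhaus group
    subst heq
    have hAcard : q ^ 2 ≤ Nat.card A := by
      have h1 := card_invSub_sq_dvd h hM
      rw [hr, ← hq, ← pow_two] at h1
      exact Nat.le_of_dvd Nat.card_pos h1
    have hSA : (S : Subgroup G) = A := by
      symm
      apply Subgroup.eq_of_le_of_card_ge hAS
      rw [hScard]; exact hAcard
    have H : IsolatedZassenhaus.Hyp A h S := by
      refine ⟨hM, hSE, hinv, hSA, ?_, ?_⟩
      · rw [hn, hScard]
      · rw [hk, hkq, hScard, hr, ← hq]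
    refine H.false ?_
    rw [hcard]
    have hq3 : q % 3 = 2 := by
      rw [hq, hs, pow_succ, pow_mul, Nat.mul_mod, Nat.pow_mod]
      norm_num
    obtain ⟨t, ht⟩ : ∃ t, q = 3 * t + 2 := ⟨q / 3, by omega⟩
    intro h3
    rw [Nat.prime_three.dvd_mul, Nat.prime_three.dvd_mul] at h3
    rcases h3 with (h3 | h3) | h3
    · have := Nat.prime_three.dvd_of_dvd_pow h3
      omega
    · rw [ht] at h3
      have h4 : (3 * t + 2) ^ 2 + 1 = 3 * (3 * t ^ 2 + 4 * t + 1) + 2 := by ring
      rw [h4] at h3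
      omega
    · omega

end Cfsg.Agent.TIAbelian.IsolatedSuzuki
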