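import Mathlib
import Cfsg.Agent.S0280
import Cfsg.Agent.TIAbelian.IsolatedPSU
import Cfsg.Agent.TIAbelian.IsolatedSuzuki
import Cfsg.Agent.TIAbelian.IsolatedEmbedded

/-!
# Isolated abelian 2-subgroups: `PSU₃(q)`
-/

set_option autoImplicit false

namespace Cfsg.Agent.TIAbelian.IsolatedUnitary

open Subgroup Cfsg
open Cfsg.Agent.TwoFusion.StronglyEmbeddedBasic
open Cfsg.Agent.TIAbelian.IsolatedBasic
open Cfsg.Agent.TIAbelian.IsolatedCount
open Cfsg.Agent.TIAbelian.IsolatedEmbedded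
open Cfsg.Agent.TIAbelian.IsolatedSuzuki

variable {G : Type*} [Group G] {A : Subgroup G}

theorem prop_conj [Finite G] (hP : Prop' A) (g : G) :
    Prop' (A.map (MulAut.conj g).toMonoidHom) := by
  intro X hX h2 h4
  obtain ⟨z, ⟨z0, hz0, rfl⟩, w, ⟨w0, hw0, rfl⟩, hz2, hw2, hzw, hzX, hwX⟩ := h2
  obtain ⟨a, ⟨a0, ha0, rfl⟩, ha4, haX⟩ := h4
  have hmem : ∀ x : G, x ∈ X.map (MulAut.conj g⁻¹).toMonoidHom ↔ g * x * g⁻¹ ∈ X := by
    intro x
    constructor
    · rintro ⟨y, hy, rfl⟩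
      have : g * ((MulAut.conj g⁻¹).toMonoidHom y) * g⁻¹ = y := by
        show g * (g⁻¹ * y * g⁻¹⁻¹) * g⁻¹ = y
        group
      rw [this]; exact hy
    · intro hx
      refine ⟨_, hx, ?_⟩
      show g⁻¹ * (g * x * g⁻¹) * g⁻¹⁻¹ = x
      group
  have hY : X.map (MulAut.conj g⁻¹).toMonoidHom ≠ ⊤ := by
    intro h
    apply hX
    rw [Subgroup.eq_top_iff']
    intro x
    have h1 : g⁻¹ * x * g ∈ X.map (MulAut.conj g⁻¹).toMonoidHom := by rw [h]; exact mem_top _
    rw [hmem] at h1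
    have h2 : g * (g⁻¹ * x * g) * g⁻¹ = x := by group
    rwa [h2] at h1
  have hord : ∀ y : G, orderOf ((MulAut.conj g).toMonoidHom y) = orderOf y :=
    fun y => orderOf_conj g y
  have h1 := hP _ hY ⟨z0, hz0, w0, hw0, by rwa [hord] at hz2, by rwa [hord] at hw2,
    fun e => hzw (by rw [e]), (hmem _).mpr hzX, (hmem _).mpr hwX⟩
    ⟨a0, ha0, by rwa [hord] at ha4, (hmem _).mpr haX⟩
  intro x hx
  rw [mem_normalizer_conj]
  apply h1
  rw [hmem]
  have h2 : g * (g⁻¹ * x * g) * g⁻¹ = x := by group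
  rwa [h2]

/-- `PSU₃(q)`: arithmetic. -/
theorem psu_r_le [Finite G] (h : Iso A) (hM : normalizer (A : Set G) ≠ ⊤)
    (hSE : IsStronglyEmbedded (normalizer (A : Set G)))
    {S : Sylow 2 G} (hAS : A ≤ S) (hSM : (S : Subgroup G) ≤ normalizer (A : Set G))
    {F : Type} [Field F] [Fintype F] {q n : ℕ} (hF : Fintype.card F = q ^ 2) (hn : 2 ≤ n)
    (hq : q = 2 ^ n) (e : G ≃* Cfsg.PSU 3 F q) : Nat.card (invSub h) ≤ q := by
  have hcard0 := Cfsg.Agent.S0280.result hF 3 (by norm_num)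
  have hprod : ∏ i ∈ Finset.range 3, (if Even i then q ^ (i + 1) + 1 else q ^ (i + 1) - 1) =
      (q + 1) * (q ^ 2 - 1) * (q ^ 3 + 1) := by
    rw [Finset.prod_range_succ, Finset.prod_range_succ, Finset.prod_range_succ,
      Finset.prod_range_zero]
    simp
  rw [hprod, ← Nat.card_congr e.toEquiv] at hcard0
  have hq4 : 4 ≤ q := by
    rw [hq]
    calc 4 = 2 ^ 2 := by norm_num
      _ ≤ 2 ^ n := Nat.pow_le_pow_right (by norm_num) hn
  obtain ⟨d, hd⟩ : ∃ d, d = Nat.gcd 3 (q + 1) := ⟨_, rfl⟩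
  rw [← hd] at hcard0
  have hcard : Nat.card G * d = q ^ 3 * ((q ^ 2 - 1) * (q ^ 3 + 1)) := by
    have h1 : (q + 1) * (Nat.card G * d) = (q + 1) * (q ^ 3 * ((q ^ 2 - 1) * (q ^ 3 + 1))) := by
      calc (q + 1) * (Nat.card G * d) = d * ((q + 1) * Nat.card G) := by ring
        _ = q ^ (3 * (3 - 1) / 2) * ((q + 1) * (q ^ 2 - 1) * (q ^ 3 + 1)) := hcard0
        _ = q ^ 3 * ((q + 1) * (q ^ 2 - 1) * (q ^ 3 + 1)) := by norm_num
        _ = (q + 1) * (q ^ 3 * ((q ^ 2 - 1) * (q ^ 3 + 1))) := by ring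
    exact Nat.eq_of_mul_eq_mul_left (by omega) h1
  have hdodd : Odd d := by
    have h1 : d ∣ 3 := by rw [hd]; exact Nat.gcd_dvd_left _ _
    exact Odd.of_dvd_nat (by decide) h1
  have hqe : Even q := by rw [hq, Nat.even_pow]; exact ⟨even_two, by omega⟩
  have hq2o : Odd (q ^ 2 - 1) := Nat.Even.sub_odd (Nat.one_le_pow _ _ (by omega))
    (hqe.pow_of_ne_zero (by norm_num)) odd_one
  have hq3o : Odd (q ^ 3 + 1) := (hqe.pow_of_ne_zero (by norm_num)).add_one
  have hq3 : q ^ 3 = 2 ^ (3 * n) := by rw [hq, ← pow_mul, mul_comm]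
  have hq2 : q ^ 2 = 2 ^ (2 * n) := by rw [hq, ← pow_mul, mul_comm]
  have hScard : Nat.card (S : Subgroup G) = q ^ 3 := by
    have := card_sylow S (a := 3 * n) (d := d) (m := (q ^ 2 - 1) * (q ^ 3 + 1)) hdodd
      (hq2o.mul hq3o) (by rw [hcard, ← hq3])
    rw [this, ← hq3]
  obtain ⟨k, hk⟩ := card_dvd_of_le hSM
  have hmul := (normalizer (A : Set G)).card_mul_index
  have hidx1 : 1 < (normalizer (A : Set G)).index := Subgroup.one_lt_index_of_ne_top hM
  have hdvd := card_dvd_index_sub_one hSE hSM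
  rw [hScard] at hdvd hk
  have hq2pos : 0 < q ^ 2 - 1 := hq2o.pos
  have hq23 : q ^ 2 - 1 < q ^ 3 := by
    have : q ^ 2 ≤ q ^ 3 := Nat.pow_le_pow_right (by omega) (by norm_num)
    omega
  obtain ⟨hidx, hkd⟩ := arith (s := q ^ 3) (n := (normalizer (A : Set G)).index) (k := k) (d := d)
    (l := q ^ 2 - 1) hq23 hq2pos hidx1 hdvd (by
      have h1 : q ^ 3 * ((normalizer (A : Set G)).index * k * d) =
          q ^ 3 * ((q ^ 3 + 1) * (q ^ 2 - 1)) := by
        rw [mul_comm (q ^ 3 + 1), ← hcard, ← hmul, hk]; ring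
      exact Nat.eq_of_mul_eq_mul_left (by positivity) h1)
  obtain ⟨r, hr2, hr⟩ := card_invSub h
  have hdvd1 := card_invSub_sub_one_dvd h hM
  rw [hr, hk, hq3] at hdvd1
  have hdvd2 : 2 ^ r - 1 ∣ 2 ^ (2 * n) - 1 := by
    rw [← hq2, ← hkd]
    exact ((coprime_two_pow_sub_one (by omega) _).dvd_of_dvd_mul_left hdvd1).mul_right d
  obtain ⟨c, hc⟩ := dvd_of_two_pow_sub_one_dvd (by omega) hdvd2
  have h2r : 2 * r ≤ 3 * n := by
    have h1 := (card_invSub_sq_dvd h hM).trans (card_dvd_of_le hAS)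
    rw [hr, hScard, hq3, ← pow_add] at h1
    have := (Nat.pow_dvd_pow_iff_le_right (by norm_num)).mp h1
    omega
  have hrn : r ≤ n := by
    have hc2 : 2 ≤ c := by
      by_contra hlt
      have : c = 0 ∨ c = 1 := by omega
      rcases this with rfl | rfl
      · omega
      · omega
    nlinarith
  rw [hr, hq]
  exact Nat.pow_le_pow_right (by norm_num) hrn

/-- `PSU₃(q)`: the case that `S` contains the elementary abelian group of the configuration. -/
theorem psu_core [Finite G] [IsSimpleGroup G] (h : Iso A) (hM : normalizer (A : Set G) ≠ ⊤)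
    (hP : Prop' A) (hinv : ∀ t ∈ normalizer (A : Set G), orderOf t = 2 → t ∈ A)
    {S : Sylow 2 G} (hSM : (S : Subgroup G) ≤ normalizer (A : Set G))
    {q : ℕ} (hqe : Even q) (hle : Nat.card (invSub h) ≤ q) {E : Subgroup G} (hES : E ≤ S)
    (hE : Nat.card E = q) (hE2 : ∀ x ∈ E, x * x = 1) {w t : G} (hw1 : w ≠ 1)
    (hwq : w ^ (q + 1) = 1) (hwE : ∀ x ∈ E, w * x = x * w) (ht2 : t * t = 1)
    (hwt : w * t = t * w) (hxt : ∃ x ∈ E, x * t ≠ t * x) : False := by
  have hEle : E ≤ invSub h := by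
    intro x hx
    refine ⟨?_, hE2 x hx⟩
    by_cases hx1 : x = 1
    · rw [hx1]; exact one_mem _
    · exact hinv x (hSM (hES hx)) (orderOf_eq_two_of_mul_self (hE2 x hx) hx1)
  have hEeq : E = invSub h := by
    apply Subgroup.eq_of_le_of_card_ge hEle
    rw [hE]; exact hle
  obtain ⟨z, hz, -, -, hz2, -, -⟩ := h.invs
  have hzE : z ∈ E := by rw [hEeq]; exact ⟨hz, mul_self_of_orderOf hz2⟩
  have hwM : w ∈ normalizer (A : Set G) := h.mem_of_commute hz (ne_one_of_two hz2) (hwE z hzE)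
  have hwodd : Odd (orderOf w) :=
    Odd.of_dvd_nat hqe.add_one (orderOf_dvd_of_pow_eq_one hwq)
  have hwA := commute_of_odd h hwM hwodd (by
    intro e he he2
    have h1 : e ∈ E := by rw [hEeq]; exact ⟨he, he2⟩
    rw [hwE e h1, mul_inv_cancel_right])
  have h1 := hP.le h (centralizer_ne_top (A := A) hM hw1) (by
    intro a ha
    rw [mem_centralizer_singleton_iff]
    exact (mul_inv_eq_iff_eq_mul.mp (hwA a ha)).symm)
  obtain ⟨x, hx, hxt'⟩ := hxt
  have htM : t ∈ normalizer (A : Set G) := h1 (by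
    rw [mem_centralizer_singleton_iff]
    exact hwt.symm)
  have ht1 : t ≠ 1 := by
    rintro rfl
    exact hxt' (by rw [mul_one, one_mul])
  have htA : t ∈ A := hinv t htM (orderOf_eq_two_of_mul_self ht2 ht1)
  exact hxt' (h.comm x (hEle hx).1 t htA)

theorem psu_false [Finite G] [IsSimpleGroup G] (h : Iso A) (hM : normalizer (A : Set G) ≠ ⊤)
    (hP : Prop' A) (hSE : IsStronglyEmbedded (normalizer (A : Set G)))
    {F : Type} [Field F] [Fintype F] {q : ℕ} (hF : Fintype.card F = q ^ 2) (hqe : Even q)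
    (hq4 : 4 ≤ q) (e : G ≃* Cfsg.PSU 3 F q) : False := by
  obtain ⟨n, hn, hqn⟩ := Cfsg.Agent.LieExceptional.PSUThreeWitness.exists_pow_two hF hqe hq4
  obtain ⟨E0, w0, t0, hE0, hE02, hw0, hwq, hwE, ht2, hwt, x0, hx0, hxt⟩ :=
    IsolatedPSU.exists_config F hF hqe hq4
  set E : Subgroup G := E0.map e.symm.toMonoidHom with hE
  have hEcard : Nat.card E = q := by
    rw [hE, Subgroup.card_map_of_injective e.symm.injective, hE0]
  have hEp : IsPGroup 2 E := IsPGroup.of_card (n := n) (by rw [hEcard, hqn])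
  obtain ⟨T, hET⟩ := hEp.exists_le_sylow
  obtain ⟨S, hAS, hSM⟩ := exists_sylow h
  obtain ⟨g, hg⟩ := MulAction.exists_smul_eq G S T
  set A' := A.map (MulAut.conj g).toMonoidHom with hA'
  have h' : Iso A' := h.conj g
  have hA'T : A' ≤ T := by
    rintro _ ⟨a, ha, rfl⟩
    rw [← hg]
    exact ⟨a, hAS ha, rfl⟩
  have hTM : (T : Subgroup G) ≤ normalizer (A' : Set G) :=
    le_normalizer_of_le h' T.isPGroup' hA'T
  have hM' : normalizer (A' : Set G) ≠ ⊤ := by
    intro htop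
    apply hM
    rw [Subgroup.eq_top_iff']
    intro x
    have h1 : g * x * g⁻¹ ∈ normalizer (A' : Set G) := by rw [htop]; exact mem_top _
    rw [hA', mem_normalizer_conj] at h1
    have h2 : g⁻¹ * (g * x * g⁻¹) * g = x := by group
    rwa [h2] at h1
  have hinv' : ∀ t ∈ normalizer (A' : Set G), orderOf t = 2 → t ∈ A' := fun t ht ht2 =>
    mem_of_involution h' hSE ht ht2
  have hSE' := stronglyEmbedded h' hM' hinv'
  refine psu_core h' hM' (prop_conj hP g) hinv' hTM hqe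
    (psu_r_le h' hM' hSE' hA'T hTM hF hn hqn e) hET hEcard
    (w := e.symm w0) (t := e.symm t0) ?_ ?_ ?_ ?_ ?_ ?_ ?_
  · rintro _ ⟨x, hx, rfl⟩
    show e.symm x * e.symm x = 1
    rw [← map_mul, hE02 x hx, map_one]
  · intro h1
    apply hw0
    rw [← e.apply_symm_apply w0, h1, map_one]
  · rw [← map_pow, hwq, map_one]
  · rintro _ ⟨x, hx, rfl⟩
    show e.symm w0 * e.symm x = e.symm x * e.symm w0
    rw [← map_mul, hwE x hx, map_mul]
  · rw [← map_mul, ht2, map_one]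
  · rw [← map_mul, hwt, map_mul]
  · refine ⟨e.symm x0, ⟨x0, hx0, rfl⟩, ?_⟩
    intro h1
    apply hxt
    rw [← map_mul, ← map_mul] at h1
    exact e.symm.injective h1

end Cfsg.Agent.TIAbelian.IsolatedUnitary
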