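import Mathlib
import Cfsg.Prelude.Def_Transfer
import Cfsg.Agent.S0222
import Cfsg.Agent.TIAbelian.IsolatedPSL
import Cfsg.Agent.TIAbelian.IsolatedUnitary

/-!
# Isolated abelian 2-subgroups

`G` finite, `A ≤ G` an abelian 2-subgroup, neither cyclic nor elementary abelian, such that
`A ∩ g⁻¹ N(A) g = 1` for all `g ∉ N(A)`. Then `A` is normal in `G`.
(Conditional on S1175 and S0222.)
-/

set_option autoImplicit false

namespace Cfsg.Agent.TIAbelian.IsolatedMain

open Subgroup Cfsg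
open Cfsg.Agent.TwoFusion.StronglyEmbeddedBasic
open Cfsg.Agent.TIAbelian.IsolatedBasic
open Cfsg.Agent.TIAbelian.IsolatedCount
open Cfsg.Agent.TIAbelian.IsolatedEmbedded

universe u

theorem simple_case (G : Type u) [Group G] [Finite G] [IsSimpleGroup G] (A : Subgroup G)
    (h : Iso A) (hM : normalizer (A : Set G) ≠ ⊤) (hP : Prop' A) : False := by
  obtain ⟨H, hH⟩ := exists_stronglyEmbedded h hM
  have hinv : ∀ t ∈ normalizer (A : Set G), orderOf t = 2 → t ∈ A := fun t ht ht2 =>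
    mem_of_involution h hH ht ht2
  have hSE := stronglyEmbedded h hM hinv
  obtain ⟨S, hAS, hSM⟩ := exists_sylow h
  rcases Cfsg.Agent.S0222.result (not_comm hM) H hH with
    ⟨F, hField, hFin, hch, -, ⟨e⟩⟩ | hSz | ⟨F, hField, hFin, q, hF, hqe, hq4, ⟨e⟩⟩
  · obtain ⟨a, -, ha4⟩ := h.four
    exact IsolatedPSL.orderOf_ne_four (e a) (by rw [MulEquiv.orderOf_eq, ha4])
  · exact IsolatedSuzuki.suzuki_false h hM hP hSE hinv hAS hSM hSz
  · exact IsolatedUnitary.psu_false h hM hP hSE hF hqe hq4 e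

/-- The theorem on isolated abelian 2-subgroups. -/
theorem normalizer_eq_top {G : Type u} [Group G] [Finite G] {A : Subgroup G} (h : Iso A) :
    normalizer (A : Set G) = ⊤ :=
  main_of_simple simple_case (Nat.card G) G A rfl h

/-- An abelian 2-subgroup which is neither cyclic nor elementary abelian and is isolated is `Iso`. -/
theorem iso_of {G : Type*} [Group G] [Finite G] {A : Subgroup G}
    (hcomm : ∀ a ∈ A, ∀ b ∈ A, a * b = b * a) (h2 : IsPGroup 2 A) (hcyc : ¬ IsCyclic A)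
    (hel : ¬ ∀ a ∈ A, a ^ 2 = 1)
    (hiso : ∀ g : G, ∀ a ∈ A, a ≠ 1 → g * a * g⁻¹ ∈ normalizer (A : Set G) →
      g ∈ normalizer (A : Set G)) : Iso A := by
  refine ⟨hcomm, h2, hiso, ?_, ?_⟩
  · by_contra hcon
    push Not at hcon
    apply hcyc
    obtain ⟨a, -, ha⟩ := Involutions.NormalFour.exists_generator h2 (⊤ : Subgroup A)
      (fun a _ b _ => Subtype.ext (hcomm a a.2 b b.2)) (by
        intro x _ y _ hx hy
        apply Subtype.ext
        exact hcon x x.2 y y.2 (by rwa [Subgroup.orderOf_coe]) (by rwa [Subgroup.orderOf_coe]))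
    exact ⟨a, fun x => ha x (mem_top x)⟩
  · push Not at hel
    obtain ⟨b, hb, hb2⟩ := hel
    obtain ⟨k, hk⟩ := h2 ⟨b, hb⟩
    have hk' : b ^ 2 ^ k = 1 := congrArg Subtype.val hk
    obtain ⟨j, hj⟩ := (Nat.dvd_prime_pow Nat.prime_two).mp (orderOf_dvd_of_pow_eq_one hk')
    have hj2 : 2 ≤ j := by
      by_contra hlt
      apply hb2
      have : orderOf b ∣ 2 := by
        rw [hj.2]
        calc 2 ^ j ∣ 2 ^ 1 := pow_dvd_pow 2 (by omega)
          _ = 2 := by norm_num
      exact orderOf_dvd_iff_pow_eq_one.mp this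
    refine ⟨b ^ 2 ^ (j - 2), pow_mem hb _, ?_⟩
    rw [orderOf_pow_of_dvd (by positivity) (by rw [hj.2]; exact pow_dvd_pow 2 (by omega)), hj.2,
      Nat.pow_div (by omega) (by norm_num)]
    have : j - (j - 2) = 2 := by omega
    rw [this]

/-- Version with explicit hypotheses. -/
theorem normalizer_eq_top' {G : Type*} [Group G] [Finite G] {A : Subgroup G}
    (hcomm : ∀ a ∈ A, ∀ b ∈ A, a * b = b * a) (h2 : IsPGroup 2 A) (hcyc : ¬ IsCyclic A)
    (hel : ¬ ∀ a ∈ A, a ^ 2 = 1)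
    (hiso : ∀ g : G, ∀ a ∈ A, a ≠ 1 → g * a * g⁻¹ ∈ normalizer (A : Set G) →
      g ∈ normalizer (A : Set G)) : normalizer (A : Set G) = ⊤ :=
  normalizer_eq_top (iso_of hcomm h2 hcyc hel hiso)

end Cfsg.Agent.TIAbelian.IsolatedMain
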