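/-
helper717: S1779: the reduction of the theorem to the case `|B| = 16`, `B ≅ Z₄ × Z₄`.
-/
import Cfsg.Prelude.Def_CaseTheorems
import Cfsg.Agent.Lib.Cores
import Cfsg.Agent.SignalizersComponents.CharP
import Cfsg.Agent.TIAbelian.IsolatedMain
import Cfsg.Agent.TIAbelian.PairInst
import Cfsg.Agent.TIAbelian.CaseBInst

set_option autoImplicit false

namespace Cfsg.Agent.TIAbelian.Reduce

open Subgroup Cfsg
open Cfsg.Agent.TIAbelian.PairBase Cfsg.Agent.TIAbelian.PairOmega Cfsg.Agent.TIAbelian.PairGeo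
open Cfsg.Agent.TIAbelian.PairTwo (TwoLines)
open Cfsg.Agent.TIAbelian.CaseBBase (Fam)
open Cfsg.Agent.TIAbelian.CaseBGeo (Cm)
open Cfsg.Agent.TIAbelian.CaseBLoc (Loc)
open Cfsg.Agent.TIAbelian.PairMain (mem_normalizer_iff_cj)
open Cfsg.Agent.TIAbelian.PairInst (Cls self_mem_Cls fam_of tifam_of_fam)

variable {G : Type*} [Group G]

/-- An abelian normal subgroup of a group of characteristic 2 is a 2-group. -/
theorem le_pCore_of_normal [Finite G] {M : Subgroup G} (hMc : IsOfCharacteristicTwo ↥M)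
    {B : Subgroup G} (hBM : B ≤ M) (hBn : ∀ m ∈ M, ∀ b ∈ B, m * b * m⁻¹ ∈ B)
    (hBa : ∀ a ∈ B, ∀ b ∈ B, a * b = b * a) : B ≤ (pCore 2 ↥M).map M.subtype := by
  have hn : (B.subgroupOf M).Normal := by
    constructor
    intro b hb m
    rw [mem_subgroupOf] at hb ⊢
    exact hBn m m.2 b hb
  have hQn : (pCore 2 ↥M).Normal := Lib.Cores.pCore_normal 2
  have hle : B.subgroupOf M ≤ pCore 2 ↥M := by
    refine SignalizersComponents.CharP.le_pCore_of_forall hn ?_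
    intro x hx hodd
    have hQ2 : ∀ q ∈ pCore 2 ↥M, ∃ k, orderOf q = 2 ^ k := by
      intro q hq
      obtain ⟨k, hk⟩ := Lib.Cores.pCore_isPGroup 2 ⟨q, hq⟩
      have hk' : q ^ 2 ^ k = 1 := congrArg Subtype.val hk
      obtain ⟨j, -, hj⟩ := (Nat.dvd_prime_pow Nat.prime_two).mp (orderOf_dvd_of_pow_eq_one hk')
      exact ⟨j, hj⟩
    have hone : ∀ y ∈ pCore 2 ↥M, (orderOf y).Coprime 2 → y = 1 := by
      intro y hy hy2
      obtain ⟨k, hk⟩ := hQ2 y hy
      rw [hk] at hy2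
      rcases Nat.eq_zero_or_pos k with h0 | h0
      · rw [h0, pow_zero] at hk
        exact orderOf_eq_one_iff.mp hk
      · exfalso
        rw [Nat.coprime_pow_left_iff h0] at hy2
        norm_num at hy2
    have hxc : x ∈ centralizer (pCore 2 ↥M : Set ↥M) := by
      rw [mem_centralizer_iff]
      intro q hq
      have hcom : x * (q * x⁻¹ * q⁻¹) = (q * x⁻¹ * q⁻¹) * x := by
        apply Subtype.ext
        exact hBa _ (mem_subgroupOf.mp hx) _ (mem_subgroupOf.mp (hn.conj_mem _ (inv_mem hx) q))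
      have h1 : (orderOf (x * (q * x⁻¹ * q⁻¹))).Coprime 2 := by
        have h2 : orderOf (q * x⁻¹ * q⁻¹) = orderOf x := by
          have h3 := orderOf_injective (MulAut.conj q).toMonoidHom (MulAut.conj q).injective x⁻¹
          have h4 : (MulAut.conj q).toMonoidHom x⁻¹ = q * x⁻¹ * q⁻¹ := rfl
          rw [h4, orderOf_inv] at h3
          exact h3
        have h5 := (show Commute x (q * x⁻¹ * q⁻¹) from hcom).orderOf_mul_dvd_mul_orderOf
        rw [h2] at h5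
        exact Nat.Coprime.coprime_dvd_left h5 (Nat.Coprime.mul_left hodd hodd)
      have h6 : x * (q * x⁻¹ * q⁻¹) ∈ pCore 2 ↥M := by
        have e : x * (q * x⁻¹ * q⁻¹) = (x * q * x⁻¹) * q⁻¹ := by group
        rw [e]
        exact mul_mem (hQn.conj_mem q hq x) (inv_mem hq)
      have h7 := hone _ h6 h1
      have e : x * (q * x⁻¹ * q⁻¹) = (x * q) * (q * x)⁻¹ := by group
      rw [e, mul_inv_eq_one] at h7
      exact h7.symm
    exact hone x (hMc hxc) hodd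
  intro b hb
  exact ⟨⟨b, hBM hb⟩, hle (mem_subgroupOf.mpr hb), rfl⟩

/-- If `M` is a maximal 2-local subgroup normalising the nontrivial 2-subgroup `R` then `N(R) = M`. -/
theorem normalizer_eq {M : Subgroup G} (hM : IsMaximalTwoLocal M) {R : Subgroup G}
    (hR : IsPGroup 2 ↥R) (hR1 : R ≠ ⊥) (hn : M ≤ normalizer (R : Set G)) :
    normalizer (R : Set G) = M :=
  hM.2 _ ⟨R, hR, hR1, rfl⟩ hn

theorem le_normalizer_of {M B : Subgroup G} (hBn : ∀ m ∈ M, ∀ b ∈ B, m * b * m⁻¹ ∈ B) :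
    M ≤ normalizer (B : Set G) := by
  intro m hm
  rw [mem_normalizer_iff]
  intro b
  refine ⟨hBn m hm b, fun h => ?_⟩
  have h1 := hBn m⁻¹ (inv_mem hm) _ h
  have e : m⁻¹ * (m * b * m⁻¹) * m⁻¹⁻¹ = b := by group
  rwa [e] at h1

/-- The reduction. -/
theorem reduce [Finite G] (hO : pCore 2 G = ⊥)
    (M : Subgroup G) (hM : IsMaximalTwoLocal M) (hMc : IsOfCharacteristicTwo ↥M)
    (B : Subgroup G) (hBM : B ≤ M) (hBn : ∀ m ∈ M, ∀ b ∈ B, m * b * m⁻¹ ∈ B)
    (hBa : IsMulCommutative ↥B)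
    (hti : ∀ g : G, B.map (MulAut.conj g).toMonoidHom = B ∨
      B.map (MulAut.conj g).toMonoidHom ⊓ B = ⊥)
    (hcyc : ¬ IsCyclic ↥B) (hel : ¬ IsElementaryAbelian 2 B)
    (hno : ∀ P : Set (Subgroup G), Fam P → (∀ A ∈ P, ∃ Q, Loc P A Q) →
      ∀ A ∈ P, ∀ C ∈ P, A ≠ C → ¬ Cm A C) :
    normalizer (B : Set G) = M ∧ TIFam (Cls B) ∧ (∃ A ∈ Cls B, ∃ C ∈ Cls B, Col A C) ∧
      Geo (Cls B) ∧ (∃ A B' C, TwoLines (Cls B) A B' C) ∧ (Om B).ncard = 4 ∧ Nat.card ↥B = 16 ∧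
      Nonempty (↥B ≃* Multiplicative (ZMod 4) × Multiplicative (ZMod 4)) := by
  have hcomm : ∀ a ∈ B, ∀ b ∈ B, a * b = b * a := fun a ha b hb =>
    congrArg Subtype.val (hBa.is_comm.comm ⟨a, ha⟩ ⟨b, hb⟩)
  have hBQ := le_pCore_of_normal hMc hBM hBn hcomm
  have hB2 : IsPGroup 2 ↥B :=
    ((Lib.Cores.pCore_isPGroup 2).map M.subtype).to_le hBQ
  have hB1 : B ≠ ⊥ := by
    rintro rfl
    exact hcyc isCyclic_of_subsingleton
  have hN : normalizer (B : Set G) = M := normalizer_eq hM hB2 hB1 (le_normalizer_of hBn)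
  have hel' : ¬ ∀ b ∈ B, b ^ 2 = 1 := by
    intro h
    exact hel ⟨hBa, h⟩
  have hel2 : ∃ c ∈ B, c * c ≠ 1 := by
    push Not at hel'
    obtain ⟨c, hc, h⟩ := hel'
    exact ⟨c, hc, by rwa [pow_two] at h⟩
  have hfam : Fam (Cls B) := fam_of hcomm hB2 hti hcyc hel2
  have hloc := CaseBInst.exists_loc hfam (self_mem_Cls B) hM hMc (fun g => by
    rw [← hN]; exact mem_normalizer_iff_cj)
  have htf : TIFam (Cls B) := by
    refine tifam_of_fam hfam ?_
    intro C hC D hD h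
    by_contra hne
    exact hno _ hfam hloc C hC D hD hne h
  have hex : ∃ A ∈ Cls B, ∃ C ∈ Cls B, Col A C := by
    by_contra hno'
    have h1 := IsolatedMain.normalizer_eq_top' hcomm hB2 hcyc hel'
      (PairInst.isolated htf (self_mem_Cls B) hno')
    apply hB1
    rw [eq_bot_iff, ← hO]
    refine Lib.Cores.le_pCore ?_ hB2
    exact normalizer_eq_top_iff.mp h1
  obtain ⟨hg, hT, hB⟩ := PairMain.main htf hex (self_mem_Cls B) (by rwa [hN]) (by rwa [hN])
  exact ⟨hN, htf, hex, hg, hT, hB B (self_mem_Cls B)⟩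

end Cfsg.Agent.TIAbelian.Reduce
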