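import Cfsg.Agent.TIAbelian.EndGeo

/-!
# Members of a vertex
-/

set_option autoImplicit false

namespace Cfsg.Agent.TIAbelian.End

open Subgroup
open Cfsg.Agent.ClassificationK.TIPair (cj mem_normalizer_cj normalizer_of_cj_eq cj_eq_of_mem_normalizer)
open Cfsg.Agent.ClassificationK.TIFamily (mem_cj cj_mul cj_one)

universe u

variable {G : Type u} [Group G] {E V : Set (Subgroup G)}

open scoped Classical in
/-- nontrivial elements of a subgroup -/
noncomputable def pts [Fintype G] (X : Subgroup G) : Finset G := Finset.univ.filter (fun x => x ∈ X ∧ x ≠ 1)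

open scoped Classical in
/-- elements of `U` outside `X` -/
noncomputable def dif [Fintype G] (U X : Subgroup G) : Finset G := Finset.univ.filter (fun x => x ∈ U ∧ x ∉ X)

theorem mem_pts [Fintype G] {X : Subgroup G} {x : G} : x ∈ pts X ↔ x ∈ X ∧ x ≠ 1 := by
  simp [pts]

theorem mem_dif [Fintype G] {U X : Subgroup G} {x : G} : x ∈ dif U X ↔ x ∈ U ∧ x ∉ X := by
  simp [dif]

open scoped Classical in
theorem card_filter_mem [Fintype G] (X : Subgroup G) :
    (Finset.univ.filter (fun x => x ∈ X)).card = Nat.card X := by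
  rw [Nat.card_eq_fintype_card, Fintype.card_subtype]

theorem card_pts [Fintype G] (X : Subgroup G) : (pts X).card + 1 = Nat.card X := by
  classical
  rw [← card_filter_mem]
  have : Finset.univ.filter (fun x => x ∈ X) = insert 1 (pts X) := by
    ext x
    simp only [Finset.mem_filter, Finset.mem_univ, true_and, Finset.mem_insert, mem_pts]
    constructor
    · intro h
      by_cases hx : x = 1
      · exact Or.inl hx
      · exact Or.inr ⟨h, hx⟩
    · rintro (rfl | h)
      · exact X.one_mem
      · exact h.1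
  rw [this, Finset.card_insert_of_notMem]
  rw [mem_pts]; simp

theorem card_dif [Fintype G] {U X : Subgroup G} (h : X ≤ U) : (dif U X).card + Nat.card X = Nat.card U := by
  classical
  rw [← card_filter_mem, ← card_filter_mem, ← Finset.card_union_of_disjoint]
  · congr 1
    ext x
    simp only [Finset.mem_union, mem_dif, Finset.mem_filter, Finset.mem_univ, true_and]
    constructor
    · rintro (h1 | h1)
      · exact h1.1
      · exact h h1
    · intro h1
      by_cases hx : x ∈ X
      · exact Or.inr hx
      · exact Or.inl ⟨h1, hx⟩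
  · rw [Finset.disjoint_left]
    intro x hx hx2
    rw [mem_dif] at hx
    simp only [Finset.mem_filter, Finset.mem_univ, true_and] at hx2
    exact hx.2 hx2

/-- the edges in the vertex `U` -/
noncomputable def mems [Finite G] (E : Set (Subgroup G)) (U : Subgroup G) : Finset (Subgroup G) :=
  (Set.toFinite {X : Subgroup G | X ∈ E ∧ X ≤ U}).toFinset

theorem mem_mems [Finite G] {U X : Subgroup G} : X ∈ mems E U ↔ X ∈ E ∧ X ≤ U := by
  simp [mems]

theorem Geo.card_mems (hg : Geo E V) [Finite G] {U : Subgroup G} (hU : U ∈ V) : (mems E U).card = 5 := by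
  classical
  have := Fintype.ofFinite G
  have h1 : (mems E U).biUnion (fun X => pts X) = pts U := by
    ext x
    simp only [Finset.mem_biUnion, mem_mems, mem_pts]
    constructor
    · rintro ⟨X, ⟨-, hXU⟩, hx, hx1⟩
      exact ⟨hXU hx, hx1⟩
    · rintro ⟨hx, hx1⟩
      obtain ⟨X, hX, hxX, hXU⟩ := hg.cover U hU x hx hx1
      exact ⟨X, ⟨hX, hXU⟩, hxX, hx1⟩
  have h2 : ((mems E U).biUnion (fun X => pts X)).card = ∑ X ∈ mems E U, (pts X).card := by
    apply Finset.card_biUnion
    intro X hX Y hY hne
    change Disjoint (pts X) (pts Y)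
    rw [Finset.disjoint_left]
    intro x hx hy
    rw [mem_pts] at hx hy
    exact hne (hg.ti X (mem_mems.1 hX).1 Y (mem_mems.1 hY).1 x hx.1 hy.1 hx.2)
  have h3 : ∑ X ∈ mems E U, (pts X).card = (mems E U).card * 3 := by
    apply Finset.sum_const_nat
    intro X hX
    have h4 := card_pts X
    rw [hg.cardE X (mem_mems.1 hX).1] at h4
    omega
  have h4 := card_pts U
  rw [hg.cardV U hU] at h4
  rw [h1] at h2
  omega

/-- transitivity: a suitable element `w` of the neighbour `f` of `e` at `Z` moves `X` to `Y` -/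
theorem Geo.exists_move (hg : Geo E V) [Finite G] {e f X Y Z : Subgroup G} (hX : X ∈ mems E e)
    (hY : Y ∈ mems E e) (hZ : Z ∈ E) (hXZ : X ≠ Z) (hYZ : Y ≠ Z) (hf : Ends E V Z e f) :
    ∃ w ∈ f, cj w X = Y := by
  classical
  have := Fintype.ofFinite G
  rw [mem_mems] at hX hY
  let M : Finset (Subgroup G) := (mems E e).erase Z
  have hM : M.card = 4 := by
    rw [Finset.card_erase_of_mem (mem_mems.2 ⟨hZ, hf.leU⟩), hg.card_mems hf.hU]
  let s : Finset G := Finset.univ.filter (fun x => x ∈ f)
  have hs : s.card = 16 := by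
    rw [card_filter_mem, hg.cardV f hf.hW]
  have hsub : s.image (fun w => cj w X) ⊆ M := by
    intro T hT
    rw [Finset.mem_image] at hT
    obtain ⟨w, hw, rfl⟩ := hT
    have hwf : w ∈ f := by simpa [s] using hw
    obtain ⟨h1, h2, h3⟩ := hf.fix' hg hwf
    rw [Finset.mem_erase, mem_mems]
    refine ⟨?_, hg.conjE w X hX.1, ?_⟩
    · intro h
      apply hXZ
      apply cj_injective w
      simp only
      rw [h, h1]
    · rw [← h2]
      exact cj_le_cj.2 hX.2
  have hfib : s.card ≤ 4 * (s.image (fun w => cj w X)).card := by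
    apply Finset.card_le_mul_card_image
    intro T hT
    rw [Finset.mem_image] at hT
    obtain ⟨w₀, hw₀, rfl⟩ := hT
    have hw₀f : w₀ ∈ f := by simpa [s] using hw₀
    rw [← hg.cardE Z hZ, ← card_filter_mem]
    apply Finset.card_le_card_of_injOn (fun w => w₀⁻¹ * w)
    · intro w hw
      simp only [s, Finset.coe_filter, Finset.mem_filter, Finset.mem_univ, true_and, Set.mem_ofPred_eq] at hw
      simp only [Finset.coe_filter, Finset.mem_univ, true_and, Set.mem_ofPred_eq]
      by_contra hc
      apply hf.not_norm hg hZ (f.mul_mem (f.inv_mem hw₀f) hw.1) hc hX.1 hX.2 hXZ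
      rw [← cj_cj, hw.2, cj_cancel]
    · intro a _ b _ hab
      exact mul_left_cancel hab
  have heq : s.image (fun w => cj w X) = M := by
    apply Finset.eq_of_subset_of_card_le hsub
    rw [hM]
    omega
  have hYM : Y ∈ M := by
    rw [Finset.mem_erase, mem_mems]
    exact ⟨hYZ, hY⟩
  rw [← heq, Finset.mem_image] at hYM
  obtain ⟨w, hw, hwY⟩ := hYM
  exact ⟨w, by simpa [s] using hw, hwY⟩

/-- a member different from two given ones -/
theorem Geo.exists_third (hg : Geo E V) [Finite G] {U : Subgroup G} (hU : U ∈ V) (X Y : Subgroup G) :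
    ∃ Z ∈ mems E U, Z ≠ X ∧ Z ≠ Y := by
  classical
  by_contra hc
  push Not at hc
  have h1 : mems E U ⊆ {X, Y} := by
    intro Z hZ
    rw [Finset.mem_insert, Finset.mem_singleton]
    by_cases h : Z = X
    · exact Or.inl h
    · exact Or.inr (hc Z hZ h)
  have h2 := Finset.card_le_card h1
  rw [hg.card_mems hU] at h2
  have h3 : ({X, Y} : Finset (Subgroup G)).card ≤ 2 := Finset.card_le_two
  omega

open scoped Classical in
/-- the other vertex of the edge `X` of `U` -/
noncomputable def oth (E V : Set (Subgroup G)) (X U : Subgroup G) : Subgroup G :=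
  if h : ∃ W, Ends E V X U W then h.choose else ⊥

theorem Ends.oth_eq {X U W : Subgroup G} (h : Ends E V X U W) : oth E V X U = W := by
  have h1 : ∃ W, Ends E V X U W := ⟨W, h⟩
  have h2 : Ends E V X U (oth E V X U) := by
    rw [oth, dif_pos h1]
    exact h1.choose_spec
  rcases h.uniq _ h2.hW h2.leW with h3 | h3
  · exact absurd h3.symm h2.ne
  · exact h3

theorem Geo.ends_oth (hg : Geo E V) {X U : Subgroup G} (hX : X ∈ E) (hU : U ∈ V) (hXU : X ≤ U) :
    Ends E V X U (oth E V X U) := by
  obtain ⟨W, h⟩ := hg.other hX hU hXU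
  rw [h.oth_eq]; exact h

end Cfsg.Agent.TIAbelian.End
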