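import Cfsg.Agent.TIAbelian.EndBase
import Cfsg.Agent.TIAbelian.EndMembers

/-!
# Adjacent pairs: commutators
-/

set_option autoImplicit false
set_option linter.unusedSectionVars false

namespace Cfsg.Agent.TIAbelian.End

open Subgroup
open Cfsg.Agent.ClassificationK.TIPair (cj mem_normalizer_cj normalizer_of_cj_eq cj_eq_of_mem_normalizer)
open Cfsg.Agent.ClassificationK.TIFamily (mem_cj cj_mul cj_one)

universe u

variable {G : Type u} [Group G]

/-- counting: a map from `S` to `T` whose fibres are contained in cosets of `K` is onto -/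
theorem exists_of_card [Finite G] {S T K : Subgroup G} (f : G → G) (hmap : ∀ x ∈ S, f x ∈ T)
    (hfib : ∀ x ∈ S, ∀ y ∈ S, f x = f y → x⁻¹ * y ∈ K) (hcard : Nat.card S = Nat.card K * Nat.card T) :
    ∀ t ∈ T, ∃ x ∈ S, f x = t := by
  classical
  have := Fintype.ofFinite G
  let s : Finset G := Finset.univ.filter (fun x => x ∈ S)
  let t : Finset G := Finset.univ.filter (fun x => x ∈ T)
  have hs : s.card = Nat.card S := card_filter_mem S
  have ht : t.card = Nat.card T := card_filter_mem T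
  have hsub : s.image f ⊆ t := by
    intro y hy
    rw [Finset.mem_image] at hy
    obtain ⟨x, hx, rfl⟩ := hy
    simp only [s, t, Finset.mem_filter, Finset.mem_univ, true_and] at hx ⊢
    exact hmap x hx
  have hle : s.card ≤ Nat.card K * (s.image f).card := by
    apply Finset.card_le_mul_card_image
    intro y hy
    rw [Finset.mem_image] at hy
    obtain ⟨x₀, hx₀, rfl⟩ := hy
    rw [← card_filter_mem K]
    apply Finset.card_le_card_of_injOn (fun w => x₀⁻¹ * w)
    · intro w hw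
      simp only [s, Finset.coe_filter, Finset.mem_filter, Finset.mem_univ, true_and, Set.mem_ofPred_eq] at hw hx₀ ⊢
      exact hfib x₀ hx₀ w hw.1 hw.2.symm
    · intro a _ b _ hab
      exact mul_left_cancel hab
  have hKpos : 0 < Nat.card K := Nat.card_pos
  have heq : s.image f = t := by
    apply Finset.eq_of_subset_of_card_le hsub
    rw [ht]
    rw [hs, hcard] at hle
    exact Nat.le_of_mul_le_mul_left hle hKpos
  intro y hy
  have hyt : y ∈ t := by simpa [t] using hy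
  rw [← heq, Finset.mem_image] at hyt
  obtain ⟨x, hx, hxy⟩ := hyt
  exact ⟨x, by simpa [s] using hx, hxy⟩

/-- the commutator `a b a⁻¹ b⁻¹` -/
def br (a b : G) : G := a * b * a⁻¹ * b⁻¹

theorem br_def (a b : G) : br a b = a * b * a⁻¹ * b⁻¹ := rfl

theorem conj_eq_br (a b : G) : a * b * a⁻¹ = br a b * b := by rw [br]; group

theorem br_eq_one_iff {a b : G} : br a b = 1 ↔ a * b = b * a := by
  rw [br]
  constructor
  · intro h
    have : a * b = (a * b * a⁻¹ * b⁻¹) * (b * a) := by group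
    rw [this, h, one_mul]
  · intro h
    rw [h]; group

theorem Base.sq_surj [Finite G] {B : Subgroup G} (h : Base B) {y : G} (hy : y ∈ Om B) : ∃ b ∈ B, b * b = y := by
  refine exists_of_card (S := B) (T := Om B) (K := Om B) (fun b => b * b) (fun b hb => h.sq_mem_Om hb) ?_ ?_ y hy
  · intro x hx z hz hxz
    rw [mem_Om h.comm]
    refine ⟨B.mul_mem (B.inv_mem hx) hz, ?_⟩
    have h1 := h.comm _ (B.inv_mem hx) z hz
    calc x⁻¹ * z * (x⁻¹ * z) = x⁻¹ * (z * x⁻¹) * z := by group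
      _ = x⁻¹ * (x⁻¹ * z) * z := by rw [h1]
      _ = (x * x)⁻¹ * (z * z) := by group
      _ = 1 := by rw [hxz]; group
  · rw [h.card, h.om]

theorem Base.exists_ne [Finite G] {B : Subgroup G} (h : Base B) : ∃ y ∈ Om B, y ≠ 1 := by
  by_contra hc
  push Not at hc
  have : Om B = ⊥ := by
    rw [eq_bot_iff]
    intro x hx
    exact mem_bot.2 (hc x hx)
  have h4 := h.om
  rw [this, Subgroup.card_bot] at h4
  omega

variable {B A : Subgroup G} [Finite G]

theorem Adj.mem' (h : Adj B A) : B ∈ Cl A := by rw [Cl_eq h.mem]; exact self_mem_Cl B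

theorem Adj.fix_mem (h : Adj B A) {a b : G} (ha : a ∈ A) (ha1 : a ≠ 1) (hb : b ∈ B) (hab : a * b = b * a) :
    b ∈ Om B := by
  by_cases hb1 : b = 1
  · rw [hb1]; exact (Om B).one_mem
  rw [mem_Om h.base.comm]
  refine ⟨hb, ?_⟩
  have hbA : cj b A = A := h.baseA.cj_of_comm ha ha1 hab.symm
  have h' : Adj A B := ⟨h.baseA, h.mem', h.ne.symm, b, hb, hb1, hbA⟩
  exact h'.sq_one hb hbA

theorem Adj.comm_Om (h : Adj B A) {a : G} (ha : a ∈ A) (haB : cj a B = B) {y : G} (hy : y ∈ Om B) :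
    a * y = y * a := by
  by_cases ha1 : a = 1
  · rw [ha1]; simp
  obtain ⟨b, hb, rfl⟩ := h.base.sq_surj hy
  have haa := h.sq_one ha haB
  have hai := inv_eq_self haa
  have hc : a * b * a⁻¹ ∈ B := conj_mem haB hb
  have h1 : a * (b * (a * b * a⁻¹)) = (b * (a * b * a⁻¹)) * a := by
    have h2 := h.base.comm b hb _ hc
    calc a * (b * (a * b * a⁻¹)) = (a * b * a⁻¹) * ((a * a) * b * a⁻¹) := by group
      _ = (a * b * a⁻¹) * b * a⁻¹ := by rw [haa]; group
      _ = b * (a * b * a⁻¹) * a⁻¹ := by rw [h2]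
      _ = b * (a * b * a⁻¹) * a := by rw [hai]
  have h3 := h.fix_mem ha ha1 (B.mul_mem hb hc) h1
  have h4 := ((mem_Om h.base.comm).1 h3).2
  have h5 := h.base.exp b hb
  have h6 : (b * b) * (a * (b * b) * a⁻¹) = 1 := by
    have h2 := h.base.comm b hb _ hc
    calc (b * b) * (a * (b * b) * a⁻¹) = b * (b * (a * b * a⁻¹)) * (a * b * a⁻¹) := by group
      _ = b * ((a * b * a⁻¹) * b) * (a * b * a⁻¹) := by rw [h2]
      _ = b * (a * b * a⁻¹) * (b * (a * b * a⁻¹)) := by group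
      _ = 1 := h4
  have h7 : a * (b * b) * a⁻¹ = b * b := by
    calc a * (b * b) * a⁻¹ = (b * b * (b * b)) * (a * (b * b) * a⁻¹) := by rw [h5, one_mul]
      _ = b * b * ((b * b) * (a * (b * b) * a⁻¹)) := by group
      _ = b * b := by rw [h6, mul_one]
  calc a * (b * b) = (a * (b * b) * a⁻¹) * a := by group
    _ = b * b * a := by rw [h7]

theorem Adj.symm (h : Adj B A) : Adj A B := by
  obtain ⟨a, ha, ha1, haB⟩ := h.ex
  obtain ⟨y, hy, hy1⟩ := h.base.exists_ne
  refine ⟨h.baseA, h.mem', h.ne.symm, y, h.base.Om_le hy, hy1, ?_⟩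
  exact h.baseA.cj_of_comm ha ha1 (h.comm_Om ha haB hy).symm

theorem Adj.comm_Om_Om (h : Adj B A) {a y : G} (ha : a ∈ Om A) (hy : y ∈ Om B) : a * y = y * a := by
  obtain ⟨y', hy', hy1', hyA⟩ := h.symm.ex
  -- `y'` centralises `Om A`, hence `Om A` normalises `B`
  have h1 := h.symm.comm_Om hy' hyA ha
  have h2 : cj a B = B := h.base.cj_of_comm hy' hy1' h1.symm
  exact h.comm_Om (h.baseA.Om_le ha) h2 hy

theorem Adj.norm (h : Adj B A) {a : G} (ha : a ∈ Om A) : cj a B = B := by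
  obtain ⟨y, hy, hy1⟩ := h.base.exists_ne
  exact h.base.cj_of_comm (h.base.Om_le hy) hy1 (h.comm_Om_Om ha hy)

theorem Adj.mem_Om_of_norm (h : Adj B A) {a : G} (ha : a ∈ A) (haB : cj a B = B) : a ∈ Om A :=
  (mem_Om h.baseA.comm).2 ⟨ha, h.sq_one ha haB⟩

theorem Adj.inf (h : Adj B A) {x : G} (hA : x ∈ A) (hB : x ∈ B) : x = 1 := by
  by_contra hx
  exact h.ne (h.base.ti2 h.mem (self_mem_Cl B) hA hB hx)

theorem Adj.br_mem_B (h : Adj B A) {a b : G} (ha : a ∈ Om A) (hb : b ∈ B) : br a b ∈ B :=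
  B.mul_mem (conj_mem (h.norm ha) hb) (B.inv_mem hb)

theorem Adj.br_mem (h : Adj B A) {a b : G} (ha : a ∈ Om A) (hb : b ∈ B) : br a b ∈ Om B := by
  rw [mem_Om h.base.comm]
  refine ⟨h.br_mem_B ha hb, ?_⟩
  have h1 : a * (b * b) = (b * b) * a := h.comm_Om_Om ha (h.base.sq_mem_Om hb)
  have hc : a * b * a⁻¹ ∈ B := conj_mem (h.norm ha) hb
  have h2 := h.base.comm _ hc _ (B.inv_mem hb)
  calc br a b * br a b = (a * b * a⁻¹) * (b⁻¹ * (a * b * a⁻¹)) * b⁻¹ := by rw [br]; group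
    _ = (a * b * a⁻¹) * ((a * b * a⁻¹) * b⁻¹) * b⁻¹ := by rw [h2]
    _ = (a * (b * b)) * a⁻¹ * b⁻¹ * b⁻¹ := by group
    _ = 1 := by rw [h1]; group

theorem Adj.br_sq (h : Adj B A) {a b : G} (ha : a ∈ Om A) (hb : b ∈ B) : br a b * br a b = 1 :=
  h.base.Om_sq (h.br_mem ha hb)

theorem Adj.br_mul_right (h : Adj B A) {a b c : G} (ha : a ∈ Om A) (hb : b ∈ B) (hc : c ∈ B) :
    br a (b * c) = br a b * br a c := by
  have h1 := h.base.comm _ (h.br_mem_B ha hc) _ (B.inv_mem hb)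
  calc br a (b * c) = (a * b * a⁻¹) * (br a c * b⁻¹) := by rw [br, br]; group
    _ = (a * b * a⁻¹) * (b⁻¹ * br a c) := by rw [h1]
    _ = br a b * br a c := by rw [br, br]; group

theorem Adj.br_mul_left (h : Adj B A) {a c b : G} (ha : a ∈ Om A) (hc : c ∈ Om A) (hb : b ∈ B) :
    br (a * c) b = br a b * br c b := by
  have h1 : a * br c b = br c b * a := h.comm_Om_Om ha (h.br_mem hc hb)
  have h2 := h.base.comm _ (h.br_mem_B ha hb) _ (h.br_mem_B hc hb)
  calc br (a * c) b = (a * br c b) * b * a⁻¹ * b⁻¹ := by rw [br, br]; group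
    _ = (br c b * a) * b * a⁻¹ * b⁻¹ := by rw [h1]
    _ = br c b * br a b := by rw [br, br]; group
    _ = br a b * br c b := h2.symm

theorem Adj.br_Om (h : Adj B A) {a y : G} (ha : a ∈ Om A) (hy : y ∈ Om B) : br a y = 1 :=
  br_eq_one_iff.2 (h.comm_Om_Om ha hy)

theorem Adj.br_one (h : Adj B A) {a b : G} (ha : a ∈ Om A) (ha1 : a ≠ 1) (hb : b ∈ B) (h1 : br a b = 1) :
    b ∈ Om B :=
  h.fix_mem (h.baseA.Om_le ha) ha1 hb (br_eq_one_iff.1 h1)

theorem Adj.Om_inv (h : Adj B A) {a : G} (ha : a ∈ Om A) : a⁻¹ = a := inv_eq_self (h.baseA.Om_sq ha)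

/-- `b a b⁻¹ = a [a,b]` -/
theorem Adj.conj_a (h : Adj B A) {a : G} (ha : a ∈ Om A) (b : G) : b * a * b⁻¹ = a * br a b := by
  have haa := h.baseA.Om_sq ha
  have hai := h.Om_inv ha
  calc b * a * b⁻¹ = b * a⁻¹ * b⁻¹ := by rw [hai]
    _ = (a * a) * b * a⁻¹ * b⁻¹ := by rw [haa]; group
    _ = a * br a b := by rw [br]; group

theorem Adj.br_left_inj (h : Adj B A) {a c b : G} (ha : a ∈ Om A) (hc : c ∈ Om A) (hb : b ∈ B)
    (hbO : b ∉ Om B) (heq : br a b = br c b) : a = c := by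
  by_contra hne
  apply hbO
  have hac : a * c ≠ 1 := by
    intro h1
    apply hne
    have := h.baseA.Om_sq hc
    calc a = (a * c) * c := by rw [mul_assoc, this, mul_one]
      _ = c := by rw [h1, one_mul]
  apply h.br_one ((Om A).mul_mem ha hc) hac hb
  rw [h.br_mul_left ha hc hb, heq]
  exact h.br_sq hc hb

theorem Adj.br_left_surj (h : Adj B A) {b y : G} (hb : b ∈ B) (hbO : b ∉ Om B) (hy : y ∈ Om B) :
    ∃ a ∈ Om A, br a b = y := by
  refine exists_of_card (S := Om A) (T := Om B) (K := ⊥) (fun a => br a b) (fun a ha => h.br_mem ha hb) ?_ ?_ y hy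
  · intro x hx z hz hxz
    rw [h.br_left_inj hx hz hb hbO hxz]
    simp
  · rw [h.baseA.om, h.base.om, Subgroup.card_bot]

theorem Adj.br_right_surj (h : Adj B A) {a y : G} (ha : a ∈ Om A) (ha1 : a ≠ 1) (hy : y ∈ Om B) :
    ∃ b ∈ B, br a b = y := by
  refine exists_of_card (S := B) (T := Om B) (K := Om B) (fun b => br a b) (fun b hb => h.br_mem ha hb) ?_ ?_ y hy
  · intro x hx z hz hxz
    apply h.br_one ha ha1 (B.mul_mem (B.inv_mem hx) hz)
    have h1 : br a (x * (x⁻¹ * z)) = br a x * br a (x⁻¹ * z) :=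
      h.br_mul_right ha hx (B.mul_mem (B.inv_mem hx) hz)
    rw [mul_inv_cancel_left, ← hxz] at h1
    exact mul_left_cancel (a := br a x) (by rw [mul_one]; exact h1.symm)
  · rw [h.base.card, h.base.om]

end Cfsg.Agent.TIAbelian.End
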