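import Cfsg.Agent.TIAbelian.EndGeo
import Cfsg.Agent.S1781

/-!
# TI-subgroups isomorphic to `Z₄ × Z₄`: basic facts on adjacent pairs
-/

set_option autoImplicit false

namespace Cfsg.Agent.TIAbelian.End

open Subgroup
open Cfsg.Agent.ClassificationK.TIPair (cj mem_normalizer_cj normalizer_of_cj_eq cj_eq_of_mem_normalizer)
open Cfsg.Agent.ClassificationK.TIFamily (mem_cj cj_mul cj_one)

universe u

variable {G : Type u} [Group G]

/-- the subgroup generated by the elements of order at most 2 -/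
def Om (X : Subgroup G) : Subgroup G := closure {x | x ∈ X ∧ x * x = 1}

theorem mem_Om {X : Subgroup G} (hc : ∀ x ∈ X, ∀ y ∈ X, x * y = y * x) {x : G} :
    x ∈ Om X ↔ x ∈ X ∧ x * x = 1 := by
  constructor
  · intro h
    induction h using closure_induction with
    | mem x hx => exact hx
    | one => exact ⟨X.one_mem, by simp⟩
    | mul x y _ _ hx hy =>
      refine ⟨X.mul_mem hx.1 hy.1, ?_⟩
      calc x * y * (x * y) = x * (y * x) * y := by group
        _ = x * (x * y) * y := by rw [hc x hx.1 y hy.1]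
        _ = (x * x) * (y * y) := by group
        _ = 1 := by rw [hx.2, hy.2, one_mul]
    | inv x _ hx =>
      refine ⟨X.inv_mem hx.1, ?_⟩
      have : x⁻¹ * x⁻¹ = (x * x)⁻¹ := by group
      rw [this, hx.2, inv_one]
  · intro h
    exact subset_closure h

theorem cj_comm {X : Subgroup G} (hc : ∀ x ∈ X, ∀ y ∈ X, x * y = y * x) (g : G) :
    ∀ x ∈ cj g X, ∀ y ∈ cj g X, x * y = y * x := by
  intro x hx y hy
  rw [mem_cj] at hx hy
  have h := hc _ hx _ hy
  have h1 : x * y = g * ((g⁻¹ * x * g) * (g⁻¹ * y * g)) * g⁻¹ := by group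
  have h2 : y * x = g * ((g⁻¹ * y * g) * (g⁻¹ * x * g)) * g⁻¹ := by group
  rw [h1, h2, h]

theorem cj_Om {X : Subgroup G} (hc : ∀ x ∈ X, ∀ y ∈ X, x * y = y * x) (g : G) :
    cj g (Om X) = Om (cj g X) := by
  ext x
  rw [mem_cj, mem_Om hc, mem_Om (cj_comm hc g), mem_cj]
  have : g⁻¹ * x * g * (g⁻¹ * x * g) = g⁻¹ * (x * x) * g := by group
  rw [this]
  constructor
  · rintro ⟨h1, h2⟩
    refine ⟨h1, ?_⟩
    have : x * x = g * (g⁻¹ * (x * x) * g) * g⁻¹ := by group
    rw [this, h2]; group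
  · rintro ⟨h1, h2⟩
    refine ⟨h1, ?_⟩
    rw [h2]; group

/-- `B ≅ Z₄ × Z₄` is a TI-subgroup which is the only conjugate of itself in its normaliser -/
structure Base (B : Subgroup G) : Prop where
  comm : ∀ x ∈ B, ∀ y ∈ B, x * y = y * x
  card : Nat.card B = 16
  exp : ∀ x ∈ B, x * x * (x * x) = 1
  om : Nat.card (Om B) = 4
  ti : ∀ g : G, ∀ x ∈ B, x ≠ 1 → g * x * g⁻¹ ∈ B → cj g B = B
  wc : ∀ g : G, cj g B ≤ normalizer (B : Set G) → cj g B = B

/-- the conjugates of `B` -/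
def Cl (B : Subgroup G) : Set (Subgroup G) := {X | ∃ g : G, X = cj g B}

theorem self_mem_Cl (B : Subgroup G) : B ∈ Cl B := ⟨1, (cj_one' B).symm⟩

theorem cj_mem_Cl {B X : Subgroup G} (h : X ∈ Cl B) (g : G) : cj g X ∈ Cl B := by
  obtain ⟨k, rfl⟩ := h
  exact ⟨g * k, cj_cj g k B⟩

theorem Base.conj {B : Subgroup G} (h : Base B) (g : G) : Base (cj g B) where
  comm := cj_comm h.comm g
  card := by rw [card_cj]; exact h.card
  exp := by
    intro x hx
    rw [mem_cj] at hx
    have h1 := h.exp _ hx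
    have h2 : x * x * (x * x) = g * (g⁻¹ * x * g * (g⁻¹ * x * g) * (g⁻¹ * x * g * (g⁻¹ * x * g))) * g⁻¹ := by
      group
    rw [h2, h1]; group
  om := by rw [← cj_Om h.comm, card_cj]; exact h.om
  ti := by
    intro k x hx hx1 hk
    rw [mem_cj] at hx hk
    have h1 := h.ti (g⁻¹ * k * g) (g⁻¹ * x * g) hx (by
      intro h2
      apply hx1
      have : x = g * (g⁻¹ * x * g) * g⁻¹ := by group
      rw [this, h2]; group) (by convert hk using 1; group)
    have h2 := congrArg (cj g) h1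
    rw [cj_cj] at h2
    rw [cj_cj, ← h2]
    have h3 : g * (g⁻¹ * k * g) = k * g := by group
    rw [h3]
  wc := by
    intro k hk
    have h1 := h.wc (g⁻¹ * k * g) (by
      intro x hx
      rw [mem_cj] at hx
      have h2 : g * x * g⁻¹ ∈ cj k (cj g B) := by
        rw [cj_cj, mem_cj]
        convert hx using 1; group
      have h3 := mem_normalizer_cj.1 (hk h2)
      convert h3 using 1; group)
    have h2 := congrArg (cj g) h1
    rw [cj_cj] at h2
    rw [cj_cj, ← h2]
    have h3 : g * (g⁻¹ * k * g) = k * g := by group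
    rw [h3]

theorem Base.of_mem {B X : Subgroup G} (h : Base B) (hX : X ∈ Cl B) : Base X := by
  obtain ⟨g, rfl⟩ := hX
  exact h.conj g

theorem Cl_eq {B X : Subgroup G} (hX : X ∈ Cl B) : Cl X = Cl B := by
  obtain ⟨g, rfl⟩ := hX
  ext Y
  constructor
  · rintro ⟨k, rfl⟩
    exact ⟨k * g, cj_cj k g B⟩
  · rintro ⟨k, rfl⟩
    refine ⟨k * g⁻¹, ?_⟩
    rw [cj_cj, inv_mul_cancel_right]

theorem Base.ti2 {B X Y : Subgroup G} (h : Base B) (hX : X ∈ Cl B) (hY : Y ∈ Cl B) {x : G} (hxX : x ∈ X)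
    (hxY : x ∈ Y) (hx1 : x ≠ 1) : X = Y := by
  rw [← Cl_eq hY] at hX
  obtain ⟨g, rfl⟩ := hX
  rw [mem_cj] at hxX
  refine (h.of_mem hY).ti g _ hxX ?_ ?_
  · intro h2
    apply hx1
    have : x = g * (g⁻¹ * x * g) * g⁻¹ := by group
    rw [this, h2]; group
  · convert hxY using 1; group

theorem Base.cj_of_comm {B : Subgroup G} (h : Base B) {g x : G} (hx : x ∈ B) (hx1 : x ≠ 1)
    (hgx : g * x = x * g) : cj g B = B := by
  apply h.ti g x hx hx1
  rw [hgx]; simpa using hx

theorem Base.cj_mem_self {B : Subgroup G} (h : Base B) {x : G} (hx : x ∈ B) : cj x B = B :=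
  cj_of_abelian h.comm le_rfl hx

/-- `A` and `B` are adjacent -/
structure Adj (B A : Subgroup G) : Prop where
  base : Base B
  mem : A ∈ Cl B
  ne : A ≠ B
  ex : ∃ a ∈ A, a ≠ 1 ∧ cj a B = B

theorem Om_le {X : Subgroup G} (hc : ∀ x ∈ X, ∀ y ∈ X, x * y = y * x) : Om X ≤ X := fun _ hx =>
  ((mem_Om hc).1 hx).1

theorem Base.sq_mem_Om {B : Subgroup G} (h : Base B) {b : G} (hb : b ∈ B) : b * b ∈ Om B :=
  (mem_Om h.comm).2 ⟨B.mul_mem hb hb, h.exp b hb⟩

theorem Base.Om_sq {B : Subgroup G} (h : Base B) {y : G} (hy : y ∈ Om B) : y * y = 1 :=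
  ((mem_Om h.comm).1 hy).2

theorem Base.Om_le {B : Subgroup G} (h : Base B) : Om B ≤ B := End.Om_le h.comm

theorem Adj.baseA {B A : Subgroup G} (h : Adj B A) : Base A := h.base.of_mem h.mem

/-- `N_A(B)` consists of involutions -/
theorem Adj.sq_one [Finite G] {B A : Subgroup G} (h : Adj B A) {a : G} (ha : a ∈ A) (haB : cj a B = B) :
    a * a = 1 := by
  have hA := h.baseA
  obtain ⟨g, hg⟩ : B ∈ Cl A := by rw [Cl_eq h.mem]; exact self_mem_Cl B
  have hA2 : IsPGroup 2 A := IsPGroup.of_card (n := 4) (by rw [hA.card]; norm_num)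
  have hne : A.map (MulAut.conj g).toMonoidHom ≠ A := by
    intro h1
    apply h.ne
    rw [hg]
    exact h1.symm
  rcases Cfsg.Agent.S1781.result A hA2 ⟨⟨fun a b => Subtype.ext (hA.comm a a.2 b b.2)⟩⟩ (by
    intro k
    by_cases hk : A.map (MulAut.conj k).toMonoidHom ⊓ A = ⊥
    · exact Or.inr hk
    · left
      have h2 : ∃ x ∈ cj k A ⊓ A, x ≠ 1 := by
        by_contra hc
        push Not at hc
        exact hk (eq_bot_iff.2 fun x hx => mem_bot.2 (hc x hx))
      obtain ⟨x, hx, hx1⟩ := h2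
      exact hA.ti2 ⟨k, rfl⟩ (self_mem_Cl A) hx.1 hx.2 hx1) g hne with h1 | h1
  · have h2 := h1.2 a ⟨ha, by
      have : (A.map (MulAut.conj g).toMonoidHom : Subgroup G) = B := hg.symm
      rw [this]
      exact normalizer_of_cj_eq haB⟩
    rwa [pow_two] at h2
  · exfalso
    apply h.ne
    obtain ⟨k, hk⟩ := h.mem
    rw [hk]
    apply h.base.wc
    intro x hx
    have h2 : (A.map (MulAut.conj g).toMonoidHom : Subgroup G) = B := hg.symm
    rw [h2, commutator_eq_bot_iff_le_centralizer] at h1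
    rw [← hk] at hx
    have h3 := mem_centralizer_iff.1 (h1 hx)
    rw [mem_normalizer_iff]
    intro y
    constructor
    · intro hy
      rw [← h3 y hy]; simpa using hy
    · intro hy
      have h4 := h3 _ hy
      have h5 : y = x⁻¹ * (x * y * x⁻¹) * x := by group
      rw [h5]
      have h6 : x⁻¹ * (x * y * x⁻¹) * x = x * y * x⁻¹ := by
        rw [mul_assoc, h4]; group
      rw [h6]; exact hy

theorem conj_mem {g x : G} {X : Subgroup G} (h : cj g X = X) (hx : x ∈ X) : g * x * g⁻¹ ∈ X := by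
  have := cj_mem (g := g) hx
  rwa [h] at this

end Cfsg.Agent.TIAbelian.End
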