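import Cfsg.Agent.TIAbelian.EndOrderThree

/-!
# Elements centralising `B`
-/

set_option autoImplicit false
set_option linter.unusedSectionVars false

namespace Cfsg.Agent.TIAbelian.End

open Subgroup
open Cfsg.Agent.ClassificationK.TIPair (cj mem_normalizer_cj normalizer_of_cj_eq cj_eq_of_mem_normalizer)
open Cfsg.Agent.ClassificationK.TIFamily (mem_cj cj_mul cj_one)

universe u

variable {G : Type u} [Group G] {B A C : Subgroup G} [Finite G]

theorem Adj.conj_self (h : Adj B A) {b : G} (hb : b ∈ B) : Adj B (cj b A) := by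
  have h1 := h.conj b
  rwa [h.base.cj_mem_self hb] at h1

/-- `r` centralises `Om B` and normalises two members of the line -/
theorem Adj.cent_Om_gen (h : Adj B A) {r β : G} (hr : ∀ y ∈ Om B, r * y = y * r) (hβ : β ∈ B) (hβO : β ∉ Om B)
    (hrA : cj r A = A) (hrA' : cj r (cj β A) = cj β A) : ∀ a ∈ Om A, r * a = a * r := by
  intro a ha
  have ha' : r * a * r⁻¹ ∈ Om A := by
    have h1 := cj_mem (g := r) ha
    rwa [cj_Om h.baseA.comm, hrA] at h1
  have h1 := h.conj_a ha β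
  have h2 := h.conj_a ha' β
  have h3 : r * (β * a * β⁻¹) * r⁻¹ ∈ cj β A := conj_mem hrA' (cj_mem (h.baseA.Om_le ha))
  have h4 : β * (r * a * r⁻¹) * β⁻¹ ∈ cj β A := cj_mem (h.baseA.Om_le ha')
  have h5 := hr _ (h.br_mem ha hβ)
  have h6 : r * (β * a * β⁻¹) * r⁻¹ = (r * a * r⁻¹) * br a β := by
    rw [h1]
    calc r * (a * br a β) * r⁻¹ = r * a * r⁻¹ * (r * br a β) * r⁻¹ := by group
      _ = r * a * r⁻¹ * (br a β * r) * r⁻¹ := by rw [h5]
      _ = _ := by group
  have h7 : (br (r * a * r⁻¹) β)⁻¹ * br a β = 1 := by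
    apply (h.conj_self hβ).inf
    · have h8 : (br (r * a * r⁻¹) β)⁻¹ * br a β =
          (β * (r * a * r⁻¹) * β⁻¹)⁻¹ * (r * (β * a * β⁻¹) * r⁻¹) := by
        rw [h6, h2]; group
      rw [h8]
      exact (cj β A).mul_mem ((cj β A).inv_mem h4) h3
    · exact h.base.Om_le ((Om B).mul_mem ((Om B).inv_mem (h.br_mem ha' hβ)) (h.br_mem ha hβ))
  have h8 := h.br_left_inj ha' ha hβ hβO (inv_mul_eq_one.1 h7)
  calc r * a = (r * a * r⁻¹) * r := by group
    _ = a * r := by rw [h8]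

theorem Adj.cent_Om (h : Adj B A) {k : G} (hkB : ∀ b ∈ B, k * b = b * k) (hkA : cj k A = A) :
    ∀ a ∈ Om A, k * a = a * k := by
  obtain ⟨b, hb, -, -, hbO, -, -⟩ := h.base.exists_pair
  refine h.cent_Om_gen (fun y hy => hkB y (h.base.Om_le hy)) hb hbO hkA ?_
  rw [cj_cj, hkB b hb, ← cj_cj, hkA]

/-- the swapping element in the form `b a⁻¹ b` -/
theorem Adj.exists_swap' (h : Adj B A) : ∃ a ∈ A, ∃ b ∈ B, cj (b * a⁻¹ * b) A = B ∧ cj (b * a⁻¹ * b) B = A := by
  obtain ⟨b, hb, -, -, hbO, -, -⟩ := h.base.exists_pair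
  obtain ⟨x₀, hx₀, hx₀1⟩ := h.baseA.exists_ne
  have hy₀ := h.br_mem hx₀ hb
  have hy₀1 : br x₀ b ≠ 1 := fun h1 => hbO (h.br_one hx₀ hx₀1 hb h1)
  obtain ⟨a, ha, hax⟩ := h.symm.br_right_surj hy₀ hy₀1 hx₀
  have h1 := h.conj_a hx₀ b
  have h2 := h.symm.conj_a hy₀ a
  rw [hax] at h2
  have hcomm := h.comm_Om_Om hx₀ hy₀
  have hne : x₀ * br x₀ b ≠ 1 := by
    intro h3
    have h4 : b * x₀ * b⁻¹ = 1 := by rw [h1, h3]
    apply hx₀1
    calc x₀ = b⁻¹ * (b * x₀ * b⁻¹) * b := by group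
      _ = 1 := by rw [h4]; group
  have hBA : cj b A = cj a B := by
    refine h.base.ti2 (cj_mem_Cl h.mem b) ⟨a, rfl⟩ (x := x₀ * br x₀ b) ?_ ?_ hne
    · rw [← h1]; exact cj_mem (h.baseA.Om_le hx₀)
    · rw [hcomm, ← h2]; exact cj_mem (h.base.Om_le hy₀)
  have hbB : cj b B = B := h.base.cj_mem_self hb
  have haA : cj a A = A := h.baseA.cj_mem_self ha
  have hcjw : ∀ X : Subgroup G, cj (b * a⁻¹ * b) X = cj b (cj a⁻¹ (cj b X)) := by
    intro X
    rw [cj_cj, cj_cj, mul_assoc]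
  have haB : cj a⁻¹ B = cj b A := by
    have h3 : (a * a)⁻¹ ∈ Om A := (Om A).inv_mem (h.baseA.sq_mem_Om ha)
    have h4 := h.norm h3
    rw [hBA]
    conv_rhs => rw [← h4]
    rw [cj_cj]
    have h5 : a * (a * a)⁻¹ = a⁻¹ := by group
    rw [h5]
  refine ⟨a, ha, b, hb, ?_, ?_⟩
  · rw [hcjw, hBA, cj_cancel, hbB]
  · rw [hcjw, hbB, haB, cj_cj]
    exact h.symm.norm (h.base.sq_mem_Om hb)

/-- elements centralising both `A` and `B` -/
structure Dd (B A : Subgroup G) (d : G) : Prop where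
  cB : ∀ b ∈ B, d * b = b * d
  cA : ∀ a ∈ A, d * a = a * d

theorem cj_comm_fix {k : G} {X : Subgroup G} (h : ∀ x ∈ X, k * x = x * k) : cj k X = X := by
  ext x
  rw [mem_cj]
  constructor
  · intro hx
    have h1 := h _ hx
    have h2 : x = k⁻¹ * x * k := by
      calc x = k * (k⁻¹ * x * k) * k⁻¹ := by group
        _ = (k⁻¹ * x * k) * k * k⁻¹ := by rw [h1]
        _ = k⁻¹ * x * k := by group
    rw [h2]; exact hx
  · intro hx
    have h1 := h _ hx
    have h2 : k⁻¹ * x * k = x := by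
      calc k⁻¹ * x * k = k⁻¹ * (x * k) := by group
        _ = k⁻¹ * (k * x) := by rw [h1]
        _ = x := by group
    rw [h2]; exact hx

theorem Dd.inv {d : G} (h : Dd B A d) : Dd B A d⁻¹ := by
  constructor
  · intro b hb
    have h1 := h.cB b hb
    calc d⁻¹ * b = d⁻¹ * (b * d) * d⁻¹ := by group
      _ = d⁻¹ * (d * b) * d⁻¹ := by rw [h1]
      _ = b * d⁻¹ := by group
  · intro b hb
    have h1 := h.cA b hb
    calc d⁻¹ * b = d⁻¹ * (b * d) * d⁻¹ := by group
      _ = d⁻¹ * (d * b) * d⁻¹ := by rw [h1]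
      _ = b * d⁻¹ := by group

theorem Dd.mul {d e : G} (h : Dd B A d) (he : Dd B A e) : Dd B A (d * e) := by
  constructor
  · intro b hb
    calc d * e * b = d * (e * b) := by group
      _ = d * b * e := by rw [he.cB b hb]; group
      _ = b * (d * e) := by rw [h.cB b hb]; group
  · intro b hb
    calc d * e * b = d * (e * b) := by group
      _ = d * b * e := by rw [he.cA b hb]; group
      _ = b * (d * e) := by rw [h.cA b hb]; group

theorem Adj.split (h : Adj B A) {k : G} (hkB : ∀ b ∈ B, k * b = b * k) (hkA : cj k A = A) :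
    ∃ y ∈ Om B, ∃ d, Dd B A d ∧ k = y * d := by
  obtain ⟨a, ha, b, hb, hwA, hwB⟩ := h.exists_swap'
  set w := b * a⁻¹ * b with hw
  have hOm := h.cent_Om hkB hkA
  have hka : k * a * k⁻¹ ∈ A := conj_mem hkA ha
  -- `z = [k,a]`
  have hzA : k * a * k⁻¹ * a⁻¹ ∈ A := A.mul_mem hka (A.inv_mem ha)
  have haa := hOm _ (h.baseA.sq_mem_Om ha)
  have hzz : k * a * k⁻¹ * a⁻¹ * (k * a * k⁻¹ * a⁻¹) = 1 := by
    have h1 := h.baseA.comm _ hka _ (A.inv_mem ha)
    calc k * a * k⁻¹ * a⁻¹ * (k * a * k⁻¹ * a⁻¹) = (k * a * k⁻¹) * (a⁻¹ * (k * a * k⁻¹)) * a⁻¹ := by group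
      _ = (k * a * k⁻¹) * ((k * a * k⁻¹) * a⁻¹) * a⁻¹ := by rw [h1]
      _ = (k * (a * a)) * k⁻¹ * a⁻¹ * a⁻¹ := by group
      _ = ((a * a) * k) * k⁻¹ * a⁻¹ * a⁻¹ := by rw [haa]
      _ = 1 := by group
  set z := k * a * k⁻¹ * a⁻¹ with hz
  have hzO : z ∈ Om A := (mem_Om h.baseA.comm).2 ⟨hzA, hzz⟩
  have hzi := h.Om_inv hzO
  have h1 : k * a⁻¹ * k⁻¹ = z * a⁻¹ := by
    have h2 : k * a⁻¹ * k⁻¹ = a⁻¹ * z⁻¹ := by rw [hz]; group
    rw [h2, hzi]
    exact h.baseA.comm _ (A.inv_mem ha) _ hzA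
  have hkb := hkB b hb
  have h2 : k * w = (b * z * b⁻¹) * w * k := by
    calc k * w = (k * b) * a⁻¹ * b := by rw [hw]; group
      _ = (b * k) * a⁻¹ * b := by rw [hkb]
      _ = b * (k * a⁻¹ * k⁻¹) * (k * b) := by group
      _ = b * (z * a⁻¹) * (b * k) := by rw [h1, hkb]
      _ = (b * z * b⁻¹) * w * k := by rw [hw]; group
  have h3 := h.conj_a hzO b
  have hy := h.br_mem hzO hb
  -- `w k w⁻¹` centralises `A`
  have h4 : ∀ x ∈ A, (w * k * w⁻¹) * x = x * (w * k * w⁻¹) := by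
    intro x hx
    have h5 : w⁻¹ * x * w ∈ B := by
      rw [← hwB, mem_cj] at hx
      exact hx
    have h6 := hkB _ h5
    calc (w * k * w⁻¹) * x = w * (k * (w⁻¹ * x * w)) * w⁻¹ := by group
      _ = w * ((w⁻¹ * x * w) * k) * w⁻¹ := by rw [h6]
      _ = x * (w * k * w⁻¹) := by group
  have h5 : k = (z * br z b) * (w * k * w⁻¹) := by
    calc k = (k * w) * w⁻¹ := by group
      _ = ((b * z * b⁻¹) * w * k) * w⁻¹ := by rw [h2]
      _ = (z * br z b) * (w * k * w⁻¹) := by rw [h3]; group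
  have h6 : br z b * z = z * br z b := (h.comm_Om_Om hzO hy).symm
  have hyy := h.base.Om_sq hy
  refine ⟨br z b, hy, br z b * k, ⟨?_, ?_⟩, ?_⟩
  · intro x hx
    have h7 := h.base.comm _ (h.base.Om_le hy) x hx
    calc br z b * k * x = br z b * (k * x) := by group
      _ = (br z b * x) * k := by rw [hkB x hx]; group
      _ = x * (br z b * k) := by rw [h7]; group
  · intro x hx
    have h7 : br z b * k = z * (w * k * w⁻¹) := by
      calc br z b * k = br z b * ((z * br z b) * (w * k * w⁻¹)) := by rw [← h5]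
        _ = (br z b * z) * br z b * (w * k * w⁻¹) := by group
        _ = z * (br z b * br z b) * (w * k * w⁻¹) := by rw [h6]; group
        _ = z * (w * k * w⁻¹) := by rw [hyy, mul_one]
    rw [h7]
    have h8 := h.baseA.comm z hzA x hx
    calc z * (w * k * w⁻¹) * x = z * ((w * k * w⁻¹) * x) := by group
      _ = (z * x) * (w * k * w⁻¹) := by rw [h4 x hx]; group
      _ = x * (z * (w * k * w⁻¹)) := by rw [h8]; group
  · rw [← mul_assoc, hyy, one_mul]

/-- an element of `B` centralising `A` is trivial -/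
theorem Adj.inf_cent (h : Adj B A) {x : G} (hx : x ∈ B) (hxA : ∀ a ∈ A, x * a = a * x) : x = 1 := by
  by_contra hx1
  obtain ⟨a, ha, -, -, haO, -, -⟩ := h.baseA.exists_pair
  exact haO (h.symm.fix_mem hx hx1 ha (hxA a ha))

/-- nontrivial elements of the `Om X` -/
def Iv (B : Subgroup G) (x : G) : Prop := x ≠ 1 ∧ ∃ X ∈ Cl B, x ∈ Om X

theorem Iv.conj (hB : Base B) {x : G} (h : Iv B x) (g : G) : Iv B (g * x * g⁻¹) := by
  obtain ⟨hx1, X, hX, hx⟩ := h
  refine ⟨?_, cj g X, cj_mem_Cl hX g, ?_⟩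
  · intro h1
    apply hx1
    calc x = g⁻¹ * (g * x * g⁻¹) * g := by group
      _ = 1 := by rw [h1]; group
  · rw [← cj_Om (hB.of_mem hX).comm]
    exact cj_mem hx

theorem Iv.sq (hB : Base B) {x : G} (h : Iv B x) : x * x = 1 := by
  obtain ⟨-, X, hX, hx⟩ := h
  exact (hB.of_mem hX).Om_sq hx

theorem Iv.inv (hB : Base B) {x : G} (h : Iv B x) : x⁻¹ = x := inv_eq_self (h.sq hB)

theorem Adj.Iv_line (h : Adj B A) {x : G} (hx : x ∈ Om A ⊔ Om B) (hx1 : x ≠ 1) : Iv B x := by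
  obtain ⟨X, hX, hxX, -⟩ := h.cover hx hx1
  refine ⟨hx1, X, ?_, hxX⟩
  rcases hX with rfl | ⟨b, -, rfl⟩
  · exact self_mem_Cl X
  · exact cj_mem_Cl h.mem b

theorem Iv.mul (hB : Base B) {x y : G} (hx : Iv B x) (hy : Iv B y) (hxy : x * y = y * x) (hne : x ≠ y) :
    Iv B (x * y) := by
  have hne1 : x * y ≠ 1 := by
    intro h1
    apply hne
    rw [← hy.inv hB]
    exact eq_inv_of_mul_eq_one_left h1
  obtain ⟨hx1, X, hX, hxX⟩ := hx
  obtain ⟨hy1, Y, hY, hyY⟩ := hy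
  have bX := hB.of_mem hX
  have bY := hB.of_mem hY
  by_cases hXY : X = Y
  · subst hXY
    exact ⟨hne1, X, hX, (Om X).mul_mem hxX hyY⟩
  · have hadj : Adj Y X := bY.adj_of_comm (by rw [Cl_eq hY]; exact hX) hXY (bX.Om_le hxX) hx1 (bY.Om_le hyY)
      hy1 hxy
    have h1 := hadj.Iv_line (hadj.mem_line.2 ⟨x, hxX, y, hyY, rfl⟩) hne1
    obtain ⟨-, Z, hZ, hz⟩ := h1
    exact ⟨hne1, Z, by rwa [← Cl_eq hY], hz⟩

theorem Iv.mem_of_cent (hB : Base B) {x : G} (hx : Iv B x) (hc : ∀ b ∈ B, x * b = b * x) : x ∈ Om B := by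
  obtain ⟨hx1, X, hX, hxX⟩ := hx
  have bX := hB.of_mem hX
  by_cases hXB : X = B
  · rwa [← hXB]
  exfalso
  obtain ⟨y, hy, hy1⟩ := hB.exists_ne
  have hadj : Adj B X := hB.adj_of_comm hX hXB (bX.Om_le hxX) hx1 (hB.Om_le hy) hy1 (hc y (hB.Om_le hy))
  obtain ⟨b, hb, -, -, hbO, -, -⟩ := hB.exists_pair
  exact hbO (hadj.fix_mem (bX.Om_le hxX) hx1 hb (hc b hb))

/-- S3 -/
theorem Adj.mem_line_of_comm (h : Adj B A) {x a : G} (ha : a ∈ Om A) (ha1 : a ≠ 1) (hx : Iv B x)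
    (hk : ∀ b ∈ B, (a * x) * b = b * (a * x)) (hcomm : a * x = x * a) : x ∈ Om A ⊔ Om B := by
  by_cases hax : a = x
  · rw [← hax]
    exact (le_sup_left : Om A ≤ Om A ⊔ Om B) ha
  have h1 : Iv B (a * x) := by
    refine Iv.mul h.base ⟨ha1, A, h.mem, ha⟩ hx hcomm hax
  have h2 := h1.mem_of_cent h.base hk
  rw [h.mem_line]
  refine ⟨a, ha, a * x, h2, ?_⟩
  rw [← mul_assoc, h.baseA.Om_sq ha, one_mul]

/-- S4 -/
theorem Adj.form_four (h : Adj B A) {x a : G} (ha : a ∈ Om A) (ha1 : a ≠ 1) (hx : Iv B x)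
    (hk : ∀ b ∈ B, (a * x) * b = b * (a * x)) (h2 : (a * x) * (a * x) ≠ 1)
    (h4 : (a * x) * (a * x) * ((a * x) * (a * x)) = 1) :
    ∃ b ∈ B, ∃ d, b ∉ Om B ∧ Dd B A d ∧ d * d = 1 ∧ x = a * b * d ∧ br a b = b * b := by
  have hai := h.Om_inv ha
  have haa := h.baseA.Om_sq ha
  have hxi := hx.inv h.base
  have hxx := hx.sq h.base
  have ivA : Iv B a := ⟨ha1, A, h.mem, ha⟩
  set y := (a * x) * (a * x) with hy
  have hconj : x * a * x⁻¹ = a * y := by
    rw [hxi, hy]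
    calc x * a * x = (a * a) * x * a * x := by rw [haa, one_mul]
      _ = _ := by group
  have hyi : y⁻¹ = y := inv_eq_self h4
  have hy1 : a * (x * a * x⁻¹) = y := by
    rw [hconj, ← mul_assoc, haa, one_mul]
  have hcomm : a * (x * a * x⁻¹) = (x * a * x⁻¹) * a := by
    rw [hy1, ← hyi, ← hy1, mul_inv_rev, hai]
    congr 1
    rw [mul_inv_rev, mul_inv_rev, inv_inv, hai]
    group
  have hne : a ≠ x * a * x⁻¹ := by
    intro h1
    rw [← h1, haa] at hy1
    exact h2 hy1.symm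
  have ivy : Iv B y := by
    rw [← hy1]
    exact ivA.mul h.base (ivA.conj h.base x) hcomm hne
  have hyc : ∀ b ∈ B, y * b = b * y := by
    intro b hb
    have h1 := hk b hb
    calc y * b = (a * x) * ((a * x) * b) := by rw [hy]; group
      _ = (a * x) * (b * (a * x)) := by rw [h1]
      _ = ((a * x) * b) * (a * x) := by group
      _ = (b * (a * x)) * (a * x) := by rw [h1]
      _ = b * y := by rw [hy]; group
  have hyO := ivy.mem_of_cent h.base hyc
  obtain ⟨b, hb, hab⟩ := h.br_right_surj ha ha1 hyO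
  have hbO : b ∉ Om B := by
    intro h1
    apply h2
    rw [← hab]
    exact h.br_Om ha h1
  have hcj1 : cj x A = cj b A := by
    refine h.base.ti2 (cj_mem_Cl h.mem x) (cj_mem_Cl h.mem b) (x := a * y) ?_ ?_ ?_
    · rw [← hconj]; exact cj_mem (h.baseA.Om_le ha)
    · rw [← hab, ← h.conj_a ha b]; exact cj_mem (h.baseA.Om_le ha)
    · rw [← hconj]; exact (ivA.conj h.base x).1
  have haA : cj a A = A := h.baseA.cj_mem_self (h.baseA.Om_le ha)
  have hcj2 : cj (a * x) A = cj b A := by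
    rw [← cj_cj, hcj1, cj_cj]
    have h1 : a * b = (b * br a b) * a := by
      have h5 := h.base.comm b hb _ (h.base.Om_le (h.br_mem ha hb))
      rw [h5, br]; group
    rw [h1, ← cj_cj, haA, ← cj_cj, h.symm.norm (h.br_mem ha hb)]
  have hcj3 : cj (b⁻¹ * (a * x)) A = A := by
    rw [← cj_cj, hcj2, cj_cancel]
  obtain ⟨y', hy', d, hd, hkd⟩ := h.split (k := b⁻¹ * (a * x)) (by
    intro c hc
    have h1 := hk c hc
    have h5 := h.base.comm _ (B.inv_mem hb) c hc
    calc b⁻¹ * (a * x) * c = b⁻¹ * ((a * x) * c) := by group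
      _ = (b⁻¹ * c) * (a * x) := by rw [h1]; group
      _ = c * (b⁻¹ * (a * x)) := by rw [h5]; group) hcj3
  have hb' : b * y' ∈ B := B.mul_mem hb (h.base.Om_le hy')
  have hk' : a * x = b * y' * d := by
    calc a * x = b * (b⁻¹ * (a * x)) := by group
      _ = b * y' * d := by rw [hkd]; group
  have hx' : x = a * (b * y') * d := by
    calc x = (a * a) * x := by rw [haa, one_mul]
      _ = a * (a * x) := by group
      _ = a * (b * y') * d := by rw [hk']; group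
  have hdd : d * d = 1 := by
    have h1 : y = (b * y') * (b * y') * (d * d) := by
      rw [hy, hk']
      have h5 := hd.cB _ hb'
      calc b * y' * d * (b * y' * d) = b * y' * (d * (b * y')) * d := by group
        _ = b * y' * ((b * y') * d) * d := by rw [h5]
        _ = _ := by group
    have h3 : d * d ∈ B := by
      have h5 : d * d = ((b * y') * (b * y'))⁻¹ * y := by rw [h1]; group
      rw [h5]
      exact B.mul_mem (B.inv_mem (B.mul_mem hb' hb')) (h.base.Om_le hyO)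
    exact h.inf_cent h3 (hd.mul hd).cA
  have hbO' : b * y' ∉ Om B := by
    intro h1
    apply hbO
    have h5 : b = b * y' * y'⁻¹ := by group
    rw [h5]
    exact (Om B).mul_mem h1 ((Om B).inv_mem hy')
  refine ⟨b * y', hb', d, hbO', hd, hdd, hx', ?_⟩
  apply h.br_of_sq ha hb'
  have h1 : x * x = a * (b * y') * (a * (b * y')) * (d * d) := by
    have h5 := hd.cA _ (h.baseA.Om_le ha)
    have h6 := hd.cB _ hb'
    rw [hx']
    calc a * (b * y') * d * (a * (b * y') * d) = a * (b * y') * (d * a) * (b * y') * d := by group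
      _ = a * (b * y') * (a * d) * (b * y') * d := by rw [h5]
      _ = a * (b * y') * a * (d * (b * y')) * d := by group
      _ = a * (b * y') * a * ((b * y') * d) * d := by rw [h6]
      _ = _ := by group
  rw [hdd, mul_one, hxx] at h1
  exact h1.symm

end Cfsg.Agent.TIAbelian.End
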