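import Cfsg.Agent.TIAbelian.EndPlane

/-!
# No involution swaps the two vertices of an edge
-/

set_option autoImplicit false

namespace Cfsg.Agent.TIAbelian.End

open Subgroup
open Cfsg.Agent.ClassificationK.TIPair (cj mem_normalizer_cj normalizer_of_cj_eq cj_eq_of_mem_normalizer)
open Cfsg.Agent.ClassificationK.TIFamily (mem_cj cj_mul cj_one)

universe u

variable {G : Type u} [Group G] {E V : Set (Subgroup G)}

theorem Geo.even_central (hg : Geo E V) [Finite G] {z w : G} (hz : z ∈ II E) (hw : w ∈ II E)
    (he : ¬ Odd (orderOf (z * w))) :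
    ∃ t ∈ zpowers (z * w), t ∈ II E ∧ z * t = t * z ∧ w * t = t * w := by
  obtain ⟨t, ht, ht1, htt, hzt, hwt, y, hy⟩ := exists_central (hg.II_sq hz) (hg.II_sq hw)
    (orderOf_pos _) he
  have hztI : z * t ∈ II E := by
    rcases hy with hy | hy
    · rw [hy]; exact II_conj' hg hz y
    · rw [hy]; exact II_conj' hg hw y
  have hzz := hg.II_sq hz
  have htI : t ∈ II E := by
    have h1 := hg.mul_mem_II hz hztI (by rw [mul_assoc, ← hzt]) (by
      intro h
      apply ht1
      have : z * t = z * 1 := by rw [mul_one]; exact h.symm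
      exact mul_left_cancel this)
    rwa [← mul_assoc, hzz, one_mul] at h1
  exact ⟨t, ht, htI, hzt, hwt⟩

theorem Geo.even_V (hg : Geo E V) {U : Subgroup G} (hU : U ∈ V) : Even (Nat.card U) := by
  rw [hg.cardV U hU]; decide

theorem Geo.even_E (hg : Geo E V) {U : Subgroup G} (hU : U ∈ E) : Even (Nat.card U) := by
  rw [hg.cardE U hU]; decide

theorem conj_mem_of_cj {g x : G} {X : Subgroup G} (h : cj g X = X) (hx : x ∈ X) : g * x * g⁻¹ ∈ X := by
  have := cj_mem (g := g) hx
  rwa [h] at this

/-- an involution swapping the vertices of an edge fixes no vertex -/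
theorem Ends.no_fix (hg : Geo E V) [Finite G] {X U e : Subgroup G} (hX : X ∈ E) (h : Ends E V X U e) {s : G}
    (hs : s * s = 1) (hsU : cj s U = e) {w : Subgroup G} (hw : w ∈ V) : cj s w ≠ w := by
  intro hsw
  have hse : cj s e = U := cj_swap hs hsU
  have hsX : cj s X = X := by
    apply hg.eq_of_le (hg.conjE s X hX) hX
    intro x hx
    apply h.mem_of_mem hg
    · rw [← hse]; exact cj_le_cj.2 h.leW hx
    · rw [← hsU]; exact cj_le_cj.2 h.leU hx
  obtain ⟨d, hd, hd1, hsd⟩ := exists_commute (X := w) hs (hg.even_V hw) (fun x hx => conj_mem_of_cj hsw hx)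
  obtain ⟨z, hz, hz1, hsz⟩ := exists_commute (X := X) hs (hg.even_E hX) (fun x hx => conj_mem_of_cj hsX hx)
  obtain ⟨D, hD, hdD, hDw⟩ := hg.cover w hw d hd hd1
  have hsD : cj s D = D := hg.cj_eq_of_comm hD hdD hd1 hsd
  have hzI : z ∈ II E := ⟨hz1, X, hX, hz⟩
  have hdI : d ∈ II E := ⟨hd1, D, hD, hdD⟩
  by_cases ho : Odd (orderOf (z * d))
  · obtain ⟨y, hy, hyd⟩ := exists_conj_of_odd (hg.II_sq hzI) (hg.II_sq hdI) ho
    have hys : s * y = y * s := by
      have h1 : zpowers (z * d) ≤ centralizer ({s} : Set G) := by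
        rw [zpowers_le, mem_centralizer_singleton_iff]
        calc z * d * s = z * (d * s) := by group
          _ = z * (s * d) := by rw [hsd]
          _ = (z * s) * d := by group
          _ = (s * z) * d := by rw [hsz]
          _ = s * (z * d) := by group
      exact (mem_centralizer_singleton_iff.1 (h1 hy)).symm
    have hXD : cj y⁻¹ X = D := by
      apply hg.cj_eq hX hD hz hz1
      rw [inv_inv, hyd]; exact hdD
    have h2 := h.conj hg hX y⁻¹
    rw [hXD] at h2
    have h3 : ∀ W : Subgroup G, cj s (cj y⁻¹ W) = cj y⁻¹ (cj s W) := by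
      intro W
      rw [cj_cj, cj_cj]
      have : s * y⁻¹ = y⁻¹ * s := by
        have h4 : y⁻¹ * (s * y) * y⁻¹ = y⁻¹ * (y * s) * y⁻¹ := by rw [hys]
        simpa [mul_assoc] using h4.symm
      rw [this]
    rcases h2.uniq w hw hDw with h4 | h4
    · rw [h4, h3, hsU] at hsw
      exact h.ne (cj_injective _ hsw).symm
    · rw [h4, h3, hse] at hsw
      exact h.ne (cj_injective _ hsw)
  · obtain ⟨t, ht, htI, hzt, hdt⟩ := hg.even_central hzI hdI ho
    have hst : s * t = t * s := by
      have h1 : zpowers (z * d) ≤ centralizer ({s} : Set G) := by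
        rw [zpowers_le, mem_centralizer_singleton_iff]
        calc z * d * s = z * (d * s) := by group
          _ = z * (s * d) := by rw [hsd]
          _ = (z * s) * d := by group
          _ = (s * z) * d := by rw [hsz]
          _ = s * (z * d) := by group
      exact (mem_centralizer_singleton_iff.1 (h1 ht)).symm
    obtain ⟨ht1, Y, hY, htY⟩ := id htI
    have hsY : cj s Y = Y := hg.cj_eq_of_comm hY htY ht1 hst
    -- every vertex `f` of `Y` containing `X`
    have key : ∀ f ∈ V, Y ≤ f → X ≤ f → Y = X := by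
      intro f hf hYf hXf
      have hYsf : Y ≤ cj s f := by rw [← hsY]; exact cj_le_cj.2 hYf
      rcases h.uniq f hf hXf with rfl | rfl
      · rw [hsU] at hYsf
        exact hg.eq_of_le hY hX (fun y hy => h.mem_of_mem hg (hYf hy) (hYsf hy))
      · rw [hse] at hYsf
        exact hg.eq_of_le hY hX (fun y hy => h.mem_of_mem hg (hYsf hy) (hYf hy))
    obtain ⟨f, f', hff⟩ := hg.two Y hY
    have hYX : Y = X := by
      rcases hff.comm t htY ht1 X hX z hz hz1 hzt.symm with h1 | h1
      · exact key f hff.hU hff.leU (hg.le_of_mem hX hff.hU hz1 hz h1)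
      · exact key f' hff.hW hff.leW (hg.le_of_mem hX hff.hW hz1 hz h1)
    subst hYX
    have hDX : D = Y := by
      rcases h.comm t htY ht1 D hD d hdD hd1 hdt.symm with h1 | h1
      · have hDU := hg.le_of_mem hD h.hU hd1 hdD h1
        have hDe : D ≤ e := by rw [← hsD, ← hsU]; exact cj_le_cj.2 hDU
        exact hg.eq_of_le hD hX (fun y hy => h.mem_of_mem hg (hDU hy) (hDe hy))
      · have hDe := hg.le_of_mem hD h.hW hd1 hdD h1
        have hDU : D ≤ U := by rw [← hsD, ← hse]; exact cj_le_cj.2 hDe
        exact hg.eq_of_le hD hX (fun y hy => h.mem_of_mem hg (hDU hy) (hDe hy))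
    subst hDX
    rcases h.uniq w hw hDw with h4 | h4
    · rw [h4, hsU] at hsw
      exact h.ne hsw.symm
    · rw [h4, hse] at hsw
      exact h.ne hsw

/-- A simple group acting on the cosets of `N`, with an involution acting without fixed points, and `2k` cosets,
`k` odd: impossible. -/
theorem card_le_two_of_odd_perm [Finite G] [IsSimpleGroup G] (N : Subgroup G) {k : ℕ} (hk : Odd k)
    (hN : N.index = 2 * k) {s : G} (hs : s * s = 1) (hfix : ∀ g : G, g⁻¹ * s * g ∉ N) : Nat.card G ≤ 2 := by
  classical
  have hf : Finite (G ⧸ N) := inferInstance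
  have := Fintype.ofFinite (G ⧸ N)
  let φ : G →* ℤˣ := Equiv.Perm.sign.comp (MulAction.toPermHom G (G ⧸ N))
  have h1 : φ s = -1 := by
    change Equiv.Perm.sign (MulAction.toPermHom G (G ⧸ N) s) = -1
    set σ := MulAction.toPermHom G (G ⧸ N) s with hσ
    have hσ2 : σ ^ 2 = 1 := by rw [hσ, ← map_pow, pow_two, hs, map_one]
    have : Fact (Nat.Prime 2) := ⟨Nat.prime_two⟩
    have h2 := Equiv.Perm.cycleType_of_pow_prime_eq_one (p := 2) hσ2
    have h3 := Equiv.Perm.sum_cycleType σ
    rw [h2, Multiset.sum_replicate] at h3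
    have h4 : σ.support = Finset.univ := by
      ext x
      simp only [Equiv.Perm.mem_support, Finset.mem_univ, iff_true]
      induction x using QuotientGroup.induction_on with
      | H g =>
        intro h5
        apply hfix g
        have h6 : (((s * g : G) : G ⧸ N)) = (g : G ⧸ N) := h5
        have h7 := QuotientGroup.eq.1 h6.symm
        rwa [← mul_assoc] at h7
    have h5 : Fintype.card (G ⧸ N) = 2 * k := by
      rw [← hN, Subgroup.index, Nat.card_eq_fintype_card]
    rw [h4, Finset.card_univ, h5, smul_eq_mul] at h3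
    have h6 : Multiset.card σ.cycleType = k := by omega
    rw [Equiv.Perm.sign_of_cycleType', h2, Multiset.map_replicate, Multiset.prod_replicate, h6]
    rw [show (-(-1 : ℤˣ) ^ 2) = -1 by simp]
    exact hk.neg_one_pow
  have hker : φ.ker = ⊥ := by
    rcases (inferInstance : φ.ker.Normal).eq_bot_or_eq_top with h2 | h2
    · exact h2
    · exfalso
      have h3 : s ∈ φ.ker := by rw [h2]; trivial
      rw [MonoidHom.mem_ker, h1] at h3
      exact absurd h3 (by decide)
  have hinj : Function.Injective φ := (MonoidHom.ker_eq_bot_iff φ).1 hker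
  have h2 := Nat.card_le_card_of_injective φ hinj
  have h3 : Nat.card ℤˣ = 2 := by
    rw [Nat.card_eq_fintype_card]; rfl
  omega

/-- If the two vertices of an edge are conjugate and this is realised by an involution, contradiction. -/
theorem Ends.false_of_swap (hg : Geo E V) [Finite G] [IsSimpleGroup G] {X U e : Subgroup G} (hX : X ∈ E)
    (h : Ends E V X U e) {s : G} (hs : s * s = 1) (hsU : cj s U = e)
    (hodd : Odd (normalizer (X : Set G)).index) : False := by
  classical
  have := Fintype.ofFinite G
  have hse : cj s e = U := cj_swap hs hsU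
  have hsX : cj s X = X := by
    apply hg.eq_of_le (hg.conjE s X hX) hX
    intro x hx
    apply h.mem_of_mem hg
    · rw [← hse]; exact cj_le_cj.2 h.leW hx
    · rw [← hsU]; exact cj_le_cj.2 h.leU hx
  have h5 := h.relIndex hg hX
  have h2 : (normalizer (U : Set G)).relIndex (normalizer (X : Set G)) = 2 := by
    rw [Subgroup.relIndex]
    have h1 := index_eq_card_image ((normalizer (U : Set G)).subgroupOf (normalizer (X : Set G)))
      (fun a : normalizer (X : Set G) => cj (a : G) U) (by
      intro a b
      rw [mem_subgroupOf, cj_eq_comm, cj_cj]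
      simp only [Subgroup.coe_mul, InvMemClass.coe_inv]
      constructor
      · intro h2
        exact normalizer_of_cj_eq h2.symm
      · intro h2
        exact (cj_eq_of_mem_normalizer h2).symm)
    rw [h1]
    have h3 : (Finset.univ.image (fun a : normalizer (X : Set G) => cj (a : G) U)) = {U, e} := by
      ext W
      rw [Finset.mem_image, Finset.mem_insert, Finset.mem_singleton]
      constructor
      · rintro ⟨a, -, rfl⟩
        rcases h.cj_cases hg (cj_eq_of_mem_normalizer a.2) with h4 | h4
        · exact Or.inl h4.1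
        · exact Or.inr h4.1
      · rintro (rfl | rfl)
        · exact ⟨1, Finset.mem_univ _, cj_one' _⟩
        · exact ⟨⟨s, normalizer_of_cj_eq hsX⟩, Finset.mem_univ _, hsU⟩
    rw [h3, Finset.card_pair h.ne]
  have hinf : (normalizer (U : Set G)) ⊓ (normalizer (X : Set G)) =
      (normalizer (e : Set G)) ⊓ (normalizer (U : Set G)) := by
    ext g
    constructor
    · rintro ⟨hgU, hgX⟩
      exact ⟨normalizer_of_cj_eq (h.cj_e_of hg (cj_eq_of_mem_normalizer hgX) (cj_eq_of_mem_normalizer hgU)),
        hgU⟩
    · rintro ⟨hge, hgU⟩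
      exact ⟨hgU, normalizer_of_cj_eq (h.cj_X_of hg hX (cj_eq_of_mem_normalizer hgU)
        (cj_eq_of_mem_normalizer hge))⟩
  have h6 : ((normalizer (U : Set G)) ⊓ (normalizer (X : Set G))).index = 2 * (normalizer (X : Set G)).index := by
    rw [← Subgroup.relIndex_mul_index (inf_le_right : _ ≤ normalizer (X : Set G)), Subgroup.inf_relIndex_right,
      h2]
  have h7 : ((normalizer (e : Set G)) ⊓ (normalizer (U : Set G))).index = 5 * (normalizer (U : Set G)).index := by
    rw [← Subgroup.relIndex_mul_index (inf_le_right : _ ≤ normalizer (U : Set G)), Subgroup.inf_relIndex_right,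
      h5]
  rw [hinf, h7] at h6
  obtain ⟨m, hm⟩ := hodd
  obtain ⟨k, hk, hkN⟩ : ∃ k, Odd k ∧ (normalizer (U : Set G)).index = 2 * k := by
    refine ⟨(normalizer (U : Set G)).index / 2, ?_, by omega⟩
    rw [Nat.odd_iff]
    omega
  have h8 := card_le_two_of_odd_perm (normalizer (U : Set G)) hk hkN hs (by
    intro g hgs
    have h9 := mem_normalizer_cj.2 hgs
    exact h.no_fix hg hX hs hsU (hg.conjV g U h.hU) (cj_eq_of_mem_normalizer h9))
  have h9 : Nat.card U ≤ Nat.card G := Subgroup.card_le_card_group U
  rw [hg.cardV U h.hU] at h9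
  omega

end Cfsg.Agent.TIAbelian.End
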