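import Cfsg.Agent.TIAbelian.EndOrderThree
import Cfsg.Agent.TIAbelian.EndSwap

/-!
# If the two lines on `B` are conjugate, they are swapped by an involution
-/

set_option autoImplicit false
set_option linter.unusedSectionVars false

namespace Cfsg.Agent.TIAbelian.End

open Subgroup
open Cfsg.Agent.ClassificationK.TIPair (cj mem_normalizer_cj normalizer_of_cj_eq cj_eq_of_mem_normalizer)
open Cfsg.Agent.ClassificationK.TIFamily (mem_cj cj_mul cj_one)

universe u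

variable {G : Type u} [Group G] {B A C : Subgroup G} [Finite G]

/-- the members of the line `Om A ⊔ Om B` -/
theorem Adj.member (h : Adj B A) {X : Subgroup G} (hX : X ∈ Cl B) (hXU : Om X ≤ Om A ⊔ Om B) (hne : X ≠ B) :
    ∃ b ∈ B, X = cj b A := by
  have bX := h.base.of_mem hX
  obtain ⟨x, hx, hx1⟩ := bX.exists_ne
  obtain ⟨Y, hY, hxY, -⟩ := h.cover (hXU hx) hx1
  rcases hY with rfl | ⟨b, hb, rfl⟩
  · exact absurd (h.base.ti2 hX (self_mem_Cl Y) (bX.Om_le hx) (h.base.Om_le hxY) hx1) hne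
  · refine ⟨b, hb, h.base.ti2 hX (cj_mem_Cl h.mem b) (bX.Om_le hx) ((h.baseA.conj b).Om_le hxY) hx1⟩

theorem Mv.eq_one (hB : Base B) {t : G} (ht : Mv B t) {b : G} (hb : b ∈ B) (htb : t * b * t⁻¹ = b) : b = 1 := by
  have h1 : t * (b * b) * t⁻¹ = b * b := by
    calc t * (b * b) * t⁻¹ = (t * b * t⁻¹) * (t * b * t⁻¹) := by group
      _ = b * b := by rw [htb]
  have h2 : b * b = 1 := by
    by_contra h3
    exact ht.mv _ (hB.sq_mem_Om hb) h3 h1
  have h3 : b ∈ Om B := (mem_Om hB.comm).2 ⟨hb, h2⟩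
  by_contra h4
  exact ht.mv b h3 h4 htb

/-- members of the line fixed by `t`: only `A` and `B` -/
theorem Adj.member_fixed (h : Adj B A) {t : G} (htA : cj t A = A) (ht : Mv B t) {X : Subgroup G}
    (hX : X ∈ Cl B) (hXU : Om X ≤ Om A ⊔ Om B) (hne : X ≠ B) (htX : cj t X = X) : X = A := by
  obtain ⟨b, hb, rfl⟩ := h.member hX hXU hne
  have h1 : cj (t * b * t⁻¹) A = cj b A := by
    conv_rhs => rw [← htX]
    rw [cj_cj, ← cj_cj (t * b) t⁻¹, cj_inv_eq htA]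
  have hbt : t * b * t⁻¹ ∈ B := conj_mem ht.norm hb
  have h2 : b⁻¹ * (t * b * t⁻¹) ∈ Om B := by
    apply h.symm.mem_Om_of_norm (B.mul_mem (B.inv_mem hb) hbt)
    rw [← cj_cj, h1, cj_cancel]
  have h3 : t * b * t⁻¹ * (t * b * t⁻¹) = b * b := by
    have h4 : t * b * t⁻¹ = b * (b⁻¹ * (t * b * t⁻¹)) := by group
    rw [h4, h.base.sq_mul hb (h.base.Om_le h2), h.base.Om_sq h2, mul_one]
  have h5 : b * b = 1 := by
    by_contra h6
    apply ht.mv _ (h.base.sq_mem_Om hb) h6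
    rw [← h3]
    calc t * (t * b * t⁻¹ * (t * b * t⁻¹)) * t⁻¹ = t * (b * b) * t⁻¹ := by rw [h3]
      _ = t * b * t⁻¹ * (t * b * t⁻¹) := by group
  exact h.symm.norm ((mem_Om h.base.comm).2 ⟨hb, h5⟩)

/-- the map `s ↦ s⁻¹ (t s t⁻¹)` is onto, if `t` has no fixed points on `S` -/
theorem exists_lang {S : Subgroup G} {t : G} (htS : ∀ s ∈ S, t * s * t⁻¹ ∈ S)
    (hfix : ∀ s ∈ S, t * s * t⁻¹ = s → s = 1) {c : G} (hc : c ∈ S) : ∃ s ∈ S, s⁻¹ * (t * s * t⁻¹) = c := by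
  refine exists_of_card (S := S) (T := S) (K := ⊥) (fun s => s⁻¹ * (t * s * t⁻¹))
    (fun s hs => S.mul_mem (S.inv_mem hs) (htS s hs)) ?_ (by simp) c hc
  intro x hx y hy hxy
  have h1 : x * y⁻¹ = 1 := by
    -- `y x⁻¹` is fixed
    apply hfix _ (S.mul_mem hx (S.inv_mem hy))
    calc t * (x * y⁻¹) * t⁻¹ = (x * (x⁻¹ * (t * x * t⁻¹))) * (t * y⁻¹ * t⁻¹) := by group
      _ = (x * (y⁻¹ * (t * y * t⁻¹))) * (t * y⁻¹ * t⁻¹) := by rw [hxy]
      _ = x * y⁻¹ := by group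
  have h2 : x = y := mul_inv_eq_one.1 h1
  rw [h2]; simp

/-- a neighbour `C₀` on the second line normalised by `t` -/
theorem Full.exists_fixed (h : Full B A C) {t : G} (ht : Mv B t) (htA : cj t A = A) :
    ∃ C₀, Full B A C₀ ∧ Om C₀ ⊔ Om B = Om C ⊔ Om B ∧ cj t C₀ = C₀ := by
  have hg := h.geo
  have he := h.ends
  -- `t` fixes both lines
  have htU : cj t (Om A ⊔ Om B) = Om A ⊔ Om B := by
    have : cj t (Om A ⊔ Om B) = cj t (Om A) ⊔ cj t (Om B) := Subgroup.map_sup _ _ _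
    rw [this, cj_Om h.adjA.baseA.comm, cj_Om h.adjA.base.comm, htA, ht.norm]
  have htB : cj t (Om B) = Om B := by rw [cj_Om h.adjA.base.comm, ht.norm]
  have htW : cj t (Om C ⊔ Om B) = Om C ⊔ Om B := he.cj_e_of hg htB htU
  have h1 : Om (cj t C) ≤ Om C ⊔ Om B := by
    rw [← cj_Om h.adjC.baseA.comm, ← htW]
    exact cj_le_cj.2 le_sup_left
  have h2 : cj t C ≠ B := by
    intro h3
    apply h.adjC.ne
    apply cj_injective t
    simp only
    rw [h3, ht.norm]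
  obtain ⟨b₀, hb₀, hb₀C⟩ := h.adjC.member (cj_mem_Cl h.adjC.mem t) h1 h2
  obtain ⟨β, hβ, hββ⟩ := exists_lang (S := B) (fun s hs => conj_mem ht.norm hs)
    (fun s hs hs1 => ht.eq_one h.adjC.base hs hs1) (B.inv_mem hb₀)
  have h3 : cj t (cj β C) = cj β C := by
    have h4 : t * β * t⁻¹ * b₀ = β := by
      calc t * β * t⁻¹ * b₀ = β * (β⁻¹ * (t * β * t⁻¹)) * b₀ := by group
        _ = β := by rw [hββ]; group
    have h8 : t * β * t⁻¹ * t = t * β := by group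
    calc cj t (cj β C) = cj (t * β * t⁻¹) (cj t C) := by
          rw [cj_cj, cj_cj, h8]
      _ = cj β C := by rw [hb₀C, cj_cj, h4]
  have hline : cj β (Om C ⊔ Om B) = Om C ⊔ Om B := by
    apply Subgroup.eq_of_le_of_card_ge (h.adjC.conj_line hβ)
    rw [card_cj]
  have h5 : Om (cj β C) ≤ Om C ⊔ Om B := by
    rw [← cj_Om h.adjC.baseA.comm, ← hline]
    exact cj_le_cj.2 le_sup_left
  have hne : cj β C ≠ B := by
    intro h6
    apply h.adjC.ne
    apply cj_injective β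
    simp only
    rw [h6, h.adjC.base.cj_mem_self hβ]
  obtain ⟨hadj, heq⟩ := VV_eq_sup h.adjC.base h.adjC.line_mem_VV (self_mem_Cl B) (cj_mem_Cl h.adjC.mem β) hne
    le_sup_right h5
  refine ⟨cj β C, ⟨h.adjA, hadj, h.cent, ?_⟩, heq.symm, h3⟩
  intro h6
  apply h.ne
  have h7 : Om C ⊔ Om B ≤ Om A ⊔ Om B := by
    rw [heq]; exact sup_le h6 le_sup_right
  exact le_trans le_sup_left h7

theorem Adj.mem_S (h : Adj B A) {x : G} : x ∈ Om A ⊔ B ↔ ∃ a ∈ Om A, ∃ b ∈ B, x = a * b := by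
  constructor
  · intro hx
    let S : Subgroup G :=
      { carrier := {x | ∃ a ∈ Om A, ∃ b ∈ B, x = a * b}
        mul_mem' := by
          rintro _ _ ⟨a, ha, y, hy, rfl⟩ ⟨a', ha', y', hy', rfl⟩
          refine ⟨a * a', (Om A).mul_mem ha ha', (a'⁻¹ * y * a') * y', B.mul_mem ?_ hy', ?_⟩
          · exact conj_mem' (h.norm ha') hy
          · group
        one_mem' := ⟨1, (Om A).one_mem, 1, B.one_mem, by simp⟩
        inv_mem' := by
          rintro _ ⟨a, ha, y, hy, rfl⟩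
          refine ⟨a⁻¹, (Om A).inv_mem ha, a * y⁻¹ * a⁻¹, conj_mem (h.norm ha) (B.inv_mem hy), ?_⟩
          group }
    have hX : Om A ≤ S := fun a ha => ⟨a, ha, 1, B.one_mem, by simp⟩
    have hY : B ≤ S := fun y hy => ⟨1, (Om A).one_mem, y, hy, by simp⟩
    exact (sup_le hX hY) hx
  · rintro ⟨a, ha, y, hy, rfl⟩
    exact (Om A ⊔ B).mul_mem ((le_sup_left : Om A ≤ Om A ⊔ B) ha) ((le_sup_right : B ≤ Om A ⊔ B) hy)

theorem Base.brk_mul (hB : Base B) {k : G} (hkB : cj k B = B) (hk : ∀ y ∈ Om B, k * y = y * k) {b c : G}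
    (hb : b ∈ B) (hc : c ∈ B) : br k (b * c) = br k b * br k c := by
  have h1 := hB.comm _ (hB.Om_le (hB.br_mem_of_comm hkB hk hc)) _ (B.inv_mem hb)
  calc br k (b * c) = (k * b * k⁻¹) * (br k c * b⁻¹) := by rw [br, br]; group
    _ = (k * b * k⁻¹) * (b⁻¹ * br k c) := by rw [h1]
    _ = br k b * br k c := by rw [br, br]; group

theorem Base.brk_congr (hB : Base B) {k : G} (hkB : cj k B = B) (hk : ∀ y ∈ Om B, k * y = y * k) {b c : G}
    (hb : b ∈ B) (hc : c ∈ B) (hbc : b * b = c * c) : br k b = br k c := by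
  have h1 := hB.inv_mul_mem hb hc hbc
  have h2 := hB.brk_mul hkB hk hb (B.mul_mem (B.inv_mem hb) hc)
  rw [mul_inv_cancel_left, br_eq_one_iff.2 (hk _ h1), mul_one] at h2
  exact h2.symm

theorem Mv.inv_conj (hB : Base B) {t : G} (ht : Mv B t) {x : G} (hx : x ∈ Om B) :
    t⁻¹ * x * t = x * (t * x * t⁻¹) := by
  have h1 := ht.sq hB hx
  have h2 := ht.cube hB hx
  rw [← h1]
  calc t⁻¹ * x * t = t⁻¹ * (x * t ^ 3) * (t ^ 3)⁻¹ * t := by group
    _ = t⁻¹ * (t ^ 3 * x) * (t ^ 3)⁻¹ * t := by rw [h2]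
    _ = t * (t * x * t⁻¹) * t⁻¹ := by
      rw [pow_succ, pow_two]; group

/-- `t` acts inversely on the two factors -/
theorem Adj.br_twist (h : Adj B A) {t : G} (ht : Mv B t) (hA : Mv A t) {a b : G} (ha : a ∈ Om A)
    (hb : b ∈ B) : br (t * a * t⁻¹) b = t⁻¹ * br a b * t := by
  by_cases ha1 : a = 1
  · rw [ha1]; simp [br]
  by_cases hbO : b ∈ Om B
  · rw [h.br_Om (conj_Om_mem h.baseA hA.norm ha) hbO, h.br_Om ha hbO]; group
  have hta := conj_Om_mem h.baseA hA.norm ha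
  have hx := h.br_mem ha hb
  have hx1 : br a b ≠ 1 := fun h1 => hbO (h.br_one ha ha1 hb h1)
  have hz := h.br_mem hta hb
  have hty := conj_Om_mem h.base ht.norm hx
  have hty1 : t * br a b * t⁻¹ ≠ 1 := by
    intro h1
    apply hx1
    calc br a b = t⁻¹ * (t * br a b * t⁻¹) * t := by group
      _ = 1 := by rw [h1]; group
  have hta1 : t * a * t⁻¹ ≠ 1 := by
    intro h1
    apply ha1
    calc a = t⁻¹ * (t * a * t⁻¹) * t := by group
      _ = 1 := by rw [h1]; group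
  rcases h.base.four hx hty hx1 hty1 (ht.mv _ hx hx1).symm hz with h1 | h1 | h1 | h1
  · exact absurd (h.br_one hta hta1 hb h1) hbO
  · exact absurd (h.br_left_inj hta ha hb hbO h1) (hA.mv a ha ha1)
  · exfalso
    have h2 : br (t * a * t⁻¹) (t * b * t⁻¹) = t * br a b * t⁻¹ := by
      rw [br_conj]
      congr 3
      group
    have htb : t * b * t⁻¹ ∈ B := conj_mem ht.norm hb
    have h3 : br (t * a * t⁻¹) (b * (b⁻¹ * (t * b * t⁻¹))) =
        br (t * a * t⁻¹) b * br (t * a * t⁻¹) (b⁻¹ * (t * b * t⁻¹)) :=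
      h.br_mul_right hta hb (B.mul_mem (B.inv_mem hb) htb)
    rw [mul_inv_cancel_left, h2, h1] at h3
    have h4 : br (t * a * t⁻¹) (b⁻¹ * (t * b * t⁻¹)) = 1 :=
      mul_left_cancel (a := t * br a b * t⁻¹) (by rw [mul_one]; exact h3.symm)
    have h5 := h.br_one hta hta1 (B.mul_mem (B.inv_mem hb) htb) h4
    have h6 := h.base.Om_sq h5
    rw [h.base.sq_mul (B.inv_mem hb) htb] at h6
    have h7 : b⁻¹ * b⁻¹ = (b * b)⁻¹ := by group
    rw [h7, inv_mul_eq_one] at h6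
    apply ht.mv _ (h.base.sq_mem_Om hb) (h.base.sq_ne hb hbO)
    calc t * (b * b) * t⁻¹ = t * b * t⁻¹ * (t * b * t⁻¹) := by group
      _ = b * b := h6.symm
  · rw [h1, ht.inv_conj h.base hx]

theorem Adj.br_twist' (h : Adj B A) {t : G} (ht : Mv B t) (hA : Mv A t) {a b : G} (ha : a ∈ Om A)
    (hb : b ∈ B) : br a (t * b * t⁻¹) = t⁻¹ * br a b * t := by
  have ha' : t⁻¹ * a * t ∈ Om A := by
    have := conj_Om_mem h.baseA (cj_inv_eq hA.norm) ha
    rwa [inv_inv] at this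
  have h1 := h.br_twist ht hA ha' hb
  have h2 : t * (t⁻¹ * a * t) * t⁻¹ = a := by group
  rw [h2] at h1
  -- `h1 : br a b = t⁻¹ * br (t⁻¹ a t) b * t`
  have h3 : br a (t * b * t⁻¹) = t * br (t⁻¹ * a * t) b * t⁻¹ := by
    rw [br, br]; group
  have h4 : br (t⁻¹ * a * t) b = t * br a b * t⁻¹ := by rw [h1]; group
  have hx := h.br_mem ha hb
  rw [h3, h4, ht.inv_conj h.base hx, ht.sq h.base hx]

/-- `[k,t] ∈ S₁ = Om A · B` for `k` centralising `Om B` -/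
theorem Adj.comm_mem_S (h : Adj B A) (hcent : ∀ k : G, (∀ b ∈ B, k * b = b * k) → k ∈ B) {t : G} (ht : Mv B t)
    (hA : Mv A t) {k : G} (hkB : cj k B = B) (hk : ∀ y ∈ Om B, k * y = y * k) :
    k * (t * k⁻¹ * t⁻¹) ∈ Om A ⊔ B := by
  obtain ⟨b, hb, -, -, hbO, -, -⟩ := h.base.exists_pair
  have hB := h.base
  have hk' : ∀ y ∈ Om B, k⁻¹ * y = y * k⁻¹ := by
    intro y hy
    have h1 := hk y hy
    calc k⁻¹ * y = k⁻¹ * (y * k) * k⁻¹ := by group
      _ = k⁻¹ * (k * y) * k⁻¹ := by rw [h1]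
      _ = y * k⁻¹ := by group
  have hbrinv : ∀ d ∈ B, br k⁻¹ d = br k d := by
    intro d hd
    have h1 := hk' _ (hB.br_mem_of_comm hkB hk hd)
    have h2 := hB.Om_sq (hB.br_mem_of_comm hkB hk hd)
    have h3 : k⁻¹ * (k * d * k⁻¹) * k = d := by group
    rw [conj_eq_br] at h3
    have h4 : k⁻¹ * d * k = br k d * d := by
      calc k⁻¹ * d * k = (br k d * br k d) * (k⁻¹ * d * k) := by rw [h2, one_mul]
        _ = br k d * ((br k d * k⁻¹) * d * k) := by group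
        _ = br k d * ((k⁻¹ * br k d) * d * k) := by rw [h1]
        _ = br k d * (k⁻¹ * (br k d * d) * k) := by group
        _ = br k d * d := by rw [h3]
    calc br k⁻¹ d = (k⁻¹ * d * k) * d⁻¹ := by rw [br, inv_inv]
      _ = br k d := by rw [h4]; group
  -- the element `c`
  set c := k * (t * k⁻¹ * t⁻¹) with hc
  have hψ : ∀ d ∈ B, br c d = br k d * (t * br k (t⁻¹ * d * t) * t⁻¹) := by
    intro d hd
    have hd' : t⁻¹ * d * t ∈ B := conj_mem' ht.norm hd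
    have h1 : t * k⁻¹ * t⁻¹ * d * (t * k⁻¹ * t⁻¹)⁻¹ = (t * br k (t⁻¹ * d * t) * t⁻¹) * d := by
      calc t * k⁻¹ * t⁻¹ * d * (t * k⁻¹ * t⁻¹)⁻¹ = t * (k⁻¹ * (t⁻¹ * d * t) * k⁻¹⁻¹) * t⁻¹ := by group
        _ = t * (br k⁻¹ (t⁻¹ * d * t) * (t⁻¹ * d * t)) * t⁻¹ := by rw [conj_eq_br k⁻¹ (t⁻¹ * d * t)]
        _ = (t * br k (t⁻¹ * d * t) * t⁻¹) * d := by rw [hbrinv _ hd']; group
    have h2 : t * br k (t⁻¹ * d * t) * t⁻¹ ∈ Om B :=
      conj_Om_mem hB ht.norm (hB.br_mem_of_comm hkB hk hd')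
    have h3 := hk _ h2
    have h4 := hB.comm _ (hB.Om_le h2) _ (hB.Om_le (hB.br_mem_of_comm hkB hk hd))
    calc br c d = k * (t * k⁻¹ * t⁻¹ * d * (t * k⁻¹ * t⁻¹)⁻¹) * k⁻¹ * d⁻¹ := by rw [br, hc]; group
      _ = k * ((t * br k (t⁻¹ * d * t) * t⁻¹) * d) * k⁻¹ * d⁻¹ := by rw [h1]
      _ = (k * (t * br k (t⁻¹ * d * t) * t⁻¹)) * d * k⁻¹ * d⁻¹ := by group
      _ = ((t * br k (t⁻¹ * d * t) * t⁻¹) * k) * d * k⁻¹ * d⁻¹ := by rw [h3]
      _ = (t * br k (t⁻¹ * d * t) * t⁻¹) * br k d := by rw [br_def k d]; group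
      _ = br k d * (t * br k (t⁻¹ * d * t) * t⁻¹) := h4
  have htb : t * b * t⁻¹ ∈ B := conj_mem ht.norm hb
  have hφ := hB.br_mem_of_comm hkB hk hb
  have hφ1 := hB.br_mem_of_comm hkB hk htb
  -- twist property of `c`
  have htw : br c (t * b * t⁻¹) = t⁻¹ * br c b * t := by
    have hb' : t⁻¹ * b * t ∈ B := conj_mem' ht.norm hb
    have e1 : t⁻¹ * (t * b * t⁻¹) * t = b := by group
    have e2 : br k (t⁻¹ * b * t) = br k b * br k (t * b * t⁻¹) := by
      rw [← hB.brk_mul hkB hk hb htb]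
      apply hB.brk_congr hkB hk hb' (B.mul_mem hb htb)
      rw [hB.sq_mul hb htb]
      have e3 := ht.inv_conj hB (hB.sq_mem_Om hb)
      calc t⁻¹ * b * t * (t⁻¹ * b * t) = t⁻¹ * (b * b) * t := by group
        _ = b * b * (t * (b * b) * t⁻¹) := e3
        _ = b * b * (t * b * t⁻¹ * (t * b * t⁻¹)) := by group
    rw [hψ _ htb, hψ _ hb, e1]
    have e4 : t⁻¹ * (br k b * (t * br k (t⁻¹ * b * t) * t⁻¹)) * t =
        (t⁻¹ * br k b * t) * br k (t⁻¹ * b * t) := by group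
    rw [e4, e2, ht.inv_conj hB hφ]
    have e5 := hB.comm _ (hB.Om_le (conj_Om_mem hB ht.norm hφ)) _ (hB.Om_le hφ)
    have e6 := hB.comm _ (hB.Om_le hφ1) _ (hB.Om_le (conj_Om_mem hB ht.norm hφ))
    calc br k (t * b * t⁻¹) * (t * br k b * t⁻¹) = (t * br k b * t⁻¹) * br k (t * b * t⁻¹) := e6
      _ = (t * br k b * t⁻¹) * (br k b * br k b) * br k (t * b * t⁻¹) := by rw [hB.Om_sq hφ, mul_one]
      _ = ((t * br k b * t⁻¹) * br k b) * (br k b * br k (t * b * t⁻¹)) := by group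
      _ = br k b * (t * br k b * t⁻¹) * (br k b * br k (t * b * t⁻¹)) := by rw [e5]
  -- `c` centralises `Om B` and normalises `B`
  have hcO : ∀ y ∈ Om B, c * y = y * c := by
    intro y hy
    have h1 : t⁻¹ * y * t ∈ Om B := by
      have := conj_Om_mem hB (cj_inv_eq ht.norm) hy
      rwa [inv_inv] at this
    have h2 := hk' _ h1
    have h3 := hk y hy
    calc c * y = k * t * (k⁻¹ * (t⁻¹ * y * t)) * t⁻¹ := by rw [hc]; group
      _ = k * t * ((t⁻¹ * y * t) * k⁻¹) * t⁻¹ := by rw [h2]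
      _ = (k * y) * (t * k⁻¹ * t⁻¹) := by group
      _ = (y * k) * (t * k⁻¹ * t⁻¹) := by rw [h3]
      _ = y * c := by rw [hc]; group
  have hcB : cj c B = B := by
    rw [hc, ← cj_cj, ← cj_cj, ← cj_cj, cj_inv_eq ht.norm, cj_inv_eq hkB, ht.norm, hkB]
  obtain ⟨a, ha, hab⟩ := h.br_left_surj hb hbO (hB.br_mem_of_comm hcB hcO hb)
  have hab1 : br a (t * b * t⁻¹) = br c (t * b * t⁻¹) := by
    rw [h.br_twist' ht hA ha hb, htw, hab]
  have hz : a⁻¹ * c ∈ B := by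
    apply hcent
    intro d hd
    apply comm_of_br_eq
    -- `br a d = br c d`
    have hbsq : t * b * t⁻¹ * (t * b * t⁻¹) = t * (b * b) * t⁻¹ := by group
    have hne : b * b ≠ t * b * t⁻¹ * (t * b * t⁻¹) := by
      rw [hbsq]
      exact (ht.mv _ (hB.sq_mem_Om hb) (hB.sq_ne hb hbO)).symm
    have htbO : t * b * t⁻¹ ∉ Om B := by
      intro h1
      apply hbO
      have h2 := conj_Om_mem hB (cj_inv_eq ht.norm) h1
      convert h2 using 1; group
    rcases hB.four (hB.sq_mem_Om hb) (hB.sq_mem_Om htb) (hB.sq_ne hb hbO) (hB.sq_ne htb htbO) hne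
      (hB.sq_mem_Om hd) with h2 | h2 | h2 | h2
    · have h3 : d ∈ Om B := (mem_Om hB.comm).2 ⟨hd, h2⟩
      rw [h.br_Om ha h3, br_eq_one_iff.2 (hcO d h3)]
    · rw [h.br_congr ha hd hb h2, hab, hB.brk_congr hcB hcO hd hb h2]
    · rw [h.br_congr ha hd htb h2, hab1, hB.brk_congr hcB hcO hd htb h2]
    · rw [← hB.sq_mul hb htb] at h2
      rw [h.br_congr ha hd (B.mul_mem hb htb) h2, hB.brk_congr hcB hcO hd (B.mul_mem hb htb) h2,
        h.br_mul_right ha hb htb, hB.brk_mul hcB hcO hb htb, hab, hab1]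
  rw [h.mem_S]
  exact ⟨a, ha, a⁻¹ * c, hz, by group⟩

end Cfsg.Agent.TIAbelian.End
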