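import Cfsg.Agent.TIAbelian.EndCent
import Cfsg.Agent.TIAbelian.EndSwapInv

/-!
# The second line inside `Om A ⊔ B`
-/

set_option autoImplicit false
set_option linter.unusedSectionVars false

namespace Cfsg.Agent.TIAbelian.End

open Subgroup
open Cfsg.Agent.ClassificationK.TIPair (cj mem_normalizer_cj normalizer_of_cj_eq cj_eq_of_mem_normalizer)
open Cfsg.Agent.ClassificationK.TIFamily (mem_cj cj_mul cj_one)

universe u

variable {G : Type u} [Group G] {B A C : Subgroup G} [Finite G]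

/-- two lines, the second one inside `Om A ⊔ B` -/
structure TL (B A C : Subgroup G) : Prop where
  adjA : Adj B A
  adjC : Adj B C
  le : Om C ≤ Om A ⊔ B
  ne : ¬ Om C ≤ Om A ⊔ Om B

theorem Adj.uniq (h : Adj B A) {a a' b b' : G} (ha : a ∈ A) (ha' : a' ∈ A) (hb : b ∈ B) (hb' : b' ∈ B)
    (he : a * b = a' * b') : a = a' ∧ b = b' := by
  have h1 : a'⁻¹ * a = b' * b⁻¹ := by
    calc a'⁻¹ * a = a'⁻¹ * (a * b) * b⁻¹ := by group
      _ = b' * b⁻¹ := by rw [he]; group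
  have h2 : a'⁻¹ * a = 1 := by
    apply h.inf (A.mul_mem (A.inv_mem ha') ha)
    rw [h1]; exact B.mul_mem hb' (B.inv_mem hb)
  have h3 : a = a' := (inv_mul_eq_one.1 h2).symm
  refine ⟨h3, ?_⟩
  rw [h2] at h1
  exact (mul_inv_eq_one.1 h1.symm).symm

theorem Adj.br_right_inj (h : Adj B A) {a b c : G} (ha : a ∈ Om A) (ha1 : a ≠ 1) (hb : b ∈ B) (hc : c ∈ B)
    (he : br a b = br a c) : b⁻¹ * c ∈ Om B := by
  apply h.br_one ha ha1 (B.mul_mem (B.inv_mem hb) hc)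
  have h1 : br a (b * (b⁻¹ * c)) = br a b * br a (b⁻¹ * c) :=
    h.br_mul_right ha hb (B.mul_mem (B.inv_mem hb) hc)
  rw [mul_inv_cancel_left, ← he] at h1
  exact mul_left_cancel (a := br a b) (by rw [mul_one]; exact h1.symm)

theorem Dd.comm_sup {d : G} (h : Dd B A d) {t : G} (ht : t ∈ A ⊔ B) : d * t = t * d := by
  have h1 : A ⊔ B ≤ centralizer ({d} : Set G) := by
    apply sup_le
    · intro x hx
      rw [mem_centralizer_singleton_iff]
      exact (h.cA x hx).symm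
    · intro x hx
      rw [mem_centralizer_singleton_iff]
      exact (h.cB x hx).symm
  exact (mem_centralizer_singleton_iff.1 (h1 ht)).symm

/-- the product of two elements `a b`, `[a,b] = b²` -/
theorem Adj.prod_form (h : Adj B A) {a a₁ b b₁ : G} (ha : a ∈ Om A) (ha₁ : a₁ ∈ Om A) (ha1 : a ≠ 1)
    (ha₁1 : a₁ ≠ 1) (hb : b ∈ B) (hb₁ : b₁ ∈ B) (hbO : b ∉ Om B) (hb₁O : b₁ ∉ Om B)
    (hab : br a b = b * b) (hab₁ : br a₁ b₁ = b₁ * b₁) (hne : b * b ≠ b₁ * b₁) :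
    (a * b) * (a₁ * b₁) = (a₁ * b₁) * (a * b) ∧ (a * b) * (a₁ * b₁) = (a * a₁) * (br a₁ b * b * b₁) ∧
    br a₁ b * b * b₁ ∈ B ∧ br a₁ b * b * b₁ ∉ Om B := by
  have e1 := h.br_other ha ha1 hb hbO hab hb₁ hb₁O hne
  have e2 := h.br_other ha₁ ha₁1 hb₁ hb₁O hab₁ hb hbO hne.symm
  have hB := h.base
  have hbr : br a₁ b ∈ Om B := h.br_mem ha₁ hb
  have hkey : ∀ {p q s : G}, p ∈ Om A → q ∈ B → q * p = p * (br p q * q) := by
    intro p q s hp hq
    have h1 := h.conj_a hp q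
    have h2 := hB.comm _ (hB.Om_le (h.br_mem hp hq)) q hq
    calc q * p = (q * p * q⁻¹) * q := by group
      _ = p * (br p q * q) := by rw [h1, mul_assoc]
  have f1 : (a * b) * (a₁ * b₁) = (a * a₁) * (br a₁ b * b * b₁) := by
    calc (a * b) * (a₁ * b₁) = a * (b * a₁) * b₁ := by group
      _ = a * (a₁ * (br a₁ b * b)) * b₁ := by rw [hkey (s := 1) ha₁ hb]
      _ = _ := by group
  have f2 : (a₁ * b₁) * (a * b) = (a₁ * a) * (br a b₁ * b₁ * b) := by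
    calc (a₁ * b₁) * (a * b) = a₁ * (b₁ * a) * b := by group
      _ = a₁ * (a * (br a b₁ * b₁)) * b := by rw [hkey (s := 1) ha hb₁]
      _ = _ := by group
  have hc := hB.comm b hb b₁ hb₁
  have hca := h.baseA.comm a (h.baseA.Om_le ha) a₁ (h.baseA.Om_le ha₁)
  have hcs := hB.comm (b * b) (B.mul_mem hb hb) (b₁ * b₁) (B.mul_mem hb₁ hb₁)
  have hmem : br a₁ b * b * b₁ ∈ B := B.mul_mem (B.mul_mem (hB.Om_le hbr) hb) hb₁
  refine ⟨?_, f1, hmem, ?_⟩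
  · rw [f1, f2, hca, e1, e2, hcs, mul_assoc (b₁ * b₁ * (b * b)), mul_assoc (b₁ * b₁ * (b * b)), hc]
  · intro h1
    have h2 : b * b₁ ∈ Om B := by
      have h3 : b * b₁ = (br a₁ b)⁻¹ * (br a₁ b * b * b₁) := by group
      rw [h3]
      exact (Om B).mul_mem ((Om B).inv_mem hbr) h1
    have h3 := hB.Om_sq h2
    rw [hB.sq_mul hb hb₁] at h3
    apply hne
    have h4 := inv_eq_self (hB.exp b₁ hb₁)
    rw [← h4]
    exact eq_inv_of_mul_eq_one_left h3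

/-- conjugating by an element normalising `A`, `B` -/
theorem Adj.conj_form (h : Adj B A) {t a b : G} (htA : cj t A = A) (htB : cj t B = B) (ha : a ∈ Om A)
    (hb : b ∈ B) (hbO : b ∉ Om B) (hab : br a b = b * b) :
    t * a * t⁻¹ ∈ Om A ∧ t * b * t⁻¹ ∈ B ∧ t * b * t⁻¹ ∉ Om B ∧
      br (t * a * t⁻¹) (t * b * t⁻¹) = (t * b * t⁻¹) * (t * b * t⁻¹) := by
  refine ⟨conj_Om_mem h.baseA htA ha, conj_mem htB hb, ?_, ?_⟩
  · intro h1
    apply hbO
    have h2 := conj_Om_mem h.base (cj_inv_eq htB) h1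
    have h3 : t⁻¹ * (t * b * t⁻¹) * t⁻¹⁻¹ = b := by group
    rwa [h3] at h2
  · rw [br_conj]
    have h3 : t⁻¹ * (t * b * t⁻¹) * t = b := by group
    rw [h3, hab]; group

/-- S6, first half: a neighbour containing an element `a b` -/
theorem Adj.exists_nbr (h : Adj B A) {x a : G} (ha : a ∈ Om A) (ha1 : a ≠ 1) (hx : Iv B x)
    (hk : ∀ b ∈ B, (a * x) * b = b * (a * x)) (h2 : (a * x) * (a * x) ≠ 1)
    (h4 : (a * x) * (a * x) * ((a * x) * (a * x)) = 1) :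
    ∃ X, Adj B X ∧ ∃ a₂ ∈ Om A, a₂ ≠ 1 ∧ ∃ b₂ ∈ B, b₂ ∉ Om B ∧ br a₂ b₂ = b₂ * b₂ ∧ a₂ * b₂ ∈ Om X := by
  obtain ⟨b, hb, d, hbO, hd, hdd, hxd, hab⟩ := h.form_four ha ha1 hx hk h2 h4
  obtain ⟨t, htAB, htA, htB, ht1, ht2⟩ := h.exists_torus
  obtain ⟨ha₁, hb₁, hb₁O, hab₁⟩ := h.conj_form htA htB ha hb hbO hab
  have ha₁1 : t * a * t⁻¹ ≠ 1 := by
    intro h1
    apply ha1
    calc a = t⁻¹ * (t * a * t⁻¹) * t := by group
      _ = 1 := by rw [h1]; group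
  have hdt := hd.comm_sup htAB
  have hx₁ : t * x * t⁻¹ = (t * a * t⁻¹) * (t * b * t⁻¹) * d := by
    have h1 : t * d * t⁻¹ = d := by rw [← hdt]; group
    calc t * x * t⁻¹ = (t * a * t⁻¹) * (t * b * t⁻¹) * (t * d * t⁻¹) := by rw [hxd]; group
      _ = _ := by rw [h1]
  set a₁ := t * a * t⁻¹ with ha₁def
  set b₁ := t * b * t⁻¹ with hb₁def
  have hne : b * b ≠ b₁ * b₁ := by
    intro h1
    apply ht2 _ (h.base.sq_mem_Om hb) (h.base.sq_ne hb hbO)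
    rw [h1, hb₁def]
    have h5 : t * b * t⁻¹ * (t * b * t⁻¹) = b * b := by rw [← hb₁def, ← h1]
    have h6 : t * (b * b) * t⁻¹ = b * b := by
      calc t * (b * b) * t⁻¹ = t * b * t⁻¹ * (t * b * t⁻¹) := by group
        _ = b * b := h5
    rw [h5, h6]
  obtain ⟨hcomm, hprod, hb₂, hb₂O⟩ := h.prod_form ha ha₁ ha1 ha₁1 hb hb₁ hbO hb₁O hab hab₁ hne
  set b₂ := br a₁ b * b * b₁ with hb₂def
  have hiv₁ : Iv B (a₁ * b₁ * d) := by
    rw [← hx₁]; exact hx.conj h.base t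
  have hda := hd.cA _ (h.baseA.Om_le ha)
  have hda₁ := hd.cA _ (h.baseA.Om_le ha₁)
  have hdb := hd.cB _ hb
  have hdb₁ := hd.cB _ hb₁
  have hd1 : d * (a * b) = (a * b) * d := by
    calc d * (a * b) = (d * a) * b := by group
      _ = a * (d * b) := by rw [hda]; group
      _ = (a * b) * d := by rw [hdb]; group
  have hd2 : d * (a₁ * b₁) = (a₁ * b₁) * d := by
    calc d * (a₁ * b₁) = (d * a₁) * b₁ := by group
      _ = a₁ * (d * b₁) := by rw [hda₁]; group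
      _ = (a₁ * b₁) * d := by rw [hdb₁]; group
  have hp1 : a * b * d * (a₁ * b₁ * d) = (a * b) * (a₁ * b₁) := by
    calc a * b * d * (a₁ * b₁ * d) = (a * b) * (d * (a₁ * b₁)) * d := by group
      _ = (a * b) * ((a₁ * b₁) * d) * d := by rw [hd2]
      _ = (a * b) * (a₁ * b₁) * (d * d) := by group
      _ = _ := by rw [hdd, mul_one]
  have hp2 : (a₁ * b₁ * d) * (a * b * d) = (a₁ * b₁) * (a * b) := by
    calc (a₁ * b₁ * d) * (a * b * d) = (a₁ * b₁) * (d * (a * b)) * d := by group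
      _ = (a₁ * b₁) * ((a * b) * d) * d := by rw [hd1]
      _ = (a₁ * b₁) * (a * b) * (d * d) := by group
      _ = _ := by rw [hdd, mul_one]
  have hmul : Iv B (a * b * d * (a₁ * b₁ * d)) := by
    apply Iv.mul h.base
    · rw [← hxd]; exact hx
    · exact hiv₁
    · rw [hp1, hp2, hcomm]
    · intro h1
      have h3 := mul_right_cancel h1
      exact ht1 a ha ha1 (h.uniq (h.baseA.Om_le ha) (h.baseA.Om_le ha₁) hb hb₁ h3).1.symm
  rw [hp1, hprod] at hmul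
  have hA₂ := (Om A).mul_mem ha ha₁
  have ha₂1 : a * a₁ ≠ 1 := by
    intro h1
    apply ht1 a ha ha1
    rw [← ha₁def]
    have h3 := h.Om_inv ha
    calc a₁ = a⁻¹ * (a * a₁) := by group
      _ = a := by rw [h1, mul_one, h3]
  have hsq := hmul.sq h.base
  obtain ⟨hw1, X, hX, hwX⟩ := hmul
  have hXB : X ≠ B := by
    rintro rfl
    apply ha₂1
    apply h.inf (h.baseA.Om_le hA₂)
    have h3 : a * a₁ = (a * a₁ * b₂) * b₂⁻¹ := by group
    rw [h3]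
    exact X.mul_mem (h.base.Om_le hwX) (X.inv_mem hb₂)
  obtain ⟨y, hy, hy1⟩ := h.base.exists_ne
  have hadj : Adj B X := by
    refine h.base.adj_of_comm hX hXB ((h.base.of_mem hX).Om_le hwX) hw1 (h.base.Om_le hy) hy1 ?_
    have h5 := h.comm_Om_Om hA₂ hy
    have h6 := h.base.comm b₂ hb₂ y (h.base.Om_le hy)
    calc a * a₁ * b₂ * y = (a * a₁) * (b₂ * y) := by group
      _ = ((a * a₁) * y) * b₂ := by rw [h6]; group
      _ = y * (a * a₁ * b₂) := by rw [h5]; group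
  exact ⟨X, hadj, a * a₁, hA₂, ha₂1, b₂, hb₂, hb₂O, h.br_of_sq hA₂ hb₂ hsq, hwX⟩

/-- S7: such a neighbour is contained in `Om A ⊔ B` -/
theorem Adj.TL_of_mem (h : Adj B A) {X : Subgroup G} (hX : Adj B X) {a b : G} (ha : a ∈ Om A) (ha1 : a ≠ 1)
    (hb : b ∈ B) (hbO : b ∉ Om B) (hab : br a b = b * b) (hw : a * b ∈ Om X) : TL B A X := by
  obtain ⟨t, htAB, htA, htB, ht1, ht2⟩ := h.exists_torus
  obtain ⟨ha₁, hb₁, hb₁O, hab₁⟩ := h.conj_form htA htB ha hb hbO hab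
  have ha₁1 : t * a * t⁻¹ ≠ 1 := by
    intro h1
    apply ha1
    calc a = t⁻¹ * (t * a * t⁻¹) * t := by group
      _ = 1 := by rw [h1]; group
  have hw₁ : t * (a * b) * t⁻¹ = (t * a * t⁻¹) * (t * b * t⁻¹) := by group
  have haa₁ : t * a * t⁻¹ ≠ a := ht1 a ha ha1
  set a₁ := t * a * t⁻¹ with ha₁def
  set b₁ := t * b * t⁻¹ with hb₁def
  have hne : b * b ≠ b₁ * b₁ := by
    intro h1
    apply ht2 _ (h.base.sq_mem_Om hb) (h.base.sq_ne hb hbO)
    have h6 : t * (b * b) * t⁻¹ = b * b := by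
      calc t * (b * b) * t⁻¹ = t * b * t⁻¹ * (t * b * t⁻¹) := by group
        _ = b * b := by rw [← hb₁def, ← h1]
    exact h6
  obtain ⟨hcomm, -, -, -⟩ := h.prod_form ha ha₁ ha1 ha₁1 hb hb₁ hbO hb₁O hab hab₁ hne
  -- `w₁` and `Y`
  have hY : Adj B (cj t X) := by
    have h1 := hX.conj t
    rwa [htB] at h1
  have hw₁Y : a₁ * b₁ ∈ Om (cj t X) := by
    rw [← hw₁, ← cj_Om hX.baseA.comm]
    exact cj_mem hw
  have hw₁B : ∀ y ∈ Om B, (a₁ * b₁) * y = y * (a₁ * b₁) := fun y hy => hY.comm_Om_Om hw₁Y hy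
  have hw1 : a * b ≠ 1 := by
    intro h1
    apply ha1
    apply h.inf (h.baseA.Om_le ha)
    have h3 : a = (a * b) * b⁻¹ := by group
    rw [h3, h1, one_mul]; exact B.inv_mem hb
  have hw₁1 : a₁ * b₁ ≠ 1 := by
    intro h1
    apply ha₁1
    apply h.inf (h.baseA.Om_le ha₁)
    have h3 : a₁ = (a₁ * b₁) * b₁⁻¹ := by group
    rw [h3, h1, one_mul]; exact B.inv_mem hb₁
  have hw₁X : cj (a₁ * b₁) X = X :=
    hX.baseA.cj_of_comm (hX.baseA.Om_le hw) hw1 hcomm.symm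
  have hcent : ∀ x ∈ Om X, (a₁ * b₁) * x = x * (a₁ * b₁) := by
    refine hX.cent_Om_gen hw₁B hb hbO hw₁X ?_
    have hbX := hX.conj_self hb
    have h3 : b * (a * b) * b⁻¹ ∈ Om (cj b X) := by
      rw [← cj_Om hX.baseA.comm]
      exact cj_mem hw
    refine hbX.baseA.cj_of_comm (x := b * (a * b) * b⁻¹) (hbX.baseA.Om_le h3) ?_ ?_
    · intro h4
      apply hw1
      calc a * b = b⁻¹ * (b * (a * b) * b⁻¹) * b := by group
        _ = 1 := by rw [h4]; group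
    · rw [hX.conj_a hw b]
      have h5 := hw₁B _ (hX.br_mem hw hb)
      calc (a₁ * b₁) * ((a * b) * br (a * b) b) = ((a₁ * b₁) * (a * b)) * br (a * b) b := by group
        _ = ((a * b) * (a₁ * b₁)) * br (a * b) b := by rw [hcomm]
        _ = (a * b) * ((a₁ * b₁) * br (a * b) b) := by group
        _ = (a * b) * (br (a * b) b * (a₁ * b₁)) := by rw [h5]
        _ = _ := by group
  obtain ⟨x₁, hx₁, hx₁1, -, -, -, -, -, hall⟩ := hX.exists_agree hY hw₁Y hw₁1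
  have hx₁i := hX.Om_inv hx₁
  have hiv : Iv B (a₁ * b₁) := ⟨hw₁1, cj t X, hY.mem, hw₁Y⟩
  have hmem : a₁ * b₁ ∈ Om X ⊔ Om B := by
    refine hX.mem_line_of_comm hx₁ hx₁1 hiv ?_ (hcent x₁ hx₁).symm
    intro c hc
    have h3 := comm_of_br_eq (hall c hc)
    rwa [hx₁i] at h3
  obtain ⟨x₂, hx₂, y, hy, hxy⟩ := hX.mem_line.1 hmem
  have hU : ∀ {p q : G}, p ∈ Om A → q ∈ B → p * q ∈ Om A ⊔ B := fun hp hq => h.mem_S.2 ⟨_, hp, _, hq, rfl⟩
  have hx₂' : x₂ = a₁ * (b₁ * y⁻¹) := by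
    calc x₂ = (x₂ * y) * y⁻¹ := by group
      _ = a₁ * (b₁ * y⁻¹) := by rw [← hxy]; group
  have hyB := h.base.Om_le hy
  have hx₂U : x₂ ∈ Om A ⊔ B := by
    rw [hx₂']; exact hU ha₁ (B.mul_mem hb₁ (B.inv_mem hyB))
  have hx₂1 : x₂ ≠ 1 := by
    intro h1
    apply ha₁1
    apply h.inf (h.baseA.Om_le ha₁)
    have h3 : a₁ = x₂ * (b₁ * y⁻¹)⁻¹ := by rw [hx₂']; group
    rw [h3, h1, one_mul]
    exact B.inv_mem (B.mul_mem hb₁ (B.inv_mem hyB))
  have hx₂w : a * b ≠ x₂ := by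
    intro h1
    rw [hx₂'] at h1
    exact haa₁ (h.uniq (h.baseA.Om_le ha) (h.baseA.Om_le ha₁) hb (B.mul_mem hb₁ (B.inv_mem hyB)) h1).1.symm
  refine ⟨h, hX, ?_, ?_⟩
  · intro x hx
    rcases hX.baseA.four hw hx₂ hw1 hx₂1 hx₂w hx with h1 | h1 | h1 | h1
    · rw [h1]; exact (Om A ⊔ B).one_mem
    · rw [h1]; exact hU ha hb
    · rw [h1]; exact hx₂U
    · rw [h1]; exact (Om A ⊔ B).mul_mem (hU ha hb) hx₂U
  · intro h1
    obtain ⟨a', ha', y', hy', he⟩ := h.mem_line.1 (h1 hw)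
    have h3 := (h.uniq (h.baseA.Om_le ha) (h.baseA.Om_le ha') hb (h.base.Om_le hy') he).2
    apply hbO
    rw [h3]; exact hy'

theorem Adj.exists_TL (h : Adj B A) {x a : G} (ha : a ∈ Om A) (ha1 : a ≠ 1) (hx : Iv B x)
    (hk : ∀ b ∈ B, (a * x) * b = b * (a * x)) (h2 : (a * x) * (a * x) ≠ 1)
    (h4 : (a * x) * (a * x) * ((a * x) * (a * x)) = 1) : ∃ X, TL B A X := by
  obtain ⟨X, hX, a₂, ha₂, ha₂1, b₂, hb₂, hb₂O, hab, hw⟩ := h.exists_nbr ha ha1 hx hk h2 h4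
  exact ⟨X, h.TL_of_mem hX ha₂ ha₂1 hb₂ hb₂O hab hw⟩

end Cfsg.Agent.TIAbelian.End
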