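import Cfsg.Agent.TIAbelian.EndCentB

/-!
# Two lines: the involutions of `N(B)`
-/

set_option autoImplicit false
set_option linter.unusedSectionVars false

namespace Cfsg.Agent.TIAbelian.End

open Subgroup
open Cfsg.Agent.ClassificationK.TIPair (cj mem_normalizer_cj normalizer_of_cj_eq cj_eq_of_mem_normalizer)
open Cfsg.Agent.ClassificationK.TIFamily (mem_cj cj_mul cj_one)

universe u

variable {G : Type u} [Group G] {B A C : Subgroup G} [Finite G]

theorem TL.form (T : TL B A C) {c : G} (hc : c ∈ Om C) (hc1 : c ≠ 1) :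
    ∃ a ∈ Om A, a ≠ 1 ∧ ∃ k ∈ B, k ∉ Om B ∧ c = a * k ∧ br a k = k * k ∧ ∀ d ∈ B, br c d = br a d := by
  have h := T.adjA
  obtain ⟨a, ha, k, hk, hck⟩ := h.mem_S.1 (T.le hc)
  have hcc := T.adjC.baseA.Om_sq hc
  have hkO : k ∉ Om B := by
    intro hkO
    apply T.ne
    have hcU : c ∈ Om A ⊔ Om B := h.mem_line.2 ⟨a, ha, k, hkO, hck⟩
    exact Om_le_of_mem h.base h.line_mem_VV T.adjC.mem (T.adjC.baseA.Om_le hc) hc1 hcU
  have ha1 : a ≠ 1 := by
    rintro rfl
    apply hc1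
    apply T.adjC.inf (T.adjC.baseA.Om_le hc)
    rw [hck, one_mul]; exact hk
  refine ⟨a, ha, ha1, k, hk, hkO, hck, ?_, ?_⟩
  · apply h.br_of_sq ha hk
    rw [← hck]; exact hcc
  · intro d hd
    have h1 := h.base.comm k hk d hd
    rw [br, br, hck]
    calc a * k * d * (a * k)⁻¹ * d⁻¹ = a * (k * d) * k⁻¹ * a⁻¹ * d⁻¹ := by group
      _ = a * (d * k) * k⁻¹ * a⁻¹ * d⁻¹ := by rw [h1]
      _ = a * d * a⁻¹ * d⁻¹ := by group

theorem TL.mem (T : TL B A C) {a b : G} (ha : a ∈ Om A) (hb : b ∈ B) (hbO : b ∉ Om B)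
    (hab : br a b = b * b) : a * b ∈ Om C ⊔ Om B := by
  have h := T.adjA
  obtain ⟨c, hc, hcb⟩ := T.adjC.br_left_surj hb hbO (h.base.sq_mem_Om hb)
  have hbb := h.base.sq_ne hb hbO
  have hc1 : c ≠ 1 := by
    rintro rfl
    apply hbb
    rw [← hcb]; simp [br]
  have ha1 : a ≠ 1 := by
    rintro rfl
    apply hbb
    rw [← hab]; simp [br]
  obtain ⟨a', ha', -, k', hk', hk'O, hck, hbr, hall⟩ := T.form hc hc1
  have haa : a' = a := by
    apply h.br_left_inj ha' ha hb hbO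
    rw [← hall b hb, hcb, hab]
  subst haa
  have hkk := h.sq_eq_of_br ha ha1 hb hbO hk' hk'O hab hbr
  have h1 := h.base.inv_mul_mem hk' hb hkk.symm
  rw [T.adjC.mem_line]
  refine ⟨c, hc, _, h1, ?_⟩
  rw [hck]; group

theorem TL.nbr (T : TL B A C) {X : Subgroup G} (hX : Adj B X) {x : G} (hx : x ∈ Om X) (hx1 : x ≠ 1)
    (hxU : x ∈ Om A ⊔ B) : Om X ≤ Om A ⊔ Om B ∨ Om X ≤ Om C ⊔ Om B := by
  have h := T.adjA
  obtain ⟨a, ha, b, hb, hxab⟩ := h.mem_S.1 hxU
  by_cases hbO : b ∈ Om B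
  · left
    exact Om_le_of_mem h.base h.line_mem_VV hX.mem (hX.baseA.Om_le hx) hx1 (h.mem_line.2 ⟨a, ha, b, hbO, hxab⟩)
  · right
    have hab : br a b = b * b := by
      apply h.br_of_sq ha hb
      rw [← hxab]; exact hX.baseA.Om_sq hx
    have h1 := T.mem ha hb hbO hab
    rw [← hxab] at h1
    exact Om_le_of_mem T.adjC.base T.adjC.line_mem_VV hX.mem (hX.baseA.Om_le hx) hx1 h1

theorem TL.disj (T : TL B A C) {x : G} (h1 : x ∈ Om A ⊔ Om B) (h2 : x ∈ Om C ⊔ Om B) : x ∈ Om B := by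
  obtain ⟨c, hc, y, hy, rfl⟩ := T.adjC.mem_line.1 h2
  by_cases hc1 : c = 1
  · rw [hc1, one_mul]; exact hy
  exfalso
  apply T.ne
  refine Om_le_of_mem T.adjA.base T.adjA.line_mem_VV T.adjC.mem (T.adjC.baseA.Om_le hc) hc1 ?_
  have h3 : c = (c * y) * y⁻¹ := by group
  rw [h3]
  exact (Om A ⊔ Om B).mul_mem h1 ((Om A ⊔ Om B).inv_mem ((le_sup_right : Om B ≤ Om A ⊔ Om B) hy))

/-- a line inside `Om A ⊔ B` -/
theorem TL.line_le (T : TL B A C) : Om C ⊔ Om B ≤ Om A ⊔ B :=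
  sup_le T.le (T.adjA.base.Om_le.trans le_sup_right)

theorem OmA_sup_le (h : Adj B A) : Om A ⊔ B ≤ A ⊔ B := sup_le_sup_right h.baseA.Om_le B

/-- S8 -/
theorem TL.cent_C (T : TL B A C) {d : G} (hd : Dd B A d) : Dd B C d := by
  have h := T.adjA
  obtain ⟨t, htAB, htA, htB, ht1, ht2⟩ := h.exists_torus
  have hdt := hd.comm_sup htAB
  obtain ⟨c, hc, hc1⟩ := T.adjC.baseA.exists_ne
  have hdC : ∀ x ∈ Om C, d * x = x * d := fun x hx => hd.comm_sup (OmA_sup_le h (T.le hx))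
  have hdcj : cj d C = C := T.adjC.baseA.cj_of_comm (T.adjC.baseA.Om_le hc) hc1 (hdC c hc)
  obtain ⟨y, hy, d', hd', hdd'⟩ := T.adjC.split hd.cB hdcj
  -- `cj t C` lies in the line of `C`
  have hC₁ : Adj B (cj t C) := by
    have h1 := T.adjC.conj t
    rwa [htB] at h1
  have hC₁U : Om (cj t C) ≤ Om C ⊔ Om B := by
    obtain ⟨a, ha, ha1, k, hk, hkO, hck, hbr, -⟩ := T.form hc hc1
    obtain ⟨ha', hk', hk'O, hbr'⟩ := h.conj_form htA htB ha hk hkO hbr
    have h1 := T.mem ha' hk' hk'O hbr'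
    have h2 : t * c * t⁻¹ = (t * a * t⁻¹) * (t * k * t⁻¹) := by rw [hck]; group
    rw [← h2] at h1
    have h3 : t * c * t⁻¹ ∈ cj t C := cj_mem (T.adjC.baseA.Om_le hc)
    refine Om_le_of_mem T.adjC.base T.adjC.line_mem_VV hC₁.mem h3 ?_ h1
    intro h4
    apply hc1
    calc c = t⁻¹ * (t * c * t⁻¹) * t := by group
      _ = 1 := by rw [h4]; group
  obtain ⟨β, hβ, hβC⟩ := T.adjC.member hC₁.mem hC₁U hC₁.ne
  -- `e = t d' t⁻¹`
  have he : Dd B C (t * d' * t⁻¹) := by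
    have heB : ∀ b ∈ B, (t * d' * t⁻¹) * b = b * (t * d' * t⁻¹) := by
      intro b hb
      have h1 := hd'.cB _ (conj_mem' htB hb)
      calc (t * d' * t⁻¹) * b = t * (d' * (t⁻¹ * b * t)) * t⁻¹ := by group
        _ = t * ((t⁻¹ * b * t) * d') * t⁻¹ := by rw [h1]
        _ = b * (t * d' * t⁻¹) := by group
    refine ⟨heB, ?_⟩
    intro x hx
    have h1 : β * x * β⁻¹ ∈ cj t C := by rw [hβC]; exact cj_mem hx
    rw [mem_cj] at h1
    have h2 := hd'.cA _ h1
    have h3 : (t * d' * t⁻¹) * (β * x * β⁻¹) = (β * x * β⁻¹) * (t * d' * t⁻¹) := by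
      calc (t * d' * t⁻¹) * (β * x * β⁻¹) = t * (d' * (t⁻¹ * (β * x * β⁻¹) * t)) * t⁻¹ := by group
        _ = t * ((t⁻¹ * (β * x * β⁻¹) * t) * d') * t⁻¹ := by rw [h2]
        _ = _ := by group
    have h4 := heB _ hβ
    calc (t * d' * t⁻¹) * x = β⁻¹ * (β * (t * d' * t⁻¹)) * x := by group
      _ = β⁻¹ * ((t * d' * t⁻¹) * β) * x := by rw [h4]
      _ = β⁻¹ * ((t * d' * t⁻¹) * (β * x * β⁻¹)) * β := by group
      _ = β⁻¹ * ((β * x * β⁻¹) * (t * d' * t⁻¹)) * β := by rw [h3]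
      _ = x * β⁻¹ * ((t * d' * t⁻¹) * β) := by group
      _ = x * β⁻¹ * (β * (t * d' * t⁻¹)) := by rw [h4]
      _ = x * (t * d' * t⁻¹) := by group
  have hyt : t * y * t⁻¹ ∈ B := conj_mem htB (h.base.Om_le hy)
  have h1 : (t * y * t⁻¹) * (t * d' * t⁻¹) = y * d' := by
    calc (t * y * t⁻¹) * (t * d' * t⁻¹) = t * (y * d') * t⁻¹ := by group
      _ = (t * d) * t⁻¹ := by rw [hdd']
      _ = (d * t) * t⁻¹ := by rw [hdt]
      _ = y * d' := by rw [hdd']; group
  have h2 : (t * y * t⁻¹)⁻¹ * y = (t * d' * t⁻¹) * d'⁻¹ := by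
    calc (t * y * t⁻¹)⁻¹ * y = (t * y * t⁻¹)⁻¹ * (y * d') * d'⁻¹ := by group
      _ = (t * y * t⁻¹)⁻¹ * ((t * y * t⁻¹) * (t * d' * t⁻¹)) * d'⁻¹ := by rw [h1]
      _ = _ := by group
  have h3 : (t * y * t⁻¹)⁻¹ * y = 1 := by
    apply T.adjC.inf_cent (B.mul_mem (B.inv_mem hyt) (h.base.Om_le hy))
    rw [h2]
    exact (he.mul hd'.inv).cA
  have hy1 : y = 1 := by
    by_contra hy1
    exact ht2 y hy hy1 (inv_mul_eq_one.1 h3)
  rw [hdd', hy1, one_mul]
  exact hd'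

/-- no element centralising `B` moves `Om A` off its line, with square in `B` -/
theorem Adj.no_swap (h : Adj B A) {k : G} (hk : ∀ b ∈ B, k * b = b * k) (hkk : k * k ∈ B)
    (hmove : ∀ a ∈ Om A, a ≠ 1 → k * a * k⁻¹ ∈ Om A ⊔ B ∧ k * a * k⁻¹ ∉ Om A ⊔ Om B) : False := by
  have key : ∀ a ∈ Om A, a ≠ 1 → br a (k * k) = (k * k) * (k * k) ∧ (k * k) ∉ Om B := by
    intro a ha ha1
    obtain ⟨h1, h2⟩ := hmove a ha ha1
    obtain ⟨a', ha', β, hβ, hkaβ⟩ := h.mem_S.1 h1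
    have hβO : β ∉ Om B := fun h3 => h2 (h.mem_line.2 ⟨a', ha', β, h3, hkaβ⟩)
    -- `a' = a`
    have haa : a' = a := by
      obtain ⟨c, hc, -, -, hcO, -, -⟩ := h.base.exists_pair
      apply h.br_left_inj ha' ha hc hcO
      have e1 : br (k * a * k⁻¹) c = br a c := by
        rw [br_conj]
        have h3 := hk c hc
        have h4 : k⁻¹ * c * k = c := by
          calc k⁻¹ * c * k = k⁻¹ * (c * k) := by group
            _ = k⁻¹ * (k * c) := by rw [h3]
            _ = c := by group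
        rw [h4]
        have h5 := hk _ (h.base.Om_le (h.br_mem ha hc))
        rw [h5]; group
      have e2 : br (a' * β) c = br a' c := by
        have h3 := h.base.comm β hβ c hc
        rw [br, br]
        calc a' * β * c * (a' * β)⁻¹ * c⁻¹ = a' * (β * c) * β⁻¹ * a'⁻¹ * c⁻¹ := by group
          _ = a' * (c * β) * β⁻¹ * a'⁻¹ * c⁻¹ := by rw [h3]
          _ = a' * c * a'⁻¹ * c⁻¹ := by group
      rw [← e1, hkaβ, e2]
    subst haa
    have hsq : a' * β * (a' * β) = 1 := by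
      rw [← hkaβ]
      have h3 := h.baseA.Om_sq ha
      calc k * a' * k⁻¹ * (k * a' * k⁻¹) = k * (a' * a') * k⁻¹ := by group
        _ = 1 := by rw [h3]; group
    have hbr := h.br_of_sq ha hβ hsq
    -- the action of `k²`
    have h3 : (k * k) * a' * (k * k)⁻¹ = a' * (β * β) := by
      have h4 := hk β hβ
      calc (k * k) * a' * (k * k)⁻¹ = k * (k * a' * k⁻¹) * k⁻¹ := by group
        _ = k * (a' * β) * k⁻¹ := by rw [hkaβ]
        _ = (k * a' * k⁻¹) * (k * β) * k⁻¹ := by group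
        _ = (a' * β) * (β * k) * k⁻¹ := by rw [hkaβ, h4]
        _ = a' * (β * β) := by group
    rw [h.conj_a ha] at h3
    have h4 : br a' (k * k) = β * β := mul_left_cancel h3
    have h5 : br a' β = br a' (k * k) := by rw [hbr, h4]
    have h6 := h.br_right_inj ha ha1 hβ hkk h5
    have h7 : β * β = (k * k) * (k * k) := by
      have h8 := h.base.Om_sq h6
      rw [h.base.sq_mul (B.inv_mem hβ) hkk] at h8
      have h9 : β⁻¹ * β⁻¹ = (β * β)⁻¹ := by group
      rw [h9, inv_mul_eq_one] at h8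
      exact h8
    refine ⟨by rw [h4, h7], ?_⟩
    intro h8
    have h9 := h.base.Om_sq h8
    rw [← h7] at h9
    exact h.base.sq_ne hβ hβO h9
  obtain ⟨a₁, ha₁, a₂, ha₂, ha₁1, ha₂1, hne⟩ := h.baseA.exists_two
  obtain ⟨e1, hO⟩ := key a₁ ha₁ ha₁1
  obtain ⟨e2, -⟩ := key a₂ ha₂ ha₂1
  exact hne (h.br_left_inj ha₁ ha₂ hkk hO (e1.trans e2.symm))

theorem TL.four (T : TL B A C) {x a : G} (ha : a ∈ Om A) (ha1 : a ≠ 1) (hx : Iv B x)
    (hk : ∀ b ∈ B, (a * x) * b = b * (a * x)) (h2 : (a * x) * (a * x) ≠ 1)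
    (h4 : (a * x) * (a * x) * ((a * x) * (a * x)) = 1) :
    ∃ b ∈ B, b ∉ Om B ∧ x = a * b ∧ br a b = b * b := by
  have h := T.adjA
  obtain ⟨b, hb, d, hbO, hd, hdd, hxd, hab⟩ := h.form_four ha ha1 hx hk h2 h4
  refine ⟨b, hb, hbO, ?_, hab⟩
  have hda := hd.cA _ (h.baseA.Om_le ha)
  have hdb := hd.cB _ hb
  have hd1 : d * (a * b) = (a * b) * d := by
    calc d * (a * b) = (d * a) * b := by group
      _ = a * (d * b) := by rw [hda]; group
      _ = (a * b) * d := by rw [hdb]; group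
  have hmem := T.mem ha hb hbO hab
  have hab1 : a * b ≠ 1 := by
    intro h1
    apply ha1
    apply h.inf (h.baseA.Om_le ha)
    have h3 : a = (a * b) * b⁻¹ := by group
    rw [h3, h1, one_mul]; exact B.inv_mem hb
  have hiv : Iv B (a * b) := T.adjC.Iv_line hmem hab1
  have habab := hiv.sq h.base
  have hd' : d = 1 := by
    by_contra hd1'
    have hprod : (a * b) * x = d := by
      rw [hxd, ← mul_assoc, habab, one_mul]
    have h3 : Iv B ((a * b) * x) := by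
      apply hiv.mul h.base hx
      · rw [hxd]
        calc (a * b) * (a * b * d) = (a * b) * ((a * b) * d) := by group
          _ = (a * b) * (d * (a * b)) := by rw [hd1]
          _ = _ := by group
      · intro h5
        apply hd1'
        rw [hxd] at h5
        exact mul_eq_left.1 h5.symm
    rw [hprod] at h3
    have h5 := h3.mem_of_cent h.base hd.cB
    exact hd1' (h.inf_cent (h.base.Om_le h5) hd.cA)
  rw [hxd, hd', mul_one]

/-- S9 -/
theorem TL.two_power (T : TL B A C) {x a : G} (ha : a ∈ Om A) (ha1 : a ≠ 1) (hx : Iv B x)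
    (hk : ∀ b ∈ B, (a * x) * b = b * (a * x)) {m : ℕ} (hm : (a * x) ^ 2 ^ m = 1) : x ∈ Om A ⊔ B := by
  have h := T.adjA
  have haa := h.baseA.Om_sq ha
  have hai := h.Om_inv ha
  have hxx := hx.sq h.base
  have hxi := hx.inv h.base
  have hle : Om A ⊔ Om B ≤ Om A ⊔ B := sup_le_sup_left h.base.Om_le _
  have ivA : Iv B a := ⟨ha1, A, h.mem, ha⟩
  -- powers of `a x` centralise `B`
  have hpow : ∀ i : ℕ, ∀ b ∈ B, (a * x) ^ i * b = b * (a * x) ^ i := by
    intro i b hb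
    have h1 : Commute (a * x) b := hk b hb
    exact (h1.pow_left i).eq
  -- the elements `a (a x)^i` are in `Iv`
  have hiv : ∀ i : ℕ, Iv B (a * (a * x) ^ i) := by
    intro i
    obtain ⟨y, -, hy⟩ := refl_conj haa hxx i
    rcases hy with hy | hy
    · rw [hy]
      have h1 := ivA.conj h.base y⁻¹
      rwa [inv_inv] at h1
    · rw [hy]
      have h1 := hx.conj h.base y⁻¹
      rwa [inv_inv] at h1
  classical
  have hex : ∃ n, (a * x) ^ 2 ^ n = 1 := ⟨m, hm⟩
  set n := Nat.find hex with hn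
  have hn1 : (a * x) ^ 2 ^ n = 1 := Nat.find_spec hex
  have hn2 : ∀ j < n, (a * x) ^ 2 ^ j ≠ 1 := fun j hj => Nat.find_min hex hj
  rcases Nat.lt_or_ge n 2 with h2 | h2
  · -- `a` and `x` commute
    apply hle
    have h3 : (a * x) ^ 2 = 1 := by
      have h4 : (2 : ℕ) = 2 ^ n * 2 ^ (1 - n) := by
        rw [← pow_add]
        have : n + (1 - n) = 1 := by omega
        rw [this, pow_one]
      rw [h4, pow_mul, hn1, one_pow]
    rw [pow_two] at h3
    refine h.mem_line_of_comm ha ha1 hx hk ?_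
    have h5 := inv_eq_self h3
    rw [mul_inv_rev, hai, hxi] at h5
    exact h5.symm
  · -- `x₂ = a (a x)^(2^(n-2))`
    have e1 : 2 ^ n = 2 ^ (n - 2) * 4 := by
      have : n = (n - 2) + 2 := by omega
      conv_lhs => rw [this, pow_add]
      norm_num
    have e2 : 2 ^ (n - 1) = 2 ^ (n - 2) * 2 := by
      have : n - 1 = (n - 2) + 1 := by omega
      rw [this, pow_succ]
    have hk₂ : ∀ i : ℕ, a * (a * (a * x) ^ i) = (a * x) ^ i := by
      intro i
      rw [← mul_assoc, haa, one_mul]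
    have h21 : (a * x) ^ 2 ^ (n - 2) * (a * x) ^ 2 ^ (n - 2) = (a * x) ^ 2 ^ (n - 1) := by
      rw [← pow_add, e2, mul_two]
    have h22 : (a * x) ^ 2 ^ (n - 1) * (a * x) ^ 2 ^ (n - 1) = 1 := by
      rw [← pow_add, ← hn1, e1, e2]
      congr 1
      ring
    obtain ⟨b, hb, hbO, hxb, hab⟩ := T.four ha ha1 (hiv (2 ^ (n - 2))) (by
        intro b hb
        rw [hk₂]
        exact hpow _ b hb) (by
        rw [hk₂, h21]
        exact hn2 _ (by omega)) (by
        rw [hk₂, h21, h22])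
    have hkb : (a * x) ^ 2 ^ (n - 2) = b := mul_left_cancel hxb
    rcases Nat.lt_or_ge n 3 with h3 | h3
    · have h4 : n - 2 = 0 := by omega
      rw [h4, pow_zero, pow_one] at hkb
      have h5 : x = a * b := by
        rw [← hkb, ← mul_assoc, haa, one_mul]
      rw [h5]
      exact h.mem_S.2 ⟨a, ha, b, hb, rfl⟩
    · exfalso
      set k₃ := (a * x) ^ 2 ^ (n - 3) with hk₃
      have hk₃k₃ : k₃ * k₃ = b := by
        rw [hk₃, ← pow_add, ← mul_two, ← hkb]
        congr 1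
        have : n - 2 = (n - 3) + 1 := by omega
        rw [this, pow_succ]
      have hk₃c : ∀ b ∈ B, k₃ * b = b * k₃ := hpow _
      have hk₃a : k₃ * a * k₃⁻¹ = a * b⁻¹ := by
        have h4 := z_pow haa hxx (2 ^ (n - 3))
        rw [← hk₃] at h4
        calc k₃ * a * k₃⁻¹ = (a * a) * k₃ * a * k₃⁻¹ := by rw [haa, one_mul]
          _ = a * (a * k₃ * a) * k₃⁻¹ := by group
          _ = a * k₃⁻¹ * k₃⁻¹ := by rw [h4]
          _ = a * (k₃ * k₃)⁻¹ := by group
          _ = a * b⁻¹ := by rw [hk₃k₃]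
      have hbr : br a b⁻¹ = b⁻¹ * b⁻¹ := by
        have h4 := h.br_mul_right ha hb (B.inv_mem hb)
        rw [mul_inv_cancel, hab] at h4
        have h5 : br a 1 = 1 := by simp [br]
        rw [h5] at h4
        have h6 : br a b⁻¹ = (b * b)⁻¹ := (inv_eq_of_mul_eq_one_right h4.symm).symm
        rw [h6]; group
      have hbO' : b⁻¹ ∉ Om B := fun h4 => hbO (by simpa using (Om B).inv_mem h4)
      have hX : Adj B (cj k₃ A) := by
        have h4 := h.conj k₃
        rwa [cj_comm_fix hk₃c] at h4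
      have hline : Om (cj k₃ A) ≤ Om C ⊔ Om B := by
        have h4 := T.mem ha (B.inv_mem hb) hbO' hbr
        rw [← hk₃a] at h4
        exact Om_le_of_mem T.adjC.base T.adjC.line_mem_VV hX.mem (cj_mem (h.baseA.Om_le ha))
          (ivA.conj h.base k₃).1 h4
      refine h.no_swap hk₃c (by rw [hk₃k₃]; exact hb) ?_
      intro a₁ ha₁ ha₁1
      have h4 : k₃ * a₁ * k₃⁻¹ ∈ Om C ⊔ Om B := by
        apply hline
        rw [← cj_Om h.baseA.comm]
        exact cj_mem ha₁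
      refine ⟨T.line_le h4, ?_⟩
      intro h5
      have h6 := h.base.Om_le (T.disj h5 h4)
      apply ha₁1
      apply h.inf (h.baseA.Om_le ha₁)
      have h7 := hk₃c _ h6
      have h8 : a₁ = k₃ * a₁ * k₃⁻¹ := by
        calc a₁ = k₃⁻¹ * ((k₃ * a₁ * k₃⁻¹) * k₃) := by group
          _ = k₃⁻¹ * (k₃ * (k₃ * a₁ * k₃⁻¹)) := by rw [h7]
          _ = _ := by group
      rw [h8]; exact h6

end Cfsg.Agent.TIAbelian.End
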