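import Cfsg.Agent.TIAbelian.EndCentC

/-!
# `C_G(B) = B` when `N_G(B)` is a maximal 2-local subgroup of characteristic 2
-/

set_option autoImplicit false
set_option linter.unusedSectionVars false

namespace Cfsg.Agent.TIAbelian.End

open Subgroup
open Cfsg.Agent.ClassificationK.TIPair (cj mem_normalizer_cj normalizer_of_cj_eq cj_eq_of_mem_normalizer)
open Cfsg.Agent.ClassificationK.TIFamily (mem_cj cj_mul cj_one)

universe u

variable {G : Type u} [Group G] {B A C Q : Subgroup G} [Finite G]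

/-- `N(B)` is a maximal 2-local subgroup of characteristic 2, with `O₂ = Q` -/
structure MaxLoc (B Q : Subgroup G) : Prop where
  two : IsPGroup 2 Q
  le : ∀ q ∈ Q, cj q B = B
  norm : ∀ g : G, cj g B = B → cj g Q = Q
  cent : ∀ g : G, cj g B = B → (∀ q ∈ Q, g * q = q * g) → g ∈ Q
  max2 : ∀ R : Subgroup G, IsPGroup 2 R → (∀ r ∈ R, cj r B = B) → (∀ g : G, cj g B = B → cj g R = R) → R ≤ Q
  max : ∀ R : Subgroup G, IsPGroup 2 R → R ≠ ⊥ → (∀ g : G, cj g B = B → cj g R = R) →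
    ∀ g : G, cj g R = R → cj g B = B

/-- coprime action, one step -/
theorem comm_of_odd_step {x q e : G} (hodd : Odd (orderOf x)) (he : x * q * x⁻¹ = e * q)
    (hxe : x * e = e * x) {j : ℕ} (h2 : e ^ 2 ^ j = 1) : x * q = q * x := by
  have hn : ∀ n : ℕ, x ^ n * q * (x ^ n)⁻¹ = e ^ n * q := by
    intro n
    induction n with
    | zero => simp
    | succ n ih =>
      have hxen : x * e ^ n * x⁻¹ = e ^ n := by
        have h1 : Commute x (e ^ n) := Commute.pow_right hxe n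
        rw [h1.eq, mul_inv_cancel_right]
      calc x ^ (n + 1) * q * (x ^ (n + 1))⁻¹ = x * (x ^ n * q * (x ^ n)⁻¹) * x⁻¹ := by
            rw [pow_succ']; group
        _ = x * (e ^ n * q) * x⁻¹ := by rw [ih]
        _ = (x * e ^ n * x⁻¹) * (x * q * x⁻¹) := by group
        _ = e ^ n * (e * q) := by rw [hxen, he]
        _ = e ^ (n + 1) * q := by rw [pow_succ]; group
  have h1 := hn (orderOf x)
  rw [pow_orderOf_eq_one] at h1
  have h3 : e ^ orderOf x = 1 := by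
    have h4 : (1 : G) * q = e ^ orderOf x * q := by simpa using h1
    exact (mul_right_cancel h4).symm
  have h4 : orderOf e ∣ 1 := by
    have hcop : Nat.Coprime (2 ^ j) (orderOf x) := by
      apply Nat.Coprime.pow_left
      rw [Nat.coprime_two_left]
      exact hodd
    have h5 := Nat.dvd_gcd (orderOf_dvd_of_pow_eq_one h2) (orderOf_dvd_of_pow_eq_one h3)
    rwa [hcop] at h5
  have h5 : e = 1 := orderOf_eq_one_iff.1 (Nat.dvd_one.1 h4)
  rw [h5, one_mul] at he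
  calc x * q = (x * q * x⁻¹) * x := by group
    _ = q * x := by rw [he]

theorem eq_one_of_odd_of_two {x : G} (hodd : Odd (orderOf x)) {j : ℕ} (h2 : x ^ 2 ^ j = 1) : x = 1 := by
  have hcop : Nat.Coprime (2 ^ j) (orderOf x) := by
    apply Nat.Coprime.pow_left
    rw [Nat.coprime_two_left]
    exact hodd
  have h5 := Nat.dvd_gcd (orderOf_dvd_of_pow_eq_one h2) (dvd_refl (orderOf x))
  rw [hcop] at h5
  exact orderOf_eq_one_iff.1 (Nat.dvd_one.1 h5)

theorem MaxLoc.B_le (ml : MaxLoc B Q) (hB : Base B) : B ≤ Q :=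
  ml.max2 B (IsPGroup.of_card (n := 4) (by rw [hB.card]; norm_num)) (fun r hr => hB.cj_mem_self hr)
    (fun g hg => hg)

/-- the normal subgroup of `N(B)` acting trivially on `Q/B`, `B/Om B`, `Om B` -/
def Kk (B Q : Subgroup G) (hB : Base B) : Subgroup G where
  carrier := {k | cj k B = B ∧ (∀ q ∈ Q, k * q * k⁻¹ * q⁻¹ ∈ B) ∧ (∀ b ∈ B, k * b * k⁻¹ * b⁻¹ ∈ Om B) ∧
    (∀ y ∈ Om B, k * y = y * k)}
  one_mem' := by
    refine ⟨cj_one' B, fun q _ => ?_, fun b _ => ?_, fun y _ => by simp⟩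
    · simp [B.one_mem]
    · simp [(Om B).one_mem]
  mul_mem' := by
    rintro k l ⟨hk0, hk1, hk2, hk3⟩ ⟨hl0, hl1, hl2, hl3⟩
    refine ⟨by rw [← cj_cj, hl0, hk0], fun q hq => ?_, fun b hb => ?_, fun y hy => ?_⟩
    · have h1 := conj_mem hk0 (hl1 q hq)
      have h2 : k * l * q * (k * l)⁻¹ * q⁻¹ = (k * (l * q * l⁻¹ * q⁻¹) * k⁻¹) * (k * q * k⁻¹ * q⁻¹) := by group
      rw [h2]
      exact B.mul_mem h1 (hk1 q hq)
    · have h1 := conj_Om_mem hB hk0 (hl2 b hb)
      have h2 : k * l * b * (k * l)⁻¹ * b⁻¹ = (k * (l * b * l⁻¹ * b⁻¹) * k⁻¹) * (k * b * k⁻¹ * b⁻¹) := by group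
      rw [h2]
      exact (Om B).mul_mem h1 (hk2 b hb)
    · rw [mul_assoc, hl3 y hy, ← mul_assoc, hk3 y hy, mul_assoc]
  inv_mem' := by
    rintro k ⟨hk0, hk1, hk2, hk3⟩
    have hk0' := cj_inv_eq hk0
    refine ⟨hk0', fun q hq => ?_, fun b hb => ?_, fun y hy => ?_⟩
    · have h1 := conj_mem hk0' (B.inv_mem (hk1 q hq))
      have h2 : k⁻¹ * q * k⁻¹⁻¹ * q⁻¹ = k⁻¹ * (k * q * k⁻¹ * q⁻¹)⁻¹ * k⁻¹⁻¹ := by group
      rw [h2]; exact h1
    · have h1 := conj_Om_mem hB hk0' ((Om B).inv_mem (hk2 b hb))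
      have h2 : k⁻¹ * b * k⁻¹⁻¹ * b⁻¹ = k⁻¹ * (k * b * k⁻¹ * b⁻¹)⁻¹ * k⁻¹⁻¹ := by group
      rw [h2]; exact h1
    · have h1 := hk3 y hy
      calc k⁻¹ * y = k⁻¹ * (y * k) * k⁻¹ := by group
        _ = k⁻¹ * (k * y) * k⁻¹ := by rw [h1]
        _ = y * k⁻¹ := by group

theorem mem_Kk {hB : Base B} {k : G} : k ∈ Kk B Q hB ↔ cj k B = B ∧ (∀ q ∈ Q, k * q * k⁻¹ * q⁻¹ ∈ B) ∧
    (∀ b ∈ B, k * b * k⁻¹ * b⁻¹ ∈ Om B) ∧ (∀ y ∈ Om B, k * y = y * k) := Iff.rfl

theorem cj_le_of {g : G} {X : Subgroup G} (h1 : ∀ x ∈ X, g * x * g⁻¹ ∈ X) (h2 : ∀ x ∈ X, g⁻¹ * x * g ∈ X) :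
    cj g X = X := by
  ext x
  rw [mem_cj]
  constructor
  · intro hx
    have h3 := h1 _ hx
    have h4 : g * (g⁻¹ * x * g) * g⁻¹ = x := by group
    rwa [h4] at h3
  · exact fun hx => h2 x hx

theorem Kk_norm (ml : MaxLoc B Q) (hB : Base B) {g : G} (hg : cj g B = B) : cj g (Kk B Q hB) = Kk B Q hB := by
  have key : ∀ g : G, cj g B = B → ∀ k ∈ Kk B Q hB, g * k * g⁻¹ ∈ Kk B Q hB := by
    rintro g hg k hk
    rw [mem_Kk] at hk ⊢
    obtain ⟨hk0, hk1, hk2, hk3⟩ := hk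
    have hgQ := ml.norm g hg
    refine ⟨?_, fun q hq => ?_, fun b hb => ?_, fun y hy => ?_⟩
    · rw [← cj_cj, ← cj_cj, cj_inv_eq hg, hk0, hg]
    · have h1 := conj_mem hg (hk1 _ (conj_mem' hgQ hq))
      have h2 : g * k * g⁻¹ * q * (g * k * g⁻¹)⁻¹ * q⁻¹ =
          g * (k * (g⁻¹ * q * g) * k⁻¹ * (g⁻¹ * q * g)⁻¹) * g⁻¹ := by group
      rw [h2]; exact h1
    · have h1 := conj_Om_mem hB hg (hk2 _ (conj_mem' hg hb))
      have h2 : g * k * g⁻¹ * b * (g * k * g⁻¹)⁻¹ * b⁻¹ =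
          g * (k * (g⁻¹ * b * g) * k⁻¹ * (g⁻¹ * b * g)⁻¹) * g⁻¹ := by group
      rw [h2]; exact h1
    · have h1 := conj_Om_mem hB (cj_inv_eq hg) hy
      rw [inv_inv] at h1
      have h2 := hk3 _ h1
      calc g * k * g⁻¹ * y = g * (k * (g⁻¹ * y * g)) * g⁻¹ := by group
        _ = g * ((g⁻¹ * y * g) * k) * g⁻¹ := by rw [h2]
        _ = y * (g * k * g⁻¹) := by group
  refine cj_le_of (key g hg) ?_
  intro x hx
  have := key g⁻¹ (cj_inv_eq hg) x hx
  rwa [inv_inv] at this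

theorem Kk_two (ml : MaxLoc B Q) (hB : Base B) : IsPGroup 2 (Kk B Q hB) := by
  have hB2 : IsPGroup 2 B := IsPGroup.of_card (n := 4) (by rw [hB.card]; norm_num)
  have hodd : ∀ x ∈ Kk B Q hB, Odd (orderOf x) → x = 1 := by
    intro x hx hxo
    rw [mem_Kk] at hx
    obtain ⟨hk0, hk1, hk2, hk3⟩ := hx
    have h1 : ∀ b ∈ B, x * b = b * x := by
      intro b hb
      have h2 := hk2 b hb
      refine comm_of_odd_step hxo (e := x * b * x⁻¹ * b⁻¹) (by group) (hk3 _ h2) (j := 1) ?_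
      rw [pow_one, pow_two]
      exact hB.Om_sq h2
    have h2 : ∀ q ∈ Q, x * q = q * x := by
      intro q hq
      have h3 := hk1 q hq
      obtain ⟨j, hj⟩ := hB2 ⟨_, h3⟩
      refine comm_of_odd_step hxo (e := x * q * x⁻¹ * q⁻¹) (by group) (h1 _ h3) (j := j) ?_
      exact congrArg Subtype.val hj
    have h3 := ml.cent x hk0 h2
    obtain ⟨j, hj⟩ := ml.two ⟨x, h3⟩
    exact eq_one_of_odd_of_two hxo (congrArg Subtype.val hj)
  intro g
  obtain ⟨k, m, hm, hkm⟩ := Nat.exists_eq_two_pow_mul_odd (n := orderOf (g : G)) (orderOf_pos (g : G)).ne'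
  refine ⟨k, ?_⟩
  apply Subtype.ext
  refine hodd _ ((Kk B Q hB).pow_mem g.2 (2 ^ k)) ?_
  have hval : ((g ^ 2 ^ k : ↥(Kk B Q hB)) : G) = (g : G) ^ 2 ^ k := rfl
  rw [hval, orderOf_pow_of_dvd (pow_ne_zero _ two_ne_zero) (hkm ▸ Dvd.intro _ rfl), hkm,
    Nat.mul_div_cancel_left _ (by positivity)]
  exact hm

/-- a 2-power exponent from the square -/
theorem exists_pow_of_sq_mem (hQ : IsPGroup 2 Q) {k : G} (hk : k * k ∈ Q) : ∃ m : ℕ, k ^ 2 ^ m = 1 := by
  obtain ⟨j, hj⟩ := hQ ⟨_, hk⟩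
  refine ⟨j + 1, ?_⟩
  have h1 : (k * k) ^ 2 ^ j = 1 := congrArg Subtype.val hj
  rw [pow_succ', pow_mul, pow_two]
  exact h1

/-- S10 -/
theorem TL.Om_le_Q (T : TL B A C) (ml : MaxLoc B Q) : Om A ≤ Q := by
  have h := T.adjA
  have hBQ := ml.B_le h.base
  -- if one element is in `Q`, all are
  by_contra hcon
  have hQA : ∀ a ∈ Om A, a ∈ Q → a = 1 := by
    intro a ha haQ
    by_contra ha1
    apply hcon
    obtain ⟨t, -, htA, htB, ht1, -⟩ := h.exists_torus
    have ha' : t * a * t⁻¹ ∈ Om A := conj_Om_mem h.baseA htA ha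
    have ha'Q : t * a * t⁻¹ ∈ Q := conj_mem (ml.norm t htB) haQ
    have ha'1 : t * a * t⁻¹ ≠ 1 := by
      intro h1
      apply ha1
      calc a = t⁻¹ * (t * a * t⁻¹) * t := by group
        _ = 1 := by rw [h1]; group
    intro x hx
    rcases h.baseA.four ha ha' ha1 ha'1 (ht1 a ha ha1).symm hx with h1 | h1 | h1 | h1
    · rw [h1]; exact Q.one_mem
    · rw [h1]; exact haQ
    · rw [h1]; exact ha'Q
    · rw [h1]; exact Q.mul_mem haQ ha'Q
  -- `Om A` lies in `Kk`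
  have hK : Om A ≤ Kk B Q h.base := by
    intro a ha
    rw [mem_Kk]
    have haB := h.norm ha
    refine ⟨haB, fun q hq => ?_, fun b hb => h.br_mem ha hb, fun y hy => h.comm_Om_Om ha hy⟩
    by_cases ha1 : a = 1
    · rw [ha1]; simp [B.one_mem]
    -- `x = q a q⁻¹`
    have hqB := ml.le q hq
    have hX : Adj B (cj q A) := by
      have h1 := h.conj q
      rwa [hqB] at h1
    have hx : q * a * q⁻¹ ∈ Om (cj q A) := by
      rw [← cj_Om h.baseA.comm]; exact cj_mem ha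
    have hx1 : q * a * q⁻¹ ≠ 1 := by
      intro h1
      apply ha1
      calc a = q⁻¹ * (q * a * q⁻¹) * q := by group
        _ = 1 := by rw [h1]; group
    obtain ⟨a', ha', ha'1, -, -, -, -, -, hall⟩ := h.exists_agree hX hx hx1
    have ha'i := h.Om_inv ha'
    have hk : ∀ b ∈ B, (a' * (q * a * q⁻¹)) * b = b * (a' * (q * a * q⁻¹)) := by
      intro b hb
      have h3 := comm_of_br_eq (hall b hb)
      rwa [ha'i] at h3
    have haQ : cj a Q = Q := ml.norm a haB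
    have hsq : (a' * (q * a * q⁻¹)) * (a' * (q * a * q⁻¹)) ∈ Q := by
      -- `s = a' a`, `r = a⁻¹ q a q⁻¹`
      have hs : a' * a ∈ Om A := (Om A).mul_mem ha' ha
      have hss := h.baseA.Om_sq hs
      have hsi := inv_eq_self hss
      have hr : a⁻¹ * q * a * q⁻¹ ∈ Q := Q.mul_mem (conj_mem' haQ hq) (Q.inv_mem hq)
      have hsQ : cj (a' * a) Q = Q := ml.norm _ (h.norm hs)
      have h1 : (a' * (q * a * q⁻¹)) * (a' * (q * a * q⁻¹)) =
          ((a' * a) * (a⁻¹ * q * a * q⁻¹) * (a' * a)⁻¹) * (a⁻¹ * q * a * q⁻¹) := by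
        calc (a' * (q * a * q⁻¹)) * (a' * (q * a * q⁻¹))
            = (a' * a) * (a⁻¹ * q * a * q⁻¹) * (a' * a) * (a⁻¹ * q * a * q⁻¹) := by group
          _ = _ := by rw [hsi]
      rw [h1]
      exact Q.mul_mem (conj_mem hsQ hr) hr
    obtain ⟨m, hm⟩ := exists_pow_of_sq_mem ml.two hsq
    have hiv : Iv B (q * a * q⁻¹) := ⟨hx1, cj q A, hX.mem, hx⟩
    have hU := T.two_power ha' ha'1 hiv hk hm
    -- `[a, q] ∈ U ∩ Q = B`
    obtain ⟨a₂, ha₂, b₂, hb₂, hab₂⟩ := h.mem_S.1 hU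
    have h2 : a * q * a⁻¹ * q⁻¹ = (a * a₂) * b₂ := by
      have hai := h.Om_inv ha
      calc a * q * a⁻¹ * q⁻¹ = a * (q * a * q⁻¹) := by rw [hai]; group
        _ = (a * a₂) * b₂ := by rw [hab₂]; group
    have h3 : a * q * a⁻¹ * q⁻¹ ∈ Q := Q.mul_mem (conj_mem haQ hq) (Q.inv_mem hq)
    have h4 : a * a₂ ∈ Q := by
      have h5 : a * a₂ = (a * q * a⁻¹ * q⁻¹) * b₂⁻¹ := by rw [h2]; group
      rw [h5]
      exact Q.mul_mem h3 (Q.inv_mem (hBQ hb₂))
    have h5 := hQA _ ((Om A).mul_mem ha ha₂) h4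
    rw [h2, h5, one_mul]
    exact hb₂
  exact hcon (hK.trans (ml.max2 _ (Kk_two ml h.base) (fun r hr => (mem_Kk.1 hr).1)
    (fun g hg => Kk_norm ml h.base hg)))

/-- S11 -/
theorem TL.nbr_le (T : TL B A C) (ml : MaxLoc B Q) {X : Subgroup G} (hX : Adj B X) : Om X ≤ Om A ⊔ B := by
  have h := T.adjA
  have hAQ := T.Om_le_Q ml
  intro x hx
  by_cases hx1 : x = 1
  · rw [hx1]; exact (Om A ⊔ B).one_mem
  obtain ⟨a, ha, ha1, -, -, -, -, -, hall⟩ := h.exists_agree hX hx hx1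
  have hai := h.Om_inv ha
  have hk : ∀ b ∈ B, (a * x) * b = b * (a * x) := by
    intro b hb
    have h3 := comm_of_br_eq (hall b hb)
    rwa [hai] at h3
  have hxQ : cj x Q = Q := ml.norm x (hX.norm hx)
  have hsq : (a * x) * (a * x) ∈ Q := by
    have hxi := hX.Om_inv hx
    have h1 : (a * x) * (a * x) = a * (x * a * x⁻¹) := by
      rw [hxi]; group
    rw [h1]
    exact Q.mul_mem (hAQ ha) (conj_mem hxQ (hAQ ha))
  obtain ⟨m, hm⟩ := exists_pow_of_sq_mem ml.two hsq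
  exact T.two_power ha ha1 ⟨hx1, X, hX.mem, hx⟩ hk hm

theorem TL.nbr' (T : TL B A C) (ml : MaxLoc B Q) {X : Subgroup G} (hX : Adj B X) :
    Om X ≤ Om A ⊔ Om B ∨ Om X ≤ Om C ⊔ Om B := by
  obtain ⟨x, hx, hx1⟩ := hX.baseA.exists_ne
  exact T.nbr hX hx hx1 (T.nbr_le ml hX hx)

/-- `C(A) ∩ C(B)` centralises all neighbours of `B` -/
theorem TL.Dd_nbr (T : TL B A C) (ml : MaxLoc B Q) {X : Subgroup G} (hX : Adj B X) {d : G} (hd : Dd B A d) :
    Dd B X d := by
  have key : ∀ {Y : Subgroup G}, Dd B Y d → ∀ β ∈ B, Dd B (cj β Y) d := by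
    intro Y hdY β hβ
    refine ⟨hd.cB, ?_⟩
    intro x hx
    rw [mem_cj] at hx
    have h1 := hdY.cA _ hx
    have h2 := hd.cB β hβ
    have h3 := hd.inv.cB β hβ
    calc d * x = (d * β) * (β⁻¹ * x * β) * β⁻¹ := by group
      _ = β * (d * (β⁻¹ * x * β)) * β⁻¹ := by rw [h2]; group
      _ = β * ((β⁻¹ * x * β) * d) * β⁻¹ := by rw [h1]
      _ = x * (β * d) * β⁻¹ := by group
      _ = x * (d * β) * β⁻¹ := by rw [h2]
      _ = x * d := by group
  rcases T.nbr' ml hX with h1 | h1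
  · obtain ⟨β, hβ, rfl⟩ := T.adjA.member hX.mem h1 hX.ne
    exact key hd β hβ
  · obtain ⟨β, hβ, rfl⟩ := T.adjC.member hX.mem h1 hX.ne
    exact key (T.cent_C hd) β hβ

/-- S12 -/
theorem TL.Dd_one (T : TL B A C) (ml : MaxLoc B Q) {d : G} (hd : Dd B A d) : d = 1 := by
  have h := T.adjA
  -- the subgroup `D`
  let D : Subgroup G :=
    { carrier := {d | Dd B A d}
      one_mem' := ⟨fun b _ => by simp, fun b _ => by simp⟩
      mul_mem' := fun hx hy => hx.mul hy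
      inv_mem' := fun hx => hx.inv }
  have hDmem : ∀ {x : G}, x ∈ D ↔ Dd B A x := Iff.rfl
  have hDn : ∀ g : G, cj g B = B → ∀ x ∈ D, g * x * g⁻¹ ∈ D := by
    intro g hg x hx
    rw [hDmem] at hx ⊢
    have hgi := cj_inv_eq hg
    have hX : Adj B (cj g⁻¹ A) := by
      have h1 := h.conj g⁻¹
      rwa [hgi] at h1
    have h2 := T.Dd_nbr ml hX hx
    constructor
    · intro b hb
      have h3 := h2.cB _ (conj_mem' hg hb)
      calc g * x * g⁻¹ * b = g * (x * (g⁻¹ * b * g)) * g⁻¹ := by group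
        _ = g * ((g⁻¹ * b * g) * x) * g⁻¹ := by rw [h3]
        _ = b * (g * x * g⁻¹) := by group
    · intro a ha
      have h4 : g⁻¹ * a * g ∈ cj g⁻¹ A := by
        have := cj_mem (g := g⁻¹) ha
        rwa [inv_inv] at this
      have h3 := h2.cA _ h4
      calc g * x * g⁻¹ * a = g * (x * (g⁻¹ * a * g)) * g⁻¹ := by group
        _ = g * ((g⁻¹ * a * g) * x) * g⁻¹ := by rw [h3]
        _ = a * (g * x * g⁻¹) := by group
  have hDcj : ∀ g : G, cj g B = B → cj g D = D := by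
    intro g hg
    refine cj_le_of (hDn g hg) ?_
    intro x hx
    have := hDn g⁻¹ (cj_inv_eq hg) x hx
    rwa [inv_inv] at this
  have hDB : ∀ x ∈ D, cj x B = B := fun x hx => cj_comm_fix (hDmem.1 hx).cB
  -- `D ∩ Q = 1`
  have hDQ : D ⊓ Q = ⊥ := by
    by_contra hne
    have h2 : IsPGroup 2 ↥(D ⊓ Q) := ml.two.to_le inf_le_right
    have h3 : ∀ g : G, cj g B = B → cj g (D ⊓ Q) = D ⊓ Q := by
      intro g hg
      refine cj_le_of ?_ ?_
      · intro x hx
        exact ⟨hDn g hg x hx.1, conj_mem (ml.norm g hg) hx.2⟩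
      · intro x hx
        refine ⟨?_, conj_mem' (ml.norm g hg) hx.2⟩
        have := hDn g⁻¹ (cj_inv_eq hg) x hx.1
        rwa [inv_inv] at this
    have h4 := ml.max _ h2 hne h3
    obtain ⟨a, ha, -, -, haO, -, -⟩ := h.baseA.exists_pair
    apply haO
    apply h.mem_Om_of_norm ha
    apply h4
    have h5 : ∀ x ∈ D ⊓ Q, a * x = x * a := fun x hx => ((hDmem.1 hx.1).cA a ha).symm
    exact cj_comm_fix h5
  -- `D` centralises `Q`
  have hdQ : d ∈ Q := by
    have hdB := hDB d hd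
    apply ml.cent d hdB
    intro q hq
    have h2 : d * q * d⁻¹ * q⁻¹ ∈ D ⊓ Q := by
      constructor
      · have h3 : d * q * d⁻¹ * q⁻¹ = d * (q * d⁻¹ * q⁻¹) := by group
        rw [h3]
        exact D.mul_mem hd (hDn q (ml.le q hq) _ (D.inv_mem hd))
      · exact Q.mul_mem (conj_mem (ml.norm d hdB) hq) (Q.inv_mem hq)
    rw [hDQ, mem_bot] at h2
    exact br_eq_one_iff.1 h2
  have h2 : d ∈ D ⊓ Q := ⟨hd, hdQ⟩
  rwa [hDQ, mem_bot] at h2

/-- S13 -/
theorem TL.full (T : TL B A C) (ml : MaxLoc B Q) : Full B A C where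
  adjA := T.adjA
  adjC := T.adjC
  ne := T.ne
  cent := by
    have h := T.adjA
    -- first case
    have key : ∀ k : G, (∀ b ∈ B, k * b = b * k) → Om (cj k A) ≤ Om A ⊔ Om B → k ∈ B := by
      intro k hk h1
      have hX : Adj B (cj k A) := by
        have h4 := h.conj k
        rwa [cj_comm_fix hk] at h4
      obtain ⟨β, hβ, hkβ⟩ := h.member hX.mem h1 hX.ne
      have h2 : cj (β⁻¹ * k) A = A := by
        rw [← cj_cj, hkβ, cj_cancel]
      obtain ⟨y, hy, d, hd, hyd⟩ := h.split (k := β⁻¹ * k) (by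
        intro b hb
        have h3 := hk b hb
        have h4 := h.base.comm _ (B.inv_mem hβ) b hb
        calc β⁻¹ * k * b = β⁻¹ * (k * b) := by group
          _ = (β⁻¹ * b) * k := by rw [h3]; group
          _ = b * (β⁻¹ * k) := by rw [h4]; group) h2
      have hd1 := T.Dd_one ml hd
      rw [hd1, mul_one] at hyd
      have h3 : k = β * (β⁻¹ * k) := by group
      rw [h3, hyd]
      exact B.mul_mem hβ (h.base.Om_le hy)
    intro k hk
    have hX : Adj B (cj k A) := by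
      have h4 := h.conj k
      rwa [cj_comm_fix hk] at h4
    rcases T.nbr' ml hX with h1 | h1
    · exact key k hk h1
    · exfalso
      have hmem : ∀ a ∈ Om A, k * a * k⁻¹ ∈ Om C ⊔ Om B := by
        intro a ha
        apply h1
        rw [← cj_Om h.baseA.comm]
        exact cj_mem ha
      have hnot : ∀ a ∈ Om A, a ≠ 1 → k * a * k⁻¹ ∉ Om A ⊔ Om B := by
        intro a₁ ha₁ ha₁1 h5
        have h6 := h.base.Om_le (T.disj h5 (hmem a₁ ha₁))
        apply ha₁1
        apply h.inf (h.baseA.Om_le ha₁)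
        have h7 := hk _ h6
        have h8 : a₁ = k * a₁ * k⁻¹ := by
          calc a₁ = k⁻¹ * ((k * a₁ * k⁻¹) * k) := by group
            _ = k⁻¹ * (k * (k * a₁ * k⁻¹)) := by rw [h7]
            _ = _ := by group
        rw [h8]; exact h6
      -- `k²` fixes the line of `A`
      have hkk : ∀ b ∈ B, (k * k) * b = b * (k * k) := by
        intro b hb
        have h3 := hk b hb
        calc (k * k) * b = k * (k * b) := by group
          _ = k * (b * k) := by rw [h3]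
          _ = (k * b) * k := by group
          _ = (b * k) * k := by rw [h3]
          _ = b * (k * k) := by group
      have hX2 : Adj B (cj (k * k) A) := by
        have h4 := h.conj (k * k)
        rwa [cj_comm_fix hkk] at h4
      have hk2 : k * k ∈ B := by
        apply key _ hkk
        obtain ⟨a, ha, ha1⟩ := h.baseA.exists_ne
        obtain ⟨a', ha', β, hβ, hkaβ⟩ := h.mem_S.1 (T.line_le (hmem a ha))
        have hβO : β ∉ Om B := fun h3 => hnot a ha ha1 (h.mem_line.2 ⟨a', ha', β, h3, hkaβ⟩)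
        have haa : a' = a := by
          obtain ⟨c, hc, -, -, hcO, -, -⟩ := h.base.exists_pair
          apply h.br_left_inj ha' ha hc hcO
          have e1 : br (k * a * k⁻¹) c = br a c := by
            rw [br_conj]
            have h3 := hk c hc
            have h4 : k⁻¹ * c * k = c := by
              calc k⁻¹ * c * k = k⁻¹ * (c * k) := by group
                _ = k⁻¹ * (k * c) := by rw [h3]
                _ = c := by group
            rw [h4]
            have h5 := hk _ (h.base.Om_le (h.br_mem ha hc))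
            rw [h5]; group
          have e2 : br (a' * β) c = br a' c := by
            have h3 := h.base.comm β hβ c hc
            rw [br, br]
            calc a' * β * c * (a' * β)⁻¹ * c⁻¹ = a' * (β * c) * β⁻¹ * a'⁻¹ * c⁻¹ := by group
              _ = a' * (c * β) * β⁻¹ * a'⁻¹ * c⁻¹ := by rw [h3]
              _ = a' * c * a'⁻¹ * c⁻¹ := by group
          rw [← e1, hkaβ, e2]
        subst haa
        have h3 : (k * k) * a' * (k * k)⁻¹ = a' * (β * β) := by
          have h4 := hk β hβ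
          calc (k * k) * a' * (k * k)⁻¹ = k * (k * a' * k⁻¹) * k⁻¹ := by group
            _ = k * (a' * β) * k⁻¹ := by rw [hkaβ]
            _ = (k * a' * k⁻¹) * (k * β) * k⁻¹ := by group
            _ = (a' * β) * (β * k) * k⁻¹ := by rw [hkaβ, h4]
            _ = a' * (β * β) := by group
        have h4 : (k * k) * a' * (k * k)⁻¹ ∈ Om A ⊔ Om B := by
          rw [h3]
          exact h.mem_line.2 ⟨a', ha, β * β, h.base.sq_mem_Om hβ, rfl⟩
        refine Om_le_of_mem h.base h.line_mem_VV hX2.mem (cj_mem (h.baseA.Om_le ha)) ?_ h4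
        intro h5
        apply ha1
        calc a' = (k * k)⁻¹ * ((k * k) * a' * (k * k)⁻¹) * (k * k) := by group
          _ = 1 := by rw [h5]; group
      exact h.no_swap hk hk2 (fun a ha ha1 => ⟨T.line_le (hmem a ha), hnot a ha ha1⟩)

/-- Part I: two neighbours of `B` whose involutions do not commute. -/
theorem Adj.full (h : Adj B A) (ml : MaxLoc B Q) {X : Subgroup G} (hX : Adj B X)
    (hbr : ∀ a ∈ Om A, ∀ c ∈ Om X, a ≠ 1 → c ≠ 1 → a * c * a⁻¹ * c⁻¹ ∈ Om B ∧ a * c * a⁻¹ * c⁻¹ ≠ 1) :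
    ∃ C, Full B A C := by
  obtain ⟨c, hc, hc1⟩ := hX.baseA.exists_ne
  obtain ⟨a, ha, ha1, -, -, -, -, -, hall⟩ := h.exists_agree hX hc hc1
  have hai := h.Om_inv ha
  have hci := hX.Om_inv hc
  have hk : ∀ b ∈ B, (a * c) * b = b * (a * c) := by
    intro b hb
    have h3 := comm_of_br_eq (hall b hb)
    rwa [hai] at h3
  obtain ⟨h1, h2⟩ := hbr a ha c hc ha1 hc1
  have h3 : a * c * a⁻¹ * c⁻¹ = (a * c) * (a * c) := by
    rw [hai, hci]; group
  rw [h3] at h1 h2
  obtain ⟨C, T⟩ := h.exists_TL ha ha1 ⟨hc1, X, hX.mem, hc⟩ hk h2 (h.base.Om_sq h1)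
  exact ⟨C, T.full ml⟩

end Cfsg.Agent.TIAbelian.End
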