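import Cfsg.Agent.TIAbelian.EndDihedral
import Cfsg.Agent.S0215

/-!
# A class of involutions with pairwise products of odd order
-/

set_option autoImplicit false

namespace Cfsg.Agent.TIAbelian.End

open Subgroup

universe u

variable {G : Type u} [Group G]

theorem orderOf_eq_two {z : G} (hz : z * z = 1) (hz1 : z ≠ 1) : orderOf z = 2 := by
  rw [orderOf_eq_prime_iff]
  exact ⟨by rw [pow_two, hz], hz1⟩

/-- If the products of any two elements of the set `I` of involutions, closed under conjugation by its elements, have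
odd order, then all products `z₀ z` lie in a subgroup of odd order. -/
theorem exists_odd_subgroup [Finite G] (I : Set G) (h2 : ∀ z ∈ I, z * z = 1) (h1 : ∀ z ∈ I, z ≠ 1)
    (hconj : ∀ z ∈ I, ∀ w ∈ I, z * w * z⁻¹ ∈ I) (hodd : ∀ z ∈ I, ∀ w ∈ I, Odd (orderOf (z * w)))
    {z₀ : G} (hz₀ : z₀ ∈ I) : ∃ N : Subgroup G, Odd (Nat.card N) ∧ ∀ z ∈ I, z₀ * z ∈ N := by
  have h2f : Fact (Nat.Prime 2) := ⟨Nat.prime_two⟩
  have hH : ∀ h ∈ closure I, ∀ w ∈ I, h * w * h⁻¹ ∈ I := by
    intro h hh
    induction hh using closure_induction with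
    | mem x hx => exact hconj x hx
    | one => intro w hw; simpa using hw
    | mul x y _ _ hx hy =>
      intro w hw
      have := hx _ (hy w hw)
      convert this using 1
      group
    | inv x hxI hx =>
      intro w hw
      -- the conjugation by `x` is an injective self-map of the finite set `I`
      have hinj : Function.Injective (fun a : I => (⟨x * a.1 * x⁻¹, hx a.1 a.2⟩ : I)) := by
        intro a b hab
        have h3 := congrArg Subtype.val hab
        simp only at h3
        apply Subtype.ext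
        have h4 := mul_right_cancel h3
        exact mul_left_cancel h4
      obtain ⟨a, ha⟩ := (Finite.surjective_of_injective hinj) ⟨w, hw⟩
      have h3 := congrArg Subtype.val ha
      simp only at h3
      have h4 : x⁻¹ * w * x⁻¹⁻¹ = a.1 := by
        rw [← h3]; group
      rw [h4]; exact a.2
  let H : Subgroup G := closure I
  let u : H := ⟨z₀, subset_closure hz₀⟩
  have hu2 : orderOf u = 2 := by
    rw [← Subgroup.orderOf_coe]
    exact orderOf_eq_two (h2 z₀ hz₀) (h1 z₀ hz₀)
  have hup : IsPGroup 2 (zpowers u) := IsPGroup.of_card (n := 1) (by rw [Nat.card_zpowers, hu2, pow_one])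
  obtain ⟨P, hP⟩ := hup.exists_le_sylow
  have huP : u ∈ P := hP (mem_zpowers u)
  have hiso : ∀ g : H, g * u * g⁻¹ ∈ P → g * u * g⁻¹ = u := by
    intro g hg
    have h3 : g * u * g⁻¹ * u ∈ P := P.mul_mem hg huP
    have h4 : Odd (orderOf (g * u * g⁻¹ * u)) := by
      rw [← Subgroup.orderOf_coe]
      exact hodd _ (hH g.1 g.2 z₀ hz₀) _ hz₀
    have h5 : g * u * g⁻¹ * u = 1 := by
      obtain ⟨k, hk⟩ := (IsPGroup.iff_orderOf.1 P.isPGroup') ⟨_, h3⟩
      rw [Subgroup.orderOf_mk] at hk
      rw [hk] at h4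
      rcases Nat.eq_zero_or_pos k with h6 | h6
      · rw [h6, pow_zero] at hk
        exact orderOf_eq_one_iff.1 hk
      · exfalso
        have : Even (2 ^ k) := (Nat.even_pow.2 ⟨even_two, by omega⟩)
        exact (Nat.not_even_iff_odd.2 h4) this
    have h6 : u * u = 1 := by rw [← pow_two, ← hu2, pow_orderOf_eq_one]
    calc g * u * g⁻¹ = (g * u * g⁻¹ * u) * u⁻¹ := by group
      _ = u := by rw [h5, one_mul]; exact inv_eq_self h6
  obtain ⟨N, -, hNodd, hN⟩ := Cfsg.Agent.S0215.result P u hu2 huP hiso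
  refine ⟨N.map H.subtype, ?_, ?_⟩
  · rw [Nat.card_congr (N.equivMapOfInjective _ H.subtype_injective).toEquiv.symm]
    exact hNodd
  · intro z hz
    obtain ⟨y, hy, hyz⟩ := exists_conj_of_odd (h2 z₀ hz₀) (h2 z hz) (hodd z₀ hz₀ z hz)
    have hyH : y ∈ H := by
      have : zpowers (z₀ * z) ≤ H := by
        rw [zpowers_le]
        exact H.mul_mem (subset_closure hz₀) (subset_closure hz)
      exact this hy
    have h3 := hN (⟨y, hyH⟩⁻¹ : H)
    refine ⟨_, h3, ?_⟩
    have hzi := inv_eq_self (h2 z hz)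
    have hzi0 := inv_eq_self (h2 z₀ hz₀)
    simp only [Subgroup.coe_subtype, Subgroup.coe_mul, InvMemClass.coe_inv, inv_inv]
    change z₀ * y⁻¹ * z₀⁻¹ * y = z₀ * z
    rw [← hyz, hzi0]
    group

end Cfsg.Agent.TIAbelian.End
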