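import Cfsg.Agent.TIAbelian.EndMembers
import Cfsg.Agent.TIAbelian.EndZStar

/-!
# The number of vertices
-/

set_option autoImplicit false

namespace Cfsg.Agent.TIAbelian.End

open Subgroup
open Cfsg.Agent.ClassificationK.TIPair (cj mem_normalizer_cj normalizer_of_cj_eq cj_eq_of_mem_normalizer)
open Cfsg.Agent.ClassificationK.TIFamily (mem_cj cj_mul cj_one)

universe u

variable {G : Type u} [Group G] {E V : Set (Subgroup G)}

/-- involutions fixing the vertex `U` or one of its neighbours -/
def Near (E V : Set (Subgroup G)) (U : Subgroup G) (z : G) : Prop :=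
  cj z U = U ∨ ∃ X ∈ E, ∃ e, Ends E V X U e ∧ cj z e = e

open scoped Classical in
/-- the finite set of involutions -/
noncomputable def allI [Fintype G] (E : Set (Subgroup G)) : Finset G := Finset.univ.filter (fun z => z ∈ II E)

theorem mem_allI [Fintype G] {z : G} : z ∈ allI E ↔ z ∈ II E := by simp [allI]

open scoped Classical in
/-- the near involutions -/
noncomputable def nearI [Fintype G] (E V : Set (Subgroup G)) (U : Subgroup G) : Finset G :=
  (allI E).filter (fun z => Near E V U z)

theorem Geo.card_near (hg : Geo E V) [Fintype G] {U : Subgroup G} (hU : U ∈ V) :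
    (nearI E V U).card ≤ 315 := by
  classical
  have hsub : nearI E V U ⊆ pts U ∪ (mems E U).biUnion (fun X =>
      dif (oth E V X U) X ∪ ((mems E (oth E V X U)).erase X).biUnion
        (fun Y => dif (oth E V Y (oth E V X U)) Y)) := by
    intro z hz
    rw [nearI, Finset.mem_filter, mem_allI] at hz
    obtain ⟨hzI, hz⟩ := hz
    by_cases hzU : z ∈ U
    · exact Finset.mem_union_left _ (mem_pts.2 ⟨hzU, hzI.1⟩)
    apply Finset.mem_union_right
    rw [Finset.mem_biUnion]
    rcases hz with hz | ⟨X, hX, e, he, hze⟩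
    · rcases hg.fix_mem hU hzI hz with h | ⟨X, hX, f, hf, hzf⟩
      · exact absurd h hzU
      · refine ⟨X, mem_mems.2 ⟨hX, hf.leU⟩, ?_⟩
        apply Finset.mem_union_left
        rw [mem_dif, hf.oth_eq]
        exact ⟨hzf, fun h => hzU (hf.leU h)⟩
    · refine ⟨X, mem_mems.2 ⟨hX, he.leU⟩, ?_⟩
      rw [he.oth_eq]
      rcases hg.fix_mem he.hW hzI hze with h | ⟨Y, hY, f, hf, hzf⟩
      · apply Finset.mem_union_left
        rw [mem_dif]
        exact ⟨h, fun h => hzU (he.leU h)⟩
      · by_cases hze : z ∈ e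
        · apply Finset.mem_union_left
          rw [mem_dif]
          exact ⟨hze, fun h => hzU (he.leU h)⟩
        apply Finset.mem_union_right
        rw [Finset.mem_biUnion]
        refine ⟨Y, ?_, ?_⟩
        · rw [Finset.mem_erase, mem_mems]
          refine ⟨?_, hY, hf.leU⟩
          rintro rfl
          have h1 := (he.symm hg.sqV).oth_eq
          rw [hf.oth_eq] at h1
          rw [h1] at hzf
          exact hzU hzf
        · rw [mem_dif, hf.oth_eq]
          exact ⟨hzf, fun h => hze (hf.leU h)⟩
  refine (Finset.card_le_card hsub).trans ?_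
  refine (Finset.card_union_le _ _).trans ?_
  have h1 : (pts U).card = 15 := by
    have := card_pts U
    rw [hg.cardV U hU] at this
    omega
  have hdif : ∀ X Y : Subgroup G, X ∈ E → Y ∈ V → X ≤ Y → (dif Y X).card = 12 := by
    intro X Y hX hY hXY
    have := card_dif hXY
    rw [hg.cardV Y hY, hg.cardE X hX] at this
    omega
  have h2 : ((mems E U).biUnion (fun X =>
      dif (oth E V X U) X ∪ ((mems E (oth E V X U)).erase X).biUnion
        (fun Y => dif (oth E V Y (oth E V X U)) Y))).card ≤ (mems E U).card * 60 := by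
    apply Finset.card_biUnion_le_card_mul
    intro X hX
    rw [mem_mems] at hX
    have he := hg.ends_oth hX.1 hU hX.2
    refine (Finset.card_union_le _ _).trans ?_
    have h3 : (((mems E (oth E V X U)).erase X).biUnion
        (fun Y => dif (oth E V Y (oth E V X U)) Y)).card ≤ ((mems E (oth E V X U)).erase X).card * 12 := by
      apply Finset.card_biUnion_le_card_mul
      intro Y hY
      rw [Finset.mem_erase, mem_mems] at hY
      have hf := hg.ends_oth hY.2.1 he.hW hY.2.2
      exact le_of_eq (hdif Y _ hY.2.1 hf.hW hf.leW)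
    have h4 : ((mems E (oth E V X U)).erase X).card = 4 := by
      rw [Finset.card_erase_of_mem (mem_mems.2 ⟨hX.1, he.leW⟩), hg.card_mems he.hW]
    rw [h4] at h3
    have h5 := hdif X _ hX.1 he.hW he.leW
    omega
  rw [hg.card_mems hU] at h2
  omega

/-- if the product of `z` and `w` has even order and `z w` fixes `U`, then `z` is near `U` -/
theorem Geo.near_of_even (hg : Geo E V) [Finite G] {U : Subgroup G} (hU : U ∈ V) {z w : G} (hz : z ∈ II E)
    (hw : w ∈ II E) (hfix : cj (z * w) U = U) (he : ¬ Odd (orderOf (z * w))) : Near E V U z := by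
  classical
  have := Fintype.ofFinite G
  obtain ⟨t, ht, ht1, htt, hzt, hwt, y, hy⟩ := exists_central (hg.II_sq hz) (hg.II_sq hw)
    (orderOf_pos _) he
  have hztI : z * t ∈ II E := by
    rcases hy with hy | hy
    · rw [hy]; exact II_conj' hg hz y
    · rw [hy]; exact II_conj' hg hw y
  have hzz := hg.II_sq hz
  have htI : t ∈ II E := by
    have h1 := hg.mul_mem_II hz hztI (by rw [mul_assoc, ← hzt]) (by
      intro h
      apply ht1
      have : z * t = z * 1 := by rw [mul_one]; exact h.symm
      exact mul_left_cancel this)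
    rwa [← mul_assoc, hzz, one_mul] at h1
  have htU : cj t U = U := by
    have h1 : zpowers (z * w) ≤ normalizer (U : Set G) := by
      rw [zpowers_le]
      exact normalizer_of_cj_eq hfix
    exact cj_eq_of_mem_normalizer (h1 ht)
  obtain ⟨-, Y, hY, htY⟩ := id htI
  obtain ⟨hz1, Z, hZ, hzZ⟩ := id hz
  -- `z` lies in a vertex of `Y` and fixes both vertices of `Y`
  have key : ∀ f, f ∈ V → Y ≤ f → cj z f = f := by
    intro f hf hYf
    obtain ⟨f', hff⟩ := hg.other hY hf hYf
    rcases hff.comm t htY ht1 Z hZ z hzZ hz1 hzt.symm with h | h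
    · exact (hff.fix hg h).2.1
    · exact (hff.fix' hg h).2.1
  rcases hg.fix_mem hU htI htU with h | ⟨X, hX, e, he', hte⟩
  · left
    exact key U hU (hg.le_of_mem hY hU ht1 htY h)
  · right
    exact ⟨X, hX, e, he', key e he'.hW (hg.le_of_mem hY he'.hW ht1 htY hte)⟩

/-- conjugating by an element fixing `U` preserves nearness -/
theorem Geo.near_conj (hg : Geo E V) {U : Subgroup G} {z y : G} (hy : cj y U = U)
    (h : Near E V U z) : Near E V U (y * z * y⁻¹) := by
  have hy' : cj y⁻¹ U = U := by
    conv_lhs => rw [← hy]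
    exact cj_cancel y U
  rcases h with h | ⟨X, hX, e, he, hze⟩
  · left
    rw [← cj_cj, ← cj_cj, hy', h, hy]
  · right
    refine ⟨cj y X, hg.conjE y X hX, cj y e, ?_, ?_⟩
    · have := he.conj hg hX y
      rwa [hy] at this
    · rw [← cj_cj, ← cj_cj, cj_cancel, hze]

theorem cj_swap {z : G} {U W : Subgroup G} (hz : z * z = 1) (h : cj z U = W) : cj z W = U := by
  rw [← h, cj_cj, hz, cj_one']

/-- all involutions moving `U` to the same vertex as a far one are far, with products of odd order -/
theorem Geo.not_near (hg : Geo E V) [Finite G] {U : Subgroup G} (hU : U ∈ V) {z w : G} (hz : z ∈ II E)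
    (hw : w ∈ II E) (hzw : cj z U = cj w U) (hfar : ¬ Near E V U z) :
    ¬ Near E V U w ∧ Odd (orderOf (z * w)) := by
  have hzz := hg.II_sq hz
  have hww := hg.II_sq hw
  have hfix : cj (z * w) U = U := by
    rw [← cj_cj, ← hzw, cj_cj, hzz, cj_one']
  have hodd : Odd (orderOf (z * w)) := by
    by_contra h
    exact hfar (hg.near_of_even hU hz hw hfix h)
  refine ⟨?_, hodd⟩
  intro hn
  apply hfar
  obtain ⟨y, hy, hyz⟩ := exists_conj_of_odd hzz hww hodd
  have hyU : cj y U = U := by
    have h1 : zpowers (z * w) ≤ normalizer (U : Set G) := by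
      rw [zpowers_le]
      exact normalizer_of_cj_eq hfix
    exact cj_eq_of_mem_normalizer (h1 hy)
  have h1 := hg.near_conj hyU hn
  have h2 : y * w * y⁻¹ = z := by rw [← hyz]; group
  rwa [h2] at h1

/-- a fibre of far involutions has at most 5 elements -/
theorem Geo.card_fibre (hg : Geo E V) [Fintype G] {U : Subgroup G} (hU : U ∈ V)
    (hodd : ∀ K : Subgroup G, K ≤ normalizer (U : Set G) → Odd (Nat.card K) → Nat.card K ≤ 5)
    (S : Finset G) (hS : ∀ z ∈ S, z ∈ II E ∧ ¬ Near E V U z) (W : Subgroup G) (hSW : ∀ z ∈ S, cj z U = W) :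
    S.card ≤ 5 := by
  classical
  rcases S.eq_empty_or_nonempty with rfl | ⟨z₀, hz₀⟩
  · simp
  let I : Set G := {z | z ∈ II E ∧ cj z U = W}
  have hz₀I : z₀ ∈ I := ⟨(hS z₀ hz₀).1, hSW z₀ hz₀⟩
  have hfar : ∀ z ∈ I, ¬ Near E V U z := by
    intro z hz
    exact (hg.not_near hU (hS z₀ hz₀).1 hz.1 ((hSW z₀ hz₀).trans hz.2.symm) (hS z₀ hz₀).2).1
  obtain ⟨N, hN, hN2⟩ := exists_odd_subgroup I (fun z hz => hg.II_sq hz.1) (fun z hz => hz.1.1) (by
    intro z hz w hw
    refine ⟨II_conj hg hw.1 z, ?_⟩
    rw [inv_eq_self (hg.II_sq hz.1), ← cj_cj, ← cj_cj, hz.2, cj_swap (hg.II_sq hw.1) hw.2, hz.2]) (by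
    intro z hz w hw
    exact (hg.not_near hU hz.1 hw.1 (hz.2.trans hw.2.symm) (hfar z hz)).2) hz₀I
  let K : Subgroup G := N ⊓ normalizer (U : Set G)
  have hK : Nat.card K ≤ 5 := by
    apply hodd K inf_le_right
    have h1 : Nat.card K ∣ Nat.card N := Subgroup.card_dvd_of_le inf_le_left
    exact Odd.of_dvd_nat hN h1
  refine le_trans ?_ hK
  rw [← card_filter_mem]
  apply Finset.card_le_card_of_injOn (fun z => z₀ * z)
  · intro z hz
    simp only [Finset.coe_filter, Finset.mem_univ, true_and, Set.mem_ofPred_eq]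
    have hzI : z ∈ I := ⟨(hS z hz).1, hSW z hz⟩
    refine ⟨hN2 z hzI, ?_⟩
    apply normalizer_of_cj_eq
    rw [← cj_cj, hzI.2]
    exact cj_swap (hg.II_sq hz₀I.1) hz₀I.2
  · intro a _ b _ hab
    exact mul_left_cancel hab

end Cfsg.Agent.TIAbelian.End
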