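import Cfsg.Agent.TIAbelian.EndPartTwo

/-!
# The case `C_G(B) = B`: `G ≅ PSL₃(4)` (conclusion)
-/

set_option autoImplicit false
set_option linter.unusedSectionVars false

namespace Cfsg.Agent.TIAbelian.End

open Subgroup
open Cfsg.Agent.ClassificationK.TIPair (cj mem_normalizer_cj normalizer_of_cj_eq cj_eq_of_mem_normalizer)
open Cfsg.Agent.ClassificationK.TIFamily (mem_cj cj_mul cj_one)

universe u

variable {G : Type u} [Group G] {B A C : Subgroup G} [Finite G]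

theorem Full.Mv_C (h : Full B A C) {t : G} (tB : Mv B t) (tA : Mv A t) (htC : cj t C = C) : Mv C t where
  norm := htC
  mv := by
    intro c hc hc1 htc
    obtain ⟨a, ha, ha1, k, hk, -, hck, -, -⟩ := h.formC hc hc1
    have h1 : a⁻¹ * (t * a * t⁻¹) = k * (t * k * t⁻¹)⁻¹ := by
      calc a⁻¹ * (t * a * t⁻¹) = a⁻¹ * (t * (a * k) * t⁻¹) * (t * k * t⁻¹)⁻¹ := by group
        _ = a⁻¹ * (a * k) * (t * k * t⁻¹)⁻¹ := by rw [← hck, htc]
        _ = k * (t * k * t⁻¹)⁻¹ := by group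
    have h2 : a⁻¹ * (t * a * t⁻¹) = 1 := by
      apply h.adjA.inf
      · exact A.mul_mem (A.inv_mem (h.adjA.baseA.Om_le ha))
          (h.adjA.baseA.Om_le (conj_Om_mem h.adjA.baseA tA.norm ha))
      · rw [h1]; exact B.mul_mem hk (B.inv_mem (conj_mem tB.norm hk))
    exact tA.mv a ha ha1 (inv_mul_eq_one.1 h2).symm

theorem cj_pow_fix {g : G} {X : Subgroup G} (h : cj g X = X) (n : ℕ) : cj (g ^ n) X = X := by
  induction n with
  | zero => rw [pow_zero]; exact cj_one' X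
  | succ n ih => rw [pow_succ, ← cj_cj, h, ih]

/-- if the two lines on `B` are conjugate, they are swapped by an involution -/
theorem Full.exists_involution (h : Full B A C) {g : G} (hgU : cj g (Om A ⊔ Om B) = Om C ⊔ Om B) :
    ∃ s : G, s * s = 1 ∧ cj s (Om A ⊔ Om B) = Om C ⊔ Om B := by
  obtain ⟨t, ht, ht3, tA, tB⟩ := h.adjA.exists_three h.cent
  obtain ⟨C₀, hF, hline, htC₀⟩ := h.exists_fixed tB tA.norm
  rw [← hline] at hgU ⊢
  have hB := h.adjA.base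
  have hg := hF.geo
  have he := hF.ends
  have tC := hF.Mv_C tB tA htC₀
  set U : Subgroup G := Om A ⊔ Om B with hU
  set W : Subgroup G := Om C₀ ⊔ Om B with hW
  have hXE : Om B ∈ EE B := ⟨B, self_mem_Cl B, rfl⟩
  -- step a
  obtain ⟨g₁, hg₁B, hg₁U, hg₁W⟩ : ∃ g₁ : G, cj g₁ B = B ∧ cj g₁ U = W ∧ cj g₁ W = U := by
    obtain ⟨g₁, hg₁X, hg₁U⟩ : ∃ g₁ : G, cj g₁ (Om B) = Om B ∧ cj g₁ U = W := by
      by_cases hY : cj g (Om B) = Om B
      · exact ⟨g, hY, hgU⟩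
      · have hYW : cj g (Om B) ≤ W := by rw [← hgU]; exact cj_le_cj.2 he.leU
        obtain ⟨Z, hZ, hZX, hZY⟩ := hg.exists_third he.hW (Om B) (cj g (Om B))
        have hZ' := mem_mems.1 hZ
        obtain ⟨f, hf⟩ := hg.other hZ'.1 he.hW hZ'.2
        obtain ⟨w, hw, hwY⟩ := hg.exists_move (mem_mems.2 ⟨hg.conjE g _ hXE, hYW⟩)
          (mem_mems.2 ⟨hXE, he.leW⟩) hZ'.1 hZY.symm hZX.symm hf
        refine ⟨w * g, ?_, ?_⟩
        · rw [← cj_cj, hwY]
        · rw [← cj_cj, hgU, (hf.fix' hg hw).2.1]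
    refine ⟨g₁, cj_Om_eq hB hg₁X, hg₁U, ?_⟩
    rcases he.cj_cases hg hg₁X with h1 | h1
    · exact absurd (h1.1.symm.trans hg₁U) he.ne
    · exact h1.2
  -- step c, d
  obtain ⟨s, hsS, hst⟩ := h.adjA.exists_adjust h.cent ht3 tB tA hg₁B
  obtain ⟨a, ha, b, hb, hsab⟩ := h.adjA.mem_S.1 hsS
  have haU : a ∈ U := (le_sup_left : Om A ≤ Om A ⊔ Om B) ha
  obtain ⟨haX, haU', haW'⟩ := he.fix hg haU
  have hbU : cj b U = U := by
    apply Subgroup.eq_of_le_of_card_ge (h.adjA.conj_line hb)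
    rw [card_cj]
  have hbW : cj b W = W := by
    apply Subgroup.eq_of_le_of_card_ge (hF.adjC.conj_line hb)
    rw [card_cj]
  have hsU : cj s U = U := by rw [hsab, ← cj_cj, hbU, haU']
  have hsW : cj s W = W := by rw [hsab, ← cj_cj, hbW, haW']
  have hsB : cj s B = B := by rw [hsab, ← cj_cj, hB.cj_mem_self hb, h.adjA.norm ha]
  set g₂ := s * g₁ with hg₂
  have hg₂B : cj g₂ B = B := by rw [hg₂, ← cj_cj, hg₁B, hsB]
  have hg₂U : cj g₂ U = W := by rw [hg₂, ← cj_cj, hg₁U, hsW]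
  have hg₂W : cj g₂ W = U := by rw [hg₂, ← cj_cj, hg₁W, hsU]
  -- step e
  have hpos : 0 < orderOf g₂ := orderOf_pos g₂
  obtain ⟨k, m, hm, hkm⟩ := Nat.exists_eq_two_pow_mul_odd hpos.ne'
  have hg₂2U : cj (g₂ * g₂) U = U := by rw [← cj_cj, hg₂U, hg₂W]
  have hg₂2W : cj (g₂ * g₂) W = W := by rw [← cj_cj, hg₂W, hg₂U]
  have hg₂2t : g₂ * g₂ * t * (g₂ * g₂)⁻¹ = t := by
    rcases hst with h1 | h1
    · calc g₂ * g₂ * t * (g₂ * g₂)⁻¹ = g₂ * (g₂ * t * g₂⁻¹) * g₂⁻¹ := by group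
        _ = t := by rw [h1, h1]
    · calc g₂ * g₂ * t * (g₂ * g₂)⁻¹ = g₂ * (g₂ * t * g₂⁻¹) * g₂⁻¹ := by group
        _ = g₂ * t⁻¹ * g₂⁻¹ := by rw [h1]
        _ = (g₂ * t * g₂⁻¹)⁻¹ := by group
        _ = t := by rw [h1, inv_inv]
  have hcomm2 : Commute (g₂ * g₂) t := by
    change g₂ * g₂ * t = t * (g₂ * g₂)
    calc g₂ * g₂ * t = (g₂ * g₂ * t * (g₂ * g₂)⁻¹) * (g₂ * g₂) := by group
      _ = t * (g₂ * g₂) := by rw [hg₂2t]
  obtain ⟨j, hj⟩ := hm
  have hpow : g₂ ^ m = g₂ * (g₂ * g₂) ^ j := by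
    rw [hj, pow_succ', pow_mul, pow_two]
  refine ⟨g₂ ^ m, ?_, ?_⟩
  swap
  · rw [hpow, ← cj_cj, cj_pow_fix hg₂2U, hg₂U]
  set y := g₂ ^ m * g₂ ^ m with hy
  have hy2 : y = (g₂ * g₂) ^ m := by
    rw [hy, ← pow_add, ← two_mul, pow_mul, pow_two]
  have hyt : y * t = t * y := by rw [hy2]; exact hcomm2.pow_left m
  have hyB : cj y B = B := by
    rw [hy2]; apply cj_pow_fix
    rw [← cj_cj, hg₂B, hg₂B]
  have hyU : cj y U = U := by rw [hy2]; exact cj_pow_fix hg₂2U m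
  have hyW : cj y W = W := by rw [hy2]; exact cj_pow_fix hg₂2W m
  have hy2k : y ^ 2 ^ k = 1 := by
    rw [hy, ← pow_add, ← pow_mul, show (m + m) * 2 ^ k = (2 ^ k * m) * 2 by ring, pow_mul, ← hkm,
      pow_orderOf_eq_one, one_pow]
  -- `y` normalises `A` and `C₀`
  have hyA : cj y A = A := by
    apply h.adjA.member_fixed tA.norm tB (cj_mem_Cl h.adjA.mem y)
    · rw [← cj_Om h.adjA.baseA.comm, ← hU, ← hyU]
      exact cj_le_cj.2 le_sup_left
    · intro h1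
      apply h.adjA.ne
      apply cj_injective y
      simp only
      rw [h1, hyB]
    · rw [cj_cj, ← hyt, ← cj_cj, tA.norm]
  have hyC : cj y C₀ = C₀ := by
    apply hF.adjC.member_fixed tC.norm tB (cj_mem_Cl hF.adjC.mem y)
    · rw [← cj_Om hF.adjC.baseA.comm, ← hW, ← hyW]
      exact cj_le_cj.2 le_sup_left
    · intro h1
      apply hF.adjC.ne
      apply cj_injective y
      simp only
      rw [h1, hyB]
    · rw [cj_cj, ← hyt, ← cj_cj, tC.norm]
  have cB : ∀ x ∈ Om B, y * x = x * y := fun x hx => tB.comm_of_two hB hyB hyt hy2k hx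
  have cA : ∀ x ∈ Om A, y * x = x * y := fun x hx => tA.comm_of_two h.adjA.baseA hyA hyt hy2k hx
  have cC : ∀ x ∈ Om C₀, y * x = x * y := fun x hx => tC.comm_of_two hF.adjC.baseA hyC hyt hy2k hx
  have hyBmem : y ∈ B := by
    apply h.cent
    intro b hb
    by_cases hbO : b ∈ Om B
    · exact cB b hbO
    obtain ⟨c, hc, hcb⟩ := hF.adjC.br_left_surj hb hbO (hB.sq_mem_Om hb)
    have hc1 : c ≠ 1 := by
      rintro rfl
      apply hB.sq_ne hb hbO
      rw [← hcb]; simp [br]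
    obtain ⟨a', ha', ha1', k', hk', hkO', hck', hbr', hall'⟩ := hF.formC hc hc1
    have h1 := h.adjA.sq_eq_of_br ha' ha1' hk' hkO' hb hbO hbr' (by rw [hall' b hb, hcb])
    have h2 := hB.inv_mul_mem hk' hb h1
    have h3 : Commute y k' := by
      have h4 : k' = a'⁻¹ * c := by rw [hck']; group
      rw [h4]
      exact ((show Commute y a' from cA a' ha').inv_right).mul_right (cC c hc)
    have h5 : Commute y (k'⁻¹ * b) := cB _ h2
    have h6 := h3.mul_right h5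
    rw [mul_inv_cancel_left] at h6
    exact h6
  apply tB.eq_one hB hyBmem
  rw [← hyt]; group

/-- **Part II.** -/
theorem Full.psl34 [IsSimpleGroup G] (h : Full B A C) :
    ∃ (F : Type) (_ : Field F) (_ : Fintype F), Fintype.card F = 4 ∧
        Nonempty (G ≃* Matrix.ProjectiveSpecialLinearGroup (Fin 3) F) := by
  have hg := h.geo
  have he := h.ends
  have hB := h.adjA.base
  have hXE : Om B ∈ EE B := ⟨B, self_mem_Cl B, rfl⟩
  refine he.psl34 hg hXE ?_ h.hodd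
  intro X hX e hXe g hgU
  obtain ⟨u, huX, huU⟩ : ∃ u : G, cj u X = Om B ∧ cj u (Om A ⊔ Om B) = Om A ⊔ Om B := by
    by_cases hXB : X = Om B
    · exact ⟨1, by rw [cj_one', hXB], cj_one' _⟩
    · obtain ⟨Z, hZ, hZX, hZY⟩ := hg.exists_third he.hU (Om B) X
      have hZ' := mem_mems.1 hZ
      obtain ⟨f, hf⟩ := hg.other hZ'.1 he.hU hZ'.2
      obtain ⟨w, hw, hwY⟩ := hg.exists_move (mem_mems.2 ⟨hX, hXe.leU⟩)
        (mem_mems.2 ⟨hXE, he.leU⟩) hZ'.1 hZY.symm hZX.symm hf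
      exact ⟨w, hwY, (hf.fix' hg hw).2.1⟩
  have h1 := hXe.conj hg hX u
  rw [huX, huU] at h1
  have h2 : cj u e = Om C ⊔ Om B := by
    rcases he.uniq _ h1.hW h1.leW with h3 | h3
    · exact absurd h3.symm h1.ne
    · exact h3
  have h3 : cj (u * g) (Om A ⊔ Om B) = Om C ⊔ Om B := by rw [← cj_cj, hgU, h2]
  obtain ⟨s, hs, hsU⟩ := h.exists_involution h3
  refine he.false_of_swap hg hXE hs hsU ?_
  rw [hB.normalizer_Om]
  exact hB.odd_index

end Cfsg.Agent.TIAbelian.End
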