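import Cfsg.Agent.TIAbelian.EndCentD
import Cfsg.Agent.TIAbelian.EndPartTwoB
import Cfsg.Agent.Lib.NormalAbelian

/-!
# Descending to a simple normal subgroup with trivial centralizer
-/

set_option autoImplicit false
set_option linter.unusedSectionVars false

namespace Cfsg.Agent.TIAbelian.End

open Subgroup
open Cfsg.Agent.ClassificationK.TIPair (cj mem_normalizer_cj normalizer_of_cj_eq cj_eq_of_mem_normalizer)
open Cfsg.Agent.ClassificationK.TIFamily (mem_cj cj_mul cj_one)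

universe u

variable {G : Type u} [Group G] {B A C Q : Subgroup G}

theorem mem_cj_subgroupOf {N X : Subgroup G} (n : N) (x : N) :
    x ∈ cj n (X.subgroupOf N) ↔ (x : G) ∈ cj (n : G) X := by
  rw [mem_cj, mem_cj, mem_subgroupOf]
  rfl

theorem cj_subgroupOf {N X : Subgroup G} (n : N) : cj n (X.subgroupOf N) = (cj (n : G) X).subgroupOf N := by
  ext x
  rw [mem_cj_subgroupOf, mem_subgroupOf]

theorem sub_inj {N X Y : Subgroup G} (hX : X ≤ N) (hY : Y ≤ N) (h : X.subgroupOf N = Y.subgroupOf N) :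
    X = Y := by
  ext x
  constructor
  · intro hx
    have h1 : (⟨x, hX hx⟩ : N) ∈ X.subgroupOf N := hx
    rw [h] at h1
    exact h1
  · intro hx
    have h1 : (⟨x, hY hx⟩ : N) ∈ Y.subgroupOf N := hx
    rw [← h] at h1
    exact h1

theorem comm_sub {N X : Subgroup G} (hc : ∀ x ∈ X, ∀ y ∈ X, x * y = y * x) :
    ∀ x ∈ X.subgroupOf N, ∀ y ∈ X.subgroupOf N, x * y = y * x := by
  intro x hx y hy
  exact Subtype.ext (hc _ hx _ hy)

theorem mem_Om_sub {N X : Subgroup G} (hc : ∀ x ∈ X, ∀ y ∈ X, x * y = y * x) {x : N} :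
    x ∈ Om (X.subgroupOf N) ↔ (x : G) ∈ Om X := by
  rw [mem_Om (comm_sub hc), mem_Om hc, mem_subgroupOf]
  constructor
  · rintro ⟨h1, h2⟩
    exact ⟨h1, congrArg Subtype.val h2⟩
  · rintro ⟨h1, h2⟩
    exact ⟨h1, Subtype.ext h2⟩

theorem Om_sub {N X : Subgroup G} (hc : ∀ x ∈ X, ∀ y ∈ X, x * y = y * x) :
    Om (X.subgroupOf N) = (Om X).subgroupOf N := by
  ext x
  rw [mem_Om_sub hc, mem_subgroupOf]

theorem card_sub {N X : Subgroup G} (hX : X ≤ N) : Nat.card (X.subgroupOf N) = Nat.card X :=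
  Nat.card_congr (subgroupOfEquivOfLe hX).toEquiv

theorem Base.sub {N : Subgroup G} (hB : Base B) (hN : B ≤ N) : Base (B.subgroupOf N) where
  comm := comm_sub hB.comm
  card := by rw [card_sub hN]; exact hB.card
  exp := by
    intro x hx
    exact Subtype.ext (hB.exp x hx)
  om := by
    rw [Om_sub hB.comm, card_sub (hB.Om_le.trans hN)]
    exact hB.om
  ti := by
    intro g x hx hx1 hgx
    have h1 := hB.ti g x hx (fun h0 => hx1 (Subtype.ext h0)) hgx
    rw [cj_subgroupOf, h1]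
  wc := by
    intro g hg
    have h1 : cj (g : G) B ≤ normalizer (B : Set G) := by
      intro x hx
      have hxN : x ∈ N := by
        have h2 := hx
        rw [mem_cj] at h2
        have h3 : x = (g : G) * ((g : G)⁻¹ * x * g) * (g : G)⁻¹ := by group
        rw [h3]
        exact N.mul_mem (N.mul_mem g.2 (hN h2)) (N.inv_mem g.2)
      have h2 : (⟨x, hxN⟩ : N) ∈ cj g (B.subgroupOf N) := (mem_cj_subgroupOf g ⟨x, hxN⟩).2 hx
      have h3 := hg h2
      apply normalizer_of_cj_eq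
      have h4 := cj_eq_of_mem_normalizer h3
      rw [cj_subgroupOf] at h4
      refine sub_inj (N := N) ?_ hN h4
      intro y hy
      rw [mem_cj] at hy
      have h5 : y = x * (x⁻¹ * y * x) * x⁻¹ := by group
      rw [h5]
      exact N.mul_mem (N.mul_mem hxN (hN hy)) (N.inv_mem hxN)
    have h2 := hB.wc g h1
    rw [cj_subgroupOf, h2]

variable [Finite G]

theorem Adj.sub {N : Subgroup G} (h : Adj B A) (hBN : B ≤ N) (hAN : A ≤ N) :
    Adj (B.subgroupOf N) (A.subgroupOf N) where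
  base := h.base.sub hBN
  mem := by
    obtain ⟨b, hb, -, -, hbO, -, -⟩ := h.base.exists_pair
    obtain ⟨w, hw, -, hwB, -⟩ := h.exists_swap hb hbO
    refine ⟨⟨w, (sup_le hAN hBN) hw⟩, ?_⟩
    rw [cj_subgroupOf]
    change A.subgroupOf N = (cj w B).subgroupOf N
    rw [hwB]
  ne := fun h1 => h.ne (sub_inj hAN hBN h1)
  ex := by
    obtain ⟨a, ha, ha1, haB⟩ := h.ex
    refine ⟨⟨a, hAN ha⟩, ha, fun h0 => ha1 (congrArg Subtype.val h0), ?_⟩
    rw [cj_subgroupOf]
    change (cj a B).subgroupOf N = B.subgroupOf N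
    rw [haB]

theorem Full.sub {N : Subgroup G} (h : Full B A C) (hBN : B ≤ N) (hAN : A ≤ N) (hCN : C ≤ N) :
    Full (B.subgroupOf N) (A.subgroupOf N) (C.subgroupOf N) where
  adjA := h.adjA.sub hBN hAN
  adjC := h.adjC.sub hBN hCN
  cent := by
    intro k hk
    rw [mem_subgroupOf]
    apply h.cent
    intro b hb
    exact congrArg Subtype.val (hk ⟨b, hBN hb⟩ hb)
  ne := by
    intro h1
    apply h.ne
    intro x hx
    have hxN : x ∈ N := hCN (h.adjC.baseA.Om_le hx)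
    have h2 : (⟨x, hxN⟩ : N) ∈ Om (C.subgroupOf N) := (mem_Om_sub h.adjC.baseA.comm).2 hx
    have h3 : x ∈ (Om (A.subgroupOf N) ⊔ Om (B.subgroupOf N)).map N.subtype := ⟨_, h1 h2, rfl⟩
    rw [Subgroup.map_sup] at h3
    have h4 : (Om (A.subgroupOf N)).map N.subtype ≤ Om A := by
      rintro _ ⟨y, hy, rfl⟩
      exact (mem_Om_sub h.adjA.baseA.comm).1 hy
    have h5 : (Om (B.subgroupOf N)).map N.subtype ≤ Om B := by
      rintro _ ⟨y, hy, rfl⟩
      exact (mem_Om_sub h.adjA.base.comm).1 hy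
    have h6 : (Om (A.subgroupOf N)).map N.subtype ⊔ (Om (B.subgroupOf N)).map N.subtype ≤ Om A ⊔ Om B :=
      sup_le_sup h4 h5
    exact h6 h3

/-- S14: `N ∩ Q ≠ 1` -/
theorem TL.inf_ne_bot (T : TL B A C) (ml : MaxLoc B Q) (N : Subgroup G) [hN : N.Normal]
    (hN1 : N ≠ ⊥) (hNc : centralizer (N : Set G) = ⊥) : N ⊓ Q ≠ ⊥ := by
  intro hbot
  have h := T.adjA
  -- `N ∩ N(B) = 1`
  have key : ∀ n ∈ N, cj n B = B → n = 1 := by
    intro n hn hnB
    have h1 : n ∈ Q := by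
      apply ml.cent n hnB
      intro q hq
      have h2 : n * q * n⁻¹ * q⁻¹ ∈ N ⊓ Q := by
        constructor
        · have h3 : n * q * n⁻¹ * q⁻¹ = n * (q * n⁻¹ * q⁻¹) := by group
          rw [h3]
          exact N.mul_mem hn (hN.conj_mem _ (N.inv_mem hn) q)
        · exact Q.mul_mem (conj_mem (ml.norm n hnB) hq) (Q.inv_mem hq)
      rw [hbot, mem_bot] at h2
      exact br_eq_one_iff.1 h2
    have h2 : n ∈ N ⊓ Q := ⟨hn, h1⟩
    rwa [hbot, mem_bot] at h2
  obtain ⟨y, hy, hy1⟩ := h.base.exists_ne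
  have hyy := h.base.Om_sq hy
  -- `y` acts on `N` without fixed points
  let φ : N →* N := (MulAut.conjNormal y : MulAut N).toMonoidHom
  have hφ : ∀ n : N, ((φ n : N) : G) = y * n * y⁻¹ := fun n => rfl
  have hfp : MonoidHom.FixedPointFree φ := by
    intro n hn
    have h1 : y * (n : G) * y⁻¹ = n := by rw [← hφ, hn]
    have h2 : (n : G) * y = y * n := by
      calc (n : G) * y = (y * (n : G) * y⁻¹) * y := by rw [h1]
        _ = y * n := by group
    exact Subtype.ext (key n n.2 (h.base.cj_of_comm (h.base.Om_le hy) hy1 h2))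
  have hinv : Function.Involutive φ := by
    intro n
    apply Subtype.ext
    rw [hφ, hφ]
    calc y * (y * (n : G) * y⁻¹) * y⁻¹ = (y * y) * n * (y * y)⁻¹ := by group
      _ = n := by rw [hyy]; group
  have hcomm := hfp.commute_all_of_involutive hinv
  apply hN1
  rw [eq_bot_iff, ← hNc]
  intro n hn
  rw [mem_centralizer_iff]
  intro m hm
  exact congrArg Subtype.val (hcomm ⟨m, hm⟩ ⟨n, hn⟩).eq

/-- S14: `A, B, C ≤ N` -/
theorem TL.le_normal (T : TL B A C) (ml : MaxLoc B Q) (N : Subgroup G) [hN : N.Normal]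
    (hN1 : N ≠ ⊥) (hNc : centralizer (N : Set G) = ⊥) : B ≤ N ∧ A ≤ N ∧ C ≤ N := by
  have hF := T.full ml
  have h := T.adjA
  have hAQ := T.Om_le_Q ml
  have hBQ := ml.B_le h.base
  have h2 : Fact (Nat.Prime 2) := ⟨Nat.prime_two⟩
  have hconj : ∀ {g x : G}, x ∈ N → g * x * g⁻¹ ∈ N := fun hx => hN.conj_mem _ hx _
  -- a central element of `Q` in `N`
  obtain ⟨z, hzN, hzQ, hzc, hz1⟩ : ∃ z ∈ N, z ∈ Q ∧ (∀ q ∈ Q, z * q = q * z) ∧ z ≠ 1 := by
    have : Group.IsNilpotent Q := ml.two.isNilpotent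
    have h3 := Cfsg.Agent.Lib.NormalAbelian.normal_inf_center_ne_bot (G := Q) (N.subgroupOf Q) (by
      intro h4
      apply T.inf_ne_bot ml N hN1 hNc
      rw [eq_bot_iff]
      intro x hx
      have h5 : (⟨x, hx.2⟩ : Q) ∈ N.subgroupOf Q := hx.1
      rw [h4, mem_bot] at h5
      exact mem_bot.2 (congrArg Subtype.val h5))
    obtain ⟨⟨x, hx⟩, hx0⟩ := Subgroup.ne_bot_iff_exists_ne_one.1 h3
    have hx1 : x ≠ 1 := fun h0 => hx0 (Subtype.ext h0)
    refine ⟨x, hx.1, x.2, fun q hq => ?_, fun h0 => hx1 (Subtype.ext h0)⟩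
    have h4 := (mem_center_iff.1 hx.2) ⟨q, hq⟩
    exact (congrArg Subtype.val h4).symm
  have hzB : z ∈ B := hF.cent z (fun b hb => hzc b (hBQ hb))
  obtain ⟨a, ha, ha1⟩ := h.baseA.exists_ne
  have hzO : z ∈ Om B := h.fix_mem (h.baseA.Om_le ha) ha1 hzB (hzc a (hAQ ha)).symm
  obtain ⟨t, -, htA, htB, ht1, ht2⟩ := h.exists_torus
  have hOmB : Om B ≤ N := by
    have h3 : t * z * t⁻¹ ∈ Om B := conj_Om_mem h.base htB hzO
    have h31 : t * z * t⁻¹ ≠ 1 := by
      intro h4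
      apply hz1
      calc z = t⁻¹ * (t * z * t⁻¹) * t := by group
        _ = 1 := by rw [h4]; group
    intro x hx
    rcases h.base.four hzO h3 hz1 h31 (ht2 z hzO hz1).symm hx with h1 | h1 | h1 | h1
    · rw [h1]; exact N.one_mem
    · rw [h1]; exact hzN
    · rw [h1]; exact hconj hzN
    · rw [h1]; exact N.mul_mem hzN (hconj hzN)
  have hcjN : ∀ {g : G} {X : Subgroup G}, X ≤ N → cj g X ≤ N := by
    intro g X hX x hx
    rw [mem_cj] at hx
    have h3 : x = g * (g⁻¹ * x * g) * g⁻¹ := by group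
    rw [h3]
    exact hconj (hX hx)
  have hOmA : Om A ≤ N := by
    obtain ⟨g, hg⟩ := h.mem
    rw [hg, ← cj_Om h.base.comm]
    exact hcjN hOmB
  have hOmC : Om C ≤ N := by
    obtain ⟨g, hg⟩ := T.adjC.mem
    rw [hg, ← cj_Om h.base.comm]
    exact hcjN hOmB
  obtain ⟨c, hc, hc1⟩ := T.adjC.baseA.exists_ne
  obtain ⟨a', ha', -, k, hk, hkO, hck, -, -⟩ := T.form hc hc1
  have hkN : k ∈ N := by
    have h3 : k = a'⁻¹ * c := by rw [hck]; group
    rw [h3]
    exact N.mul_mem (N.inv_mem (hOmA ha')) (hOmC hc)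
  have hkk1 := h.base.sq_ne hk hkO
  have htk : t * k * t⁻¹ ∈ B := conj_mem htB hk
  have htkk : (t * k * t⁻¹) * (t * k * t⁻¹) = t * (k * k) * t⁻¹ := by group
  have htkk1 : t * (k * k) * t⁻¹ ≠ 1 := by
    intro h4
    apply hkk1
    calc k * k = t⁻¹ * (t * (k * k) * t⁻¹) * t := by group
      _ = 1 := by rw [h4]; group
  have hBN : B ≤ N := by
    intro b hb
    have hcase : ∀ {r : G}, r ∈ B → r ∈ N → b * b = r * r → b ∈ N := by
      intro r hr hrN he
      have h3 := hOmB (h.base.inv_mul_mem hr hb he.symm)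
      have h4 : b = r * (r⁻¹ * b) := by group
      rw [h4]
      exact N.mul_mem hrN h3
    rcases h.base.four (h.base.sq_mem_Om hk) (conj_Om_mem h.base htB (h.base.sq_mem_Om hk)) hkk1 htkk1
      (ht2 _ (h.base.sq_mem_Om hk) hkk1).symm (h.base.sq_mem_Om hb) with h1 | h1 | h1 | h1
    · exact hOmB ((mem_Om h.base.comm).2 ⟨hb, h1⟩)
    · exact hcase hk hkN h1
    · exact hcase htk (hconj hkN) (by rw [h1, htkk])
    · refine hcase (B.mul_mem hk htk) (N.mul_mem hkN (hconj hkN)) ?_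
      rw [h1, h.base.sq_mul hk htk, htkk]
  refine ⟨hBN, ?_, ?_⟩
  · obtain ⟨g, hg⟩ := h.mem
    rw [hg]; exact hcjN hBN
  · obtain ⟨g, hg⟩ := T.adjC.mem
    rw [hg]; exact hcjN hBN

/-- The endgame in the notation of this development. -/
theorem TL.psl34 (T : TL B A C) (ml : MaxLoc B Q) (N : Subgroup G) [hN : N.Normal] [hs : IsSimpleGroup N]
    (hNc : centralizer (N : Set G) = ⊥) :
    ∃ (F : Type) (_ : Field F) (_ : Fintype F), Fintype.card F = 4 ∧
        Nonempty (N ≃* Matrix.ProjectiveSpecialLinearGroup (Fin 3) F) := by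
  have hN1 : N ≠ ⊥ := by
    rintro rfl
    obtain ⟨x, hx⟩ := exists_ne (1 : ↥(⊥ : Subgroup G))
    exact hx (Subsingleton.elim _ _)
  obtain ⟨h1, h2, h3⟩ := T.le_normal ml N hN1 hNc
  exact ((T.full ml).sub h1 h2 h3).psl34

end Cfsg.Agent.TIAbelian.End
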