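import Mathlib.GroupTheory.Sylow
import Mathlib.GroupTheory.PGroup
import Mathlib.GroupTheory.Perm.Cycle.Type
import Mathlib.Tactic
import Cfsg.Agent.ClassificationK.TIPairBasic

/-!
# Two involutions, and involutions acting on small sets

Elementary facts on the dihedral group generated by two involutions `z, w` and fixed points of an involution on a
finite set of odd order.
-/

set_option autoImplicit false

namespace Cfsg.Agent.TIAbelian.End

open Subgroup
open Cfsg.Agent.ClassificationK.TIPair (cj mem_normalizer_cj normalizer_of_cj_eq cj_eq_of_mem_normalizer)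
open Cfsg.Agent.ClassificationK.TIFamily (mem_cj cj_mul cj_one)

variable {G : Type*} [Group G]

theorem inv_eq_self {z : G} (hz : z * z = 1) : z⁻¹ = z := inv_eq_of_mul_eq_one_left hz

theorem z_pow {z w : G} (hz : z * z = 1) (hw : w * w = 1) (j : ℕ) :
    z * (z * w) ^ j * z = ((z * w) ^ j)⁻¹ := by
  have hzi := inv_eq_self hz
  have hwi := inv_eq_self hw
  have h1 : z * (z * w) * z⁻¹ = (z * w)⁻¹ := by
    rw [mul_inv_rev, hzi, hwi]
    calc z * (z * w) * z = (z * z) * w * z := by group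
      _ = w * z := by rw [hz, one_mul]
  have h2 : (z * (z * w) * z⁻¹) ^ j = z * (z * w) ^ j * z⁻¹ := conj_pow
  rw [h1, inv_pow, hzi] at h2
  exact h2.symm

/-- the reflections `z (zw)^i` are conjugate to `z` or to `w` -/
theorem refl_conj {z w : G} (hz : z * z = 1) (hw : w * w = 1) (i : ℕ) :
    ∃ y ∈ zpowers (z * w), z * (z * w) ^ i = y⁻¹ * z * y ∨ z * (z * w) ^ i = y⁻¹ * w * y := by
  obtain ⟨j, hj⟩ := Nat.even_or_odd' i
  refine ⟨(z * w) ^ j, ⟨j, by simp⟩, ?_⟩
  have h1 : ((z * w) ^ j)⁻¹ * z = z * (z * w) ^ j := by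
    rw [← z_pow hz hw j]
    calc z * (z * w) ^ j * z * z = z * (z * w) ^ j * (z * z) := by group
      _ = z * (z * w) ^ j := by rw [hz, mul_one]
  rcases hj with hj | hj
  · left
    rw [h1, hj, two_mul, pow_add, mul_assoc]
  · right
    have h2 : w = z * (z * w) := by rw [← mul_assoc, hz, one_mul]
    have h3 : ((z * w) ^ j)⁻¹ * w = z * (z * w) ^ j * (z * w) := by
      calc ((z * w) ^ j)⁻¹ * w = ((z * w) ^ j)⁻¹ * (z * (z * w)) := by rw [← h2]
        _ = (((z * w) ^ j)⁻¹ * z) * (z * w) := by group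
        _ = z * (z * w) ^ j * (z * w) := by rw [h1]
    rw [h3, hj, two_mul, pow_add, pow_add, pow_one]
    have h4 : (z * w) ^ j * (z * w) = (z * w) * (z * w) ^ j := by
      rw [← pow_succ, pow_succ']
    calc z * ((z * w) ^ j * (z * w) ^ j * (z * w)) = z * (z * w) ^ j * ((z * w) ^ j * (z * w)) := by
          simp only [mul_assoc]
      _ = z * (z * w) ^ j * ((z * w) * (z * w) ^ j) := by rw [h4]
      _ = z * (z * w) ^ j * (z * w) * (z * w) ^ j := by simp only [mul_assoc]

/-- odd order: `z` and `w` are conjugate by a power of `z w` -/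
theorem exists_conj_of_odd {z w : G} (hz : z * z = 1) (hw : w * w = 1) (ho : Odd (orderOf (z * w))) :
    ∃ y ∈ zpowers (z * w), y⁻¹ * z * y = w := by
  obtain ⟨k, hk⟩ := ho
  refine ⟨(z * w) ^ (k + 1), ⟨(k + 1 : ℕ), by simp only [zpow_natCast]⟩, ?_⟩
  have h1 : ((z * w) ^ (k + 1))⁻¹ * z = z * (z * w) ^ (k + 1) := by
    rw [← z_pow hz hw (k + 1)]
    calc z * (z * w) ^ (k + 1) * z * z = z * (z * w) ^ (k + 1) * (z * z) := by group
      _ = z * (z * w) ^ (k + 1) := by rw [hz, mul_one]
  rw [h1, mul_assoc, ← pow_add, show k + 1 + (k + 1) = (2 * k + 1) + 1 by ring, ← hk, pow_succ,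
    pow_orderOf_eq_one, one_mul, ← mul_assoc, hz, one_mul]

/-- even order: the involution `t` of `⟨z w⟩`; it commutes with `z` and `w`, and `z t` is conjugate to `z` or `w` -/
theorem exists_central {z w : G} (hz : z * z = 1) (hw : w * w = 1) (hpos : 0 < orderOf (z * w))
    (he : ¬ Odd (orderOf (z * w))) :
    ∃ t ∈ zpowers (z * w), t ≠ 1 ∧ t * t = 1 ∧ z * t = t * z ∧ w * t = t * w ∧
      ∃ y : G, z * t = y⁻¹ * z * y ∨ z * t = y⁻¹ * w * y := by
  rw [Nat.not_odd_iff_even] at he
  obtain ⟨m, hm⟩ := he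
  refine ⟨(z * w) ^ m, ⟨(m : ℕ), by simp only [zpow_natCast]⟩, ?_, ?_, ?_, ?_, ?_⟩
  · intro h
    have := orderOf_dvd_of_pow_eq_one h
    have := Nat.le_of_dvd (by omega) this
    omega
  · rw [← pow_add, ← hm, pow_orderOf_eq_one]
  · have h2 : (z * w) ^ m * (z * w) ^ m = 1 := by rw [← pow_add, ← hm, pow_orderOf_eq_one]
    have h3 := z_pow hz hw m
    rw [inv_eq_self h2] at h3
    calc z * (z * w) ^ m = z * (z * w) ^ m * (z * z) := by rw [hz, mul_one]
      _ = (z * (z * w) ^ m * z) * z := by group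
      _ = (z * w) ^ m * z := by rw [h3]
  · have h2 : (z * w) ^ m * (z * w) ^ m = 1 := by rw [← pow_add, ← hm, pow_orderOf_eq_one]
    have h3 := z_pow hz hw m
    rw [inv_eq_self h2] at h3
    have h4 : z * (z * w) ^ m = (z * w) ^ m * z := by
      calc z * (z * w) ^ m = z * (z * w) ^ m * (z * z) := by rw [hz, mul_one]
        _ = (z * (z * w) ^ m * z) * z := by group
        _ = (z * w) ^ m * z := by rw [h3]
    have h5 : (z * w) * (z * w) ^ m = (z * w) ^ m * (z * w) := by rw [← pow_succ, pow_succ']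
    have h6 : w = z * (z * w) := by rw [← mul_assoc, hz, one_mul]
    calc w * (z * w) ^ m = z * ((z * w) * (z * w) ^ m) := by rw [← mul_assoc, ← h6]
      _ = z * ((z * w) ^ m * (z * w)) := by rw [h5]
      _ = (z * (z * w) ^ m) * (z * w) := by group
      _ = ((z * w) ^ m * z) * (z * w) := by rw [h4]
      _ = (z * w) ^ m * (z * (z * w)) := by group
      _ = (z * w) ^ m * w := by rw [← h6]
  · obtain ⟨y, -, hy⟩ := refl_conj hz hw m
    exact ⟨y, hy⟩

/-- an involution acting on a finite set of odd order fixes a point -/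
theorem exists_fix_of_odd {α : Type*} [Finite α] (f : α → α) (hf : ∀ x, f (f x) = x) (ho : Odd (Nat.card α)) :
    ∃ x, f x = x := by
  classical
  have := Fintype.ofFinite α
  let σ : Equiv.Perm α := ⟨f, f, hf, hf⟩
  have h2 : ¬ 2 ∣ Fintype.card α := by
    rw [← Nat.card_eq_fintype_card]
    intro h
    exact (Nat.not_even_iff_odd.2 ho) (even_iff_two_dvd.2 h)
  have : Fact (Nat.Prime 2) := ⟨Nat.prime_two⟩
  obtain ⟨a, ha⟩ := Equiv.Perm.exists_fixed_point_of_prime (p := 2) (n := 1) h2 (σ := σ) (by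
    ext x
    simp [pow_succ, σ, hf])
  exact ⟨a, ha⟩

/-- an involution normalising a subgroup of even order centralises an involution of it: here for subgroups with
`Nat.card X = 2 ^ (k+1)` -/
theorem exists_commute {X : Subgroup G} [Finite X] {s : G} (hs : s * s = 1) (hX : Even (Nat.card X))
    (hn : ∀ x ∈ X, s * x * s⁻¹ ∈ X) : ∃ x ∈ X, x ≠ 1 ∧ s * x = x * s := by
  classical
  have hsi := inv_eq_self hs
  let α := {x : X // x ≠ 1}
  have hcard : Odd (Nat.card α) := by
    have : Nat.card α = Nat.card X - 1 := by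
      have h := Nat.card_congr (Equiv.sumCompl (fun x : X => x = 1))
      rw [Nat.card_sum] at h
      have h1 : Nat.card {x : X // x = 1} = 1 := by
        rw [Nat.card_eq_one_iff_unique]
        exact ⟨⟨fun a b => Subtype.ext (a.2.trans b.2.symm)⟩, ⟨⟨1, rfl⟩⟩⟩
      change Nat.card {x : X // ¬ x = 1} = _
      omega
    rw [this]
    have hpos : 0 < Nat.card X := Nat.card_pos
    obtain ⟨m, hm⟩ := hX
    exact ⟨m - 1, by omega⟩
  obtain ⟨x, hx⟩ := exists_fix_of_odd (α := α) (fun x => ⟨⟨s * x.1.1 * s⁻¹, hn _ x.1.2⟩, by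
    intro h
    apply x.2
    have h1 := congrArg Subtype.val h
    simp only [OneMemClass.coe_one] at h1
    apply Subtype.ext
    have h2 : (x.1.1 : G) = s⁻¹ * (s * x.1.1 * s⁻¹) * s := by group
    rw [h2, h1]
    simp⟩) (by
    intro x
    apply Subtype.ext
    apply Subtype.ext
    simp only
    rw [hsi]
    calc s * (s * x.1.1 * s) * s = (s * s) * x.1.1 * (s * s) := by group
      _ = x.1.1 := by rw [hs]; simp) hcard
  refine ⟨x.1.1, x.1.2, fun h => x.2 (Subtype.ext h), ?_⟩
  have h1 := congrArg Subtype.val (congrArg Subtype.val hx)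
  simp only at h1
  calc s * x.1.1 = (s * x.1.1 * s⁻¹) * s := by group
    _ = x.1.1 * s := by rw [h1]

end Cfsg.Agent.TIAbelian.End
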