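import Cfsg.Agent.TIAbelian.EndLine

/-!
# The geometry when `C_G(B) = B`
-/

set_option autoImplicit false
set_option linter.unusedSectionVars false

namespace Cfsg.Agent.TIAbelian.End

open Subgroup
open Cfsg.Agent.ClassificationK.TIPair (cj mem_normalizer_cj normalizer_of_cj_eq cj_eq_of_mem_normalizer)
open Cfsg.Agent.ClassificationK.TIFamily (mem_cj cj_mul cj_one)

universe u

variable {G : Type u} [Group G] {B A C : Subgroup G} [Finite G]

/-- two neighbours `a`, `x` acting on `B` and agreeing on the class `b` fixed by both agree on `B` -/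
theorem Adj.br_agree {X : Subgroup G} (h : Adj B A) (hX : Adj B X) {a x b : G} (ha : a ∈ Om A) (hx : x ∈ Om X)
    (hb : b ∈ B) (hbO : b ∉ Om B) (hab : br a b = b * b) (hxb : br x b = b * b) {d : G} (hd : d ∈ B) :
    br a d = br x d := by
  have hb2 := h.base.sq_ne hb hbO
  have ha1 : a ≠ 1 := by
    rintro rfl
    apply hb2; rw [← hab]; simp [br]
  have hx1 : x ≠ 1 := by
    rintro rfl
    apply hb2; rw [← hxb]; simp [br]
  by_cases hdO : d ∈ Om B
  · rw [h.br_Om ha hdO, hX.br_Om hx hdO]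
  by_cases hbd : b * b = d * d
  · rw [← h.br_congr ha hb hd hbd, ← hX.br_congr hx hb hd hbd, hab, hxb]
  · rw [h.br_other ha ha1 hb hbO hab hd hdO hbd, hX.br_other hx hx1 hb hbO hxb hd hdO hbd]

/-- every `x ∈ Om X`, `X` a neighbour of `B`, acts on `B` as an element of `Om A` -/
theorem Adj.exists_agree {X : Subgroup G} (h : Adj B A) (hX : Adj B X) {x : G} (hx : x ∈ Om X) (hx1 : x ≠ 1) :
    ∃ a ∈ Om A, a ≠ 1 ∧ ∃ b ∈ B, b ∉ Om B ∧ br a b = b * b ∧ br x b = b * b ∧ ∀ d ∈ B, br a d = br x d := by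
  obtain ⟨b, hb, hbO, hxb⟩ := hX.exists_br_eq_sq hx hx1
  obtain ⟨a, ha, hab⟩ := h.br_left_surj hb hbO (h.base.sq_mem_Om hb)
  refine ⟨a, ha, ?_, b, hb, hbO, hab, hxb, fun d hd => h.br_agree hX ha hx hb hbO hab hxb hd⟩
  rintro rfl
  apply h.base.sq_ne hb hbO
  rw [← hab]; simp [br]

theorem comm_of_br_eq {a x d : G} (h : br a d = br x d) : (a⁻¹ * x) * d = d * (a⁻¹ * x) := by
  have h1 : a * d * a⁻¹ = x * d * x⁻¹ := by rw [conj_eq_br, conj_eq_br, h]
  calc (a⁻¹ * x) * d = a⁻¹ * (x * d * x⁻¹) * x := by group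
    _ = a⁻¹ * (a * d * a⁻¹) * x := by rw [h1]
    _ = d * (a⁻¹ * x) := by group

/-- if `a k` is an involution, `k ∈ B`, then `[a,k] = k²` -/
theorem Adj.br_of_sq (h : Adj B A) {a k : G} (ha : a ∈ Om A) (hk : k ∈ B) (hsq : a * k * (a * k) = 1) :
    br a k = k * k := by
  have hai := h.Om_inv ha
  have h1 : br a k * (k * k) = 1 := by
    calc br a k * (k * k) = a * k * (a⁻¹ * k) := by rw [br]; group
      _ = a * k * (a * k) := by rw [hai]
      _ = 1 := hsq
  have h2 := h.base.exp k hk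
  have h3 : br a k = (k * k)⁻¹ := eq_inv_of_mul_eq_one_left h1
  rw [h3]
  exact inv_eq_self h2

theorem Adj.sq_of_br (h : Adj B A) {a k : G} (ha : a ∈ Om A) (hk : k ∈ B) (hbr : br a k = k * k) :
    a * k * (a * k) = 1 := by
  have hai := h.Om_inv ha
  calc a * k * (a * k) = a * k * (a⁻¹ * k) := by rw [hai]
    _ = br a k * (k * k) := by rw [br]; group
    _ = 1 := by rw [hbr]; exact h.base.exp k hk

/-- uniqueness of the class fixed by `a` -/
theorem Adj.sq_eq_of_br (h : Adj B A) {a b c : G} (ha : a ∈ Om A) (ha1 : a ≠ 1) (hb : b ∈ B) (hbO : b ∉ Om B)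
    (hc : c ∈ B) (hcO : c ∉ Om B) (hab : br a b = b * b) (hac : br a c = c * c) : b * b = c * c := by
  by_contra hne
  have h1 := h.br_other ha ha1 hb hbO hab hc hcO hne
  rw [h1] at hac
  exact h.base.sq_ne hb hbO (mul_eq_right.1 hac)

/-- `B` is self-centralising, with two lines -/
structure Full (B A C : Subgroup G) : Prop where
  adjA : Adj B A
  adjC : Adj B C
  cent : ∀ k : G, (∀ b ∈ B, k * b = b * k) → k ∈ B
  ne : ¬ Om C ≤ Om A ⊔ Om B

theorem Full.conj (h : Full B A C) (g : G) : Full (cj g B) (cj g A) (cj g C) where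
  adjA := h.adjA.conj g
  adjC := h.adjC.conj g
  cent := by
    intro k hk
    rw [mem_cj]
    apply h.cent
    intro b hb
    have h1 := hk _ (cj_mem (g := g) hb)
    calc g⁻¹ * k * g * b = g⁻¹ * (k * (g * b * g⁻¹)) * g := by group
      _ = g⁻¹ * ((g * b * g⁻¹) * k) * g := by rw [h1]
      _ = b * (g⁻¹ * k * g) := by group
  ne := by
    intro h1
    apply h.ne
    rw [← cj_Om h.adjA.baseA.comm, ← cj_Om h.adjC.baseA.comm, ← cj_Om h.adjA.base.comm] at h1
    have h2 : cj g (Om A) ⊔ cj g (Om B) = cj g (Om A ⊔ Om B) := (Subgroup.map_sup _ _ _).symm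
    rw [h2] at h1
    exact cj_le_cj.1 h1

/-- an involution of a neighbour of `B` is `a k`, `k ∈ B`, with `[a,k] = k²` -/
theorem Full.form {X : Subgroup G} (h : Full B A C) (hX : Adj B X) {x : G} (hx : x ∈ Om X) (hx1 : x ≠ 1) :
    ∃ a ∈ Om A, a ≠ 1 ∧ ∃ k ∈ B, x = a * k ∧ br a k = k * k ∧ ∀ d ∈ B, br a d = br x d := by
  obtain ⟨a, ha, ha1, b, hb, hbO, hab, hxb, hall⟩ := h.adjA.exists_agree hX hx hx1
  have hk : a⁻¹ * x ∈ B := h.cent _ (fun d hd => comm_of_br_eq (hall d hd))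
  have hxk : x = a * (a⁻¹ * x) := by group
  refine ⟨a, ha, ha1, a⁻¹ * x, hk, hxk, ?_, hall⟩
  apply h.adjA.br_of_sq ha hk
  rw [← hxk]
  exact hX.baseA.Om_sq hx

/-- elements of `Om C` -/
theorem Full.formC (h : Full B A C) {c : G} (hc : c ∈ Om C) (hc1 : c ≠ 1) :
    ∃ a ∈ Om A, a ≠ 1 ∧ ∃ k ∈ B, k ∉ Om B ∧ c = a * k ∧ br a k = k * k ∧ ∀ d ∈ B, br a d = br c d := by
  obtain ⟨a, ha, ha1, k, hk, hck, hbr, hall⟩ := h.form h.adjC hc hc1
  refine ⟨a, ha, ha1, k, hk, ?_, hck, hbr, hall⟩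
  intro hkO
  apply h.ne
  have hcU : c ∈ Om A ⊔ Om B := h.adjA.mem_line.2 ⟨a, ha, k, hkO, hck⟩
  exact Om_le_of_mem h.adjA.base h.adjA.line_mem_VV h.adjC.mem (h.adjC.baseA.Om_le hc) hc1 hcU

/-- the neighbours of `B` lie in the two lines -/
theorem Full.neighbour {X : Subgroup G} (h : Full B A C) (hX : Adj B X) :
    Om X ≤ Om A ⊔ Om B ∨ Om X ≤ Om C ⊔ Om B := by
  obtain ⟨x, hx, hx1⟩ := hX.baseA.exists_ne
  obtain ⟨a, ha, ha1, k, hk, hxk, hbr, hall⟩ := h.form hX hx hx1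
  by_cases hkO : k ∈ Om B
  · left
    exact Om_le_of_mem h.adjA.base h.adjA.line_mem_VV hX.mem (hX.baseA.Om_le hx) hx1
      (h.adjA.mem_line.2 ⟨a, ha, k, hkO, hxk⟩)
  · right
    obtain ⟨c, hc, hck⟩ := h.adjC.br_left_surj hk hkO (h.adjC.base.sq_mem_Om hk)
    have hc1 : c ≠ 1 := by
      rintro rfl
      apply h.adjC.base.sq_ne hk hkO
      rw [← hck]; simp [br]
    obtain ⟨a', ha', ha1', k', hk', hkO', hck', hbr', hall'⟩ := h.formC hc hc1
    have haa : a' = a := by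
      apply h.adjA.br_left_inj ha' ha hk hkO
      rw [hall' k hk, hck, hbr]
    subst haa
    have hkk := h.adjA.sq_eq_of_br ha ha1 hk hkO hk' hkO' hbr hbr'
    have h1 := h.adjA.base.inv_mul_mem hk' hk hkk.symm
    have hxU : x ∈ Om C ⊔ Om B := by
      rw [h.adjC.mem_line]
      refine ⟨c, hc, _, h1, ?_⟩
      rw [hxk, hck']; group
    exact Om_le_of_mem h.adjC.base h.adjC.line_mem_VV hX.mem (hX.baseA.Om_le hx) hx1 hxU

theorem Full.ends (h : Full B A C) : Ends (EE B) (VV B) (Om B) (Om A ⊔ Om B) (Om C ⊔ Om B) where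
  hU := h.adjA.line_mem_VV
  hW := h.adjC.line_mem_VV
  ne := fun h1 => h.ne (h1 ▸ le_sup_left)
  leU := le_sup_right
  leW := le_sup_right
  uniq := by
    intro U' hU' hBU
    have hB := h.adjA.base
    -- a neighbour `Z` of `B` in `U'`
    obtain ⟨Z, hZ, hZB, hZU⟩ : ∃ Z ∈ Cl B, Z ≠ B ∧ Om Z ≤ U' := by
      obtain ⟨X, Y, hX, hXY, rfl⟩ := hU'
      by_cases hXB : X = B
      · refine ⟨Y, ?_, ?_, le_sup_right⟩
        · rw [← Cl_eq hX]; exact hXY.mem
        · rw [← hXB]; exact hXY.ne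
      · exact ⟨X, hX, hXB, le_sup_left⟩
    obtain ⟨hadj, hUeq⟩ := VV_eq_sup hB hU' (self_mem_Cl B) hZ hZB hBU hZU
    have h16 := (VV_spec hB hU').1
    rcases h.neighbour hadj with h1 | h1
    · left
      apply Subgroup.eq_of_le_of_card_ge
      · rw [hUeq]; exact sup_le h1 le_sup_right
      · rw [h16, h.adjA.card_line]
    · right
      apply Subgroup.eq_of_le_of_card_ge
      · rw [hUeq]; exact sup_le h1 le_sup_right
      · rw [h16, h.adjC.card_line]
  comm := by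
    rintro x hx hx1 _ ⟨Y, hY, rfl⟩ y hy hy1 hxy
    have hB := h.adjA.base
    by_cases hYB : Y = B
    · left
      rw [← hYB]
      exact (le_sup_right : Om Y ≤ Om A ⊔ Om Y) hy
    · have hadj : Adj B Y := hB.adj_of_comm hY hYB ((hB.of_mem hY).Om_le hy) hy1 (hB.Om_le hx) hx1 hxy.symm
      rcases h.neighbour hadj with h1 | h1
      · exact Or.inl (h1 hy)
      · exact Or.inr (h1 hy)
  sq := by
    intro u hu w hw huB hwB
    obtain ⟨a, ha, y, hy, rfl⟩ := h.adjA.mem_line.1 hu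
    obtain ⟨c, hc, y', hy', rfl⟩ := h.adjC.mem_line.1 hw
    have hc1 : c ≠ 1 := by
      rintro rfl
      apply hwB
      rw [one_mul]; exact hy'
    have ha1 : a ≠ 1 := by
      rintro rfl
      apply huB
      rw [one_mul]; exact hy
    obtain ⟨a', ha', ha1', k', hk', hkO', hck', hbr', hall'⟩ := h.formC hc hc1
    have hB := h.adjA.base
    have hα := (Om A).mul_mem ha ha'
    have he := (Om B).mul_mem hy hy'
    have hya' := h.adjA.comm_Om_Om ha' hy
    have hyk' := hB.comm _ (hB.Om_le hy) _ hk'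
    have heα := h.adjA.comm_Om_Om hα he
    have hek := hB.comm _ (hB.Om_le he) _ hk'
    have h1 : a * y * (c * y') = (a * a') * k' * (y * y') := by
      rw [hck']
      calc a * y * (a' * k' * y') = a * (y * a') * k' * y' := by group
        _ = a * (a' * y) * k' * y' := by rw [hya']
        _ = a * a' * (y * k') * y' := by group
        _ = a * a' * (k' * y) * y' := by rw [hyk']
        _ = (a * a') * k' * (y * y') := by group
    have h2 : a * y * (c * y') * (a * y * (c * y')) = br (a * a') k' * (k' * k') := by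
      rw [h1]
      calc a * a' * k' * (y * y') * (a * a' * k' * (y * y'))
          = a * a' * k' * ((y * y') * (a * a')) * k' * (y * y') := by group
        _ = a * a' * k' * ((a * a') * (y * y')) * k' * (y * y') := by rw [heα]
        _ = a * a' * k' * (a * a') * ((y * y') * k') * (y * y') := by group
        _ = a * a' * k' * (a * a') * (k' * (y * y')) * (y * y') := by rw [hek]
        _ = a * a' * k' * (a * a') * k' * ((y * y') * (y * y')) := by group
        _ = a * a' * k' * (a * a')⁻¹ * k' := by rw [hB.Om_sq he, mul_one, h.adjA.Om_inv hα]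
        _ = br (a * a') k' * (k' * k') := by rw [br]; group
    rw [h2]
    refine ⟨(Om B).mul_mem (h.adjA.br_mem hα hk') (hB.sq_mem_Om hk'), ?_⟩
    intro h3
    have h4 : br (a * a') k' = k' * k' := by
      rw [eq_inv_of_mul_eq_one_left h3]
      exact inv_eq_self (hB.exp k' hk')
    have h5 := h.adjA.br_left_inj hα ha' hk' hkO' (h4.trans hbr'.symm)
    exact ha1 (mul_eq_right.1 h5)

theorem Full.geo (h : Full B A C) : Geo (EE B) (VV B) where
  conjE := by
    rintro g _ ⟨X, hX, rfl⟩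
    exact ⟨cj g X, cj_mem_Cl hX g, cj_Om (h.adjA.base.of_mem hX).comm g⟩
  conjV := by
    rintro g _ ⟨X, Y, hX, hXY, rfl⟩
    refine ⟨cj g X, cj g Y, cj_mem_Cl hX g, hXY.conj g, ?_⟩
    rw [← cj_Om hXY.base.comm, ← cj_Om hXY.baseA.comm]
    exact Subgroup.map_sup _ _ _
  cardE := by
    rintro _ ⟨X, hX, rfl⟩
    exact (h.adjA.base.of_mem hX).om
  ti := by
    rintro _ ⟨X, hX, rfl⟩ _ ⟨Y, hY, rfl⟩ x hx hy hx1
    rw [h.adjA.base.ti2 hX hY ((h.adjA.base.of_mem hX).Om_le hx) ((h.adjA.base.of_mem hY).Om_le hy) hx1]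
  cardV := fun U hU => (VV_spec h.adjA.base hU).1
  sqV := fun U hU => (VV_spec h.adjA.base hU).2.1
  cover := by
    intro U hU x hx hx1
    obtain ⟨X, hX, hxX, hXU⟩ := (VV_spec h.adjA.base hU).2.2 x hx hx1
    exact ⟨Om X, ⟨X, hX, rfl⟩, hxX, hXU⟩
  two := by
    rintro _ ⟨X, ⟨g, rfl⟩, rfl⟩
    have h1 := (h.conj g).ends
    rw [EE_eq ⟨g, rfl⟩, VV_eq ⟨g, rfl⟩] at h1
    exact ⟨_, _, h1⟩
  trans := by
    rintro _ ⟨X, ⟨g, rfl⟩, rfl⟩ _ ⟨Y, ⟨k, rfl⟩, rfl⟩
    refine ⟨k * g⁻¹, ?_⟩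
    rw [cj_Om (h.adjA.base.conj g).comm, cj_cj, inv_mul_cancel_right]

end Cfsg.Agent.TIAbelian.End
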