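import Cfsg.Agent.TIAbelian.EndDihedral

/-!
# An abstract geometry of elementary abelian 2-subgroups

`E` a conjugacy class of fours groups (`edges`), `V` a conjugation invariant set of elementary abelian groups of
order 16 (`vertices`); each edge lies in exactly two vertices.
-/

set_option autoImplicit false

namespace Cfsg.Agent.TIAbelian.End

open Subgroup
open Cfsg.Agent.ClassificationK.TIPair (cj mem_normalizer_cj normalizer_of_cj_eq cj_eq_of_mem_normalizer)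
open Cfsg.Agent.ClassificationK.TIFamily (mem_cj cj_mul cj_one)

universe u

variable {G : Type u} [Group G]

/-- the two vertices `U`, `W` of the edge `X` -/
structure Ends (E V : Set (Subgroup G)) (X U W : Subgroup G) : Prop where
  hU : U ∈ V
  hW : W ∈ V
  ne : U ≠ W
  leU : X ≤ U
  leW : X ≤ W
  uniq : ∀ U' ∈ V, X ≤ U' → U' = U ∨ U' = W
  comm : ∀ x ∈ X, x ≠ 1 → ∀ Y ∈ E, ∀ y ∈ Y, y ≠ 1 → x * y = y * x → y ∈ U ∨ y ∈ W
  sq : ∀ u ∈ U, ∀ w ∈ W, u ∉ X → w ∉ X → (u * w) * (u * w) ∈ X ∧ (u * w) * (u * w) ≠ 1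

/-- the geometry -/
structure Geo (E V : Set (Subgroup G)) : Prop where
  conjE : ∀ g : G, ∀ X ∈ E, cj g X ∈ E
  conjV : ∀ g : G, ∀ X ∈ V, cj g X ∈ V
  cardE : ∀ X ∈ E, Nat.card X = 4
  ti : ∀ X ∈ E, ∀ Y ∈ E, ∀ x : G, x ∈ X → x ∈ Y → x ≠ 1 → X = Y
  cardV : ∀ U ∈ V, Nat.card U = 16
  sqV : ∀ U ∈ V, ∀ x ∈ U, x * x = 1
  cover : ∀ U ∈ V, ∀ x ∈ U, x ≠ 1 → ∃ X ∈ E, x ∈ X ∧ X ≤ U
  two : ∀ X ∈ E, ∃ U W, Ends E V X U W
  trans : ∀ X ∈ E, ∀ Y ∈ E, ∃ g : G, cj g X = Y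

/-- the set of involutions in edges -/
def II (E : Set (Subgroup G)) : Set G := {z | z ≠ 1 ∧ ∃ X ∈ E, z ∈ X}

theorem cj_mem {g x : G} {X : Subgroup G} (hx : x ∈ X) : g * x * g⁻¹ ∈ cj g X := by
  rw [mem_cj]
  simpa [mul_assoc] using hx

theorem cj_cj (a b : G) (X : Subgroup G) : cj a (cj b X) = cj (a * b) X := (cj_mul a b X).symm

theorem cj_one' (X : Subgroup G) : cj 1 X = X := cj_one X

theorem cj_cancel (g : G) (X : Subgroup G) : cj g⁻¹ (cj g X) = X := by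
  rw [cj_cj, inv_mul_cancel, cj_one']

theorem cj_cancel' (g : G) (X : Subgroup G) : cj g (cj g⁻¹ X) = X := by
  rw [cj_cj, mul_inv_cancel, cj_one']

theorem cj_injective (g : G) : Function.Injective (fun X : Subgroup G => cj g X) := by
  intro X Y h
  have := congrArg (cj g⁻¹) h
  simpa only [cj_cancel] using this

theorem cj_le_cj {g : G} {X Y : Subgroup G} : cj g X ≤ cj g Y ↔ X ≤ Y := by
  constructor
  · intro h x hx
    have := h (cj_mem (g := g) hx)
    rw [mem_cj] at this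
    simpa [mul_assoc] using this
  · intro h
    exact Subgroup.map_mono h

theorem cj_eq_comm {g : G} {X Y : Subgroup G} : cj g X = Y ↔ X = cj g⁻¹ Y := by
  constructor
  · rintro rfl
    exact (cj_cancel g X).symm
  · rintro rfl
    exact cj_cancel' g Y

theorem card_cj (g : G) (X : Subgroup G) : Nat.card (cj g X) = Nat.card X :=
  Nat.card_congr (X.equivMapOfInjective _ (MulAut.conj g).injective).toEquiv.symm

theorem cj_of_abelian {U X : Subgroup G} (hc : ∀ x ∈ U, ∀ y ∈ U, x * y = y * x) (hX : X ≤ U) {u : G}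
    (hu : u ∈ U) : cj u X = X := by
  ext y
  rw [mem_cj]
  constructor
  · intro h
    have h1 := hc _ hu _ (hX h)
    have h2 : y = u⁻¹ * y * u := by
      have : u * (u⁻¹ * y * u) = y * u := by group
      rw [this] at h1
      have h3 : y * u = (u⁻¹ * y * u) * u := h1
      exact mul_right_cancel h3
    rw [h2]; exact h
  · intro h
    have h1 := hc _ hu _ (hX h)
    have h2 : u⁻¹ * y * u = y := by
      rw [mul_assoc, ← h1]; group
    rw [h2]; exact h

theorem Ends.symm {E V : Set (Subgroup G)} (hsq : ∀ U ∈ V, ∀ x ∈ U, x * x = 1) {X U W : Subgroup G}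
    (h : Ends E V X U W) : Ends E V X W U where
  hU := h.hW
  hW := h.hU
  ne := h.ne.symm
  leU := h.leW
  leW := h.leU
  uniq U' hU' hX := (h.uniq U' hU' hX).symm
  comm x hx hx1 Y hY y hy hy1 hxy := (h.comm x hx hx1 Y hY y hy hy1 hxy).symm
  sq w hw u hu hwX huX := by
    have h1 := h.sq u hu w hw huX hwX
    have hui := inv_eq_self (hsq U h.hU u hu)
    have hwi := inv_eq_self (hsq W h.hW w hw)
    have h2 : w * u * (w * u) = ((u * w) * (u * w))⁻¹ := by
      simp only [mul_inv_rev, hui, hwi]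
    rw [h2]
    exact ⟨X.inv_mem h1.1, fun h => h1.2 (inv_eq_one.1 h)⟩

variable {E V : Set (Subgroup G)}

theorem II_conj (hg : Geo E V) {z : G} (hz : z ∈ II E) (g : G) : g * z * g⁻¹ ∈ II E := by
  obtain ⟨hz1, X, hX, hzX⟩ := hz
  refine ⟨?_, cj g X, hg.conjE g X hX, cj_mem hzX⟩
  intro h
  apply hz1
  have : z = g⁻¹ * (g * z * g⁻¹) * g := by group
  rw [this, h]; group

theorem II_conj' (hg : Geo E V) {z : G} (hz : z ∈ II E) (g : G) : g⁻¹ * z * g ∈ II E := by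
  have := II_conj hg hz g⁻¹
  rwa [inv_inv] at this

theorem Geo.mul_comm (hg : Geo E V) {U : Subgroup G} (hU : U ∈ V) {x y : G} (hx : x ∈ U) (hy : y ∈ U) :
    x * y = y * x := by
  have h1 := hg.sqV U hU _ (U.mul_mem hx hy)
  have hxi := inv_eq_self (hg.sqV U hU x hx)
  have hyi := inv_eq_self (hg.sqV U hU y hy)
  have h2 := inv_eq_self h1
  rw [mul_inv_rev, hxi, hyi] at h2
  exact h2.symm

theorem Geo.II_of_mem (hg : Geo E V) {U : Subgroup G} (hU : U ∈ V) {x : G} (hx : x ∈ U) (hx1 : x ≠ 1) :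
    x ∈ II E := by
  obtain ⟨X, hX, hxX, -⟩ := hg.cover U hU x hx hx1
  exact ⟨hx1, X, hX, hxX⟩

theorem Geo.sqE (hg : Geo E V) {X : Subgroup G} (hX : X ∈ E) {x : G} (hx : x ∈ X) : x * x = 1 := by
  obtain ⟨U, W, h⟩ := hg.two X hX
  exact hg.sqV U h.hU x (h.leU hx)

theorem Geo.II_sq (hg : Geo E V) {z : G} (hz : z ∈ II E) : z * z = 1 := by
  obtain ⟨-, X, hX, hzX⟩ := hz
  exact hg.sqE hX hzX

theorem Geo.le_of_mem (hg : Geo E V) {X U : Subgroup G} (hX : X ∈ E) (hU : U ∈ V) {z : G} (hz1 : z ≠ 1)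
    (hzX : z ∈ X) (hzU : z ∈ U) : X ≤ U := by
  obtain ⟨Y, hY, hzY, hYU⟩ := hg.cover U hU z hzU hz1
  rw [hg.ti X hX Y hY z hzX hzY hz1]
  exact hYU

theorem Geo.other (hg : Geo E V) {X U : Subgroup G} (hX : X ∈ E) (hU : U ∈ V) (hXU : X ≤ U) :
    ∃ W, Ends E V X U W := by
  obtain ⟨U', W', h⟩ := hg.two X hX
  rcases h.uniq U hU hXU with rfl | rfl
  · exact ⟨W', h⟩
  · exact ⟨U', h.symm hg.sqV⟩

theorem Geo.endsV (hg : Geo E V) {X U W : Subgroup G} (hX : X ∈ E) (hU : U ∈ V) (hW : W ∈ V) (hne : U ≠ W)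
    (hXU : X ≤ U) (hXW : X ≤ W) : Ends E V X U W := by
  obtain ⟨W', h⟩ := hg.other hX hU hXU
  rcases h.uniq W hW hXW with h1 | h1
  · exact absurd h1.symm hne
  · rw [h1]; exact h

theorem Ends.conj (hg : Geo E V) {X U W : Subgroup G} (hX : X ∈ E) (h : Ends E V X U W) (g : G) :
    Ends E V (cj g X) (cj g U) (cj g W) :=
  hg.endsV (hg.conjE g X hX) (hg.conjV g U h.hU) (hg.conjV g W h.hW) (fun h1 => h.ne (cj_injective g h1))
    (cj_le_cj.2 h.leU) (cj_le_cj.2 h.leW)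

theorem Geo.mul_mem_II (hg : Geo E V) {z w : G} (hz : z ∈ II E) (hw : w ∈ II E) (hzw : z * w = w * z)
    (hne : z ≠ w) : z * w ∈ II E := by
  obtain ⟨hz1, X, hX, hzX⟩ := id hz
  obtain ⟨hw1, Y, hY, hwY⟩ := id hw
  have h1 : z * w ≠ 1 := by
    intro h
    apply hne
    have := hg.II_sq hw
    calc z = z * (w * w) := by rw [this, mul_one]
      _ = (z * w) * w := by group
      _ = w := by rw [h, one_mul]
  obtain ⟨U, W, h⟩ := hg.two X hX
  rcases h.comm z hzX hz1 Y hY w hwY hw1 hzw with h2 | h2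
  · exact hg.II_of_mem h.hU (U.mul_mem (h.leU hzX) h2) h1
  · exact hg.II_of_mem h.hW (W.mul_mem (h.leW hzX) h2) h1

theorem Ends.mem_of_mem (hg : Geo E V) {X U W : Subgroup G} (h : Ends E V X U W) {x : G} (hU : x ∈ U)
    (hW : x ∈ W) : x ∈ X := by
  by_contra hx
  have h1 := h.sq x hU x hW hx hx
  have h2 := hg.sqV U h.hU x hU
  apply h1.2
  rw [h2, one_mul]

theorem Geo.eq_of_le (hg : Geo E V) {X Y : Subgroup G} (hX : X ∈ E) (hY : Y ∈ E) (h : X ≤ Y) : X = Y := by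
  have h1 : ∃ x ∈ X, x ≠ 1 := by
    by_contra hc
    push Not at hc
    have : X = ⊥ := by
      rw [eq_bot_iff]
      intro x hx
      exact mem_bot.2 (hc x hx)
    have h4 := hg.cardE X hX
    rw [this, Subgroup.card_bot] at h4
    omega
  obtain ⟨x, hx, hx1⟩ := h1
  exact hg.ti X hX Y hY x hx (h hx) hx1

theorem Geo.exists_ne_one (hg : Geo E V) {X : Subgroup G} (hX : X ∈ E) : ∃ x ∈ X, x ≠ 1 := by
  by_contra hc
  push Not at hc
  have : X = ⊥ := by
    rw [eq_bot_iff]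
    intro x hx
    exact mem_bot.2 (hc x hx)
  have h4 := hg.cardE X hX
  rw [this, Subgroup.card_bot] at h4
  omega

/-- two distinct edges lie in at most one vertex -/
theorem Geo.eq_vertex (hg : Geo E V) {X Y U W : Subgroup G} (hX : X ∈ E) (hY : Y ∈ E) (hXY : X ≠ Y)
    (hU : U ∈ V) (hW : W ∈ V) (hXU : X ≤ U) (hXW : X ≤ W) (hYU : Y ≤ U) (hYW : Y ≤ W) : U = W := by
  by_contra hne
  have h := hg.endsV hX hU hW hne hXU hXW
  apply hXY
  symm
  apply hg.eq_of_le hY hX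
  intro y hy
  exact h.mem_of_mem hg (hYU hy) (hYW hy)

/-- if `g` maps one nontrivial element of the edge `X` into the edge `Y`, it maps `X` to `Y` -/
theorem Geo.cj_eq (hg : Geo E V) {X Y : Subgroup G} (hX : X ∈ E) (hY : Y ∈ E) {g x : G} (hx : x ∈ X)
    (hx1 : x ≠ 1) (h : g * x * g⁻¹ ∈ Y) : cj g X = Y := by
  refine hg.ti _ (hg.conjE g X hX) _ hY (g * x * g⁻¹) (cj_mem hx) h ?_
  intro h1
  apply hx1
  have : x = g⁻¹ * (g * x * g⁻¹) * g := by group
  rw [this, h1]; group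

theorem Geo.cj_eq_of_comm (hg : Geo E V) {X : Subgroup G} (hX : X ∈ E) {g x : G} (hx : x ∈ X)
    (hx1 : x ≠ 1) (h : g * x = x * g) : cj g X = X := by
  apply hg.cj_eq hX hX hx hx1
  rw [h]; simpa using hx

theorem Ends.cj_cases {X U W : Subgroup G} (h : Ends E V X U W) (hg : Geo E V) {g : G}
    (hgX : cj g X = X) : (cj g U = U ∧ cj g W = W) ∨ (cj g U = W ∧ cj g W = U) := by
  have h1 := h.uniq (cj g U) (hg.conjV g U h.hU) (by rw [← hgX]; exact cj_le_cj.2 h.leU)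
  have h2 := h.uniq (cj g W) (hg.conjV g W h.hW) (by rw [← hgX]; exact cj_le_cj.2 h.leW)
  rcases h1 with h1 | h1 <;> rcases h2 with h2 | h2
  · exfalso
    apply h.ne
    apply cj_injective g
    simp only
    rw [h1, h2]
  · exact Or.inl ⟨h1, h2⟩
  · exact Or.inr ⟨h1, h2⟩
  · exfalso
    apply h.ne
    apply cj_injective g
    simp only
    rw [h1, h2]

theorem Ends.fix {X U W : Subgroup G} (h : Ends E V X U W) (hg : Geo E V) {u : G} (hu : u ∈ U) :
    cj u X = X ∧ cj u U = U ∧ cj u W = W := by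
  have hc : ∀ x ∈ U, ∀ y ∈ U, x * y = y * x := fun x hx y hy => hg.mul_comm h.hU hx hy
  have h1 : cj u X = X := cj_of_abelian hc h.leU hu
  have h2 : cj u U = U := cj_of_abelian hc le_rfl hu
  refine ⟨h1, h2, ?_⟩
  rcases h.cj_cases hg h1 with h3 | h3
  · exact h3.2
  · exact absurd (h2.symm.trans h3.1) h.ne

theorem Ends.fix' {X U W : Subgroup G} (h : Ends E V X U W) (hg : Geo E V) {w : G} (hw : w ∈ W) :
    cj w X = X ∧ cj w U = U ∧ cj w W = W := by
  obtain ⟨h1, h2, h3⟩ := (h.symm hg.sqV).fix hg hw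
  exact ⟨h1, h3, h2⟩

/-- an involution `z` of an edge which normalises the vertex `e` lies in `e` or in a neighbour of `e` -/
theorem Geo.fix_mem (hg : Geo E V) [Finite G] {e : Subgroup G} (he : e ∈ V) {z : G} (hz : z ∈ II E)
    (hze : cj z e = e) : z ∈ e ∨ ∃ X ∈ E, ∃ f, Ends E V X e f ∧ z ∈ f := by
  obtain ⟨x, hx, hx1, hzx⟩ := exists_commute (X := e) (hg.II_sq hz) (by
    rw [hg.cardV e he]; decide) (by
    intro x hx
    have := cj_mem (g := z) hx
    rwa [hze] at this)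
  obtain ⟨X, hX, hxX, hXe⟩ := hg.cover e he x hx hx1
  obtain ⟨f, hf⟩ := hg.other hX he hXe
  obtain ⟨hz1, Y, hY, hzY⟩ := hz
  rcases hf.comm x hxX hx1 Y hY z hzY hz1 hzx.symm with h | h
  · exact Or.inl h
  · exact Or.inr ⟨X, hX, f, hf, h⟩

theorem Ends.not_norm {X U W : Subgroup G} [Finite G] (h : Ends E V X U W) (hg : Geo E V) (hX : X ∈ E) {w : G}
    (hw : w ∈ W) (hwX : w ∉ X) {Y : Subgroup G} (hY : Y ∈ E) (hYU : Y ≤ U) (hne : Y ≠ X) : cj w Y ≠ Y := by
  intro hc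
  obtain ⟨y, hy, hy1, hwy⟩ := exists_commute (X := Y) (hg.sqV W h.hW w hw) (by
    rw [hg.cardE Y hY]; decide) (by
    intro x hx
    have := cj_mem (g := w) hx
    rwa [hc] at this)
  have hyX : y ∉ X := fun h1 => hne (hg.ti Y hY X hX y hy h1 hy1)
  have h1 := (h.sq y (hYU hy) w hw hyX hwX).2
  apply h1
  have h2 := hg.sqE hY hy
  have h3 := hg.sqV W h.hW w hw
  calc y * w * (y * w) = y * (w * y) * w := by group
    _ = y * (y * w) * w := by rw [hwy]
    _ = (y * y) * (w * w) := by group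
    _ = 1 := by rw [h2, h3, one_mul]

end Cfsg.Agent.TIAbelian.End
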