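import Cfsg.Agent.TIAbelian.EndTorus

/-!
# The line (vertex) `Om A ⊔ Om B` of an adjacent pair
-/

set_option autoImplicit false
set_option linter.unusedSectionVars false

namespace Cfsg.Agent.TIAbelian.End

open Subgroup
open Cfsg.Agent.ClassificationK.TIPair (cj mem_normalizer_cj normalizer_of_cj_eq cj_eq_of_mem_normalizer)
open Cfsg.Agent.ClassificationK.TIFamily (mem_cj cj_mul cj_one)

universe u

variable {G : Type u} [Group G] {B A : Subgroup G} [Finite G]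

theorem mem_sup_of_comm' {X Y : Subgroup G} (hc : ∀ a ∈ X, ∀ b ∈ Y, a * b = b * a) {x : G} :
    x ∈ X ⊔ Y ↔ ∃ a ∈ X, ∃ y ∈ Y, x = a * y := by
  constructor
  · intro h
    let S : Subgroup G :=
      { carrier := {x | ∃ a ∈ X, ∃ y ∈ Y, x = a * y}
        mul_mem' := by
          rintro _ _ ⟨a, ha, y, hy, rfl⟩ ⟨a', ha', y', hy', rfl⟩
          refine ⟨a * a', X.mul_mem ha ha', y * y', Y.mul_mem hy hy', ?_⟩
          have := hc a' ha' y hy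
          calc a * y * (a' * y') = a * (y * a') * y' := by group
            _ = a * (a' * y) * y' := by rw [this]
            _ = a * a' * (y * y') := by group
        one_mem' := ⟨1, X.one_mem, 1, Y.one_mem, by simp⟩
        inv_mem' := by
          rintro _ ⟨a, ha, y, hy, rfl⟩
          refine ⟨a⁻¹, X.inv_mem ha, y⁻¹, Y.inv_mem hy, ?_⟩
          have := hc _ (X.inv_mem ha) _ (Y.inv_mem hy)
          rw [this]; group }
    have hX : X ≤ S := fun a ha => ⟨a, ha, 1, Y.one_mem, by simp⟩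
    have hY : Y ≤ S := fun y hy => ⟨1, X.one_mem, y, hy, by simp⟩
    exact (sup_le hX hY) h
  · rintro ⟨a, ha, y, hy, rfl⟩
    exact (X ⊔ Y).mul_mem ((le_sup_left : X ≤ X ⊔ Y) ha) ((le_sup_right : Y ≤ X ⊔ Y) hy)

theorem Adj.mem_line (h : Adj B A) {x : G} :
    x ∈ Om A ⊔ Om B ↔ ∃ a ∈ Om A, ∃ y ∈ Om B, x = a * y :=
  mem_sup_of_comm' (fun _ ha _ hy => h.comm_Om_Om ha hy)

theorem Adj.line_sq (h : Adj B A) {x : G} (hx : x ∈ Om A ⊔ Om B) : x * x = 1 := by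
  obtain ⟨a, ha, y, hy, rfl⟩ := h.mem_line.1 hx
  have h1 := h.comm_Om_Om ha hy
  calc a * y * (a * y) = a * (y * a) * y := by group
    _ = a * (a * y) * y := by rw [h1]
    _ = (a * a) * (y * y) := by group
    _ = 1 := by rw [h.baseA.Om_sq ha, h.base.Om_sq hy, one_mul]

theorem Adj.card_line (h : Adj B A) : Nat.card (Om A ⊔ Om B : Subgroup G) = 16 := by
  let f : Om A × Om B → (Om A ⊔ Om B : Subgroup G) := fun p =>
    ⟨p.1.1 * p.2.1, h.mem_line.2 ⟨_, p.1.2, _, p.2.2, rfl⟩⟩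
  have hf : Function.Bijective f := by
    constructor
    · rintro ⟨a, y⟩ ⟨a', y'⟩ hp
      have h1 : a.1 * y.1 = a'.1 * y'.1 := congrArg Subtype.val hp
      have h2 : a'.1⁻¹ * a.1 = y'.1 * y.1⁻¹ := by
        calc a'.1⁻¹ * a.1 = a'.1⁻¹ * (a.1 * y.1) * y.1⁻¹ := by group
          _ = y'.1 * y.1⁻¹ := by rw [h1]; group
      have h3 : a'.1⁻¹ * a.1 = 1 := by
        apply h.inf
        · exact A.mul_mem (A.inv_mem (h.baseA.Om_le a'.2)) (h.baseA.Om_le a.2)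
        · rw [h2]; exact B.mul_mem (h.base.Om_le y'.2) (B.inv_mem (h.base.Om_le y.2))
      have h4 : a.1 = a'.1 := (inv_mul_eq_one.1 h3).symm
      have h5 : y.1 = y'.1 := by
        rw [h3] at h2
        exact (mul_inv_eq_one.1 h2.symm).symm
      exact Prod.ext (Subtype.ext h4) (Subtype.ext h5)
    · rintro ⟨x, hx⟩
      obtain ⟨a, ha, y, hy, rfl⟩ := h.mem_line.1 hx
      exact ⟨(⟨a, ha⟩, ⟨y, hy⟩), rfl⟩
  rw [← Nat.card_congr (Equiv.ofBijective f hf), Nat.card_prod, h.baseA.om, h.base.om]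

theorem Adj.conj_line (h : Adj B A) {b : G} (hb : b ∈ B) : cj b (Om A ⊔ Om B) ≤ Om A ⊔ Om B := by
  intro x hx
  rw [mem_cj] at hx
  obtain ⟨a, ha, y, hy, hxy⟩ := h.mem_line.1 hx
  have h1 : x = (b * a * b⁻¹) * (b * y * b⁻¹) := by
    calc x = b * (b⁻¹ * x * b) * b⁻¹ := by group
      _ = (b * a * b⁻¹) * (b * y * b⁻¹) := by rw [hxy]; group
  have h2 := h.base.comm b hb y (h.base.Om_le hy)
  rw [h.mem_line]
  refine ⟨a, ha, br a b * y, (Om B).mul_mem (h.br_mem ha hb) hy, ?_⟩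
  rw [h1, h.conj_a ha b, h2]; group

theorem Adj.cover (h : Adj B A) {x : G} (hx : x ∈ Om A ⊔ Om B) (hx1 : x ≠ 1) :
    ∃ X, (X = B ∨ ∃ b ∈ B, X = cj b A) ∧ x ∈ Om X ∧ Om X ≤ Om A ⊔ Om B := by
  obtain ⟨a, ha, y, hy, rfl⟩ := h.mem_line.1 hx
  by_cases ha1 : a = 1
  · refine ⟨B, Or.inl rfl, ?_, le_sup_right⟩
    rw [ha1, one_mul]; exact hy
  · obtain ⟨b, hb, hab⟩ := h.br_right_surj ha ha1 hy
    refine ⟨cj b A, Or.inr ⟨b, hb, rfl⟩, ?_, ?_⟩
    · rw [← cj_Om h.baseA.comm, ← hab, ← h.conj_a ha b]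
      exact cj_mem ha
    · rw [← cj_Om h.baseA.comm]
      exact le_trans (cj_le_cj.2 le_sup_left) (h.conj_line hb)

theorem Adj.conj (h : Adj B A) (g : G) : Adj (cj g B) (cj g A) where
  base := h.base.conj g
  mem := by
    rw [Cl_eq (⟨g, rfl⟩ : cj g B ∈ Cl B)]
    exact cj_mem_Cl h.mem g
  ne := fun h1 => h.ne (cj_injective g h1)
  ex := by
    obtain ⟨a, ha, ha1, haB⟩ := h.ex
    refine ⟨g * a * g⁻¹, cj_mem ha, ?_, ?_⟩
    · intro h1
      apply ha1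
      calc a = g⁻¹ * (g * a * g⁻¹) * g := by group
        _ = 1 := by rw [h1]; group
    · rw [cj_cj]
      have h1 : g * a * g⁻¹ * g = g * a := by group
      rw [h1, ← cj_cj, haB]

/-- commuting nontrivial elements: adjacent -/
theorem Base.adj_of_comm (h : Base B) {X : Subgroup G} (hX : X ∈ Cl B) (hne : X ≠ B) {x y : G}
    (hx : x ∈ X) (hx1 : x ≠ 1) (hy : y ∈ B) (hy1 : y ≠ 1) (hxy : x * y = y * x) : Adj B X :=
  ⟨h, hX, hne, x, hx, hx1, h.cj_of_comm hy hy1 hxy⟩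

/-- the edges -/
def EE (B : Subgroup G) : Set (Subgroup G) := {X' | ∃ X ∈ Cl B, X' = Om X}

/-- the vertices -/
def VV (B : Subgroup G) : Set (Subgroup G) := {U | ∃ X Y, X ∈ Cl B ∧ Adj X Y ∧ U = Om X ⊔ Om Y}

theorem EE_eq {X : Subgroup G} (hX : X ∈ Cl B) : EE X = EE B := by
  unfold EE; rw [Cl_eq hX]

theorem VV_eq {X : Subgroup G} (hX : X ∈ Cl B) : VV X = VV B := by
  unfold VV; rw [Cl_eq hX]

theorem Adj.line_mem_VV (h : Adj B A) : Om A ⊔ Om B ∈ VV B :=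
  ⟨B, A, self_mem_Cl B, h, sup_comm _ _⟩

theorem VV_spec (_hB : Base B) {U : Subgroup G} (hU : U ∈ VV B) :
    Nat.card U = 16 ∧ (∀ x ∈ U, x * x = 1) ∧ (∀ x ∈ U, x ≠ 1 → ∃ X ∈ Cl B, x ∈ Om X ∧ Om X ≤ U) := by
  obtain ⟨X, Y, hX, h, rfl⟩ := hU
  rw [sup_comm]
  refine ⟨h.card_line, fun x hx => h.line_sq hx, fun x hx hx1 => ?_⟩
  obtain ⟨Z, hZ, hxZ, hZU⟩ := h.cover hx hx1
  refine ⟨Z, ?_, hxZ, hZU⟩
  rcases hZ with rfl | ⟨b, -, rfl⟩
  · exact hX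
  · rw [← Cl_eq hX]; exact cj_mem_Cl h.mem b

theorem comm_of_sq {U : Subgroup G} (hsq : ∀ x ∈ U, x * x = 1) {x y : G} (hx : x ∈ U) (hy : y ∈ U) :
    x * y = y * x := by
  have h1 := hsq _ (U.mul_mem hx hy)
  have hxi := inv_eq_self (hsq x hx)
  have hyi := inv_eq_self (hsq y hy)
  have h2 := inv_eq_self h1
  rw [mul_inv_rev, hxi, hyi] at h2
  exact h2.symm

theorem Om_le_of_mem (hB : Base B) {U X : Subgroup G} (hU : U ∈ VV B) (hX : X ∈ Cl B) {x : G}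
    (hx : x ∈ X) (hx1 : x ≠ 1) (hxU : x ∈ U) : Om X ≤ U := by
  obtain ⟨Y, hY, hxY, hYU⟩ := (VV_spec hB hU).2.2 x hxU hx1
  rw [hB.ti2 hX hY hx ((hB.of_mem hY).Om_le hxY) hx1]
  exact hYU

theorem VV_eq_sup (hB : Base B) {U X Y : Subgroup G} (hU : U ∈ VV B) (hX : X ∈ Cl B) (hY : Y ∈ Cl B)
    (hne : Y ≠ X) (hXU : Om X ≤ U) (hYU : Om Y ≤ U) : Adj X Y ∧ U = Om Y ⊔ Om X := by
  obtain ⟨h16, hsq, -⟩ := VV_spec hB hU
  have bX := hB.of_mem hX
  have bY := hB.of_mem hY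
  obtain ⟨x, hx, hx1⟩ := bX.exists_ne
  obtain ⟨y, hy, hy1⟩ := bY.exists_ne
  have hadj : Adj X Y := bX.adj_of_comm (by rw [Cl_eq hX]; exact hY) hne (bY.Om_le hy) hy1 (bX.Om_le hx) hx1
    (comm_of_sq hsq (hYU hy) (hXU hx))
  refine ⟨hadj, ?_⟩
  symm
  apply Subgroup.eq_of_le_of_card_ge (sup_le hYU hXU)
  rw [h16, hadj.card_line]

end Cfsg.Agent.TIAbelian.End
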