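import Cfsg.Agent.TIAbelian.EndFull

/-!
# Odd order subgroups normalising a line; the index of `N(B)`
-/

set_option autoImplicit false
set_option linter.unusedSectionVars false

namespace Cfsg.Agent.TIAbelian.End

open Subgroup
open Cfsg.Agent.ClassificationK.TIPair (cj mem_normalizer_cj normalizer_of_cj_eq cj_eq_of_mem_normalizer)
open Cfsg.Agent.ClassificationK.TIFamily (mem_cj cj_mul cj_one)

universe u

variable {G : Type u} [Group G] {B A C : Subgroup G} [Finite G]

/-- odd order subgroups of the symmetric group of degree 5 have order at most 5 -/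
theorem card_le_five_perm (R : Subgroup (Equiv.Perm (Fin 5))) (hR : Odd (Nat.card R)) : Nat.card R ≤ 5 := by
  classical
  have hRA : R ≤ alternatingGroup (Fin 5) := by
    intro r hr
    rw [Equiv.Perm.mem_alternatingGroup]
    have h1 : orderOf r ∣ Nat.card R := by
      have := orderOf_dvd_natCard (⟨r, hr⟩ : R)
      rwa [Subgroup.orderOf_mk] at this
    have h2 : Odd (orderOf r) := Odd.of_dvd_nat hR h1
    have h3 : (Equiv.Perm.sign r) ^ orderOf r = 1 := by rw [← map_pow, pow_orderOf_eq_one, map_one]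
    rcases Int.units_eq_one_or (Equiv.Perm.sign r) with h4 | h4
    · exact h4
    · rw [h4, h2.neg_one_pow] at h3
      exact absurd h3 (by decide)
  let K : Subgroup (alternatingGroup (Fin 5)) := R.subgroupOf (alternatingGroup (Fin 5))
  have hK : Nat.card K = Nat.card R := Nat.card_congr (Subgroup.subgroupOfEquivOfLe hRA).toEquiv
  have hA5 : Nat.card (alternatingGroup (Fin 5)) = 60 := by
    have := nat_card_alternatingGroup (α := Fin 5)
    rw [this, Nat.card_eq_fintype_card, Fintype.card_fin]
    decide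
  have hdvd : Nat.card K ∣ 60 := by
    rw [← hA5]; exact Subgroup.card_subgroup_dvd_card K
  by_contra hgt
  push Not at hgt
  rw [← hK] at hR hgt
  have h15 : Nat.card K = 15 := by
    have hle : Nat.card K ≤ 60 := Nat.le_of_dvd (by norm_num) hdvd
    generalize Nat.card K = n at hdvd hR hgt hle
    interval_cases n <;> revert hR hdvd <;> decide
  have hidx : K.index = 4 := by
    have := K.card_mul_index
    rw [hA5, h15] at this
    omega
  have : IsSimpleGroup (alternatingGroup (Fin 5)) := alternatingGroup.isSimpleGroup_five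
  have hker := (MulAction.toPermHom (alternatingGroup (Fin 5)) (alternatingGroup (Fin 5) ⧸ K)).normal_ker
  rcases hker.eq_bot_or_eq_top with h1 | h1
  · have hinj := (MonoidHom.ker_eq_bot_iff _).1 h1
    have h2 := Nat.card_le_card_of_injective _ hinj
    rw [hA5, Nat.card_perm] at h2
    have h3 : Nat.card (alternatingGroup (Fin 5) ⧸ K) = 4 := hidx
    rw [h3] at h2
    exact absurd h2 (by decide)
  · rw [← Subgroup.normalCore_eq_ker] at h1
    have h2 : K = ⊤ := top_le_iff.1 (h1 ▸ Subgroup.normalCore_le K)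
    rw [h2, Subgroup.card_top, hA5] at h15
    omega

theorem card_le_five {K : Type*} [Group K] [Finite K] (hK : Odd (Nat.card K)) {α : Type*} [Finite α]
    (hα : Nat.card α = 5) (φ : K →* Equiv.Perm α) (hφ : Function.Injective φ) : Nat.card K ≤ 5 := by
  classical
  let e : α ≃ Fin 5 := Finite.equivFinOfCardEq hα
  let ψ : K →* Equiv.Perm (Fin 5) := (e.permCongrHom).toMonoidHom.comp φ
  have hψ : Function.Injective ψ := (MulEquiv.injective e.permCongrHom).comp hφ
  have h1 : Nat.card ψ.range = Nat.card K := Nat.card_congr (MonoidHom.ofInjective hψ).symm.toEquiv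
  rw [← h1]
  apply card_le_five_perm
  rw [h1]; exact hK

theorem cj_Om_eq {X : Subgroup G} (hB : Base X) {k : G} (hk : cj k (Om X) = Om X) : cj k X = X := by
  obtain ⟨y, hy, hy1⟩ := hB.exists_ne
  apply hB.ti k y (hB.Om_le hy) hy1
  have := cj_mem (g := k) hy
  rw [hk] at this
  exact hB.Om_le this

/-- elements of odd order normalising `A`, `B` and all `A^b` centralise `B` -/
theorem Adj.comm_of_odd (h : Adj B A) {k : G} (hkA : cj k A = A) (hkB : cj k B = B)
    (hkb : ∀ b ∈ B, cj k (cj b A) = cj b A) (hodd : Odd (orderOf k)) : ∀ b ∈ B, k * b = b * k := by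
  have hc : ∀ b ∈ B, b⁻¹ * (k * b * k⁻¹) ∈ Om B := by
    intro b hb
    apply h.symm.mem_Om_of_norm (B.mul_mem (B.inv_mem hb) (conj_mem hkB hb))
    have h1 := hkb b hb
    rw [cj_cj] at h1
    have h2 : cj (k * b * k⁻¹) A = cj b A := by
      rw [← h1, ← cj_cj, cj_inv_eq hkA]
    rw [← cj_cj, h2, cj_cancel]
  have hOm : ∀ y ∈ Om B, k * y = y * k := by
    intro y hy
    obtain ⟨b, hb, rfl⟩ := h.base.sq_surj hy
    have h1 := hc b hb
    have h2 : k * b * k⁻¹ = b * (b⁻¹ * (k * b * k⁻¹)) := by group
    have h3 : k * (b * b) * k⁻¹ = b * b := by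
      calc k * (b * b) * k⁻¹ = (k * b * k⁻¹) * (k * b * k⁻¹) := by group
        _ = b * (b⁻¹ * (k * b * k⁻¹)) * (b * (b⁻¹ * (k * b * k⁻¹))) := by rw [← h2]
        _ = b * b := by rw [h.base.sq_mul hb (h.base.Om_le h1), h.base.Om_sq h1, mul_one]
    calc k * (b * b) = (k * (b * b) * k⁻¹) * k := by group
      _ = b * b * k := by rw [h3]
  intro b hb
  set c := b⁻¹ * (k * b * k⁻¹) with hcdef
  have hcO : c ∈ Om B := hc b hb
  have hkc := hOm c hcO
  have h1 : k * b * k⁻¹ = b * c := by rw [hcdef]; group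
  have hpow : ∀ n : ℕ, k ^ n * b * (k ^ n)⁻¹ = b * c ^ n := by
    intro n
    induction n with
    | zero => simp
    | succ n ih =>
      have hkcn : k * c ^ n = c ^ n * k := ((show Commute k c from hkc).pow_right n)
      calc k ^ (n + 1) * b * (k ^ (n + 1))⁻¹ = k * (k ^ n * b * (k ^ n)⁻¹) * k⁻¹ := by
            rw [pow_succ']; group
        _ = k * (b * c ^ n) * k⁻¹ := by rw [ih]
        _ = (k * b * k⁻¹) * (k * c ^ n) * k⁻¹ := by group
        _ = (b * c) * (c ^ n * k) * k⁻¹ := by rw [h1, hkcn]
        _ = b * c ^ (n + 1) := by rw [pow_succ']; group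
  have h2 := hpow (orderOf k)
  rw [pow_orderOf_eq_one] at h2
  have h3 : c ^ orderOf k = 1 := by
    have : b * c ^ orderOf k = b * 1 := by rw [← h2]; group
    exact mul_left_cancel this
  have h4 : c = 1 := by
    obtain ⟨m, hm⟩ := hodd
    rw [hm, pow_succ, pow_mul, pow_two, h.base.Om_sq hcO, one_pow, one_mul] at h3
    exact h3
  rw [h4, mul_one] at h1
  calc k * b = (k * b * k⁻¹) * k := by group
    _ = b * k := by rw [h1]

/-- odd order subgroups of the normaliser of a line have order at most 5 -/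
theorem Full.hodd (h : Full B A C) (K : Subgroup G) (hK : K ≤ normalizer ((Om A ⊔ Om B : Subgroup G) : Set G))
    (hKodd : Odd (Nat.card K)) : Nat.card K ≤ 5 := by
  classical
  set U : Subgroup G := Om A ⊔ Om B with hU
  have hg := h.geo
  have hUV : U ∈ VV B := h.adjA.line_mem_VV
  let α := {X // X ∈ mems (EE B) U}
  have hα : Nat.card α = 5 := by
    rw [← hg.card_mems hUV, Nat.card_eq_fintype_card]
    exact Fintype.card_coe _
  have hact : ∀ k : K, ∀ X : α, cj (k : G) X.1 ∈ mems (EE B) U := by
    intro k X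
    have hX := mem_mems.1 X.2
    rw [mem_mems]
    refine ⟨hg.conjE _ _ hX.1, ?_⟩
    have h1 : cj (k : G) X.1 ≤ cj (k : G) U := cj_le_cj.2 hX.2
    rwa [cj_eq_of_mem_normalizer (hK k.2)] at h1
  let inst : MulAction K α :=
    { smul := fun k X => ⟨cj (k : G) X.1, hact k X⟩
      one_smul := fun X => Subtype.ext (cj_one' X.1)
      mul_smul := fun k l X => Subtype.ext (cj_cj (k : G) (l : G) X.1).symm }
  have hsmul : ∀ (k : K) (X : α), ((k • X : α) : Subgroup G) = cj (k : G) X.1 := fun _ _ => rfl
  apply card_le_five hKodd hα (MulAction.toPermHom K α)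
  rw [← MonoidHom.ker_eq_bot_iff, eq_bot_iff]
  intro k hk
  rw [MonoidHom.mem_ker] at hk
  have hfix : ∀ X ∈ mems (EE B) U, cj (k : G) X = X := by
    intro X hX
    exact congrArg (fun σ : Equiv.Perm α => ((σ ⟨X, hX⟩ : α) : Subgroup G)) hk
  have hOmA : Om A ∈ mems (EE B) U := mem_mems.2 ⟨⟨A, h.adjA.mem, rfl⟩, le_sup_left⟩
  have hOmB : Om B ∈ mems (EE B) U := mem_mems.2 ⟨⟨B, self_mem_Cl B, rfl⟩, le_sup_right⟩
  have hkA : cj (k : G) A = A := cj_Om_eq h.adjA.baseA (hfix _ hOmA)
  have hkB : cj (k : G) B = B := cj_Om_eq h.adjA.base (hfix _ hOmB)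
  have hkb : ∀ b ∈ B, cj (k : G) (cj b A) = cj b A := by
    intro b hb
    apply cj_Om_eq (h.adjA.baseA.conj b)
    apply hfix
    rw [mem_mems]
    refine ⟨⟨cj b A, cj_mem_Cl h.adjA.mem b, rfl⟩, ?_⟩
    rw [← cj_Om h.adjA.baseA.comm]
    exact le_trans (cj_le_cj.2 le_sup_left) (h.adjA.conj_line hb)
  have hko : Odd (orderOf (k : G)) := by
    rw [Subgroup.orderOf_coe]
    exact Odd.of_dvd_nat hKodd (orderOf_dvd_natCard k)
  have h1 := h.adjA.comm_of_odd hkA hkB hkb hko
  have h2 := h.cent _ h1
  have h3 := h.adjA.base.exp _ h2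
  have h4 : (k : G) ^ 4 = 1 := by
    rw [show (4 : ℕ) = 2 + 2 from rfl, pow_add, pow_two]
    exact h3
  have h5 := orderOf_dvd_of_pow_eq_one h4
  have h6 : orderOf (k : G) = 1 := by
    have h7 : orderOf (k : G) ≤ 4 := Nat.le_of_dvd (by norm_num) h5
    generalize orderOf (k : G) = n at *
    interval_cases n <;> revert hko h5 <;> decide
  rw [mem_bot]
  exact Subtype.ext (orderOf_eq_one_iff.1 h6)

/-- the number of conjugates of `B` is odd -/
theorem Base.odd_index (h : Base B) : Odd (normalizer (B : Set G)).index := by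
  have h2 : Fact (Nat.Prime 2) := ⟨Nat.prime_two⟩
  have hp : IsPGroup 2 B := IsPGroup.of_card (n := 4) (by rw [h.card]; norm_num)
  have h1 := hp.card_modEq_card_fixedPoints (G ⧸ normalizer (B : Set G))
  have hfix : MulAction.fixedPoints B (G ⧸ normalizer (B : Set G)) = {((1 : G) : G ⧸ normalizer (B : Set G))} := by
    ext x
    induction x using QuotientGroup.induction_on with
    | H g =>
      rw [MulAction.mem_fixedPoints, Set.mem_singleton_iff]
      constructor
      · intro hx
        have h3 : cj g⁻¹ B = B := by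
          apply h.wc
          intro y hy
          rw [mem_cj, inv_inv] at hy
          have h4 := hx ⟨g * y * g⁻¹, hy⟩
          have h5 : (((g * y * g⁻¹) * g : G) : G ⧸ normalizer (B : Set G)) = (g : G ⧸ normalizer (B : Set G)) := h4
          have h6 := QuotientGroup.eq.1 h5.symm
          convert h6 using 1
          group
        have h4 := normalizer_of_cj_eq h3
        rw [QuotientGroup.eq, mul_one]
        exact h4
      · intro hx b
        rw [hx]
        change (((b : G) * 1 : G) : G ⧸ normalizer (B : Set G)) = _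
        rw [QuotientGroup.eq]
        simp only [mul_one, Subgroup.inv_mem_iff]
        exact le_normalizer b.2
  rw [hfix] at h1
  have h3 : Nat.card ({((1 : G) : G ⧸ normalizer (B : Set G))} : Set (G ⧸ normalizer (B : Set G))) = 1 := by
    rw [Nat.card_eq_one_iff_unique]
    exact ⟨⟨fun a b => Subtype.ext (a.2.trans b.2.symm)⟩, ⟨⟨_, rfl⟩⟩⟩
  rw [h3] at h1
  rw [Nat.odd_iff]
  exact h1

theorem Base.normalizer_Om (h : Base B) : normalizer (Om B : Set G) = normalizer (B : Set G) := by
  ext g
  constructor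
  · intro hg
    exact normalizer_of_cj_eq (cj_Om_eq h (cj_eq_of_mem_normalizer hg))
  · intro hg
    apply normalizer_of_cj_eq
    rw [cj_Om h.comm, cj_eq_of_mem_normalizer hg]

end Cfsg.Agent.TIAbelian.End
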