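import Cfsg.Agent.TIAbelian.EndOdd

/-!
# The element `h` of order 3 of the torus
-/

set_option autoImplicit false
set_option linter.unusedSectionVars false

namespace Cfsg.Agent.TIAbelian.End

open Subgroup
open Cfsg.Agent.ClassificationK.TIPair (cj mem_normalizer_cj normalizer_of_cj_eq cj_eq_of_mem_normalizer)
open Cfsg.Agent.ClassificationK.TIFamily (mem_cj cj_mul cj_one)

universe u

variable {G : Type u} [Group G] {B A C : Subgroup G} [Finite G]

/-- `t` normalises `X` and moves all nontrivial elements of `Om X` -/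
structure Mv (X : Subgroup G) (t : G) : Prop where
  norm : cj t X = X
  mv : ∀ x ∈ Om X, x ≠ 1 → t * x * t⁻¹ ≠ x

theorem conj_Om_mem {X : Subgroup G} (hX : Base X) {t x : G} (ht : cj t X = X) (hx : x ∈ Om X) :
    t * x * t⁻¹ ∈ Om X := by
  have h1 := cj_mem (g := t) hx
  rwa [cj_Om hX.comm, ht] at h1

theorem Mv.sq {X : Subgroup G} (hX : Base X) {t : G} (ht : Mv X t) {x : G} (hx : x ∈ Om X) :
    t * (t * x * t⁻¹) * t⁻¹ = x * (t * x * t⁻¹) := by
  by_cases hx1 : x = 1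
  · rw [hx1]; simp
  set y := t * x * t⁻¹ with hy
  have hyO : y ∈ Om X := conj_Om_mem hX ht.norm hx
  have hzO : t * y * t⁻¹ ∈ Om X := conj_Om_mem hX ht.norm hyO
  have hy1 : y ≠ 1 := by
    intro h1
    apply hx1
    calc x = t⁻¹ * (t * x * t⁻¹) * t := by group
      _ = 1 := by rw [← hy, h1]; group
  have hxy : y ≠ x := ht.mv x hx hx1
  have hc := hX.comm x (hX.Om_le hx) y (hX.Om_le hyO)
  rcases hX.four hx hyO hx1 hy1 hxy.symm hzO with h1 | h1 | h1 | h1
  · exfalso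
    apply hy1
    calc y = t⁻¹ * (t * y * t⁻¹) * t := by group
      _ = 1 := by rw [h1]; group
  · exfalso
    -- `t` swaps `x` and `y`
    have hxy1 : x * y ≠ 1 := by
      intro h2
      apply hxy
      have h3 := hX.Om_sq hx
      calc y = (x * x) * y := by rw [h3, one_mul]
        _ = x * (x * y) := by group
        _ = x := by rw [h2, mul_one]
    apply ht.mv (x * y) ((Om X).mul_mem hx hyO) hxy1
    calc t * (x * y) * t⁻¹ = (t * x * t⁻¹) * (t * y * t⁻¹) := by group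
      _ = y * x := by rw [h1, ← hy]
      _ = x * y := hc.symm
  · exact absurd h1 (ht.mv y hyO hy1)
  · exact h1

/-- the cube centralises `Om X` -/
theorem Mv.cube {X : Subgroup G} (hX : Base X) {t : G} (ht : Mv X t) {x : G} (hx : x ∈ Om X) :
    t ^ 3 * x = x * t ^ 3 := by
  have h1 := ht.sq hX hx
  have hyO : t * x * t⁻¹ ∈ Om X := conj_Om_mem hX ht.norm hx
  have h2 := ht.sq hX hyO
  have hc := hX.comm x (hX.Om_le hx) _ (hX.Om_le hyO)
  have h3 : t * (t * (t * x * t⁻¹) * t⁻¹) * t⁻¹ = x := by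
    rw [h2, h1, hc, ← mul_assoc, hX.Om_sq hyO, one_mul]
  calc t ^ 3 * x = (t * (t * (t * x * t⁻¹) * t⁻¹) * t⁻¹) * t ^ 3 := by
        rw [pow_succ, pow_two]; group
    _ = x * t ^ 3 := by rw [h3]

theorem Mv.inv {X : Subgroup G} (hX : Base X) {t : G} (ht : Mv X t) : Mv X t⁻¹ where
  norm := cj_inv_eq ht.norm
  mv := by
    intro x hx hx1 h1
    rw [inv_inv] at h1
    apply ht.mv x hx hx1
    conv_lhs => rw [← h1]
    group

/-- an element centralising `Om B` and normalising `B` moves `b` by an element of `Om B` -/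
theorem Base.br_mem_of_comm (hB : Base B) {k : G} (hkB : cj k B = B) (hk : ∀ y ∈ Om B, k * y = y * k)
    {b : G} (hb : b ∈ B) : br k b ∈ Om B := by
  have h1 : k * b * k⁻¹ ∈ B := conj_mem hkB hb
  rw [mem_Om hB.comm]
  refine ⟨B.mul_mem h1 (B.inv_mem hb), ?_⟩
  have h2 := hk _ (hB.sq_mem_Om hb)
  have h3 := hB.comm _ h1 _ (B.inv_mem hb)
  calc br k b * br k b = (k * b * k⁻¹) * (b⁻¹ * (k * b * k⁻¹)) * b⁻¹ := by rw [br]; group
    _ = (k * b * k⁻¹) * ((k * b * k⁻¹) * b⁻¹) * b⁻¹ := by rw [h3]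
    _ = (k * (b * b)) * k⁻¹ * b⁻¹ * b⁻¹ := by group
    _ = 1 := by rw [h2]; group

theorem Base.sq_comm (hB : Base B) {k : G} (hkB : cj k B = B) (hk : ∀ y ∈ Om B, k * y = y * k)
    {b : G} (hb : b ∈ B) : k * k * b = b * (k * k) := by
  have h1 := hB.br_mem_of_comm hkB hk hb
  have h2 := conj_eq_br k b
  have h3 := hk _ h1
  have h4 : k * (k * b * k⁻¹) * k⁻¹ = b := by
    calc k * (k * b * k⁻¹) * k⁻¹ = (k * br k b) * b * k⁻¹ := by rw [h2]; group
      _ = (br k b * k) * b * k⁻¹ := by rw [h3]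
      _ = br k b * (k * b * k⁻¹) := by group
      _ = br k b * br k b * b := by rw [h2]; group
      _ = b := by rw [hB.Om_sq h1, one_mul]
  calc k * k * b = (k * (k * b * k⁻¹) * k⁻¹) * (k * k) := by group
    _ = b * (k * k) := by rw [h4]

/-- an element of order 3 of the torus -/
theorem Adj.exists_three (h : Adj B A) (hcent : ∀ k : G, (∀ b ∈ B, k * b = b * k) → k ∈ B) :
    ∃ t ∈ A ⊔ B, t ^ 3 = 1 ∧ Mv A t ∧ Mv B t := by
  obtain ⟨s, hs, hsA, hsB, hs1, hs2⟩ := h.exists_torus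
  have mA : Mv A s := ⟨hsA, hs1⟩
  have mB : Mv B s := ⟨hsB, hs2⟩
  -- `s^24 = 1`
  have h3B : cj (s ^ 3) B = B := by
    have : s ^ 3 = s * (s * s) := by rw [pow_succ', pow_two]
    rw [this, ← cj_cj, ← cj_cj, hsB, hsB, hsB]
  have h6 : s ^ 3 * s ^ 3 ∈ B := hcent _ (fun b hb => h.base.sq_comm h3B (fun y hy => mB.cube h.base hy) hb)
  have h24 : s ^ 24 = 1 := by
    have h7 := h.base.exp _ h6
    have h8 : s ^ 24 = s ^ 3 * s ^ 3 * (s ^ 3 * s ^ 3) * (s ^ 3 * s ^ 3 * (s ^ 3 * s ^ 3)) := by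
      simp only [← pow_add]
    rw [h8, h7]
  -- `t = s^16 = s · s^15`
  have key : ∀ X : Subgroup G, Base X → Mv X s → Mv X (s ^ 16) := by
    intro X hX m
    have hc : ∀ x ∈ Om X, s ^ 16 * x * (s ^ 16)⁻¹ = s * x * s⁻¹ := by
      intro x hx
      have h9 : Commute (s ^ 3) x := m.cube hX hx
      have h10 : s ^ 15 * x = x * s ^ 15 := by
        have := h9.pow_left 5
        rw [← pow_mul] at this
        exact this
      have h11 : s ^ 16 = s * s ^ 15 := by rw [← pow_succ']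
      calc s ^ 16 * x * (s ^ 16)⁻¹ = s * (s ^ 15 * x) * (s ^ 15)⁻¹ * s⁻¹ := by rw [h11]; group
        _ = s * (x * s ^ 15) * (s ^ 15)⁻¹ * s⁻¹ := by rw [h10]
        _ = s * x * s⁻¹ := by group
    have hn : ∀ n : ℕ, cj (s ^ n) X = X := by
      intro n
      induction n with
      | zero => rw [pow_zero]; exact cj_one' X
      | succ n ih => rw [pow_succ, ← cj_cj, m.norm, ih]
    refine ⟨hn 16, ?_⟩
    intro x hx hx1
    rw [hc x hx]
    exact m.mv x hx hx1
  refine ⟨s ^ 16, (A ⊔ B).pow_mem hs 16, ?_, key A h.baseA mA, key B h.base mB⟩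
  rw [← pow_mul, show 16 * 3 = 24 * 2 by norm_num, pow_mul, h24, one_pow]

/-- a 2-element commuting with `t` centralises `Om X` -/
theorem Mv.comm_of_two {X : Subgroup G} (hX : Base X) {t : G} (ht : Mv X t) {y : G} (hyX : cj y X = X)
    (hyt : y * t = t * y) {k : ℕ} (hy2 : y ^ 2 ^ k = 1) {x : G} (hx : x ∈ Om X) : y * x = x * y := by
  by_cases hx1 : x = 1
  · rw [hx1]; simp
  -- it is enough that `y³` commutes with `x`
  suffices h3 : y ^ 3 * x = x * y ^ 3 by
    have hcop : Nat.Coprime 3 (2 ^ k) := Nat.Coprime.pow_right k (by norm_num)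
    obtain ⟨m, hm⟩ := exists_pow_eq_self_of_coprime (n := 3) (x := y) (by
      have h4 := orderOf_dvd_of_pow_eq_one hy2
      exact (Nat.Coprime.coprime_dvd_right h4 hcop))
    have h5 : Commute (y ^ 3) x := h3
    have h6 := h5.pow_left m
    rw [hm] at h6
    exact h6
  set w := t * x * t⁻¹ with hw
  have hwO : w ∈ Om X := conj_Om_mem hX ht.norm hx
  have hyx : y * x * y⁻¹ ∈ Om X := conj_Om_mem hX hyX hx
  have hw1 : w ≠ 1 := by
    intro h1
    apply hx1
    calc x = t⁻¹ * (t * x * t⁻¹) * t := by group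
      _ = 1 := by rw [← hw, h1]; group
  have hxw : x ≠ w := (ht.mv x hx hx1).symm
  have htw := ht.sq hX hx
  rw [← hw] at htw
  have hc := hX.comm x (hX.Om_le hx) w (hX.Om_le hwO)
  have hyw : y * w * y⁻¹ = t * (y * x * y⁻¹) * t⁻¹ := by
    have hyt' : t⁻¹ * y⁻¹ = y⁻¹ * t⁻¹ := by
      rw [← mul_inv_rev, ← mul_inv_rev, hyt]
    rw [hw]
    calc y * (t * x * t⁻¹) * y⁻¹ = (y * t) * x * (t⁻¹ * y⁻¹) := by group
      _ = (t * y) * x * (y⁻¹ * t⁻¹) := by rw [hyt, hyt']
      _ = t * (y * x * y⁻¹) * t⁻¹ := by group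
  have hcube : y ^ 3 * x = (y * (y * (y * x * y⁻¹) * y⁻¹) * y⁻¹) * y ^ 3 := by
    rw [pow_succ, pow_two]; group
  have hww := hX.Om_sq hwO
  have hxx := hX.Om_sq hx
  rw [hcube]
  congr 1
  rcases hX.four hx hwO hx1 hw1 hxw hyx with h1 | h1 | h1 | h1
  · exfalso
    apply hx1
    calc x = y⁻¹ * (y * x * y⁻¹) * y := by group
      _ = 1 := by rw [h1]; group
  · rw [h1, h1, h1]
  · -- `x → w → x w → x`
    rw [h1] at hyw
    rw [h1, hyw, htw]
    calc y * (x * w) * y⁻¹ = (y * x * y⁻¹) * (y * w * y⁻¹) := by group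
      _ = w * (x * w) := by rw [h1, hyw, htw]
      _ = x * (w * w) := by rw [← mul_assoc, ← hc, mul_assoc]
      _ = x := by rw [hww, mul_one]
  · -- `x → x w → w → x`
    have h2 : t * (x * w) * t⁻¹ = x := by
      calc t * (x * w) * t⁻¹ = (t * x * t⁻¹) * (t * w * t⁻¹) := by group
        _ = w * (x * w) := by rw [htw, ← hw]
        _ = x * (w * w) := by rw [← mul_assoc, ← hc, mul_assoc]
        _ = x := by rw [hww, mul_one]
    rw [h1, h2] at hyw
    have h3 : y * (x * w) * y⁻¹ = w := by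
      calc y * (x * w) * y⁻¹ = (y * x * y⁻¹) * (y * w * y⁻¹) := by group
        _ = x * w * x := by rw [h1, hyw]
        _ = w * (x * x) := by rw [hc, mul_assoc]
        _ = w := by rw [hxx, mul_one]
    rw [h1, h3, hyw]

end Cfsg.Agent.TIAbelian.End
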