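import Cfsg.Agent.TIAbelian.EndSwapInv

/-!
# The case `C_G(B) = B`: `G ≅ PSL₃(4)`
-/

set_option autoImplicit false
set_option linter.unusedSectionVars false

namespace Cfsg.Agent.TIAbelian.End

open Subgroup
open Cfsg.Agent.ClassificationK.TIPair (cj mem_normalizer_cj normalizer_of_cj_eq cj_eq_of_mem_normalizer)
open Cfsg.Agent.ClassificationK.TIFamily (mem_cj cj_mul cj_one)

universe u

variable {G : Type u} [Group G] {B A C : Subgroup G} [Finite G]

/-- `k` normalises `B` and centralises `Om B` -/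
structure CM (B : Subgroup G) (k : G) : Prop where
  norm : cj k B = B
  comm : ∀ y ∈ Om B, k * y = y * k

theorem CM.mul {k l : G} (hk : CM B k) (hl : CM B l) : CM B (k * l) where
  norm := by rw [← cj_cj, hl.norm, hk.norm]
  comm := fun y hy => by
    calc k * l * y = k * (l * y) := by group
      _ = k * (y * l) := by rw [hl.comm y hy]
      _ = (k * y) * l := by group
      _ = (y * k) * l := by rw [hk.comm y hy]
      _ = y * (k * l) := by group

theorem CM.inv {k : G} (hk : CM B k) : CM B k⁻¹ where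
  norm := cj_inv_eq hk.norm
  comm := fun y hy => by
    have h1 := hk.comm y hy
    calc k⁻¹ * y = k⁻¹ * (y * k) * k⁻¹ := by group
      _ = k⁻¹ * (k * y) * k⁻¹ := by rw [h1]
      _ = y * k⁻¹ := by group

theorem CM.conj (hB : Base B) {k t : G} (hk : CM B k) (ht : cj t B = B) : CM B (t * k * t⁻¹) where
  norm := by rw [← cj_cj, ← cj_cj, cj_inv_eq ht, hk.norm, ht]
  comm := fun y hy => by
    have h1 : t⁻¹ * y * t ∈ Om B := by
      have := conj_Om_mem hB (cj_inv_eq ht) hy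
      rwa [inv_inv] at this
    have h2 := hk.comm _ h1
    calc t * k * t⁻¹ * y = t * (k * (t⁻¹ * y * t)) * t⁻¹ := by group
      _ = t * ((t⁻¹ * y * t) * k) * t⁻¹ := by rw [h2]
      _ = y * (t * k * t⁻¹) := by group

theorem CM.of_mem (hB : Base B) {b : G} (hb : b ∈ B) : CM B b where
  norm := hB.cj_mem_self hb
  comm := fun y hy => hB.comm b hb y (hB.Om_le hy)

theorem CM.of_mem_A (h : Adj B A) {a : G} (ha : a ∈ Om A) : CM B a where
  norm := h.norm ha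
  comm := fun _ hy => h.comm_Om_Om ha hy

theorem CM.br_mem (hB : Base B) {k b : G} (hk : CM B k) (hb : b ∈ B) : br k b ∈ Om B :=
  hB.br_mem_of_comm hk.norm hk.comm hb

theorem CM.br_mul (hB : Base B) {k l b : G} (hk : CM B k) (hl : CM B l) (hb : b ∈ B) :
    br (k * l) b = br k b * br l b := by
  have h1 := hk.comm _ (hl.br_mem hB hb)
  have h2 := hB.comm _ (hB.Om_le (hl.br_mem hB hb)) _ (hB.Om_le (hk.br_mem hB hb))
  calc br (k * l) b = k * (l * b * l⁻¹) * k⁻¹ * b⁻¹ := by rw [br]; group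
    _ = (k * br l b) * b * k⁻¹ * b⁻¹ := by rw [conj_eq_br l b]; group
    _ = (br l b * k) * b * k⁻¹ * b⁻¹ := by rw [h1]
    _ = br l b * br k b := by rw [br_def k b]; group
    _ = br k b * br l b := h2

theorem CM.br_inv (hB : Base B) {k b : G} (hk : CM B k) (hb : b ∈ B) : br k⁻¹ b = br k b := by
  have h1 := CM.br_mul hB hk hk.inv hb
  rw [mul_inv_cancel] at h1
  have h2 : br (1 : G) b = 1 := by simp [br]
  rw [h2] at h1
  have h3 := hB.Om_sq (hk.br_mem hB hb)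
  calc br k⁻¹ b = (br k b)⁻¹ := (eq_inv_of_mul_eq_one_right h1.symm)
    _ = br k b := inv_eq_self h3

theorem br_of_mem (hB : Base B) {k b : G} (hk : k ∈ B) (hb : b ∈ B) : br k b = 1 :=
  br_eq_one_iff.2 (hB.comm k hk b hb)

/-- elements of `S₁` act as elements of `Om A` -/
theorem Adj.br_S (h : Adj B A) {s : G} (hs : s ∈ Om A ⊔ B) :
    CM B s ∧ ∃ a ∈ Om A, ∀ b ∈ B, br s b = br a b := by
  obtain ⟨a, ha, k, hk, rfl⟩ := h.mem_S.1 hs
  have h1 := CM.of_mem_A h ha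
  have h2 := CM.of_mem h.base hk
  refine ⟨h1.mul h2, a, ha, fun b hb => ?_⟩
  rw [CM.br_mul h.base h1 h2 hb, br_of_mem h.base hk hb, mul_one]

/-- two `Mv` elements agreeing at a point agree on `Om B` -/
theorem Mv.agree (hB : Base B) {t u : G} (ht : Mv B t) (hu : Mv B u) {x : G} (hx : x ∈ Om B) (hx1 : x ≠ 1)
    (h : u * x * u⁻¹ = t * x * t⁻¹) : ∀ y ∈ Om B, u * y * u⁻¹ = t * y * t⁻¹ := by
  intro y hy
  have hwO := conj_Om_mem hB ht.norm hx
  have hw1 : t * x * t⁻¹ ≠ 1 := by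
    intro h1
    apply hx1
    calc x = t⁻¹ * (t * x * t⁻¹) * t := by group
      _ = 1 := by rw [h1]; group
  have h1 := ht.sq hB hx
  have h2 := hu.sq hB hx
  rw [h] at h2
  rcases hB.four hx hwO hx1 hw1 (ht.mv x hx hx1).symm hy with h3 | h3 | h3 | h3
  · rw [h3]; simp
  · rw [h3, h]
  · rw [h3, h1, h2]
  · rw [h3]
    calc u * (x * (t * x * t⁻¹)) * u⁻¹ = (u * x * u⁻¹) * (u * (t * x * t⁻¹) * u⁻¹) := by group
      _ = (t * x * t⁻¹) * (t * (t * x * t⁻¹) * t⁻¹) := by rw [h, h2, h1]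
      _ = t * (x * (t * x * t⁻¹)) * t⁻¹ := by group

/-- the key step: if `g` normalises `B` then modulo `S₁` it normalises `⟨t⟩` -/
theorem Adj.exists_adjust (h : Adj B A) (hcent : ∀ k : G, (∀ b ∈ B, k * b = b * k) → k ∈ B) {t : G}
    (ht3 : t ^ 3 = 1) (tB : Mv B t) (tA : Mv A t) {g : G} (hgB : cj g B = B) :
    ∃ s ∈ Om A ⊔ B, (s * g) * t * (s * g)⁻¹ = t ∨ (s * g) * t * (s * g)⁻¹ = t⁻¹ := by
  have hB := h.base
  set t' := g * t * g⁻¹ with ht'
  have ht'3 : t' ^ 3 = 1 := by rw [ht', conj_pow, ht3]; group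
  have mt' : Mv B t' := by
    refine ⟨by rw [ht', ← cj_cj, ← cj_cj, cj_inv_eq hgB, tB.norm, hgB], ?_⟩
    intro x hx hx1 h1
    have h2 : g⁻¹ * x * g ∈ Om B := by
      have := conj_Om_mem hB (cj_inv_eq hgB) hx
      rwa [inv_inv] at this
    apply tB.mv _ h2
    · intro h3
      apply hx1
      calc x = g * (g⁻¹ * x * g) * g⁻¹ := by group
        _ = 1 := by rw [h3]; group
    · calc t * (g⁻¹ * x * g) * t⁻¹ = g⁻¹ * (t' * x * t'⁻¹) * g := by rw [ht']; group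
        _ = g⁻¹ * x * g := by rw [h1]
  -- choose `t''`
  obtain ⟨u, hu, hu3, uB, uA, hagree⟩ : ∃ u : G, (u = t ∨ u = t⁻¹) ∧ u ^ 3 = 1 ∧ Mv B u ∧ Mv A u ∧
      ∀ y ∈ Om B, t' * y * t'⁻¹ = u * y * u⁻¹ := by
    obtain ⟨x, hx, hx1⟩ := hB.exists_ne
    have hwO := conj_Om_mem hB tB.norm hx
    have hw1 : t * x * t⁻¹ ≠ 1 := by
      intro h1
      apply hx1
      calc x = t⁻¹ * (t * x * t⁻¹) * t := by group
        _ = 1 := by rw [h1]; group
    have hw2 := conj_Om_mem hB mt'.norm hx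
    rcases hB.four hx hwO hx1 hw1 (tB.mv x hx hx1).symm hw2 with h1 | h1 | h1 | h1
    · exfalso
      apply hx1
      calc x = t'⁻¹ * (t' * x * t'⁻¹) * t' := by group
        _ = 1 := by rw [h1]; group
    · exact absurd h1 (mt'.mv x hx hx1)
    · exact ⟨t, Or.inl rfl, ht3, tB, tA, tB.agree hB mt' hx hx1 h1⟩
    · refine ⟨t⁻¹, Or.inr rfl, by rw [inv_pow, ht3, inv_one], tB.inv hB, tA.inv h.baseA, ?_⟩
      apply (tB.inv hB).agree hB mt' hx hx1
      rw [h1, ← tB.inv_conj hB hx, inv_inv]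
  set c := t' * u⁻¹ with hc
  have hcCM : CM B c := by
    refine ⟨by rw [hc, ← cj_cj, cj_inv_eq uB.norm, mt'.norm], ?_⟩
    intro y hy
    have h1 : u⁻¹ * y * u ∈ Om B := by
      have := conj_Om_mem hB (cj_inv_eq uB.norm) hy
      rwa [inv_inv] at this
    have h2 := hagree _ h1
    calc c * y = (t' * (u⁻¹ * y * u) * t'⁻¹) * c := by rw [hc]; group
      _ = (u * (u⁻¹ * y * u) * u⁻¹) * c := by rw [h2]
      _ = y * c := by group
  -- `c c₁ c₂ = 1`
  set c₁ := u * c * u⁻¹ with hc₁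
  set c₂ := u * c₁ * u⁻¹ with hc₂
  have hCM1 : CM B c₁ := hcCM.conj hB uB.norm
  have hCM2 : CM B c₂ := hCM1.conj hB uB.norm
  have hprod : c * c₁ * c₂ = 1 := by
    have h1 : c * c₁ * c₂ = t' ^ 3 * (u ^ 3)⁻¹ := by
      rw [hc₂, hc₁, hc, pow_succ, pow_two, pow_succ, pow_two]; group
    rw [h1, ht'3, hu3]; simp
  have hs := h.comm_mem_S hcent uB uA hcCM.norm hcCM.comm
  have hs1 : c * (u * c⁻¹ * u⁻¹) = c * c₁⁻¹ := by rw [hc₁]; group
  rw [hs1] at hs
  obtain ⟨hsCM, a, ha, has⟩ := h.br_S hs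
  -- conjugate by `u`
  have hs' : c₁ * c₂⁻¹ ∈ Om A ⊔ B := by
    have h1 : c₁ * c₂⁻¹ = u * (c * c₁⁻¹) * u⁻¹ := by rw [hc₂, hc₁]; group
    rw [h1]
    obtain ⟨a', ha', b', hb', heq⟩ := h.mem_S.1 hs
    rw [heq, h.mem_S]
    exact ⟨u * a' * u⁻¹, conj_Om_mem h.baseA uA.norm ha', u * b' * u⁻¹, conj_mem uB.norm hb', by group⟩
  obtain ⟨hsCM', a', ha', has'⟩ := h.br_S hs'
  have hcS : c ∈ Om A ⊔ B := by
    rw [h.mem_S]
    refine ⟨a', ha', a'⁻¹ * c, ?_, by group⟩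
    apply hcent
    intro b hb
    apply comm_of_br_eq
    have e1 : br c b = br a b * br c₁ b := by
      rw [← has b hb, ← CM.br_mul hB hsCM hCM1 hb]
      congr 1; group
    have e2 : br c₁ b = br a' b * br c₂ b := by
      rw [← has' b hb, ← CM.br_mul hB hsCM' hCM2 hb]
      congr 1; group
    have e3 : br c b * br c₁ b * br c₂ b = 1 := by
      rw [← CM.br_mul hB hcCM hCM1 hb, ← CM.br_mul hB (hcCM.mul hCM1) hCM2 hb, hprod]
      simp [br]
    have q1 := hB.Om_sq (hcCM.br_mem hB hb)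
    have q2 := hB.Om_sq (hCM1.br_mem hB hb)
    have q3 := hB.Om_sq (hCM2.br_mem hB hb)
    have e4 : br c b = br c₁ b * br c₂ b := by
      calc br c b = br c b * ((br c b * br c₁ b * br c₂ b)⁻¹ * (br c b * br c₁ b * br c₂ b)) := by group
        _ = br c b * (br c b * br c₁ b * br c₂ b) := by rw [e3]; group
        _ = (br c b * br c b) * (br c₁ b * br c₂ b) := by group
        _ = br c₁ b * br c₂ b := by rw [q1, one_mul]
    rw [e4, e2, mul_assoc, q3, mul_one]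
  -- Lang
  have hstab : ∀ s ∈ Om A ⊔ B, u * s * u⁻¹ ∈ Om A ⊔ B := by
    intro s hs
    obtain ⟨x, hx, b, hb, rfl⟩ := h.mem_S.1 hs
    rw [h.mem_S]
    exact ⟨u * x * u⁻¹, conj_Om_mem h.baseA uA.norm hx, u * b * u⁻¹, conj_mem uB.norm hb, by group⟩
  have hfix : ∀ s ∈ Om A ⊔ B, u * s * u⁻¹ = s → s = 1 := by
    intro s hs hus
    obtain ⟨x, hx, b, hb, rfl⟩ := h.mem_S.1 hs
    have h1 : x⁻¹ * (u * x * u⁻¹) = b * (u * b * u⁻¹)⁻¹ := by
      calc x⁻¹ * (u * x * u⁻¹) = x⁻¹ * (u * (x * b) * u⁻¹) * (u * b * u⁻¹)⁻¹ := by group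
        _ = x⁻¹ * (x * b) * (u * b * u⁻¹)⁻¹ := by rw [hus]
        _ = b * (u * b * u⁻¹)⁻¹ := by group
    have h2 : x⁻¹ * (u * x * u⁻¹) = 1 := by
      apply h.inf
      · exact A.mul_mem (A.inv_mem (h.baseA.Om_le hx)) (h.baseA.Om_le (conj_Om_mem h.baseA uA.norm hx))
      · rw [h1]; exact B.mul_mem hb (B.inv_mem (conj_mem uB.norm hb))
    have h3 : x = 1 := by
      by_contra h4
      exact uA.mv x hx h4 (inv_mul_eq_one.1 h2).symm
    rw [h2] at h1
    have h4 : b = 1 := uB.eq_one hB hb (mul_inv_eq_one.1 h1.symm).symm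
    rw [h3, h4, one_mul]
  obtain ⟨s, hsS, hsc⟩ := exists_lang hstab hfix hcS
  refine ⟨s, hsS, ?_⟩
  have h1 : s * g * t * (s * g)⁻¹ = u := by
    calc s * g * t * (s * g)⁻¹ = s * t' * s⁻¹ := by rw [ht']; group
      _ = s * (c * u) * s⁻¹ := by rw [hc]; group
      _ = s * (s⁻¹ * (u * s * u⁻¹) * u) * s⁻¹ := by rw [hsc]
      _ = u := by group
  rw [h1]
  rcases hu with hu | hu
  · exact Or.inl hu
  · exact Or.inr hu

end Cfsg.Agent.TIAbelian.End
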