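import Cfsg.Agent.TIAbelian.EndTwentyOne
import Cfsg.Agent.LieExceptional.PlaneFour

/-!
# The plane of order 4
-/

set_option autoImplicit false

namespace Cfsg.Agent.TIAbelian.End

open Subgroup
open Cfsg.Agent.ClassificationK.TIPair (cj mem_normalizer_cj normalizer_of_cj_eq cj_eq_of_mem_normalizer)
open Cfsg.Agent.ClassificationK.TIFamily (mem_cj cj_mul cj_one)
open Cfsg.Agent.LieExceptional.PlaneGeom

universe u

variable {G : Type u} [Group G] {E V : Set (Subgroup G)}

theorem Ends.cj_X_of (hg : Geo E V) {X U e : Subgroup G} (hX : X ∈ E) (h : Ends E V X U e) {g : G}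
    (hU : cj g U = U) (he : cj g e = e) : cj g X = X := by
  apply hg.eq_of_le (hg.conjE g X hX) hX
  intro x hx
  apply h.mem_of_mem hg
  · rw [← hU]; exact cj_le_cj.2 h.leU hx
  · rw [← he]; exact cj_le_cj.2 h.leW hx

theorem Ends.cj_e_of (hg : Geo E V) {X U e : Subgroup G} (h : Ends E V X U e) {g : G}
    (hX : cj g X = X) (hU : cj g U = U) : cj g e = e := by
  rcases h.cj_cases hg hX with h1 | h1
  · exact h1.2
  · exact absurd (hU.symm.trans h1.1) h.ne

theorem Ends.relIndex (hg : Geo E V) [Finite G] {X U e : Subgroup G} (hX : X ∈ E) (h : Ends E V X U e) :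
    (normalizer (e : Set G)).relIndex (normalizer (U : Set G)) = 5 := by
  classical
  have := Fintype.ofFinite G
  rw [Subgroup.relIndex]
  have h1 := index_eq_card_image ((normalizer (e : Set G)).subgroupOf (normalizer (U : Set G)))
    (fun a : normalizer (U : Set G) => cj (a : G) X) (by
    intro a b
    rw [mem_subgroupOf, cj_eq_comm, cj_cj]
    simp only [Subgroup.coe_mul, InvMemClass.coe_inv]
    have hab : cj ((a : G)⁻¹ * b) U = U :=
      cj_eq_of_mem_normalizer (mul_mem (inv_mem a.2) b.2)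
    constructor
    · intro h2
      exact normalizer_of_cj_eq (h.cj_e_of hg h2.symm hab)
    · intro h2
      exact (h.cj_X_of hg hX hab (cj_eq_of_mem_normalizer h2)).symm)
  rw [h1, ← hg.card_mems h.hU]
  congr 1
  ext Y
  rw [Finset.mem_image, mem_mems]
  constructor
  · rintro ⟨a, -, rfl⟩
    refine ⟨hg.conjE _ X hX, ?_⟩
    conv_rhs => rw [← cj_eq_of_mem_normalizer a.2]
    exact cj_le_cj.2 h.leU
  · rintro ⟨hY, hYU⟩
    by_cases hYX : Y = X
    · exact ⟨1, Finset.mem_univ _, by rw [hYX]; exact cj_one' X⟩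
    · obtain ⟨Z, hZ, hZX, hZY⟩ := hg.exists_third h.hU X Y
      have hZ' := mem_mems.1 hZ
      obtain ⟨f, hf⟩ := hg.other hZ'.1 h.hU hZ'.2
      obtain ⟨w, hw, hwX⟩ := hg.exists_move (mem_mems.2 ⟨hX, h.leU⟩) (mem_mems.2 ⟨hY, hYU⟩) hZ'.1
        hZX.symm hZY.symm hf
      have hwU : w ∈ normalizer (U : Set G) := normalizer_of_cj_eq (hf.fix' hg hw).2.1
      exact ⟨⟨w, hwU⟩, Finset.mem_univ _, hwX⟩

theorem Ends.planeData (hg : Geo E V) [Finite G] {X U e : Subgroup G} (hX : X ∈ E) (h : Ends E V X U e)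
    (hnc : ∀ X ∈ E, ∀ e, Ends E V X U e → ∀ g : G, cj g U ≠ e)
    (hodd : ∀ K : Subgroup G, K ≤ normalizer (U : Set G) → Odd (Nat.card K) → Nat.card K ≤ 5) :
    PlaneData G (normalizer (U : Set G)) (normalizer (e : Set G)) U e 4 where
  hq := by norm_num
  V1_le_P1 := le_normalizer
  V1_le_P2 := fun u hu => normalizer_of_cj_eq (h.fix hg hu).2.2
  V2_le_P1 := fun u hu => normalizer_of_cj_eq (h.fix' hg hu).2.1
  V2_le_P2 := le_normalizer
  V1_norm := fun g hgn v hv => by
    have := cj_mem (g := g) hv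
    rwa [cj_eq_of_mem_normalizer hgn] at this
  V2_norm := fun g hgn v hv => by
    have := cj_mem (g := g) hv
    rwa [cj_eq_of_mem_normalizer hgn] at this
  index_G := by rw [hg.index_normalizer h.hU hnc hodd]; norm_num
  index_1 := h.relIndex hg hX
  index_2 := (h.symm hg.sqV).relIndex hg hX
  card_V2 := by rw [hg.cardV e h.hW]; norm_num
  card_W := by
    have : (U ⊓ e : Subgroup G) = X := by
      apply le_antisymm
      · intro x hx
        exact h.mem_of_mem hg hx.1 hx.2
      · exact le_inf h.leU h.leW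
    rw [this, hg.cardE X hX]
  H1 := by
    intro g hg1 hg2 w hw hgw
    by_contra hw1
    apply hg2
    have hXw : w ∈ X := h.mem_of_mem hg hw.1 hw.2
    have hXgw : g * w * g⁻¹ ∈ X := h.mem_of_mem hg hgw.1 hgw.2
    exact normalizer_of_cj_eq (h.cj_e_of hg (hg.cj_eq hX hX hXw hw1 hXgw) (cj_eq_of_mem_normalizer hg1))
  H2 := by
    intro g hg1 hg2 w hw hgw
    by_contra hw1
    apply hg2
    have hXw : w ∈ X := h.mem_of_mem hg hw.1 hw.2
    have hXgw : g * w * g⁻¹ ∈ X := h.mem_of_mem hg hgw.1 hgw.2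
    exact normalizer_of_cj_eq ((h.symm hg.sqV).cj_e_of hg (hg.cj_eq hX hX hXw hw1 hXgw)
      (cj_eq_of_mem_normalizer hg1))
  H3 := by
    intro g hg1 hg2 v hv hgv
    by_contra hve
    have he1 := cj_eq_of_mem_normalizer hg1
    have h1 := h.conj hg hX g
    rw [he1] at h1
    have hne : cj g U ≠ U := fun h2 => hg2 (normalizer_of_cj_eq h2)
    have hYX : cj g X ≠ X := by
      intro h2
      rw [h2] at h1
      rcases h.uniq _ h1.hU h1.leU with h3 | h3
      · exact hne h3
      · exact h1.ne h3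
    have hvX : v ∉ X := fun h2 => hve (h.leW h2)
    have h3 : cj v (cj g U) = cj g U := by
      have h4 := cj_eq_of_mem_normalizer hgv
      have h5 := congrArg (cj g) h4
      rw [cj_cj] at h5
      have h6 : v * g = g * (g⁻¹ * v * g) := by group
      rw [cj_cj, h6]
      exact h5
    have h4 : cj v e = e := (h.fix hg hv).2.2
    have h5 : cj v (cj g X) = cj g X := h1.cj_X_of hg (hg.conjE g X hX) h3 h4
    exact (h.symm hg.sqV).not_norm hg hX hv hvX (hg.conjE g X hX) h1.leW hYX h5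

/-- the conclusion for simple groups -/
theorem Ends.psl34 (hg : Geo E V) [Finite G] [IsSimpleGroup G] {X U e : Subgroup G} (hX : X ∈ E)
    (h : Ends E V X U e) (hnc : ∀ X ∈ E, ∀ e, Ends E V X U e → ∀ g : G, cj g U ≠ e)
    (hodd : ∀ K : Subgroup G, K ≤ normalizer (U : Set G) → Odd (Nat.card K) → Nat.card K ≤ 5) :
    ∃ (F : Type) (_ : Field F) (_ : Fintype F), Fintype.card F = 4 ∧
        Nonempty (G ≃* Matrix.ProjectiveSpecialLinearGroup (Fin 3) F) :=
  ⟨Cfsg.Agent.LieExceptional.PlaneFour.F4, inferInstance, inferInstance,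
    Cfsg.Agent.LieExceptional.PlaneFour.F4.card,
    Cfsg.Agent.LieExceptional.PlaneFour.psl34 (h.planeData hg hX hnc hodd) (hg.sqV e h.hW)⟩

end Cfsg.Agent.TIAbelian.End
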