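import Cfsg.Agent.TIAbelian.EndAdj

/-!
# Adjacent pairs: the swapping elements, the torus, and the action of `Om A` on `B`
-/

set_option autoImplicit false
set_option linter.unusedSectionVars false

namespace Cfsg.Agent.TIAbelian.End

open Subgroup
open Cfsg.Agent.ClassificationK.TIPair (cj mem_normalizer_cj normalizer_of_cj_eq cj_eq_of_mem_normalizer)
open Cfsg.Agent.ClassificationK.TIFamily (mem_cj cj_mul cj_one)

universe u

variable {G : Type u} [Group G] {B A : Subgroup G} [Finite G]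

theorem Base.four (h : Base B) {y z : G} (hy : y ∈ Om B) (hz : z ∈ Om B) (hy1 : y ≠ 1) (hz1 : z ≠ 1)
    (hyz : y ≠ z) {x : G} (hx : x ∈ Om B) : x = 1 ∨ x = y ∨ x = z ∨ x = y * z := by
  classical
  have := Fintype.ofFinite G
  have hyy := h.Om_sq hy
  have hzz := h.Om_sq hz
  have h1 : y * z ≠ 1 := by
    intro h1
    apply hyz
    calc y = (y * z) * z := by rw [mul_assoc, hzz, mul_one]
      _ = z := by rw [h1, one_mul]
  have h2 : y * z ≠ y := fun h2 => hz1 (mul_eq_left.1 h2)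
  have h3 : y * z ≠ z := fun h3 => hy1 (mul_eq_right.1 h3)
  have hcard : ({1, y, z, y * z} : Finset G).card = 4 := by
    rw [Finset.card_insert_of_notMem, Finset.card_insert_of_notMem, Finset.card_pair h3.symm]
    · simp only [Finset.mem_insert, Finset.mem_singleton, not_or]
      exact ⟨hyz, h2.symm⟩
    · simp only [Finset.mem_insert, Finset.mem_singleton, not_or]
      exact ⟨hy1.symm, hz1.symm, h1.symm⟩
  have hsub : ({1, y, z, y * z} : Finset G) ⊆ Finset.univ.filter (fun x => x ∈ Om B) := by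
    intro w hw
    simp only [Finset.mem_insert, Finset.mem_singleton] at hw
    simp only [Finset.mem_filter, Finset.mem_univ, true_and]
    rcases hw with rfl | rfl | rfl | rfl
    · exact (Om B).one_mem
    · exact hy
    · exact hz
    · exact (Om B).mul_mem hy hz
  have heq := Finset.eq_of_subset_of_card_le hsub (by rw [hcard, card_filter_mem, h.om])
  have hx' : x ∈ Finset.univ.filter (fun x => x ∈ Om B) := by simpa using hx
  rw [← heq] at hx'
  simpa using hx'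

theorem Base.exists_two (h : Base B) : ∃ y ∈ Om B, ∃ z ∈ Om B, y ≠ 1 ∧ z ≠ 1 ∧ y ≠ z := by
  classical
  have := Fintype.ofFinite G
  obtain ⟨y, hy, hy1⟩ := h.exists_ne
  by_contra hc
  push Not at hc
  have hsub : Finset.univ.filter (fun x => x ∈ Om B) ⊆ ({1, y} : Finset G) := by
    intro w hw
    simp only [Finset.mem_filter, Finset.mem_univ, true_and] at hw
    simp only [Finset.mem_insert, Finset.mem_singleton]
    by_cases hw1 : w = 1
    · exact Or.inl hw1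
    · exact Or.inr (hc y hy w hw hy1 hw1).symm
  have h1 := Finset.card_le_card hsub
  rw [card_filter_mem, h.om] at h1
  have h2 : ({1, y} : Finset G).card ≤ 2 := Finset.card_le_two
  omega

/-- two elements of `B` independent modulo `Om B` -/
theorem Base.exists_pair (h : Base B) : ∃ b ∈ B, ∃ c ∈ B, b ∉ Om B ∧ c ∉ Om B ∧ b⁻¹ * c ∉ Om B := by
  obtain ⟨y, hy, z, hz, hy1, hz1, hyz⟩ := h.exists_two
  obtain ⟨b, hb, rfl⟩ := h.sq_surj hy
  obtain ⟨c, hc, rfl⟩ := h.sq_surj hz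
  refine ⟨b, hb, c, hc, fun h1 => hy1 (h.Om_sq h1), fun h1 => hz1 (h.Om_sq h1), fun h1 => hyz ?_⟩
  have h2 := h.Om_sq h1
  have h3 := h.comm _ (B.inv_mem hb) c hc
  have h4 : b⁻¹ * c * (b⁻¹ * c) = (b * b)⁻¹ * (c * c) := by
    calc b⁻¹ * c * (b⁻¹ * c) = b⁻¹ * (c * b⁻¹) * c := by group
      _ = b⁻¹ * (b⁻¹ * c) * c := by rw [h3]
      _ = (b * b)⁻¹ * (c * c) := by group
  rw [h4, inv_mul_eq_one] at h2
  exact h2

/-- the Weyl element attached to `b` -/
theorem Adj.exists_swap (h : Adj B A) {b : G} (hb : b ∈ B) (hbO : b ∉ Om B) :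
    ∃ w ∈ A ⊔ B, cj w A = B ∧ cj w B = A ∧ (∀ x ∈ Om A, w * x * w⁻¹ = br x b) ∧
      (∀ x ∈ Om A, w * br x b * w⁻¹ = x) := by
  obtain ⟨x₀, hx₀, hx₀1⟩ := h.baseA.exists_ne
  have hy₀ := h.br_mem hx₀ hb
  have hy₀1 : br x₀ b ≠ 1 := fun h1 => hbO (h.br_one hx₀ hx₀1 hb h1)
  obtain ⟨a, ha, hax⟩ := h.symm.br_right_surj hy₀ hy₀1 hx₀
  have h1 := h.conj_a hx₀ b
  have h2 := h.symm.conj_a hy₀ a
  rw [hax] at h2
  have hcomm := h.comm_Om_Om hx₀ hy₀
  have hne : x₀ * br x₀ b ≠ 1 := by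
    intro h3
    have h4 : b * x₀ * b⁻¹ = 1 := by rw [h1, h3]
    apply hx₀1
    calc x₀ = b⁻¹ * (b * x₀ * b⁻¹) * b := by group
      _ = 1 := by rw [h4]; group
  have hBA : cj b A = cj a B := by
    refine h.base.ti2 (cj_mem_Cl h.mem b) ⟨a, rfl⟩ (x := x₀ * br x₀ b) ?_ ?_ hne
    · rw [← h1]; exact cj_mem (h.baseA.Om_le hx₀)
    · rw [hcomm, ← h2]; exact cj_mem (h.base.Om_le hy₀)
  -- action of `a⁻¹`
  have key : ∀ x ∈ Om A, a⁻¹ * (b * x * b⁻¹) * a = br x b ∧ br (br x b) a⁻¹ = x := by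
    intro x hx
    have hf := h.br_mem hx hb
    have h3 : a⁻¹ * (b * x * b⁻¹) * a ∈ B := by
      have h4 : b * x * b⁻¹ ∈ cj a B := by rw [← hBA]; exact cj_mem (h.baseA.Om_le hx)
      rwa [mem_cj] at h4
    have h4 := h.symm.conj_a hf a⁻¹
    rw [inv_inv] at h4
    have hm := h.symm.br_mem hf (A.inv_mem ha)
    have hxa : a⁻¹ * x = x * a⁻¹ := h.baseA.comm _ (A.inv_mem ha) _ (h.baseA.Om_le hx)
    have h5 : a⁻¹ * (b * x * b⁻¹) * a = x * (br x b * br (br x b) a⁻¹) := by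
      rw [h.conj_a hx b, ← h4]
      calc a⁻¹ * (x * br x b) * a = (a⁻¹ * x) * (br x b) * a := by group
        _ = (x * a⁻¹) * br x b * a := by rw [hxa]
        _ = x * (a⁻¹ * br x b * a) := by group
    have h6 : br x b * br (br x b) a⁻¹ = br (br x b) a⁻¹ * br x b := (h.comm_Om_Om hm hf).symm
    have h7 : x * br (br x b) a⁻¹ = 1 := by
      apply h.inf
      · exact A.mul_mem (h.baseA.Om_le hx) (h.baseA.Om_le hm)
      · have h8 : x * br (br x b) a⁻¹ = (a⁻¹ * (b * x * b⁻¹) * a) * (br x b)⁻¹ := by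
          rw [h5, h6]; group
        rw [h8]
        exact B.mul_mem h3 (B.inv_mem (h.base.Om_le hf))
    have h8 : br (br x b) a⁻¹ = x := by
      have h9 := h.Om_inv hx
      calc br (br x b) a⁻¹ = x⁻¹ * (x * br (br x b) a⁻¹) := by group
        _ = x := by rw [h7, mul_one, h9]
    refine ⟨?_, h8⟩
    rw [h5, h6, h8, ← mul_assoc, h.baseA.Om_sq hx, one_mul]
  have hbB : cj b B = B := h.base.cj_mem_self hb
  have haA : cj a A = A := h.baseA.cj_mem_self ha
  have hcjw : ∀ X : Subgroup G, cj (b * a⁻¹ * b) X = cj b (cj a⁻¹ (cj b X)) := by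
    intro X
    rw [cj_cj, cj_cj, mul_assoc]
  have hAA : cj (b * a⁻¹ * b) A = B := by rw [hcjw, hBA, cj_cancel, hbB]
  have haB : cj a⁻¹ B = cj b A := by
    have h3 : (a * a)⁻¹ ∈ Om A := (Om A).inv_mem (h.baseA.sq_mem_Om ha)
    have h4 := h.norm h3
    rw [hBA]
    conv_rhs => rw [← h4]
    rw [cj_cj]
    have h5 : a * (a * a)⁻¹ = a⁻¹ := by group
    rw [h5]
  have hBB : cj (b * a⁻¹ * b) B = A := by
    rw [hcjw, hbB, haB, cj_cj]
    exact h.symm.norm (h.base.sq_mem_Om hb)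
  refine ⟨b * a⁻¹ * b, ?_, hAA, hBB, ?_, ?_⟩
  · have hb' : b ∈ A ⊔ B := (le_sup_right : B ≤ A ⊔ B) hb
    have ha' : a ∈ A ⊔ B := (le_sup_left : A ≤ A ⊔ B) ha
    exact (A ⊔ B).mul_mem ((A ⊔ B).mul_mem hb' ((A ⊔ B).inv_mem ha')) hb'
  · intro x hx
    have h3 : b * a⁻¹ * b * x * (b * a⁻¹ * b)⁻¹ = b * (a⁻¹ * (b * x * b⁻¹) * a) * b⁻¹ := by group
    rw [h3, (key x hx).1]
    have h4 := h.base.comm b hb _ (h.base.Om_le (h.br_mem hx hb))
    rw [h4]; group
  · intro x hx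
    have hf := h.br_mem hx hb
    have h4 := h.base.comm b hb _ (h.base.Om_le hf)
    have h5 := h.symm.conj_a hf a⁻¹
    rw [inv_inv, (key x hx).2] at h5
    have h6 : b * br x b * b⁻¹ = br x b := by rw [h4]; group
    have h3 : b * a⁻¹ * b * br x b * (b * a⁻¹ * b)⁻¹ = b * (a⁻¹ * (b * br x b * b⁻¹) * a) * b⁻¹ := by group
    rw [h3, h6, h5]
    calc b * (br x b * x) * b⁻¹ = (b * br x b * b⁻¹) * (b * x * b⁻¹) := by group
      _ = br x b * (x * br x b) := by rw [h6, h.conj_a hx b]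
      _ = br x b * (br x b * x) := by rw [h.comm_Om_Om hx hf]
      _ = x := by rw [← mul_assoc, h.br_sq hx hb, one_mul]

/-- a torus element -/
theorem Adj.exists_torus (h : Adj B A) : ∃ t ∈ A ⊔ B, cj t A = A ∧ cj t B = B ∧
    (∀ x ∈ Om A, x ≠ 1 → t * x * t⁻¹ ≠ x) ∧ (∀ y ∈ Om B, y ≠ 1 → t * y * t⁻¹ ≠ y) := by
  obtain ⟨b, hb, c, hc, hbO, hcO, hbc⟩ := h.base.exists_pair
  obtain ⟨w, hw, hwA, hwB, hw1, hw2⟩ := h.exists_swap hb hbO
  obtain ⟨v, hv, hvA, hvB, hv1, hv2⟩ := h.exists_swap hc hcO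
  have hkey : ∀ x ∈ Om A, br x b = br x c → x = 1 := by
    intro x hx hbr
    by_contra hx1
    apply hbc
    apply h.br_one hx hx1 (B.mul_mem (B.inv_mem hb) hc)
    have h1 : br x (b * (b⁻¹ * c)) = br x b * br x (b⁻¹ * c) :=
      h.br_mul_right hx hb (B.mul_mem (B.inv_mem hb) hc)
    rw [mul_inv_cancel_left, ← hbr] at h1
    exact mul_left_cancel (a := br x b) (by rw [mul_one]; exact h1.symm)
  refine ⟨w⁻¹ * v, (A ⊔ B).mul_mem ((A ⊔ B).inv_mem hw) hv, ?_, ?_, ?_, ?_⟩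
  · rw [← cj_cj, hvA, ← hwA, cj_cancel]
  · rw [← cj_cj, hvB, ← hwB, cj_cancel]
  · intro x hx hx1 heq
    apply hx1
    apply hkey x hx
    rw [← hw1 x hx, ← hv1 x hx]
    conv_lhs => rw [← heq]
    group
  · intro y hy hy1 heq
    obtain ⟨x, hx, rfl⟩ := h.br_left_surj hc hcO hy
    apply hy1
    have h2 : br x b = br x c := by
      have h3 := hw2 x hx
      have h4 := hv2 x hx
      calc br x b = w⁻¹ * (w * br x b * w⁻¹) * w := by group
        _ = w⁻¹ * (v * br x c * v⁻¹) * w := by rw [h3, h4]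
        _ = w⁻¹ * v * br x c * (w⁻¹ * v)⁻¹ := by group
        _ = br x c := heq
    rw [hkey x hx h2]
    simp [br]

theorem br_conj (t a b : G) : br (t * a * t⁻¹) b = t * br a (t⁻¹ * b * t) * t⁻¹ := by
  rw [br, br]; group

theorem cj_inv_eq {g : G} {X : Subgroup G} (h : cj g X = X) : cj g⁻¹ X = X := by
  conv_lhs => rw [← h]
  exact cj_cancel g X

theorem conj_mem' {g x : G} {X : Subgroup G} (h : cj g X = X) (hx : x ∈ X) : g⁻¹ * x * g ∈ X := by
  have := conj_mem (cj_inv_eq h) hx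
  rwa [inv_inv] at this

/-- no element of `Om A` inverts `B` -/
theorem Adj.not_invert (h : Adj B A) {a : G} (ha : a ∈ Om A) (ha1 : a ≠ 1) :
    ¬ ∀ b ∈ B, br a b = b * b := by
  intro hinv
  obtain ⟨t, -, htA, htB, ht1, -⟩ := h.exists_torus
  obtain ⟨b, hb, -, -, hbO, -, -⟩ := h.base.exists_pair
  have hta : t * a * t⁻¹ ∈ Om A := by
    have h1 := cj_mem (g := t) ha
    rwa [cj_Om h.baseA.comm, htA] at h1
  apply ht1 a ha ha1
  apply h.br_left_inj hta ha hb hbO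
  rw [br_conj, hinv _ (conj_mem' htB hb), hinv b hb]
  group

/-- the square of a product in `B` -/
theorem Base.sq_mul (h : Base B) {b c : G} (hb : b ∈ B) (hc : c ∈ B) : b * c * (b * c) = b * b * (c * c) := by
  have h1 := h.comm c hc b hb
  calc b * c * (b * c) = b * (c * b) * c := by group
    _ = b * (b * c) * c := by rw [h1]
    _ = b * b * (c * c) := by group

theorem Base.sq_ne (h : Base B) {b : G} (hb : b ∈ B) (hbO : b ∉ Om B) : b * b ≠ 1 := fun h1 =>
  hbO ((mem_Om h.comm).2 ⟨hb, h1⟩)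

/-- equal squares: congruent modulo `Om B` -/
theorem Base.inv_mul_mem (h : Base B) {b c : G} (hb : b ∈ B) (hc : c ∈ B) (hbc : b * b = c * c) :
    b⁻¹ * c ∈ Om B := by
  rw [mem_Om h.comm]
  refine ⟨B.mul_mem (B.inv_mem hb) hc, ?_⟩
  rw [h.sq_mul (B.inv_mem hb) hc, ← hbc]
  group

theorem Adj.br_congr (h : Adj B A) {a b c : G} (ha : a ∈ Om A) (hb : b ∈ B) (hc : c ∈ B)
    (hbc : b * b = c * c) : br a b = br a c := by
  have h1 := h.base.inv_mul_mem hb hc hbc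
  have h2 : br a (b * (b⁻¹ * c)) = br a b * br a (b⁻¹ * c) :=
    h.br_mul_right ha hb (B.mul_mem (B.inv_mem hb) hc)
  rw [mul_inv_cancel_left, h.br_Om ha h1, mul_one] at h2
  exact h2.symm

/-- the action of `a` with `[a,b] = b²` on the other classes -/
theorem Adj.br_other (h : Adj B A) {a b c : G} (ha : a ∈ Om A) (ha1 : a ≠ 1) (hb : b ∈ B) (hbO : b ∉ Om B)
    (hab : br a b = b * b) (hc : c ∈ B) (hcO : c ∉ Om B) (hbc : b * b ≠ c * c) :
    br a c = b * b * (c * c) := by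
  have hb2 := h.base.sq_ne hb hbO
  have hc2 := h.base.sq_ne hc hcO
  rcases h.base.four (h.base.sq_mem_Om hb) (h.base.sq_mem_Om hc) hb2 hc2 hbc (h.br_mem ha hc) with
    h1 | h1 | h1 | h1
  · exact absurd (h.br_one ha ha1 hc h1) hcO
  · exfalso
    apply hbc
    have h2 : br a (b * (b⁻¹ * c)) = br a b * br a (b⁻¹ * c) :=
      h.br_mul_right ha hb (B.mul_mem (B.inv_mem hb) hc)
    rw [mul_inv_cancel_left, h1, hab] at h2
    have h3 : br a (b⁻¹ * c) = 1 := mul_left_cancel (a := b * b) (by rw [mul_one]; exact h2.symm)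
    have h4 := h.br_one ha ha1 (B.mul_mem (B.inv_mem hb) hc) h3
    have h5 := h.base.Om_sq h4
    rw [h.base.sq_mul (B.inv_mem hb) hc] at h5
    have h6 : b⁻¹ * b⁻¹ = (b * b)⁻¹ := by group
    rw [h6, inv_mul_eq_one] at h5
    exact h5
  · exfalso
    apply h.not_invert ha ha1
    intro d hd
    rcases h.base.four (h.base.sq_mem_Om hb) (h.base.sq_mem_Om hc) hb2 hc2 hbc (h.base.sq_mem_Om hd) with
      h2 | h2 | h2 | h2
    · have h3 : d ∈ Om B := (mem_Om h.base.comm).2 ⟨hd, h2⟩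
      rw [h.br_Om ha h3, h2]
    · rw [h.br_congr ha hd hb h2, hab, h2]
    · rw [h.br_congr ha hd hc h2, h1, h2]
    · rw [← h.base.sq_mul hb hc] at h2
      rw [h.br_congr ha hd (B.mul_mem hb hc) h2, h.br_mul_right ha hb hc, hab, h1, h2, h.base.sq_mul hb hc]
  · exact h1

/-- every `a` fixes (in this sense) some class -/
theorem Adj.exists_br_eq_sq (h : Adj B A) {a : G} (ha : a ∈ Om A) (ha1 : a ≠ 1) :
    ∃ b ∈ B, b ∉ Om B ∧ br a b = b * b := by
  obtain ⟨b, hb, c, hc, hbO, hcO, hbc⟩ := h.base.exists_pair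
  obtain ⟨a₁, ha₁, hab₁⟩ := h.br_left_surj hb hbO (h.base.sq_mem_Om hb)
  obtain ⟨a₂, ha₂, hab₂⟩ := h.br_left_surj hc hcO (h.base.sq_mem_Om hc)
  have hb2 := h.base.sq_ne hb hbO
  have hc2 := h.base.sq_ne hc hcO
  have hbc2 : b * b ≠ c * c := fun h1 => hbc (h.base.inv_mul_mem hb hc h1)
  have h11 : a₁ ≠ 1 := by
    rintro rfl
    apply hb2; rw [← hab₁]; simp [br]
  have h21 : a₂ ≠ 1 := by
    rintro rfl
    apply hc2; rw [← hab₂]; simp [br]
  have e1 := h.br_other ha₁ h11 hb hbO hab₁ hc hcO hbc2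
  have e2 := h.br_other ha₂ h21 hc hcO hab₂ hb hbO hbc2.symm
  have h12 : a₁ ≠ a₂ := by
    rintro rfl
    rw [e1] at hab₂
    exact hb2 (mul_eq_right.1 hab₂)
  rcases h.baseA.four ha₁ ha₂ h11 h21 h12 ha with h1 | h1 | h1 | h1
  · exact absurd h1 ha1
  · exact ⟨b, hb, hbO, by rw [h1]; exact hab₁⟩
  · exact ⟨c, hc, hcO, by rw [h1]; exact hab₂⟩
  · refine ⟨b * c, B.mul_mem hb hc, ?_, ?_⟩
    · intro h2
      apply hbc
      have h3 : b⁻¹ * c = (b * b)⁻¹ * (b * c) := by group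
      rw [h3]
      exact (Om B).mul_mem ((Om B).inv_mem (h.base.sq_mem_Om hb)) h2
    · rw [h1, h.br_mul_left ha₁ ha₂ (B.mul_mem hb hc), h.br_mul_right ha₁ hb hc, h.br_mul_right ha₂ hb hc,
        hab₁, hab₂, e1, e2, h.base.sq_mul hb hc]
      have h4 := h.base.exp b hb
      have h5 := h.base.exp c hc
      have h6 := h.base.comm (b * b) (B.mul_mem hb hb) (c * c) (B.mul_mem hc hc)
      calc b * b * (b * b * (c * c)) * (c * c * (b * b) * (c * c))
          = (b * b * (b * b)) * ((c * c) * (c * c)) * ((b * b) * (c * c)) := by group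
        _ = b * b * (c * c) := by rw [h4, h5]; group

end Cfsg.Agent.TIAbelian.End
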