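import Cfsg.Agent.TIAbelian.EndCount

/-!
# There are 21 vertices of each type
-/

set_option autoImplicit false

namespace Cfsg.Agent.TIAbelian.End

open Subgroup
open Cfsg.Agent.ClassificationK.TIPair (cj mem_normalizer_cj normalizer_of_cj_eq cj_eq_of_mem_normalizer)
open Cfsg.Agent.ClassificationK.TIFamily (mem_cj cj_mul cj_one)

universe u

variable {G : Type u} [Group G] {E V : Set (Subgroup G)}

/-- no quadrangles -/
theorem Geo.no_four (hg : Geo E V) {X X' Y Y' U e e' w : Subgroup G} (hX : X ∈ E) (hX' : X' ∈ E)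
    (hY : Y ∈ E) (hY' : Y' ∈ E) (h1 : Ends E V X U e) (h2 : Ends E V X' U e') (h3 : Ends E V Y e w)
    (h4 : Ends E V Y' e' w) (hXX : X ≠ X') (hYX : Y ≠ X) (hYX' : Y' ≠ X') : False := by
  have hee : e ≠ e' := by
    rintro rfl
    exact h1.ne (hg.eq_vertex hX hX' hXX h1.hU h1.hW h1.leU h1.leW h2.leU h2.leW)
  have hYY : Y ≠ Y' := by
    rintro rfl
    rcases h3.uniq e' h4.hU h4.leU with h | h
    · exact hee h.symm
    · exact h4.ne h
  obtain ⟨x, hx, hx1⟩ := hg.exists_ne_one hX
  obtain ⟨y, hy, hy1⟩ := hg.exists_ne_one hY'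
  have h5 := h3.sq x (h1.leW hx) y (h4.leW hy) (fun h => hYX (hg.ti X hX Y hY x hx h hx1).symm)
    (fun h => hYY (hg.ti Y' hY' Y hY y hy h hy1).symm)
  have h6 := h2.sq x (h1.leU hx) y (h4.leU hy) (fun h => hXX (hg.ti X hX X' hX' x hx h hx1))
    (fun h => hYX' (hg.ti Y' hY' X' hX' y hy h hy1))
  have h7 := hg.ti Y hY X' hX' _ h5.1 h6.1 h5.2
  apply h1.ne
  exact hg.eq_vertex hX hY hYX.symm h1.hU h1.hW h1.leU h1.leW (h7 ▸ h2.leU) h3.leU

open scoped Classical in
/-- images of `U` under near involutions -/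
noncomputable def nearV [Fintype G] (E V : Set (Subgroup G)) (U : Subgroup G) : Finset (Subgroup G) :=
  (nearI E V U).image (fun z => cj z U)

theorem Geo.card_nearV (hg : Geo E V) [Fintype G] {U : Subgroup G} (hU : U ∈ V) :
    21 ≤ (nearV E V U).card := by
  classical
  let D : Subgroup G → Finset (Subgroup G) := fun X =>
    ((mems E (oth E V X U)).erase X).image (fun Y => oth E V Y (oth E V X U))
  have hD : ∀ X ∈ mems E U, ∀ w ∈ D X, ∃ Y, Y ∈ E ∧ Y ≠ X ∧ Ends E V Y (oth E V X U) w := by
    intro X hX w hw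
    rw [mem_mems] at hX
    have he := hg.ends_oth hX.1 hU hX.2
    rw [Finset.mem_image] at hw
    obtain ⟨Y, hY, rfl⟩ := hw
    rw [Finset.mem_erase, mem_mems] at hY
    exact ⟨Y, hY.2.1, hY.1, hg.ends_oth hY.2.1 he.hW hY.2.2⟩
  have hsub : insert U ((mems E U).biUnion D) ⊆ nearV E V U := by
    intro w hw
    rw [Finset.mem_insert, Finset.mem_biUnion] at hw
    rw [nearV, Finset.mem_image]
    rcases hw with rfl | ⟨X, hX, hw⟩
    · -- a nontrivial element of `U`
      have h1 : ∃ z ∈ w, z ≠ 1 := by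
        by_contra hc
        push Not at hc
        have h2 : w = ⊥ := by
          rw [eq_bot_iff]
          intro x hx
          exact mem_bot.2 (hc x hx)
        have h4 := hg.cardV w hU
        rw [h2, Subgroup.card_bot] at h4
        omega
      obtain ⟨z, hz, hz1⟩ := h1
      have h3 : cj z w = w := cj_of_abelian (fun x hx y hy => hg.mul_comm hU hx hy) le_rfl hz
      refine ⟨z, ?_, h3⟩
      rw [nearI, Finset.mem_filter, mem_allI]
      exact ⟨hg.II_of_mem hU hz hz1, Or.inl h3⟩
    · obtain ⟨Y, hY, hYX, hYe⟩ := hD X hX w hw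
      have hX' := mem_mems.1 hX
      have he := hg.ends_oth hX'.1 hU hX'.2
      set e := oth E V X U with hedef
      obtain ⟨Z, hZ, hZX, hZY⟩ := hg.exists_third he.hW X Y
      have hZ' := mem_mems.1 hZ
      obtain ⟨f, hf⟩ := hg.other hZ'.1 he.hW hZ'.2
      obtain ⟨z, hz, hzX⟩ := hg.exists_move (mem_mems.2 ⟨hX'.1, he.leW⟩) (mem_mems.2 ⟨hY, hYe.leU⟩) hZ'.1
        hZX.symm hZY.symm hf
      obtain ⟨h1, h2, h3⟩ := hf.fix' hg hz
      have hz1 : z ≠ 1 := by
        rintro rfl
        rw [cj_one'] at hzX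
        exact hYX hzX.symm
      refine ⟨z, ?_, ?_⟩
      · rw [nearI, Finset.mem_filter, mem_allI]
        exact ⟨hg.II_of_mem hf.hW hz hz1, Or.inr ⟨X, hX'.1, e, he, h2⟩⟩
      · have h4 := he.conj hg hX'.1 z
        rw [hzX, h2] at h4
        rcases hYe.uniq _ h4.hU h4.leU with h5 | h5
        · exact absurd h5 h4.ne
        · exact h5
  refine le_trans ?_ (Finset.card_le_card hsub)
  rw [Finset.card_insert_of_notMem]
  · rw [Finset.card_biUnion]
    · have h1 : ∑ X ∈ mems E U, (D X).card = (mems E U).card * 4 := by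
        apply Finset.sum_const_nat
        intro X hX
        have hX' := mem_mems.1 hX
        have he := hg.ends_oth hX'.1 hU hX'.2
        change (((mems E (oth E V X U)).erase X).image (fun Y => oth E V Y (oth E V X U))).card = 4
        rw [Finset.card_image_of_injOn]
        · rw [Finset.card_erase_of_mem (mem_mems.2 ⟨hX'.1, he.leW⟩), hg.card_mems he.hW]
        · intro Y hY Y' hY' h
          rw [Finset.mem_coe, Finset.mem_erase, mem_mems] at hY hY'
          simp only at h
          by_contra hne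
          have h3 := hg.ends_oth hY.2.1 he.hW hY.2.2
          have h4 := hg.ends_oth hY'.2.1 he.hW hY'.2.2
          rw [← h] at h4
          exact h3.ne (hg.eq_vertex hY.2.1 hY'.2.1 hne h3.hU h3.hW h3.leU h3.leW h4.leU h4.leW)
      rw [h1, hg.card_mems hU]
    · intro X hX X' hX' hne
      change Disjoint (D X) (D X')
      rw [Finset.disjoint_left]
      intro w hw hw'
      obtain ⟨Y, hY, hYX, hYe⟩ := hD X hX w hw
      obtain ⟨Y', hY', hYX', hYe'⟩ := hD X' hX' w hw'
      have hX2 := mem_mems.1 hX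
      have hX2' := mem_mems.1 hX'
      exact hg.no_four hX2.1 hX2'.1 hY hY' (hg.ends_oth hX2.1 hU hX2.2) (hg.ends_oth hX2'.1 hU hX2'.2) hYe
        hYe' hne hYX hYX'
  · rw [Finset.mem_biUnion]
    rintro ⟨X, hX, hw⟩
    obtain ⟨Y, hY, hYX, hYe⟩ := hD X hX U hw
    have hX' := mem_mems.1 hX
    have he := hg.ends_oth hX'.1 hU hX'.2
    exact he.ne (hg.eq_vertex hX'.1 hY hYX.symm hU he.hW hX'.2 he.leW hYe.leW hYe.leU)

open scoped Classical in
/-- the orbit of `U` -/
noncomputable def orb [Fintype G] (U : Subgroup G) : Finset (Subgroup G) := Finset.univ.image (fun g : G => cj g U)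

theorem mem_orb [Fintype G] {U W : Subgroup G} : W ∈ orb U ↔ ∃ g : G, cj g U = W := by
  classical
  simp [orb]

/-- the main count -/
theorem Geo.card_orb (hg : Geo E V) [Fintype G] {U : Subgroup G} (hU : U ∈ V)
    (hnc : ∀ X ∈ E, ∀ e, Ends E V X U e → ∀ g : G, cj g U ≠ e)
    (hodd : ∀ K : Subgroup G, K ≤ normalizer (U : Set G) → Odd (Nat.card K) → Nat.card K ≤ 5) :
    (orb U).card = 21 := by
  classical
  have hI : (allI E).card = (orb U).card * 15 := by
    have h1 : allI E = (orb U).biUnion (fun w => pts w) := by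
      ext z
      rw [mem_allI, Finset.mem_biUnion]
      constructor
      · rintro ⟨hz1, X, hX, hzX⟩
        obtain ⟨Z, hZ, -, -⟩ := hg.exists_third hU ⊥ ⊥
        have hZ' := mem_mems.1 hZ
        obtain ⟨g, hgZ⟩ := hg.trans Z hZ'.1 X hX
        refine ⟨cj g U, mem_orb.2 ⟨g, rfl⟩, mem_pts.2 ⟨?_, hz1⟩⟩
        have : X ≤ cj g U := by rw [← hgZ]; exact cj_le_cj.2 hZ'.2
        exact this hzX
      · rintro ⟨w, hw, hz⟩
        obtain ⟨g, rfl⟩ := mem_orb.1 hw
        rw [mem_pts] at hz
        exact hg.II_of_mem (hg.conjV g U hU) hz.1 hz.2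
    rw [h1, Finset.card_biUnion]
    · apply Finset.sum_const_nat
      intro w hw
      obtain ⟨g, rfl⟩ := mem_orb.1 hw
      have := card_pts (cj g U)
      rw [card_cj, hg.cardV U hU] at this
      omega
    · intro w hw w' hw' hne
      change Disjoint (pts w) (pts w')
      rw [Finset.disjoint_left]
      intro z hz hz'
      obtain ⟨g, rfl⟩ := mem_orb.1 hw
      obtain ⟨g', rfl⟩ := mem_orb.1 hw'
      rw [mem_pts] at hz hz'
      obtain ⟨X, hX, hzX, hXU⟩ := hg.cover _ (hg.conjV g U hU) z hz.1 hz.2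
      have hX2 := hg.le_of_mem hX (hg.conjV g' U hU) hz.2 hzX hz'.1
      have h2 := hg.endsV hX (hg.conjV g U hU) (hg.conjV g' U hU) hne hXU hX2
      have h3 := h2.conj hg hX g⁻¹
      rw [cj_cancel] at h3
      refine hnc _ (hg.conjE _ X hX) _ h3 (g⁻¹ * g') ?_
      rw [cj_cj]
  have hnear := hg.card_near hU
  have hnV := hg.card_nearV hU
  -- far involutions
  let F : Finset G := (allI E).filter (fun z => ¬ Near E V U z)
  have hsplit : (nearI E V U).card + F.card = (allI E).card := by
    rw [nearI]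
    exact Finset.card_filter_add_card_filter_not (s := allI E) (p := fun z => Near E V U z)
  have hF : ∀ z ∈ F, z ∈ II E ∧ ¬ Near E V U z := by
    intro z hz
    rw [Finset.mem_filter, mem_allI] at hz
    exact hz
  have h5 : F.card ≤ 5 * (F.image (fun z => cj z U)).card := by
    apply Finset.card_le_mul_card_image
    intro W hW
    apply hg.card_fibre hU hodd _ _ W
    · intro z hz
      exact (Finset.mem_filter.1 hz).2
    · intro z hz
      exact hF z (Finset.mem_filter.1 hz).1
  have h6 : F.image (fun z => cj z U) ⊆ orb U \ nearV E V U := by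
    intro W hW
    rw [Finset.mem_image] at hW
    obtain ⟨z, hz, rfl⟩ := hW
    rw [Finset.mem_sdiff]
    refine ⟨mem_orb.2 ⟨z, rfl⟩, ?_⟩
    intro h
    rw [nearV, Finset.mem_image] at h
    obtain ⟨y, hy, hyz⟩ := h
    rw [nearI, Finset.mem_filter, mem_allI] at hy
    exact (hg.not_near hU (hF z hz).1 hy.1 hyz.symm (hF z hz).2).1 hy.2
  have h7 : nearV E V U ⊆ orb U := by
    intro W hW
    rw [nearV, Finset.mem_image] at hW
    obtain ⟨y, -, rfl⟩ := hW
    exact mem_orb.2 ⟨y, rfl⟩
  have h8 := Finset.card_le_card h6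
  rw [Finset.card_sdiff_of_subset h7] at h8
  have h9 := Finset.card_le_card h7
  omega

theorem index_eq_card_image {H : Type*} [Group H] [Fintype H] {α : Type*} [DecidableEq α] (N : Subgroup H)
    (f : H → α) (h : ∀ a b, f a = f b ↔ a⁻¹ * b ∈ N) : N.index = (Finset.univ.image f).card := by
  classical
  let f' : H ⧸ N → α := Quotient.lift f (by
    intro a b hab
    rw [h]
    exact QuotientGroup.leftRel_apply.1 hab)
  have hinj : Function.Injective f' := by
    intro x y
    induction x using Quotient.inductionOn with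
    | h a =>
      induction y using Quotient.inductionOn with
      | h b =>
        intro hab
        apply Quotient.sound
        exact QuotientGroup.leftRel_apply.2 ((h a b).1 hab)
  have h1 : N.index = Nat.card (H ⧸ N) := rfl
  rw [h1, Nat.card_congr (Equiv.ofInjective f' hinj)]
  have h2 : Set.range f' = ((Finset.univ.image f : Finset α) : Set α) := by
    ext x
    simp only [Set.mem_range, Finset.coe_image, Finset.coe_univ, Set.image_univ]
    constructor
    · rintro ⟨y, hy⟩
      induction y using Quotient.inductionOn with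
      | h a => exact ⟨a, hy⟩
    · rintro ⟨a, ha⟩
      exact ⟨Quotient.mk _ a, ha⟩
  rw [h2]
  exact Nat.card_eq_fintype_card.trans (Fintype.card_coe _)

/-- the index of the normaliser of a vertex -/
theorem Geo.index_normalizer (hg : Geo E V) [Finite G] {U : Subgroup G} (hU : U ∈ V)
    (hnc : ∀ X ∈ E, ∀ e, Ends E V X U e → ∀ g : G, cj g U ≠ e)
    (hodd : ∀ K : Subgroup G, K ≤ normalizer (U : Set G) → Odd (Nat.card K) → Nat.card K ≤ 5) :
    (normalizer (U : Set G)).index = 21 := by
  classical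
  have := Fintype.ofFinite G
  rw [← hg.card_orb hU hnc hodd, orb]
  convert index_eq_card_image (normalizer (U : Set G)) (fun g : G => cj g U) ?_
  intro a b
  rw [cj_eq_comm, cj_cj]
  constructor
  · intro h
    exact normalizer_of_cj_eq h.symm
  · intro h
    exact (cj_eq_of_mem_normalizer h).symm

end Cfsg.Agent.TIAbelian.End
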